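import Cfsg.Agent.Lib.Blocks.Idempotent

/-!
# Block orthogonality, vanishing of idempotents at singular elements, linkage
-/

namespace Cfsg.Agent.Blocks

open MonoidAlgebra
open scoped ComplexConjugate

universe u v

variable {G : Type u} [Group G] [Finite G] {p : ℕ} {M : Ideal AlgInt}

set_option linter.unusedSectionVars false

section Vanishing

variable [M.IsPrime]

theorem single_pow_of_eq {R : Type v} [CommRing R] {y : G} {N : ℕ} (h : y ^ N = y) :
    (single y 1 : MonoidAlgebra R G) ^ N = single y 1 := by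
  rw [show (single y 1 : MonoidAlgebra R G) = MonoidAlgebra.of R G y from rfl, ← map_pow, h]

theorem sep_loc (hM : IsPModular p M) (x : Loc M)
    (h : ∀ k : ℕ, ∃ n ≥ k, (p : Loc M) ^ n ∣ x) : x = 0 :=
  eq_zero_of_forall_pow_dvd hM h

theorem idem_mul_single_pow (hp : p.Prime) {e : MonoidAlgebra (Loc M) G} (he : e * e = e) {y : G}
    (hy : ¬ p ∣ orderOf y) (hey : Commute e (single y 1)) (n₀ : ℕ) :
    ∃ n ≥ n₀, (e * single y 1) ^ p ^ n = e * single y 1 := by
  haveI : Fact p.Prime := ⟨hp⟩
  obtain ⟨n, hn, hyn⟩ := exists_pow_eq_self hy n₀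
  exact ⟨n, hn, by rw [hey.mul_pow, IsIdempotentElem.pow_eq he (pow_ne_zero n hp.ne_zero),
    single_pow_of_eq hyn]⟩

theorem commute_single_of_commute {R : Type v} [CommRing R] {y z : G} (h : Commute y z) :
    Commute (single y 1 : MonoidAlgebra R G) (single z 1) :=
  single_commute_single h (Commute.all _ _)

/-- A class function vanishing on the `p`-section of `z` vanishes at `e * z * y`. -/
theorem ev_idem_eq_zero_of_ppart (hM : IsPModular p M) {T : G → Loc M} (hT : IsClassFn T)
    {e : MonoidAlgebra (Loc M) G} (he : e * e = e) {g z : G} (hgz : IsPPart p g z)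
    (hec : ∀ c, Commute c z ∧ Commute c g → (c ∈ Subgroup.zpowers g) → Commute e (single c 1))
    (hTz : ∀ u, IsPPart p u z → T u = 0) :
    ev T (e * single g 1) = 0 := by
  haveI : Fact p.Prime := ⟨hM.1⟩
  haveI := Fintype.ofFinite G
  have hzmem := ppart_mem_zpowers hgz
  obtain ⟨y, hzy, hcom, ⟨k, hk⟩, hy⟩ := hgz
  have hgy : Commute g y := by rw [← hzy]; exact hcom.mul_left (Commute.refl y)
  have hgz' : Commute g z := by rw [← hzy]; exact (Commute.refl z).mul_left hcom.symm
  have hymem : y ∈ Subgroup.zpowers g := by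
    have : y = z⁻¹ * g := by rw [← hzy]; group
    rw [this]
    exact mul_mem (inv_mem hzmem) (Subgroup.mem_zpowers g)
  have hez : Commute e (single z 1) := hec z ⟨Commute.refl z, hgz'.symm⟩ hzmem
  have hey : Commute e (single y 1) := hec y ⟨hcom.symm, hgy.symm⟩ hymem
  have hsplit : e * single g 1 = e * single y 1 * single z 1 := by
    rw [mul_assoc, single_mul_single, one_mul, ← hzy, hcom.eq]
  rw [hsplit]
  exact ev_mul_single_eq_zero_of_ppart hT _
    (hez.mul_left (commute_single_of_commute hcom.symm)) ⟨k, hk ▸ pow_orderOf_eq_one z⟩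
    (idem_mul_single_pow hM.1 he hy hey) hTz (sep_loc hM)

/-- If `e` has non-unit coefficients on the centralizer of the `p`-part of `g`, every class
function vanishes at `e * g`. -/
theorem ev_idem_eq_zero_of_nil (hM : IsPModular p M) {T : G → Loc M} (hT : IsClassFn T)
    {e : MonoidAlgebra (Loc M) G} (he : e * e = e) {g z : G} (hgz : IsPPart p g z)
    (hec : ∀ c, Commute c z ∧ Commute c g → (c ∈ Subgroup.zpowers g) → Commute e (single c 1))
    (hnil : ∀ u, Commute u z → red M (e.coeff u) = 0) :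
    ev T (e * single g 1) = 0 := by
  haveI : Fact p.Prime := ⟨hM.1⟩
  haveI := Fintype.ofFinite G
  have hzmem := ppart_mem_zpowers hgz
  obtain ⟨y, hzy, hcom, ⟨k, hk⟩, hy⟩ := hgz
  have hgy : Commute g y := by rw [← hzy]; exact hcom.mul_left (Commute.refl y)
  have hgz' : Commute g z := by rw [← hzy]; exact (Commute.refl z).mul_left hcom.symm
  have hymem : y ∈ Subgroup.zpowers g := by
    have : y = z⁻¹ * g := by rw [← hzy]; group
    rw [this]
    exact mul_mem (inv_mem hzmem) (Subgroup.mem_zpowers g)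
  have hez : Commute e (single z 1) := hec z ⟨Commute.refl z, hgz'.symm⟩ hzmem
  have hey : Commute e (single y 1) := hec y ⟨hcom.symm, hgy.symm⟩ hymem
  have hsplit : e * single g 1 = e * single y 1 * single z 1 := by
    rw [mul_assoc, single_mul_single, one_mul, ← hzy, hcom.eq]
  rw [hsplit]
  refine ev_mul_single_eq_zero_of_nil hT _
    (hez.mul_left (commute_single_of_commute hcom.symm)) ⟨k, hk ▸ pow_orderOf_eq_one z⟩
    (idem_mul_single_pow hM.1 he hy hey) ?_ (sep_loc hM)
  intro u hu j
  rw [coeff_mul_single', mul_one]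
  exact exists_pow_dvd_pow hM (red_eq_zero_iff.mp (hnil _ (hu.mul_left hcom.symm.inv_left))) j

theorem toC_classInd (h u : G) : (((classInd (Loc M) h u : Loc M)) : ℂ) = classInd ℂ h u :=
  congrFun (map_classInd (R := Loc M) (Loc M).subtype h) u

theorem coe_ev (T : G → Loc M) (a : MonoidAlgebra (Loc M) G) :
    ((ev T a : Loc M) : ℂ) = ev (fun u => (T u : ℂ)) (toC M G a) :=
  map_ev (Loc M).subtype T a

/-- Block orthogonality: the `p`-parts of `g` and `h` are not conjugate. -/
theorem block_orthogonality (hM : IsPModular p M) {A : Set (IrrCharacter G)}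
    (hA : ∀ u, blockCoeff A u ∈ Loc M) {g h x y : G} (hx : IsPPart p g x) (hy : IsPPart p h y)
    (hxy : ¬ IsConj x y) :
    ∑ᶠ χ ∈ A, (χ : G → ℂ) g * conj ((χ : G → ℂ) h) = 0 := by
  classical
  haveI : Fact p.Prime := ⟨hM.1⟩
  have h0 := ev_idem_eq_zero_of_ppart hM (isClassFn_classInd (R := Loc M) h)
    (e := (bIdem M A : MonoidAlgebra (Loc M) G))
    (congrArg Subtype.val (bIdem_mul_self hA)) hx
    (fun c _ _ => (Subring.mem_center_iff.mp (bIdem M A).2 _).symm)
    (fun u hu => classInd_neg fun hc => hxy (isConj_of_isPPart hc hy hu).symm)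
  have h1 := congrArg (fun x : Loc M => (x : ℂ)) h0
  simp only [coe_ev, toC_classInd, map_mul, toC_bIdem hA, ZeroMemClass.coe_zero] at h1
  rw [show toC M G (single g (1 : Loc M)) = single g (1 : ℂ) by simp] at h1
  have h2 := sum_ev_mul_conj (idemC A * single g (1 : ℂ)) h
  rw [h1, mul_zero] at h2
  rw [finsum_mem_irr]
  refine Eq.trans (Finset.sum_congr rfl fun χ _ => ?_) h2
  rw [ev_idemC_mul]
  split_ifs <;> simp

/-- Weak block orthogonality. -/
theorem weak_orthogonality (hM : IsPModular p M) {A : Set (IrrCharacter G)}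
    (hA : ∀ u, blockCoeff A u ∈ Loc M) {g h : G} (hg : ¬ p ∣ orderOf g) (hh : p ∣ orderOf h) :
    ∑ᶠ χ ∈ A, (χ : G → ℂ) g * conj ((χ : G → ℂ) h) = 0 := by
  haveI : Fact p.Prime := ⟨hM.1⟩
  obtain ⟨y, hy, -⟩ := exists_isPPart (p := p) h
  refine block_orthogonality hM hA (isPPart_one hg) hy fun hc => ?_
  have hc' : y = 1 := isConj_one_right.mp hc
  exact (isPPart_one_iff.mp (hc' ▸ hy)) hh

theorem weak_orthogonality' (hM : IsPModular p M) {A : Set (IrrCharacter G)}
    (hA : ∀ u, blockCoeff A u ∈ Loc M) {g h : G} (hg : p ∣ orderOf g) (hh : ¬ p ∣ orderOf h) :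
    ∑ᶠ χ ∈ A, (χ : G → ℂ) g * conj ((χ : G → ℂ) h) = 0 := by
  haveI : Fact p.Prime := ⟨hM.1⟩
  obtain ⟨y, hy, -⟩ := exists_isPPart (p := p) g
  refine block_orthogonality hM hA hy (isPPart_one hh) fun hc => ?_
  have hc' : y = 1 := isConj_one_left.mp hc
  exact (isPPart_one_iff.mp (hc' ▸ hy)) hg

/-- Osima: idempotent coefficients vanish at `p`-singular elements. -/
theorem blockCoeff_eq_zero_of_singular (hM : IsPModular p M) {A : Set (IrrCharacter G)}
    (hA : ∀ u, blockCoeff A u ∈ Loc M) {h : G} (hh : p ∣ orderOf h) : blockCoeff A h = 0 := by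
  have := weak_orthogonality hM hA (g := (1 : G))
    (by rw [orderOf_one]; exact hM.1.not_dvd_one) hh
  rw [blockCoeff, this, mul_zero]

theorem blockCoeff_block_eq_zero (hM : IsPModular p M) {B : Set (IrrCharacter G)}
    (hB : IsPBlock M B) {h : G} (hh : p ∣ orderOf h) : blockCoeff B h = 0 :=
  blockCoeff_eq_zero_of_singular hM (blockCoeff_mem_loc hB) hh

theorem regular_of_red_blockCoeff (hM : IsPModular p M) {B : Set (IrrCharacter G)}
    (hB : IsPBlock M B) {h : G} (hh : ¬ MemLocalIdeal M (blockCoeff B h)) : ¬ p ∣ orderOf h :=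
  fun hd => hh (by rw [blockCoeff_block_eq_zero hM hB hd]; exact memLocalIdeal_zero)

open Classical in
theorem regSum_eq_zero (hM : IsPModular p M) {χ ψ : IrrCharacter G}
    (h : ¬ SameBlock M (χ : G → ℂ) (ψ : G → ℂ)) :
    ∑ᶠ x ∈ {x : G | ¬ p ∣ orderOf x}, (χ : G → ℂ) x * conj ((ψ : G → ℂ) x) = 0 := by
  haveI := Fintype.ofFinite G
  set B := blockOf M (χ : G → ℂ)
  have hA := blockCoeff_mem_loc (isPBlock_blockOf (M := M) χ)
  have hχB : χ ∈ B := self_mem_blockOf χ
  have hψB : ψ ∉ B := h
  rw [finsum_mem_eq_toFinset_sum,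
    show Set.toFinset {x : G | ¬ p ∣ orderOf x} = Finset.univ.filter (fun x => ¬ p ∣ orderOf x) by
      ext; simp]
  set S := Finset.univ.filter (fun x : G => ¬ p ∣ orderOf x) with hS
  have key : ∀ (φ η : IrrCharacter G), ∑ y : G, (φ : G → ℂ) y * conj ((η : G → ℂ) y) =
      if φ = η then (Nat.card G : ℂ) else 0 := by
    intro φ η
    have := CT.irr_inner_subtype φ η
    rw [classInner, inv_mul_eq_iff_eq_mul₀ (CT.card_ne_zero (G := G))] at this
    rw [this]; split_ifs <;> simp
  have e2 : ∀ x : G, ∑ y : G, (χ : G → ℂ) y *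
      (∑ η : IrrCharacter G, if η ∈ B then (η : G → ℂ) x * conj ((η : G → ℂ) y) else 0) =
      (Nat.card G : ℂ) * (χ : G → ℂ) x := by
    intro x
    simp only [Finset.mul_sum]
    rw [Finset.sum_comm, Finset.sum_eq_single χ]
    · simp only [if_pos hχB, mul_left_comm _ ((χ : G → ℂ) x), ← Finset.mul_sum, key, if_pos]
      ring
    · intro η _ hη
      by_cases hηB : η ∈ B
      · simp only [if_pos hηB, mul_left_comm _ ((η : G → ℂ) x), ← Finset.mul_sum, key,
          if_neg (Ne.symm hη), mul_zero]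
      · simp [hηB]
    · simp
  have e3 : ∀ y : G, ∑ x ∈ S, (∑ η : IrrCharacter G,
      if η ∈ B then (η : G → ℂ) x * conj ((η : G → ℂ) y) else 0) * conj ((ψ : G → ℂ) x) =
      if ¬ p ∣ orderOf y then ∑ x : G, (∑ η : IrrCharacter G,
        if η ∈ B then (η : G → ℂ) x * conj ((η : G → ℂ) y) else 0) * conj ((ψ : G → ℂ) x)
      else 0 := by
    intro y
    rw [hS, Finset.sum_filter]
    by_cases hy : p ∣ orderOf y
    swap
    · rw [if_pos hy]
      refine Finset.sum_congr rfl fun x _ => ?_
      by_cases hx : p ∣ orderOf x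
      · have h0 := weak_orthogonality' hM hA hx hy
        rw [finsum_mem_irr] at h0
        rw [if_neg (not_not.mpr hx), h0, zero_mul]
      · rw [if_pos hx]
    · rw [if_neg (not_not.mpr hy)]
      refine Finset.sum_eq_zero fun x _ => ?_
      by_cases hx : p ∣ orderOf x
      · rw [if_neg (not_not.mpr hx)]
      · have h0 := weak_orthogonality hM hA hx hy
        rw [finsum_mem_irr] at h0
        rw [if_pos hx, h0, zero_mul]
  have e4 : ∀ y : G, ∑ x : G, (∑ η : IrrCharacter G,
      if η ∈ B then (η : G → ℂ) x * conj ((η : G → ℂ) y) else 0) * conj ((ψ : G → ℂ) x) = 0 := by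
    intro y
    simp only [Finset.sum_mul]
    rw [Finset.sum_comm]
    refine Finset.sum_eq_zero fun η _ => ?_
    by_cases hη : η ∈ B
    · simp only [if_pos hη, mul_right_comm _ (conj ((η : G → ℂ) y)), ← Finset.sum_mul, key,
        if_neg (fun e : η = ψ => hψB (e ▸ hη)), zero_mul]
    · simp [hη]
  have tot : (Nat.card G : ℂ) * ∑ x ∈ S, (χ : G → ℂ) x * conj ((ψ : G → ℂ) x) = 0 := by
    rw [Finset.mul_sum]
    simp only [← mul_assoc, ← e2, Finset.sum_mul]
    rw [Finset.sum_comm]
    refine Finset.sum_eq_zero fun y _ => ?_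
    simp only [mul_assoc, ← Finset.mul_sum, e3]
    split_ifs <;> simp [e4]
  exact (mul_eq_zero.mp tot).resolve_left CT.card_ne_zero

/-- A combination of characters vanishing on the nontrivial elements of `P`. -/
theorem exists_eq_card_mul (P : Subgroup G) (c : IrrCharacter G → ℂ)
    (h : ∀ u ∈ P, u ≠ 1 → ∑ χ, c χ * (χ : G → ℂ) u = 0) :
    ∃ n : IrrCharacter G → ℕ, ∑ χ, c χ * (χ : G → ℂ) 1 = (Nat.card P : ℂ) * ∑ χ, c χ * (n χ : ℂ) := by
  classical
  haveI := Fintype.ofFinite P
  choose n hn using fun χ : IrrCharacter G => CT.classInner_character_nat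
    (CT.isCharacter_restrict P (CT.isCharacter_of_isIrr χ.2)) (CT.isCharacter_one (G := P))
  refine ⟨n, ?_⟩
  have h1 : ∀ χ : IrrCharacter G,
      (Nat.card P : ℂ) * (n χ : ℂ) = ∑ u : P, (χ : G → ℂ) u := by
    intro χ
    rw [← hn χ, classInner, mul_inv_cancel_left₀ (CT.card_ne_zero (G := P))]
    simp
  simp only [Finset.mul_sum, mul_left_comm (Nat.card P : ℂ) (c _), h1]
  rw [Finset.sum_comm, Finset.sum_eq_single (1 : P)]
  · rfl
  · intro u _ hu
    exact h u u.2 fun e => hu (Subtype.ext e)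
  · simp

/-- The Sylow order divides, in the local ring, a combination vanishing on singular elements. -/
theorem exists_eq_pow_mul (hp : p.Prime) (c : IrrCharacter G → ℂ) (hc : ∀ χ, c χ ∈ Loc M)
    (h : ∀ u, p ∣ orderOf u → ∑ χ, c χ * (χ : G → ℂ) u = 0) :
    ∃ n : IrrCharacter G → ℕ, ∑ χ, c χ * (χ : G → ℂ) 1 =
      (p : ℂ) ^ (Nat.card G).factorization p * ∑ χ, c χ * (n χ : ℂ) ∧
      ∑ χ, c χ * (n χ : ℂ) ∈ Loc M := by
  haveI : Fact p.Prime := ⟨hp⟩
  obtain ⟨P⟩ : Nonempty (Sylow p G) := inferInstance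
  obtain ⟨n, hn⟩ := exists_eq_card_mul (P : Subgroup G) c fun u hu hu1 => h u (by
    obtain ⟨k, hk⟩ := exists_pow_eq_one_of_isPGroup P.isPGroup' hu
    obtain ⟨j, _, hj⟩ := (Nat.dvd_prime_pow hp).mp (orderOf_dvd_of_pow_eq_one hk)
    rw [hj]
    exact dvd_pow_self p fun e => hu1 (orderOf_eq_one_iff.mp (by rw [hj, e, pow_zero])))
  refine ⟨n, ?_, (Loc M).sum_mem fun χ _ => (Loc M).mul_mem (hc χ) (natCast_mem _ _)⟩
  rw [hn, P.card_eq_multiplicity]
  push_cast
  rfl

end Vanishing

section Linkage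

/-- Characters are linked when their sum over `p`-regular elements is nonzero. -/
def Linked (p : ℕ) (χ ψ : IrrCharacter G) : Prop :=
  ∑ᶠ x ∈ {x : G | ¬ p ∣ orderOf x}, (χ : G → ℂ) x * conj ((ψ : G → ℂ) x) ≠ 0

/-- The linkage component of a character. -/
def component (p : ℕ) (χ : IrrCharacter G) : Set (IrrCharacter G) :=
  {ψ | Relation.EqvGen (Linked p) χ ψ}

theorem component_subset_block [M.IsPrime] (hM : IsPModular p M) (χ : IrrCharacter G) :
    component p χ ⊆ blockOf M (χ : G → ℂ) := by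
  intro ψ hψ
  show SameBlock M (χ : G → ℂ) (ψ : G → ℂ)
  induction hψ with
  | rel a b hab => by_contra hne; exact hab (regSum_eq_zero hM hne)
  | refl a => exact sameBlock_refl _
  | symm a b _ ih => exact sameBlock_symm ih
  | trans a b c _ _ ih ih' => exact sameBlock_trans ih ih'

theorem component_weak_orth (p : ℕ) (χ : IrrCharacter G) {x y : G} (hx : ¬ p ∣ orderOf x)
    (hy : p ∣ orderOf y) :
    ∑ᶠ η ∈ component p χ, (η : G → ℂ) y * conj ((η : G → ℂ) x) = 0 := by
  classical
  haveI := Fintype.ofFinite G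
  set A := component p χ
  rw [finsum_mem_irr]
  let v : G → ℂ := fun y => if p ∣ orderOf y then
    ∑ η : IrrCharacter G, if η ∈ A then (η : G → ℂ) y * conj ((η : G → ℂ) x) else 0 else 0
  suffices hv : v = 0 by
    have := congrFun hv y
    simpa [v, hy] using this
  have hvcl : IsClassFunction G v := by
    intro g h
    have ho : orderOf (h * g * h⁻¹) = orderOf g := by
      rw [← MulAut.conj_apply, MulEquiv.orderOf_eq]
    simp only [v, ho]
    refine if_congr Iff.rfl (Finset.sum_congr rfl fun η _ => ?_) rfl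
    rw [isClassFn_irr η g h]
  refine CT.classFunction_eq_zero hvcl fun ζ hζ => ?_
  obtain ⟨ζ, rfl⟩ : ∃ z : IrrCharacter G, (z : G → ℂ) = ζ := ⟨⟨ζ, hζ⟩, rfl⟩
  have key : ∀ (φ η : IrrCharacter G), ∑ y : G, (φ : G → ℂ) y * conj ((η : G → ℂ) y) =
      if φ = η then (Nat.card G : ℂ) else 0 := by
    intro φ η
    have := CT.irr_inner_subtype φ η
    rw [classInner, inv_mul_eq_iff_eq_mul₀ (CT.card_ne_zero (G := G))] at this
    rw [this]; split_ifs <;> simp
  set S := Finset.univ.filter (fun x : G => ¬ p ∣ orderOf x) with hS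
  have hc : ∀ η : IrrCharacter G, (η ∈ A ↔ ζ ∈ A) ∨
      ∑ z ∈ S, (η : G → ℂ) z * conj ((ζ : G → ℂ) z) = 0 := by
    intro η
    by_cases h0 : ∑ z ∈ S, (η : G → ℂ) z * conj ((ζ : G → ℂ) z) = 0
    · exact Or.inr h0
    left
    have hlink : Linked p η ζ := by
      rw [Linked, finsum_mem_eq_toFinset_sum]
      convert h0 using 3
      ext; simp [hS]
    exact ⟨fun h => Relation.EqvGen.trans _ _ _ h (Relation.EqvGen.rel _ _ hlink),
      fun h => Relation.EqvGen.trans _ _ _ h (Relation.EqvGen.symm _ _ (Relation.EqvGen.rel _ _ hlink))⟩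
  have hall : ∑ η : IrrCharacter G, conj ((η : G → ℂ) x) *
      ∑ z ∈ S, (η : G → ℂ) z * conj ((ζ : G → ℂ) z) = (Nat.card G : ℂ) * conj ((ζ : G → ℂ) x) := by
    simp only [Finset.mul_sum, ← mul_assoc]
    rw [Finset.sum_comm]
    simp only [← Finset.sum_mul, mul_comm (conj ((_ : G → ℂ) x)), CT.column_orthogonality]
    rw [← card_centralizer_mul_class x, ← CT.card_conj_class, Nat.card_eq_fintype_card
      (α := {z : G // IsConj x z}), Fintype.card_subtype, Finset.card_filter, Nat.cast_sum,
      Finset.mul_sum, Finset.sum_mul, hS, Finset.sum_filter]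
    refine Finset.sum_congr rfl fun z _ => ?_
    by_cases hz : IsConj x z
    · have ho : ¬ p ∣ orderOf z := by
        obtain ⟨c, rfl⟩ := isConj_iff.mp hz
        rwa [← MulAut.conj_apply, MulEquiv.orderOf_eq]
      have hcard : Nat.card (Subgroup.centralizer ({z} : Set G)) =
          Nat.card (Subgroup.centralizer ({x} : Set G)) := by
        have h1 := CT.card_conj_class_mul_centralizer x
        have h2 := CT.card_conj_class_mul_centralizer z
        rw [Nat.card_congr (Equiv.subtypeEquivRight fun w =>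
          (⟨fun a => hz.trans a, fun a => hz.symm.trans a⟩ : IsConj z w ↔ IsConj x w)), ← h1] at h2
        exact Nat.eq_of_mul_eq_mul_left (Nat.card_pos_iff.mpr ⟨⟨⟨x, IsConj.refl x⟩⟩, inferInstance⟩) h2
      rw [if_pos ho, if_pos hz.symm, hcard, if_pos hz]
      rw [show (ζ : G → ℂ) z = (ζ : G → ℂ) x from ((isClassFn_irr ζ).eq_of_isConj hz).symm]
      push_cast
      ring
    · rw [if_neg (fun c : IsConj z x => hz c.symm), if_neg hz]
      simp
  have hsplit : ∀ η : IrrCharacter G,
      ∑ z : G, (if p ∣ orderOf z then (η : G → ℂ) z else 0) * conj ((ζ : G → ℂ) z) =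
        (if η = ζ then (Nat.card G : ℂ) else 0) - ∑ z ∈ S, (η : G → ℂ) z * conj ((ζ : G → ℂ) z) := by
    intro η
    rw [← key η ζ, hS, Finset.sum_filter, ← Finset.sum_sub_distrib]
    refine Finset.sum_congr rfl fun z _ => ?_
    by_cases hz : p ∣ orderOf z <;> simp [hz]
  have hfin : classInner v ζ = (Nat.card G : ℂ)⁻¹ * ∑ η : IrrCharacter G,
      if η ∈ A then conj ((η : G → ℂ) x) *
        ((if η = ζ then (Nat.card G : ℂ) else 0) - ∑ z ∈ S, (η : G → ℂ) z * conj ((ζ : G → ℂ) z))
      else 0 := by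
    simp only [classInner, ← hsplit, v, ite_mul, zero_mul, Finset.sum_mul]
    congr 1
    have e : ∀ z : G, (if p ∣ orderOf z then ∑ η : IrrCharacter G,
        (if η ∈ A then (η : G → ℂ) z * conj ((η : G → ℂ) x) * conj ((ζ : G → ℂ) z) else 0) else 0) =
        ∑ η : IrrCharacter G, if η ∈ A then conj ((η : G → ℂ) x) *
          (if p ∣ orderOf z then (η : G → ℂ) z * conj ((ζ : G → ℂ) z) else 0) else 0 := by
      intro z
      by_cases hz : p ∣ orderOf z
      · simp only [if_pos hz]
        refine Finset.sum_congr rfl fun η _ => ?_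
        split_ifs <;> ring
      · simp [hz]
    simp only [e]
    rw [Finset.sum_comm]
    refine Finset.sum_congr rfl fun η _ => ?_
    by_cases hη : η ∈ A <;> simp [hη, Finset.mul_sum]
  rw [hfin]
  refine mul_eq_zero_of_right _ ?_
  by_cases hζA : ζ ∈ A
  · have e : ∀ η : IrrCharacter G, (if η ∈ A then conj ((η : G → ℂ) x) *
        ((if η = ζ then (Nat.card G : ℂ) else 0) - ∑ z ∈ S, (η : G → ℂ) z * conj ((ζ : G → ℂ) z))
        else 0) = conj ((η : G → ℂ) x) * (if η = ζ then (Nat.card G : ℂ) else 0) -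
          conj ((η : G → ℂ) x) * ∑ z ∈ S, (η : G → ℂ) z * conj ((ζ : G → ℂ) z) := by
      intro η
      rcases hc η with h | h
      · rw [if_pos (h.mpr hζA), mul_sub]
      · rw [h]
        by_cases hη : η ∈ A
        · rw [if_pos hη]; ring
        · rw [if_neg hη, if_neg fun e : η = ζ => hη (e ▸ hζA)]; ring
    rw [Finset.sum_congr rfl fun η _ => e η, Finset.sum_sub_distrib, hall,
      Finset.sum_eq_single ζ (fun b _ hb => by simp [hb]) (by simp), if_pos rfl]
    ring
  · refine Finset.sum_eq_zero fun η _ => ?_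
    split_ifs with hη h2
    · exact absurd (h2 ▸ hη) hζA
    · rcases hc η with h | h
      · exact absurd (h.mp hη) hζA
      · rw [h]; ring
    · rfl

theorem component_integral [M.IsPrime] (hM : IsPModular p M) (χ : IrrCharacter G) (g : G) :
    blockCoeff (component p χ) g ∈ Loc M := by
  classical
  haveI := Fintype.ofFinite G
  set A := component p χ
  by_cases hg : p ∣ orderOf g
  · have h0 := component_weak_orth p χ (x := (1 : G)) (y := g)
      (by rw [orderOf_one]; exact hM.1.not_dvd_one) hg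
    have : blockCoeff A g = 0 := by
      rw [blockCoeff, finsum_mem_irr]
      rw [finsum_mem_irr] at h0
      have h1 := congrArg conj h0
      simp only [map_sum, apply_ite conj, map_mul, Complex.conj_conj, map_zero] at h1
      refine mul_eq_zero_of_right _ (Eq.trans ?_ h1)
      exact Finset.sum_congr rfl fun η _ => by split_ifs <;> first | rfl | ring
    rw [this]; exact zero_mem _
  · obtain ⟨n, hn, hmem⟩ := exists_eq_pow_mul (G := G) (M := M) hM.1
      (fun η : IrrCharacter G => if η ∈ A then conj ((η : G → ℂ) g) else 0) (fun η => by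
        split_ifs
        · exact integral_mem_loc (CT.isIntegral_conj (isIntegral_irr η.2 g))
        · exact zero_mem _) fun u hu => by
        have h0 := component_weak_orth p χ (x := g) (y := u) hg hu
        rw [finsum_mem_irr] at h0
        refine Eq.trans ?_ h0
        exact Finset.sum_congr rfl fun η _ => by
          show _ = if η ∈ A then _ else _
          split_ifs <;> ring
    rw [blockCoeff, finsum_mem_irr, show (∑ η : IrrCharacter G, if η ∈ A then
      (η : G → ℂ) 1 * conj ((η : G → ℂ) g) else 0) = ∑ η : IrrCharacter G,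
      (if η ∈ A then conj ((η : G → ℂ) g) else 0) * (η : G → ℂ) 1 from
        Finset.sum_congr rfl fun η _ => by split_ifs <;> ring, hn]
    set a := (Nat.card G).factorization p
    have hm : ¬ p ∣ Nat.card G / p ^ a := Nat.not_dvd_ordCompl hM.1 Nat.card_pos.ne'
    have hcard : (Nat.card G : ℂ) = (p : ℂ) ^ a * ((Nat.card G / p ^ a : ℕ) : ℂ) := by
      exact_mod_cast (Nat.ordProj_mul_ordCompl_eq_self (Nat.card G) p).symm
    have hp0 : (p : ℂ) ≠ 0 := Nat.cast_ne_zero.mpr hM.1.ne_zero
    rw [hcard, mul_inv, mul_mul_mul_comm, inv_mul_cancel₀ (pow_ne_zero a hp0), one_mul]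
    exact mul_mem (inv_mem_loc (natCast_mem _ _)
      fun hI => hm ((memLocalIdeal_natCast hM _).mp hI)) hmem

/-- Blocks are the linkage components; in particular they do not depend on `M`. -/
theorem blockOf_eq_component [M.IsPrime] (hM : IsPModular p M) (χ : IrrCharacter G) :
    blockOf M (χ : G → ℂ) = component p χ :=
  Set.Subset.antisymm (blockOf_subset_of_integral (component_integral hM χ) (Relation.EqvGen.refl χ))
    (component_subset_block hM χ)

end Linkage

end Cfsg.Agent.Blocks
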