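import Cfsg.Agent.Lib.Blocks.Subgroup

/-!
# Brauer's second main theorem and vanishing outside defect groups
-/

namespace Cfsg.Agent.Blocks

open MonoidAlgebra
open scoped ComplexConjugate

universe u v

variable {G : Type u} [Group G] [Finite G] {p : ℕ} {M : Ideal AlgInt} [M.IsPrime]

set_option linter.unusedSectionVars false

theorem toC_single (g : G) : toC M G (single g (1 : Loc M)) = single g (1 : ℂ) := by simp

theorem isPGroup_zpowers [Fact p.Prime] {z : G} (hz : ∃ k : ℕ, z ^ p ^ k = 1) :
    IsPGroup p (Subgroup.zpowers z) := by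
  obtain ⟨k, hk⟩ := hz
  rintro ⟨g, hg⟩
  obtain ⟨i, rfl⟩ := Subgroup.mem_zpowers_iff.mp hg
  refine ⟨k, Subtype.ext ?_⟩
  show (z ^ i) ^ p ^ k = 1
  rw [← zpow_natCast, ← zpow_mul, mul_comm, zpow_mul, zpow_natCast, hk, one_zpow]

theorem mem_centralizer_zpowers_iff {z u : G} :
    u ∈ Subgroup.centralizer ((Subgroup.zpowers z : Subgroup G) : Set G) ↔ Commute u z := by
  constructor
  · intro h
    exact (Subgroup.mem_centralizer_iff.mp h z (Subgroup.mem_zpowers z)).symm
  · intro h
    refine Subgroup.mem_centralizer_iff.mpr fun q hq => ?_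
    obtain ⟨i, rfl⟩ := Subgroup.mem_zpowers_iff.mp hq
    exact (h.zpow_right i).eq.symm

theorem centralizer_zpowers_eq (z : G) :
    Subgroup.centralizer ((Subgroup.zpowers z : Subgroup G) : Set G) =
      Subgroup.centralizer ({z} : Set G) := by
  ext u
  rw [mem_centralizer_zpowers_iff, Subgroup.mem_centralizer_singleton_iff]
  rfl

/-- If the `p`-part of `g` lies in no defect group of the block of `χ`, then `χ g = 0`. -/
theorem char_eq_zero_of_not_mem_defect (hM : IsPModular p M) {χ : IrrCharacter G} {g x : G}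
    (hx : IsPPart p g x)
    (hD : ∀ D : Subgroup G, IsDefectGroup p M (blockOf M (χ : G → ℂ)) D → x ∉ D) :
    (χ : G → ℂ) g = 0 := by
  classical
  haveI : Fact p.Prime := ⟨hM.1⟩
  haveI := charP_res hM
  set B := blockOf M (χ : G → ℂ)
  have hB : IsPBlock M B := isPBlock_blockOf χ
  have hA : ∀ u, blockCoeff B u ∈ Loc M := blockCoeff_mem_loc hB
  have hQ : IsPGroup p (Subgroup.zpowers x) := isPGroup_zpowers (ppart_pow_eq_one hx)
  have hbr : br _ hQ (bBar M B) = 0 := by
    by_contra hne
    obtain ⟨D, hD'⟩ := exists_defectGroup (p := p) hB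
    obtain ⟨y, hy⟩ := (br_bBar_ne_zero_iff hM hB hD' hQ).mp hne
    refine hD _ (isDefectGroup_conj hD' y⁻¹) (mem_map_conj.mpr ?_)
    have := hy (Subgroup.mem_map_of_mem _ (Subgroup.mem_zpowers x))
    simpa [mul_assoc] using this
  rw [br_apply, trunc_eq_zero_iff] at hbr
  have h0 := ev_idem_eq_zero_of_nil hM (T := charL M χ) (isClassFn_charL χ)
    (e := (bIdem M B : MonoidAlgebra (Loc M) G)) (congrArg Subtype.val (bIdem_mul_self hA)) hx
    (fun c _ _ => (Subring.mem_center_iff.mp (bIdem M B).2 _).symm)
    fun u hu => by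
      have := hbr u (mem_centralizer_zpowers_iff.mpr hu)
      rwa [bBar, coe_redZ, coeff_map'] at this
  have h1 := congrArg (fun x : Loc M => (x : ℂ)) h0
  simp only [coe_ev, map_mul, toC_bIdem hA, toC_single, ZeroMemClass.coe_zero, coe_charL] at h1
  rw [ev_idemC_mul, if_pos (self_mem_blockOf χ)] at h1
  simpa using h1

/-- The second main theorem in idempotent form. -/
theorem second_main (hM : IsPModular p M) {H : Subgroup G} {b : Set (IrrCharacter H)}
    {B : Set (IrrCharacter G)} (hind : IsInducedBlock M H b B) {h : H} {z : G}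
    (hz : IsPPart p (h : G) z) (hC : Subgroup.centralizer ({z} : Set G) ≤ H)
    {χ : IrrCharacter G} (hχ : χ ∉ B) :
    ev (χ : G → ℂ) (embH H (idemC b) * single (h : G) 1) = 0 := by
  classical
  haveI : Fact p.Prime := ⟨hM.1⟩
  haveI := charP_res hM
  set B' := blockOf M (χ : G → ℂ)
  have hB' : IsPBlock M B' := isPBlock_blockOf χ
  have hA : ∀ u, blockCoeff B' u ∈ Loc M := blockCoeff_mem_loc hB'
  have hAb := blockCoeff_mem_loc hind.1
  obtain ⟨χB, hχB⟩ := block_nonempty hind.2.1
  obtain ⟨ξ₀, hξ₀⟩ := block_nonempty hind.1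
  set Q := Subgroup.zpowers z
  have hQ : IsPGroup p Q := isPGroup_zpowers (ppart_pow_eq_one hz)
  set C := Subgroup.centralizer ({z} : Set G)
  have hCeq : Subgroup.centralizer (Q : Set G) = C := centralizer_zpowers_eq z
  have hCN : C ≤ Subgroup.normalizer (Q : Set G) := by
    rw [← hCeq]; exact Subgroup.centralizer_le_normalizer _
  have hzH : z ∈ H := hC (Subgroup.mem_centralizer_singleton_iff.mpr rfl)
  have hQH : Q ≤ H := Subgroup.zpowers_le.mpr hzH
  set fb : ZG (Loc M) H := bIdem M b
  set fB : ZG (Loc M) G := bIdem M B'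
  set e : MonoidAlgebra (Loc M) G :=
    (fB : MonoidAlgebra (Loc M) G) * embH H (fb : MonoidAlgebra (Loc M) H) with he
  have hfBc : ∀ x, Commute (fB : MonoidAlgebra (Loc M) G) x :=
    fun x => (Subring.mem_center_iff.mp fB.2 x).symm
  have hee : e * e = e := by
    have e1 : (fB : MonoidAlgebra (Loc M) G) * fB = fB := congrArg Subtype.val (bIdem_mul_self hA)
    have e2 : (fb : MonoidAlgebra (Loc M) H) * fb = fb := congrArg Subtype.val (bIdem_mul_self hAb)
    rw [he, mul_assoc, ← mul_assoc (embH H _), ← (hfBc _).eq, mul_assoc, ← mul_assoc,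
      e1, ← map_mul, e2]
  have hec : ∀ c ∈ H, Commute e (single c (1 : Loc M)) := fun c hc =>
    (hfBc _).mul_left (isInv_iff_commute.mp (isInv_embH le_rfl fb.2) c hc)
  -- the Brauer image of `e` vanishes
  set fB' : ZG (Res M) G := bBar M B'
  set fb' : ZG (Res M) H := bBar M b
  have hemb : IsInv Q (embH H (fb' : MonoidAlgebra (Res M) H)) := isInv_embH hQH fb'.2
  have hred : redG M G e = (fB' : MonoidAlgebra (Res M) G) * embH H (fb' : MonoidAlgebra (Res M) H) := by
    rw [he, map_mul, redG, map_embH]
    rfl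
  have hQH' : IsPGroup p (Q.subgroupOf H) :=
    hQ.of_equiv (Subgroup.subgroupOfEquivOfLe hQH).symm
  -- `w`: the Brauer image of `f_b` inside `C`, as a ring homomorphism on `Z(k H)`
  have htmul : ∀ a a' : ZG (Res M) H,
      trunc (Subgroup.centralizer (Q : Set G) : Set G)
          (embH H ((a * a' : ZG (Res M) H) : MonoidAlgebra (Res M) H)) =
        trunc (Subgroup.centralizer (Q : Set G) : Set G) (embH H (a : MonoidAlgebra (Res M) H)) *
          trunc (Subgroup.centralizer (Q : Set G) : Set G) (embH H (a' : MonoidAlgebra (Res M) H)) := by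
    intro a a'
    rw [Subring.coe_mul, map_mul, trunc_mul hQ (isInv_embH hQH a.2) (isInv_embH hQH a'.2)]
  have hembC : ∀ a : MonoidAlgebra (Res M) G,
      embH C (resH C (trunc (Subgroup.centralizer (Q : Set G) : Set G) a)) =
        trunc (Subgroup.centralizer (Q : Set G) : Set G) a :=
    fun a => embH_resH fun u hu => coeff_trunc_of_notMem _ fun c => hu (hCeq ▸ c)
  let wHom : ZG (Res M) H →+* ZG (Res M) C :=
  { toFun := fun a => ⟨resH C (trunc (Subgroup.centralizer (Q : Set G) : Set G)
        (embH H (a : MonoidAlgebra (Res M) H))), by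
      rw [mem_center_iff_isClassFn]
      intro g c
      have hmem : ∀ x : C, (x : G) ∈ (Subgroup.centralizer (Q : Set G) : Set G) :=
        fun x => by rw [hCeq]; exact x.2
      simp only [coeff_resH, coeff_trunc_of_mem _ (hmem _)]
      rw [show ((c * g * c⁻¹ : C) : G) =
        ((⟨(c : G), hC c.2⟩ * ⟨(g : G), hC g.2⟩ * ⟨(c : G), hC c.2⟩⁻¹ : H) : G) from rfl]
      rw [coeff_embH]
      exact ((mem_center_iff_isClassFn _).mp a.2 _ _).trans
        (coeff_embH H (a : MonoidAlgebra (Res M) H) ⟨(g : G), hC g.2⟩).symm⟩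
    map_one' := Subtype.ext (embH_injective C (by
      show embH C (resH C _) = embH C 1
      rw [hembC, OneMemClass.coe_one, map_one, map_one, trunc_one (Subgroup.one_mem _)]))
    map_mul' := fun a a' => Subtype.ext (embH_injective C (by
      show embH C (resH C _) = embH C (resH C _ * resH C _)
      rw [map_mul, hembC, hembC, hembC, htmul]))
    map_zero' := Subtype.ext (by simp [trunc_zero, resH_zero])
    map_add' := fun a a' => Subtype.ext (by simp [trunc_add, resH_add]) }
  set u : ZG (Res M) C := brH Q C hQ hCeq.le hCN fB' * wHom fb'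
  have hu0 : u = 0 := by
    refine eq_zero_of_omegaBar hM u ?_ fun η => ?_
    · show _ * _ = _
      rw [mul_mul_mul_comm, ← map_mul, ← map_mul, bBar_mul_self hA, bBar_mul_self hAb]
    · rw [map_mul]
      by_cases hw : omegaBar M η (wHom fb') = 0
      · rw [hw, mul_zero]
      obtain ⟨ψ, hψ⟩ := exists_eq_omegaBar hM ((omegaBar M η).comp wHom) fun c => by
        have : wHom (scalarZ c) = scalarZ c := by
          refine Subtype.ext (embH_injective C ?_)
          show embH C (resH C _) = embH C _
          rw [hembC]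
          simp only [scalarZ, embH_single, OneMemClass.coe_one]
          ext v
          by_cases hv : v ∈ (Subgroup.centralizer (Q : Set G) : Set G)
          · rw [coeff_trunc_of_mem _ hv]
          · rw [coeff_trunc_of_notMem _ hv, coeff_single]
            exact (Finsupp.single_eq_of_ne fun e : v = 1 => hv (by rw [e]; exact Subgroup.one_mem _)).symm
        rw [RingHom.comp_apply, this, omegaBar_scalarZ]
      have hψb : ψ ∈ b := by
        by_contra hne
        apply hw
        have := RingHom.congr_fun hψ fb'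
        rw [RingHom.comp_apply] at this
        rw [this, omegaBar_bBar hAb, if_neg hne]
      have hcomp : brH Q C hQ hCeq.le hCN fB' = wHom (resZ H fB') := by
        refine Subtype.ext ?_
        show resH C _ = resH C _
        ext c
        simp only [coeff_resH, coe_resZ]
        rw [coeff_trunc_of_mem _ (by rw [hCeq]; exact c.2),
          coeff_trunc_of_mem _ (by rw [hCeq]; exact c.2)]
        exact (coeff_embH H (resH H (fB' : MonoidAlgebra (Res M) G)) ⟨(c : G), hC c.2⟩).symm
      have h2 : omegaBar M η (brH Q C hQ hCeq.le hCN fB') = 0 := by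
        rw [hcomp, ← RingHom.comp_apply, hψ, ← indBar_apply,
          indBar_eq_of_isInducedBlock hind hψb hχB, omegaBar_bBar hA, if_neg]
        intro hmem
        exact hχ (block_eq_of_mem hind.2.1 hB' hχB hmem ▸ self_mem_blockOf χ)
      rw [h2, zero_mul]
  have hnil : ∀ v, Commute v z → red M (e.coeff v) = 0 := by
    intro v hv
    have hvC : v ∈ (Subgroup.centralizer (Q : Set G) : Set G) := mem_centralizer_zpowers_iff.mpr hv
    have h1 := congrArg (fun a : MonoidAlgebra (Res M) G => a.coeff v)
      (congrArg (embH C) (congrArg Subtype.val hu0))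
    simp only [u, Subring.coe_mul, map_mul, Subring.coe_zero, map_zero] at h1
    rw [show embH C ((brH Q C hQ hCeq.le hCN fB' : ZG (Res M) C) : MonoidAlgebra (Res M) C) =
      trunc (Subgroup.centralizer (Q : Set G) : Set G) (fB' : MonoidAlgebra (Res M) G) from hembC _,
      show embH C ((wHom fb' : ZG (Res M) C) : MonoidAlgebra (Res M) C) =
      trunc (Subgroup.centralizer (Q : Set G) : Set G) (embH H (fb' : MonoidAlgebra (Res M) H))
      from hembC _, ← trunc_mul hQ (isInv_of_mem_center Q fB'.2) hemb, coeff_trunc_of_mem _ hvC,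
      ← hred, coeff_map'] at h1
    simpa using h1
  have h0 := ev_idem_eq_zero_of_nil hM (T := charL M χ) (isClassFn_charL χ) hee hz
    (fun c _ hc => hec c (Subgroup.zpowers_le.mpr h.2 hc)) hnil
  have h1 := congrArg (fun x : Loc M => (x : ℂ)) h0
  simp only [coe_ev, map_mul, he, toC_single, ZeroMemClass.coe_zero, coe_charL, toC_bIdem hA,
    map_embH, toC_bIdem hAb, fB, fb] at h1
  rw [mul_assoc, ev_idemC_mul, if_pos (self_mem_blockOf χ)] at h1
  exact h1

theorem ev_embH {R : Type v} [CommRing R] (H : Subgroup G) (T : G → R) (a : MonoidAlgebra R H) :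
    ev T (embH H a) = ev (fun h : H => T h) a := by
  induction a using MonoidAlgebra.induction_linear with
  | zero => simp
  | add x y hx hy => rw [map_add, ev_add, hx, hy, ev_add]
  | single m r => simp [embH_single]

theorem ev_sum_smul_fun {ι : Type v} (s : Finset ι) (c : ι → ℂ) (T : ι → G → ℂ)
    (a : MonoidAlgebra ℂ G) :
    ev (∑ i ∈ s, c i • T i) a = ∑ i ∈ s, c i * ev (T i) a := by
  haveI := Fintype.ofFinite G
  simp only [ev_eq_sum, Finset.sum_apply, Pi.smul_apply, smul_eq_mul, Finset.mul_sum]
  rw [Finset.sum_comm]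
  exact Finset.sum_congr rfl fun i _ => Finset.sum_congr rfl fun u _ => by ring

/-- The block part of a class function by evaluation at the idempotent. -/
theorem blockPart_eq_ev (A : Set (IrrCharacter G)) {θ : G → ℂ} (hθ : IsClassFunction G θ)
    (y : G) : blockPart A θ y = ev θ (idemC A * single y 1) := by
  classical
  letI := Fintype.ofFinite G
  rw [show blockPart A θ y = ∑ᶠ χ ∈ A, classInner θ (χ : G → ℂ) * (χ : G → ℂ) y from rfl,
    finsum_mem_irr]
  conv_rhs => rw [CT.classFunction_eq_sum hθ, ev_sum_smul_fun]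
  refine Finset.sum_congr rfl fun χ _ => ?_
  rw [ev_idemC_mul]
  split_ifs <;> simp

theorem isClassFunction_translate (χ : IrrCharacter G) (x : G) :
    IsClassFunction (Subgroup.centralizer ({x} : Set G))
      (fun c : Subgroup.centralizer ({x} : Set G) => (χ : G → ℂ) (x * (c : G))) := by
  intro g c
  simp only [Subgroup.coe_mul, Subgroup.coe_inv]
  rw [← isClassFn_irr χ (x * (g : G)) (c : G)]
  refine congrArg _ ?_
  have e := Subgroup.mem_centralizer_singleton_iff.mp c.2
  calc x * ((c : G) * g * (c : G)⁻¹) = (x * (c : G)) * g * (c : G)⁻¹ := by group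
    _ = ((c : G) * x) * g * (c : G)⁻¹ := by rw [e]
    _ = (c : G) * (x * g) * (c : G)⁻¹ := by group

/-- Brauer's second main theorem in terms of block parts. -/
theorem second_main_blockPart (hM : IsPModular p M) {x : G} (hx : ∃ k : ℕ, x ^ p ^ k = 1)
    {χ : IrrCharacter G} {b : Set (IrrCharacter (Subgroup.centralizer ({x} : Set G)))}
    (hb : IsPBlock M b)
    (hnot : ¬ IsInducedBlock M (Subgroup.centralizer ({x} : Set G)) b (blockOf M (χ : G → ℂ)))
    {y : Subgroup.centralizer ({x} : Set G)} (hy : ¬ p ∣ orderOf y) :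
    blockPart b (fun c : Subgroup.centralizer ({x} : Set G) => (χ : G → ℂ) (x * (c : G))) y = 0 := by
  haveI : Fact p.Prime := ⟨hM.1⟩
  have hQ : IsPGroup p (Subgroup.zpowers x) := isPGroup_zpowers hx
  have hxC : x ∈ (Subgroup.centralizer ({x} : Set G)) := Subgroup.mem_centralizer_singleton_iff.mpr rfl
  have hCQ : Subgroup.centralizer ((Subgroup.zpowers x : Subgroup G) : Set G) = (Subgroup.centralizer ({x} : Set G)) :=
    centralizer_zpowers_eq x
  have hCN : (Subgroup.centralizer ({x} : Set G)) ≤ Subgroup.normalizer ((Subgroup.zpowers x : Subgroup G) : Set G) := by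
    rw [← hCQ]; exact Subgroup.centralizer_le_normalizer _
  obtain ⟨B, hB⟩ := exists_inducedBlock hM hQ (Subgroup.zpowers_le.mpr hxC) hCQ.le hCN hb
  have hcomm : Commute x (y : G) := (Subgroup.mem_centralizer_singleton_iff.mp y.2).symm
  have hpp : IsPPart p (((⟨x, hxC⟩ * y : (Subgroup.centralizer ({x} : Set G)))) : G) x :=
    isPPart_mk hcomm hx (by rwa [Subgroup.orderOf_coe])
  have hχ : χ ∉ B := fun h =>
    hnot (block_eq_of_mem (isPBlock_blockOf χ) hB.2.1 (self_mem_blockOf χ) h ▸ hB)
  have h0 := second_main hM hB hpp le_rfl hχ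
  rw [← embH_single, ← map_mul, ev_embH] at h0
  rw [blockPart_eq_ev b (isClassFunction_translate χ x)]
  haveI := Fintype.ofFinite (Subgroup.centralizer ({x} : Set G))
  rw [ev_mul_single, one_mul] at h0 ⊢
  rw [ev_eq_sum] at h0 ⊢
  refine Eq.trans (Finset.sum_congr rfl fun u _ => ?_) h0
  congr 2
  have e := Subgroup.mem_centralizer_singleton_iff.mp u.2
  simp only [Subgroup.coe_mul]
  rw [← mul_assoc, ← e, mul_assoc]

end Cfsg.Agent.Blocks
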