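import Cfsg.Agent.Lib.Blocks.Height
import Cfsg.Agent.Lib.Blocks.SecondMain
import Cfsg.Agent.Lib.CT.Clifford

/-!
# Blocks and normal subgroups of order prime to `p`
-/

namespace Cfsg.Agent.Blocks

open MonoidAlgebra
open scoped ComplexConjugate

universe u v

variable {G : Type u} [Group G] [Finite G] {p : ℕ} {M : Ideal AlgInt} [M.IsPrime]

set_option linter.unusedSectionVars false

theorem blockCoeff_mem_loc_of_not_dvd (hM : IsPModular p M) (hG : ¬ p ∣ Nat.card G)
    (A : Set (IrrCharacter G)) (g : G) : blockCoeff A g ∈ Loc M := by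
  classical
  rw [blockCoeff]
  refine Subring.mul_mem _ (inv_mem_loc (natCast_mem (Loc M) _) ?_) ?_
  · rwa [memLocalIdeal_natCast hM]
  · rw [finsum_mem_irr]
    refine Subring.sum_mem _ fun χ _ => ?_
    split_ifs
    · exact Subring.mul_mem _ (integral_mem_loc (isIntegral_irr χ.2 1))
        (integral_mem_loc ((isIntegral_irr χ.2 g).map (starRingEnd ℂ).toIntAlgHom))
    · exact Subring.zero_mem _

/-- The sum of the idempotents of a set of irreducible characters of a subgroup, evaluated at a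
character of the whole group. -/
theorem ev_embH_idemC {H : Subgroup G} [Fintype H] (A : Set (IrrCharacter H)) [DecidablePred (· ∈ A)]
    {χ : G → ℂ} (hχ : IsCharacter G χ) :
    ev χ (embH H (idemC A)) = ∑ θ : IrrCharacter H,
      if θ ∈ A then (CT.mult (fun h : H => χ h) θ : ℂ) * (θ : H → ℂ) 1 else 0 := by
  rw [ev_embH]
  conv_lhs => rw [CT.character_eq_sum (CT.isCharacter_restrict H hχ), ev_sum_smul_fun]
  refine Finset.sum_congr rfl fun θ _ => ?_
  have h := ev_idemC_mul A θ 1
  rw [mul_one] at h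
  rw [show ev ((θ : H → ℂ)) (1 : MonoidAlgebra ℂ H) = (θ : H → ℂ) 1 by simp [one_def]] at h
  rw [h]
  split_ifs <;> simp

theorem embH_idemC_mem_center {N : Subgroup G} [N.Normal] {A : Set (IrrCharacter N)}
    (hA : ∀ (g : G) (n : N), blockCoeff A ⟨g * n * g⁻¹, ‹N.Normal›.conj_mem _ n.2 g⟩ =
      blockCoeff A n) :
    embH N (idemC A) ∈ Subring.center (MonoidAlgebra ℂ G) := by
  rw [mem_center_iff_isClassFn]
  intro u c
  by_cases hu : u ∈ N
  · show (embH N (idemC A)).coeff (c * u * c⁻¹) = (embH N (idemC A)).coeff u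
    rw [coeff_embH N (idemC A) ⟨u, hu⟩,
      coeff_embH N (idemC A) ⟨c * u * c⁻¹, ‹N.Normal›.conj_mem _ hu c⟩]
    exact hA c ⟨u, hu⟩
  · show (embH N (idemC A)).coeff (c * u * c⁻¹) = (embH N (idemC A)).coeff u
    rw [coeff_embH_of_notMem _ _ hu, coeff_embH_of_notMem]
    intro h
    exact hu (by simpa [mul_assoc] using ‹N.Normal›.conj_mem _ h c⁻¹)

theorem idemC_mul_self (A : Set (IrrCharacter G)) : idemC A * idemC A = idemC A := by
  classical
  refine central_ext (Subring.mul_mem _ (idemC_mem_center A) (idemC_mem_center A))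
    (idemC_mem_center A) fun χ => ?_
  rw [omega_mul χ.2 (idemC_mem_center A), omega_idemC]
  split_ifs <;> simp

/-- `χ` has a constituent in `A` on restriction to `H`. -/
def HasConstituent {H : Subgroup G} [Fintype H] (A : Set (IrrCharacter H)) (χ : G → ℂ) : Prop :=
  ∃ θ ∈ A, CT.mult (fun h : H => χ h) θ ≠ 0

section Stable

variable {N : Subgroup G} [Fintype N] [N.Normal] {A : Set (IrrCharacter N)}

theorem omega_stable (hA : ∀ (g : G) (n : N),
    blockCoeff A ⟨g * n * g⁻¹, ‹N.Normal›.conj_mem _ n.2 g⟩ = blockCoeff A n)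
    (χ : IrrCharacter G) :
    omega (χ : G → ℂ) (embH N (idemC A)) = 0 ∨ omega (χ : G → ℂ) (embH N (idemC A)) = 1 := by
  have h := omega_mul χ.2 (embH_idemC_mem_center hA) (embH N (idemC A))
  rw [← map_mul, idemC_mul_self] at h
  rcases eq_or_ne (omega (χ : G → ℂ) (embH N (idemC A))) 0 with h0 | h0
  · exact Or.inl h0
  · exact Or.inr (mul_left_cancel₀ h0 (by rw [mul_one]; exact h.symm))

theorem omega_stable_eq_zero_iff (χ : IrrCharacter G) :
    omega (χ : G → ℂ) (embH N (idemC A)) = 0 ↔ ¬ HasConstituent A (χ : G → ℂ) := by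
  classical
  rw [omega, div_eq_zero_iff, or_iff_left (CT.irr_one_ne_zero χ.2),
    ev_embH_idemC A (CT.isCharacter_of_isIrr χ.2)]
  have e : ∀ θ : IrrCharacter N,
      (if θ ∈ A then (CT.mult (fun h : N => (χ : G → ℂ) h) θ : ℂ) * (θ : N → ℂ) 1 else 0) =
      ((if θ ∈ A then CT.mult (fun h : N => (χ : G → ℂ) h) θ * charDegree (θ : N → ℂ) else 0 : ℕ) : ℂ) := by
    intro θ
    split_ifs
    · rw [Nat.cast_mul, charDegree_cast]
    · simp
  simp only [e, ← Nat.cast_sum, Nat.cast_eq_zero, Finset.sum_eq_zero_iff, Finset.mem_univ,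
    true_implies, HasConstituent, not_exists, not_and, not_not]
  refine forall_congr' fun θ => ?_
  by_cases hθ : θ ∈ A <;> simp [hθ, (charDegree_pos θ).ne']

/-- If some constituent lies in a stable set, all do. -/
theorem mem_of_hasConstituent (hA : ∀ (g : G) (n : N),
    blockCoeff A ⟨g * n * g⁻¹, ‹N.Normal›.conj_mem _ n.2 g⟩ = blockCoeff A n)
    {χ : IrrCharacter G} (hχ : HasConstituent A (χ : G → ℂ)) {θ : IrrCharacter N}
    (hθ : CT.mult (fun h : N => (χ : G → ℂ) h) θ ≠ 0) : θ ∈ A := by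
  classical
  have h1 := (omega_stable hA χ).resolve_left fun h => (omega_stable_eq_zero_iff χ).mp h hχ
  rw [omega, div_eq_one_iff_eq (CT.irr_one_ne_zero χ.2),
    ev_embH_idemC A (CT.isCharacter_of_isIrr χ.2)] at h1
  have h2 := congrFun (CT.character_eq_sum
    (CT.isCharacter_restrict N (CT.isCharacter_of_isIrr χ.2))) 1
  simp only [Finset.sum_apply, Pi.smul_apply, smul_eq_mul, OneMemClass.coe_one] at h2
  have h3 := h2.symm.trans h1.symm
  by_contra hθA
  have e : ∀ θ : IrrCharacter N,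
      (if θ ∈ A then (CT.mult (fun h : N => (χ : G → ℂ) h) θ : ℂ) * (θ : N → ℂ) 1 else 0) =
      ((if θ ∈ A then CT.mult (fun h : N => (χ : G → ℂ) h) θ * charDegree (θ : N → ℂ) else 0 : ℕ) : ℂ) := by
    intro θ
    split_ifs
    · rw [Nat.cast_mul, charDegree_cast]
    · simp
  simp only [e] at h3
  have e2 : ∀ θ : IrrCharacter N, (CT.mult (fun h : N => (χ : G → ℂ) h) θ : ℂ) * (θ : N → ℂ) 1 =
      ((CT.mult (fun h : N => (χ : G → ℂ) h) θ * charDegree (θ : N → ℂ) : ℕ) : ℂ) := fun θ => by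
    rw [Nat.cast_mul, charDegree_cast]
  simp only [e2, ← Nat.cast_sum, Nat.cast_inj] at h3
  refine absurd h3.symm (Finset.sum_lt_sum (fun i _ => by split_ifs <;> simp) ⟨θ, Finset.mem_univ θ, ?_⟩).ne
  rw [if_neg hθA]
  exact Nat.mul_pos (Nat.pos_of_ne_zero hθ) (charDegree_pos θ)

/-- Having a constituent in a stable set is constant on blocks. -/
theorem hasConstituent_iff_of_sameBlock' (hint : ∀ n, blockCoeff A n ∈ Loc M)
    (hA : ∀ (g : G) (n : N),
      blockCoeff A ⟨g * n * g⁻¹, ‹N.Normal›.conj_mem _ n.2 g⟩ = blockCoeff A n)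
    {χ ψ : IrrCharacter G} (h : SameBlock M (χ : G → ℂ) (ψ : G → ℂ)) :
    HasConstituent A (χ : G → ℂ) ↔ HasConstituent A (ψ : G → ℂ) := by
  classical
  set z : MonoidAlgebra (Loc M) G :=
    embH N (ofFun fun n => (⟨blockCoeff A n, hint n⟩ : Loc M))
    with hz
  have hzC : toC M G z = embH N (idemC A) := by
    rw [hz, toC, map_embH]
    congr 1
    ext n
    simp [idemC]
  have hzc : z ∈ Subring.center (MonoidAlgebra (Loc M) G) := by
    rw [mem_center_iff_isClassFn]
    intro u c
    apply Subtype.ext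
    have := (mem_center_iff_isClassFn _).mp (embH_idemC_mem_center hA) u c
    simp only [← hzC] at this
    simpa only [toC, coeff_map', Subring.subtype_apply] using this
  have h1 := red_omegaL_eq_of_sameBlock h ⟨z, hzc⟩
  have key : ∀ η : IrrCharacter G, HasConstituent A (η : G → ℂ) ↔
      red M (omegaL M η ⟨z, hzc⟩) = 1 := by
    intro η
    have e : ((omegaL M η ⟨z, hzc⟩ : Loc M) : ℂ) = omega (η : G → ℂ) (embH N (idemC A)) := by
      rw [← hzC]; rfl
    rcases omega_stable hA η with h0 | h0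
    · rw [iff_false_intro ((omega_stable_eq_zero_iff η).mp h0),
        show omegaL M η ⟨z, hzc⟩ = 0 from Subtype.ext (e.trans h0), map_zero]
      simp
    · have : HasConstituent A (η : G → ℂ) := by
        by_contra hne
        rw [(omega_stable_eq_zero_iff η).mpr hne] at h0
        exact zero_ne_one h0
      rw [iff_true_intro this,
        show omegaL M η ⟨z, hzc⟩ = 1 from Subtype.ext (e.trans h0), map_one]
      simp
  rw [key, key, h1]

/-- Having a constituent in a stable set is constant on blocks, for `p'`-order. -/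
theorem hasConstituent_iff_of_sameBlock (hM : IsPModular p M) (hN : ¬ p ∣ Nat.card N)
    (hA : ∀ (g : G) (n : N),
      blockCoeff A ⟨g * n * g⁻¹, ‹N.Normal›.conj_mem _ n.2 g⟩ = blockCoeff A n)
    {χ ψ : IrrCharacter G} (h : SameBlock M (χ : G → ℂ) (ψ : G → ℂ)) :
    HasConstituent A (χ : G → ℂ) ↔ HasConstituent A (ψ : G → ℂ) :=
  hasConstituent_iff_of_sameBlock' (blockCoeff_mem_loc_of_not_dvd hM hN A) hA h

end Stable

theorem blockCoeff_trivIrr_const (N : Subgroup G) (n : N) :
    blockCoeff ({CT.trivIrr N} : Set (IrrCharacter N)) n = (Nat.card N : ℂ)⁻¹ := by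
  simp [blockCoeff]

/-- A normal subgroup of order prime to `p` is in the kernel of a block containing a character
which is trivial on it. -/
theorem apply_eq_one_of_sameBlock (hM : IsPModular p M) {N : Subgroup G} [N.Normal]
    (hN : ¬ p ∣ Nat.card N) {χ ψ : IrrCharacter G} (h : SameBlock M (χ : G → ℂ) (ψ : G → ℂ))
    (hχ : ∀ n ∈ N, (χ : G → ℂ) n = (χ : G → ℂ) 1) {n : G} (hn : n ∈ N) :
    (ψ : G → ℂ) n = (ψ : G → ℂ) 1 := by
  classical
  letI := Fintype.ofFinite N
  set A : Set (IrrCharacter N) := {CT.trivIrr N}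
  have hA : ∀ (g : G) (n : N),
      blockCoeff A ⟨g * n * g⁻¹, ‹N.Normal›.conj_mem _ n.2 g⟩ = blockCoeff A n := fun g n => by
    rw [blockCoeff_trivIrr_const, blockCoeff_trivIrr_const]
  have h1 : HasConstituent A (χ : G → ℂ) := by
    refine ⟨CT.trivIrr N, rfl, fun h0 => ?_⟩
    have h2 := CT.mult_spec (CT.isCharacter_restrict N (CT.isCharacter_of_isIrr χ.2))
      (CT.isCharacter_of_isIrr (CT.trivIrr N).2)
    rw [h0, Nat.cast_zero] at h2
    simp [classInner, hχ _ (Subtype.prop _), CT.irr_one_ne_zero χ.2] at h2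
  have h3 := (hasConstituent_iff_of_sameBlock hM hN hA h).mp h1
  have h4 := CT.character_eq_sum (CT.isCharacter_restrict N (CT.isCharacter_of_isIrr ψ.2))
  have h5 : ∀ θ : IrrCharacter N, θ ≠ CT.trivIrr N →
      CT.mult (fun h : N => (ψ : G → ℂ) h) θ = 0 := fun θ hne => by
    by_contra h0
    exact hne (mem_of_hasConstituent hA h3 h0)
  have h6 : ∀ m : N, (ψ : G → ℂ) m =
      (CT.mult (fun h : N => (ψ : G → ℂ) h) (CT.trivIrr N : N → ℂ) : ℂ) := by
    intro m
    have := congrFun h4 m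
    simp only [Finset.sum_apply, Pi.smul_apply, smul_eq_mul] at this
    rw [this, Finset.sum_eq_single (CT.trivIrr N) (fun θ _ hne => by simp [h5 θ hne]) (by simp)]
    simp
  exact (h6 ⟨n, hn⟩).trans (h6 1).symm

/-- `O_{p'}(G)` is in the kernel of the principal block. -/
theorem apply_eq_one_of_mem_principalBlock (hM : IsPModular p M) {N : Subgroup G} [N.Normal]
    (hN : ¬ p ∣ Nat.card N) {ψ : IrrCharacter G} (hψ : ψ ∈ principalBlock M G) {n : G}
    (hn : n ∈ N) : (ψ : G → ℂ) n = (ψ : G → ℂ) 1 :=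
  apply_eq_one_of_sameBlock (χ := CT.trivIrr G) hM hN hψ (fun _ _ => rfl) hn

end Cfsg.Agent.Blocks
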