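import Cfsg.Agent.Lib.InvChar.ZStar
import Cfsg.Agent.Lib.InvChar.RankOne
import Cfsg.Agent.Lib.InvChar.OneSubgroup
import Cfsg.Agent.Lib.InvChar.BSLarge
import Cfsg.Agent.Lib.InvChar.BSQuaternion
import Cfsg.Agent.Lib.Invol.ZStarCons
import Cfsg.Agent.S0942

/-!
# Glauberman's Z* theorem from the block library

Everything except the quaternion group of order 8 in the Brauer-Suzuki theorem.
-/

namespace Cfsg.Agent.Blocks

open Cfsg Cfsg.Agent

universe u

theorem blockConstant : InvChar.BlockConstant.{u} := by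
  intro H _ _ M hM z hz y hy χ hχ
  haveI : Fact (Nat.Prime 2) := ⟨Nat.prime_two⟩
  exact Cfsg.Agent.S0942.result 2 M hM z ⟨1, by rw [hz, pow_one]⟩ y hy χ hχ

theorem oneInvolutionStructure : InvChar.OneInvolutionStructure.{u} := by
  intro P _ _ hP huniq
  haveI : Fact (Nat.Prime 2) := ⟨Nat.prime_two⟩
  rcases InvChar.cyclic_or_quaternion hP huniq with h | ⟨-, h⟩
  · exact Or.inl h
  · exact Or.inr h

/-- The Brauer-Suzuki theorem for a Sylow subgroup `Q₈`. -/
def BrauerSuzukiEight : Prop :=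
  ∀ (G : Type u) [Group G] [Finite G] (S : Sylow 2 G),
    Nonempty ((S : Subgroup G) ≃* QuaternionGroup 2) →
      (∀ N : Subgroup G, N.Normal → Odd (Nat.card N) → N = ⊥) →
        Nat.card (Subgroup.center G) = 2

theorem brauerSuzuki_of_eight (h8 : BrauerSuzukiEight.{u}) : InvChar.BrauerSuzuki.{u} := by
  intro G _ _ S n he hO
  cases n with
  | zero => exact h8 G S he hO
  | succ m =>
    obtain ⟨e⟩ := he
    obtain ⟨a, h⟩ := Cfsg.Agent.BSQuaternion.exists_data S m e _ rfl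
    exact Cfsg.Agent.BSQuaternion.center_card_two h hO

/-- The Z* theorem in commutator form, given the case of `Q₈`. -/
theorem zstarHyp_of_eight (h8 : BrauerSuzukiEight.{u}) : Invol.ZStarHyp.{u} :=
  fun _G _ _ _z hz g => InvChar.zstar blockConstant
    (InvChar.rankOneCase oneInvolutionStructure (brauerSuzuki_of_eight h8)) hz g

/-- The Z* theorem in Sylow form, given the case of `Q₈`. -/
theorem zstar_sylow_of_eight (h8 : BrauerSuzukiEight.{u}) {G : Type u} [Group G] [Finite G]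
    (P : Sylow 2 G) (u₀ : G) (hu : orderOf u₀ = 2) (huP : u₀ ∈ P)
    (hiso : ∀ g : G, g * u₀ * g⁻¹ ∈ P → g * u₀ * g⁻¹ = u₀) :
    ∃ N : Subgroup G, N.Normal ∧ Odd (Nat.card N) ∧ ∀ g : G, (u₀ * g * u₀⁻¹ * g⁻¹) ∈ N := by
  haveI : Fact (Nat.Prime 2) := ⟨Nat.prime_two⟩
  refine ⟨pPrimeCore 2 G, Basics.pPrimeCore_normal 2, ?_,
    fun g => zstarHyp_of_eight h8 G u₀ (Invol.isolated_of_sylow P hu huP hiso) g⟩
  rw [← Nat.not_even_iff_odd, even_iff_two_dvd]
  exact Basics.not_dvd_card_pPrimeCore 2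

end Cfsg.Agent.Blocks
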