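import Cfsg.Prelude.Def_Blocks
import Mathlib.FieldTheory.Finite.Basic
import Mathlib.GroupTheory.PGroup

/-!
# The p-part of an element
-/

namespace Cfsg.Agent.Blocks

universe u v

variable {G : Type u} [Group G] {p : ℕ}

theorem ppart_conj {g x : G} (h : IsPPart p g x) (c : G) :
    IsPPart p (c * g * c⁻¹) (c * x * c⁻¹) := by
  obtain ⟨y, hxy, hcom, ⟨k, hk⟩, hy⟩ := h
  refine ⟨c * y * c⁻¹, by rw [← hxy]; group, ?_, ⟨k, ?_⟩, ?_⟩
  · show (c * x * c⁻¹) * (c * y * c⁻¹) = (c * y * c⁻¹) * (c * x * c⁻¹)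
    have := hcom.eq
    calc (c * x * c⁻¹) * (c * y * c⁻¹) = c * (x * y) * c⁻¹ := by group
      _ = c * (y * x) * c⁻¹ := by rw [this]
      _ = _ := by group
  · rw [← MulAut.conj_apply, MulEquiv.orderOf_eq, hk]
  · rwa [← MulAut.conj_apply, MulEquiv.orderOf_eq]

theorem isPPart_mk [hp : Fact p.Prime] {x y : G} (hcom : Commute x y)
    (hx : ∃ k : ℕ, x ^ p ^ k = 1) (hy : ¬ p ∣ orderOf y) : IsPPart p (x * y) x := by
  obtain ⟨k, hk⟩ := hx
  obtain ⟨j, _, hj⟩ := (Nat.dvd_prime_pow hp.out).mp (orderOf_dvd_of_pow_eq_one hk)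
  exact ⟨y, rfl, hcom, ⟨j, hj⟩, hy⟩

theorem exists_isPPart [Finite G] [hp : Fact p.Prime] (g : G) :
    ∃ x : G, IsPPart p g x ∧ x ∈ Subgroup.zpowers g := by
  obtain ⟨k, m, hm, hgm⟩ :=
    Nat.exists_eq_pow_mul_and_not_dvd (orderOf_pos g).ne' p hp.out.ne_one
  have hcop : (p ^ k).Coprime m := Nat.Coprime.pow_left k (hp.out.coprime_iff_not_dvd.mpr hm)
  have hbez : ((Nat.gcd (p ^ k) m : ℕ) : ℤ) =
      ((p ^ k : ℕ) : ℤ) * (p ^ k).gcdA m + (m : ℤ) * (p ^ k).gcdB m := Nat.gcd_eq_gcd_ab _ _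
  rw [hcop.gcd_eq_one, Nat.cast_one] at hbez
  set A : ℤ := ((p ^ k : ℕ) : ℤ) * (p ^ k).gcdA m
  set B : ℤ := (m : ℤ) * (p ^ k).gcdB m
  have hgord : g ^ ((p ^ k * m : ℕ) : ℤ) = 1 := by
    rw [zpow_natCast, ← hgm, pow_orderOf_eq_one]
  have hB : (g ^ B) ^ p ^ k = 1 := by
    rw [← zpow_natCast, ← zpow_mul,
      show B * ((p ^ k : ℕ) : ℤ) = ((p ^ k * m : ℕ) : ℤ) * (p ^ k).gcdB m by
        simp only [B]; push_cast; ring,
      zpow_mul, hgord, one_zpow]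
  have hA : (g ^ A) ^ m = 1 := by
    rw [← zpow_natCast, ← zpow_mul,
      show A * (m : ℤ) = ((p ^ k * m : ℕ) : ℤ) * (p ^ k).gcdA m by
        simp only [A]; push_cast; ring,
      zpow_mul, hgord, one_zpow]
  refine ⟨g ^ B, ?_, zpow_mem (Subgroup.mem_zpowers g) _⟩
  have h1 : g ^ B * g ^ A = g := by
    rw [← zpow_add, show B + A = (1 : ℤ) by rw [hbez]; ring, zpow_one]
  have := isPPart_mk (p := p) ((Commute.refl g).zpow_zpow B A) ⟨k, hB⟩
    (fun h => hm (h.trans (orderOf_dvd_of_pow_eq_one hA)))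
  rwa [h1] at this

theorem ppart_pow_eq_one {g x : G} (h : IsPPart p g x) : ∃ k : ℕ, x ^ p ^ k = 1 := by
  obtain ⟨y, _, _, ⟨k, hk⟩, _⟩ := h
  exact ⟨k, hk ▸ pow_orderOf_eq_one x⟩

theorem ppart_mem_zpowers [hp : Fact p.Prime] {g x : G} (h : IsPPart p g x) :
    x ∈ Subgroup.zpowers g := by
  obtain ⟨y, hxy, hcom, ⟨k, hk⟩, hy⟩ := h
  have hcop : (p ^ k).Coprime (orderOf y) :=
    Nat.Coprime.pow_left k (hp.out.coprime_iff_not_dvd.mpr hy)
  have h1 : g ^ orderOf y = x ^ orderOf y := by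
    rw [← hxy, hcom.mul_pow, pow_orderOf_eq_one, mul_one]
  have hbez := Nat.gcd_eq_gcd_ab (p ^ k) (orderOf y)
  rw [hcop.gcd_eq_one, Nat.cast_one] at hbez
  have hxk : x ^ ((p ^ k : ℕ) : ℤ) = 1 := by rw [zpow_natCast, ← hk, pow_orderOf_eq_one]
  have h2 : x = (g ^ orderOf y) ^ ((p ^ k).gcdB (orderOf y)) := by
    rw [h1, ← zpow_natCast x (orderOf y), ← zpow_mul]
    conv_lhs => rw [← zpow_one x, hbez, zpow_add, zpow_mul, hxk, one_zpow, one_mul]
  rw [h2, ← zpow_natCast g, ← zpow_mul]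
  exact zpow_mem (Subgroup.mem_zpowers g) _

theorem ppart_unique [Fact p.Prime] {g x x' : G} (h : IsPPart p g x) (h' : IsPPart p g x') :
    x = x' := by
  have hx := (ppart_mem_zpowers h)
  have hx' := (ppart_mem_zpowers h')
  obtain ⟨y, hxy, hcom, ⟨k, hk⟩, hy⟩ := h
  obtain ⟨y', hxy', hcom', ⟨k', hk'⟩, hy'⟩ := h'
  obtain ⟨i, hi⟩ := Subgroup.mem_zpowers_iff.mp hx
  obtain ⟨i', hi'⟩ := Subgroup.mem_zpowers_iff.mp hx'
  have hxx : Commute x x' := by rw [← hi, ← hi']; exact (Commute.refl g).zpow_zpow _ _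
  have hyg : Commute g y := by rw [← hxy]; exact hcom.mul_left (Commute.refl y)
  have hyy : Commute y y' := by
    have hg' : y' = x'⁻¹ * g := by rw [← hxy']; group
    rw [hg']
    exact (by rw [← hi']; exact (hyg.symm.zpow_right i').inv_right : Commute y x'⁻¹).mul_right hyg.symm
  have e : x'⁻¹ * x = y' * y⁻¹ := by
    have e0 : x = x' * y' * y⁻¹ := by rw [hxy', ← hxy]; group
    rw [e0]; group
  have h1 : (x'⁻¹ * x) ^ p ^ (k + k') = 1 := by
    have ha : x ^ p ^ (k + k') = 1 := by rw [pow_add, pow_mul, ← hk, pow_orderOf_eq_one, one_pow]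
    have hb : x' ^ p ^ (k + k') = 1 := by
      rw [add_comm, pow_add, pow_mul, ← hk', pow_orderOf_eq_one, one_pow]
    rw [(hxx.symm.inv_left).mul_pow, inv_pow, ha, hb, inv_one, one_mul]
  have h2 : (x'⁻¹ * x) ^ (orderOf y * orderOf y') = 1 := by
    rw [e, (hyy.symm.inv_right).mul_pow, inv_pow]
    rw [pow_mul y, pow_orderOf_eq_one, one_pow, mul_comm, pow_mul, pow_orderOf_eq_one, one_pow]
    simp
  have hp : p.Prime := Fact.out
  have hcop : (p ^ (k + k')).Coprime (orderOf y * orderOf y') :=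
    Nat.Coprime.pow_left _ (hp.coprime_iff_not_dvd.mpr fun hd =>
      ((Nat.Prime.dvd_mul hp).mp hd).elim hy hy')
  have := pow_gcd_eq_one.mpr ⟨h1, h2⟩
  rw [hcop.gcd_eq_one, pow_one, inv_mul_eq_one] at this
  exact this.symm

theorem isPPart_self [Fact p.Prime] {g : G} (h : ∃ k : ℕ, g ^ p ^ k = 1) : IsPPart p g g := by
  have := isPPart_mk (p := p) (Commute.one_right g) h
    (by rw [orderOf_one]; exact (Fact.out : p.Prime).not_dvd_one)
  rwa [mul_one] at this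

theorem isPPart_one [Fact p.Prime] {g : G} (h : ¬ p ∣ orderOf g) : IsPPart p g 1 := by
  have := isPPart_mk (p := p) (Commute.one_left g) ⟨0, by simp⟩ h
  rwa [one_mul] at this

theorem isPPart_one_iff [Fact p.Prime] {g : G} : IsPPart p g 1 ↔ ¬ p ∣ orderOf g := by
  refine ⟨?_, isPPart_one⟩
  rintro ⟨y, hy, _, _, hreg⟩
  rw [one_mul] at hy; subst hy; exact hreg

theorem isConj_of_isPPart [Fact p.Prime] {g h x y : G} (hgh : IsConj g h) (hx : IsPPart p g x)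
    (hy : IsPPart p h y) : IsConj x y := by
  obtain ⟨c, rfl⟩ := isConj_iff.mp hgh
  exact isConj_iff.mpr ⟨c, ppart_unique (ppart_conj hx c) hy⟩

theorem isPRegular_pow_of_le [Finite G] [hp : Fact p.Prime] (v : G) {n : ℕ}
    (hn : (Nat.card G).factorization p ≤ n) : ¬ p ∣ orderOf (v ^ p ^ n) := by
  intro h
  have h1 := orderOf_dvd_natCard (v ^ p ^ n)
  have hv := orderOf_dvd_natCard v
  rw [orderOf_pow] at h
  have hpos := orderOf_pos v
  set o := orderOf v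
  have hf : o.factorization p ≤ n := le_trans
    ((Nat.factorization_le_iff_dvd hpos.ne' Nat.card_pos.ne').mpr hv p) hn
  have : p ^ o.factorization p ∣ Nat.gcd o (p ^ n) :=
    Nat.dvd_gcd (Nat.ordProj_dvd o p) (pow_dvd_pow p hf)
  have hdvd : (p ^ o.factorization p) * p ∣ o :=
    dvd_trans (mul_dvd_mul this h) (dvd_of_eq (Nat.mul_div_cancel' (Nat.gcd_dvd_left _ _)))
  exact Nat.pow_succ_factorization_not_dvd hpos.ne' hp.out (by rw [pow_succ]; exact hdvd)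

/-- There are arbitrarily large exponents `n` with `y ^ p ^ n = y` for `p`-regular `y`. -/
theorem exists_pow_eq_self [Finite G] [hp : Fact p.Prime] {y : G} (hy : ¬ p ∣ orderOf y) (n₀ : ℕ) :
    ∃ n ≥ n₀, y ^ p ^ n = y := by
  set m := orderOf y
  have hcop : p.Coprime m := hp.out.coprime_iff_not_dvd.mpr hy
  refine ⟨Nat.totient m * n₀, ?_, ?_⟩
  · exact Nat.le_mul_of_pos_left _ (Nat.totient_pos.mpr (orderOf_pos y))
  · have h1 : p ^ Nat.totient m ≡ 1 [MOD m] := Nat.ModEq.pow_totient hcop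
    have h2 := h1.pow n₀
    rw [one_pow, ← pow_mul] at h2
    conv_rhs => rw [← pow_one y]
    exact pow_eq_pow_iff_modEq.mpr h2

theorem exists_pow_eq_one_of_isPGroup {H : Subgroup G} (hH : IsPGroup p H) {x : G} (hx : x ∈ H) :
    ∃ k : ℕ, x ^ p ^ k = 1 := by
  obtain ⟨k, hk⟩ := hH ⟨x, hx⟩
  exact ⟨k, by simpa using congrArg Subtype.val hk⟩

end Cfsg.Agent.Blocks
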