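import Cfsg.Agent.Lib.Blocks.Height

/-!
# Character values at sections modulo `p`, and defect classes
-/

namespace Cfsg.Agent.Blocks

open MonoidAlgebra
open scoped ComplexConjugate

universe u v

variable {G : Type u} [Group G] [Finite G] {p : ℕ} {M : Ideal AlgInt} [M.IsPrime]

set_option linter.unusedSectionVars false

theorem red_charL_pow [Fact p.Prime] [CharP (Res M) p] (χ : IrrCharacter G) (g : G) (n : ℕ) :
    red M (charL M χ (g ^ p ^ n)) = red M (charL M χ g) ^ p ^ n := by
  obtain ⟨d, ρ, hρ⟩ := CT.isCharacter_of_isIrr χ.2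
  obtain ⟨w, hw, hk⟩ := CT.exists_eigenvalues ρ g
  have hint : ∀ i, w i ∈ Loc M := fun i =>
    integral_mem_loc (IsIntegral.of_pow (orderOf_pos g) (by rw [hw i]; exact isIntegral_one))
  have e : ∀ k : ℕ, charL M χ (g ^ k) = ∑ i, (⟨w i, hint i⟩ : Loc M) ^ k := by
    intro k
    refine Subtype.ext ?_
    rw [coe_charL]
    push_cast
    rw [← hk k, hρ]
  have e1 := e 1
  simp only [pow_one] at e1
  rw [e, e1, map_sum, map_sum, sum_pow_char_pow]
  exact Finset.sum_congr rfl fun i _ => map_pow _ _ _

/-- A character value is congruent to the value at the regular part. -/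
theorem red_charL_mul [Fact p.Prime] [CharP (Res M) p] (χ : IrrCharacter G) {x y : G}
    (hcom : Commute x y) (hx : ∃ k : ℕ, x ^ p ^ k = 1) (hy : ¬ p ∣ orderOf y) :
    red M (charL M χ (x * y)) = red M (charL M χ y) := by
  obtain ⟨k, hk⟩ := hx
  obtain ⟨n, hn, hyn⟩ := exists_pow_eq_self hy k
  have h1 := red_charL_pow χ (x * y) (M := M) (p := p) n
  have h2 := red_charL_pow χ y (M := M) (p := p) n
  obtain ⟨t, rfl⟩ := Nat.exists_eq_add_of_le hn
  rw [hcom.mul_pow, hyn, show x ^ p ^ (k + t) = 1 by rw [pow_add, pow_mul, hk, one_pow], one_mul] at h1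
  rw [hyn] at h2
  have h3 : red M (charL M χ (x * y)) ^ p ^ (k + t) = red M (charL M χ y) ^ p ^ (k + t) :=
    h1.symm.trans h2
  have h4 : (red M (charL M χ (x * y)) - red M (charL M χ y)) ^ p ^ (k + t) = 0 := by
    rw [sub_pow_char_pow, h3, sub_self]
  exact sub_eq_zero.mp (pow_eq_zero_iff (pow_ne_zero _ (Fact.out : p.Prime).ne_zero) |>.mp h4)

theorem factorization_of_height_zero (hM : IsPModular p M) {B : Set (IrrCharacter G)}
    (hB : IsPBlock M B) {y : G} (hy : IsDefectClass M B y) {χ : IrrCharacter G} (hχ : χ ∈ B)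
    (h0 : blockHeight p B (χ : G → ℂ) = 0) :
    (Nat.card (Subgroup.centralizer ({y} : Set G))).factorization p +
      (charDegree (χ : G → ℂ)).factorization p = (Nat.card G).factorization p := by
  have h1 := le_factorization_of_defectClass hM hy hχ
  obtain ⟨ψ, hψ, h2⟩ := exists_factorization_le hM hB hy
  have h3 : sInf ((fun χ : IrrCharacter G => (charDegree (χ : G → ℂ)).factorization p) '' B) ≤
      (charDegree (ψ : G → ℂ)).factorization p := Nat.sInf_le ⟨ψ, hψ, rfl⟩
  rw [blockHeight] at h0
  omega

theorem index_factorization (H : Subgroup G) :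
    H.index.factorization p + (Nat.card H).factorization p = (Nat.card G).factorization p := by
  rw [← H.index_mul_card, Nat.factorization_mul Subgroup.index_ne_zero_of_finite Nat.card_pos.ne',
    Finsupp.coe_add, Pi.add_apply]

theorem deg_mul_centralChar (χ : IrrCharacter G) (g : G) :
    (charDegree (χ : G → ℂ) : ℂ) * centralChar (χ : G → ℂ) g =
      ((Subgroup.centralizer ({g} : Set G)).index : ℂ) * (χ : G → ℂ) g := by
  rw [← charDegree_cast, centralChar]
  field_simp [CT.irr_one_ne_zero χ.2]

/-- A height zero character is a unit on the sections of a defect class. -/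
theorem red_charL_defectClass_ne_zero (hM : IsPModular p M) {B : Set (IrrCharacter G)}
    (hB : IsPBlock M B) {y : G} (hy : IsDefectClass M B y) {χ : IrrCharacter G} (hχ : χ ∈ B)
    (h0 : blockHeight p B (χ : G → ℂ) = 0) {x : G} (hcom : Commute x y)
    (hx : ∃ k : ℕ, x ^ p ^ k = 1) : red M (charL M χ (x * y)) ≠ 0 := by
  haveI : Fact p.Prime := ⟨hM.1⟩
  haveI := charP_res hM
  rw [red_charL_mul χ hcom hx (regular_of_defectClass hM hB hy)]
  have h1 := factorization_le_of_unit hM (n := charDegree (χ : G → ℂ))
    (m := (Subgroup.centralizer ({y} : Set G)).index) Subgroup.index_ne_zero_of_finite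
    (charDegree_pos χ).ne' (u := centralCharL M χ y) (w := charL M χ y)
    ((red_centralCharL_ne_zero_iff χ y).mpr (hy.2.2 χ hχ))
    (by rw [coe_centralCharL, coe_charL]; exact deg_mul_centralChar χ y)
  refine h1.2.mpr ?_
  have := factorization_of_height_zero hM hB hy hχ h0
  have := index_factorization (p := p) (Subgroup.centralizer ({y} : Set G))
  omega

theorem centralizer_mul_eq [Fact p.Prime] {x y : G} (hcom : Commute x y)
    (hx : ∃ k : ℕ, x ^ p ^ k = 1) (hy : ¬ p ∣ orderOf y) :
    Subgroup.centralizer ({x * y} : Set G) =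
      Subgroup.centralizer ({x} : Set G) ⊓ Subgroup.centralizer ({y} : Set G) := by
  obtain ⟨i, hi⟩ := Subgroup.mem_zpowers_iff.mp (ppart_mem_zpowers (isPPart_mk hcom hx hy))
  refine le_antisymm (fun c hc => ?_) fun c hc => ?_
  · have h : Commute c (x * y) := Subgroup.mem_centralizer_singleton_iff.mp hc
    have hcx : Commute c x := by
      have := h.zpow_right i
      rwa [hi] at this
    have hcy : Commute c y := by
      have := hcx.inv_right.mul_right h
      rwa [inv_mul_cancel_left] at this
    exact ⟨Subgroup.mem_centralizer_singleton_iff.mpr hcx.eq,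
      Subgroup.mem_centralizer_singleton_iff.mpr hcy.eq⟩
  · exact Subgroup.mem_centralizer_singleton_iff.mpr
      ((Commute.mul_right (Subgroup.mem_centralizer_singleton_iff.mp hc.1)
        (Subgroup.mem_centralizer_singleton_iff.mp hc.2)).eq)

/-- The central characters of a block are units at `x * y` for a defect class `y` when `x`
centralizes a Sylow subgroup of the centralizer of `y`. -/
theorem centralChar_defectClass_unit (hM : IsPModular p M) {B : Set (IrrCharacter G)}
    (hB : IsPBlock M B) {y : G} (hy : IsDefectClass M B y) {P : Subgroup G}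
    (hPy : P ≤ Subgroup.centralizer ({y} : Set G))
    (hcard : Nat.card P = p ^ (Nat.card (Subgroup.centralizer ({y} : Set G))).factorization p)
    {x : G} (hxP : P ≤ Subgroup.centralizer ({x} : Set G)) (hcom : Commute x y)
    (hx : ∃ k : ℕ, x ^ p ^ k = 1) {χ : IrrCharacter G} (hχ : χ ∈ B) :
    ¬ MemLocalIdeal M (centralChar (χ : G → ℂ) (x * y)) := by
  haveI : Fact p.Prime := ⟨hM.1⟩
  obtain ⟨ψ, hψ, h0⟩ := exists_height_zero (p := p) hB
  have hu := red_charL_defectClass_ne_zero hM hB hy hψ h0 hcom hx
  have hC := centralizer_mul_eq hcom hx (regular_of_defectClass hM hB hy)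
  have hPC : P ≤ Subgroup.centralizer ({x * y} : Set G) := hC ▸ le_inf hxP hPy
  have hfac : (Nat.card (Subgroup.centralizer ({x * y} : Set G))).factorization p =
      (Nat.card (Subgroup.centralizer ({y} : Set G))).factorization p := by
    refine le_antisymm ((Nat.factorization_le_iff_dvd Nat.card_pos.ne' Nat.card_pos.ne').mpr
      (Subgroup.card_dvd_of_le (hC.le.trans inf_le_right)) p) ?_
    have := Subgroup.card_dvd_of_le hPC
    rw [hcard] at this
    exact (hM.1.pow_dvd_iff_le_factorization Nat.card_pos.ne').mp this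
  have h1 := factorization_le_of_unit hM (m := charDegree (ψ : G → ℂ))
    (n := (Subgroup.centralizer ({x * y} : Set G)).index) (charDegree_pos ψ).ne'
    Subgroup.index_ne_zero_of_finite (u := charL M ψ (x * y)) (w := centralCharL M ψ (x * y)) hu
    (by rw [coe_centralCharL, coe_charL]; exact (deg_mul_centralChar ψ _).symm)
  have h2 : red M (centralCharL M ψ (x * y)) ≠ 0 := by
    refine h1.2.mpr ?_
    have := factorization_of_height_zero hM hB hy hψ h0
    have := index_factorization (p := p) (Subgroup.centralizer ({x * y} : Set G))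
    omega
  rw [← red_centralCharL_ne_zero_iff, sameBlock_iff_red.mp ((mem_block_iff hB hχ).mp hψ)]
  exact h2

end Cfsg.Agent.Blocks
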