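import Cfsg.Agent.Lib.Blocks.NormalPIndex
import Cfsg.Agent.Lib.Blocks.Regular
import Cfsg.Agent.Lib.OddChar.AbelianQuotient
import Cfsg.Prelude.Def_BlockRank

/-!
# Blocks with abelian defect group over a normal subgroup of `p`-power index
-/

namespace Cfsg.Agent.Blocks

open scoped ComplexConjugate

universe u

variable {G : Type u} [Group G] [Fintype G] {p : ℕ} {M : Ideal AlgInt} [M.IsPrime]
  {N : Subgroup G} [Fintype N] [hN : N.Normal] {B : Set (IrrCharacter G)} {P : Subgroup G}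

set_option linter.unusedSectionVars false

/-- A member of a block with abelian defect group is nonzero somewhere in each coset `x N`. -/
theorem exists_ne_zero_in_coset (hM : IsPModular p M) (hidx : ∃ k : ℕ, N.index = p ^ k)
    (hB : IsPBlock M B) (hP : IsDefectGroup p M B P) (hab : ∀ x ∈ P, ∀ y ∈ P, x * y = y * x)
    {χ : IrrCharacter G} (hχ : χ ∈ B) {x : G} (hx : x ∈ P) :
    ∃ y ∈ N, (χ : G → ℂ) (x * y) ≠ 0 := by
  haveI : Fact p.Prime := ⟨hM.1⟩
  obtain ⟨g, hg, hPg, hPp, hcard⟩ := defectGroup_spec hP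
  have hcom : Commute x g := Subgroup.mem_centralizer_singleton_iff.mp (hPg hx)
  refine ⟨g, mem_of_pow_index hidx (regular_of_defectClass hM hB hg), fun h0 => ?_⟩
  obtain ⟨k, hk⟩ := hPp ⟨x, hx⟩
  refine centralChar_defectClass_unit hM hB hg hPg hcard (x := x)
    (fun q hq => Subgroup.mem_centralizer_singleton_iff.mpr (hab q hq x hx)) hcom
    ⟨k, congrArg Subtype.val hk⟩ hχ ?_
  rw [centralChar, h0, mul_zero, zero_div]
  exact memLocalIdeal_zero

theorem comm_mem_of_sup (hsup : N ⊔ P = ⊤) (hab : ∀ x ∈ P, ∀ y ∈ P, x * y = y * x) (g h : G) :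
    g * h * g⁻¹ * h⁻¹ ∈ N := by
  have key : ∀ w : G, ∃ n ∈ N, ∃ x ∈ P, n * x = w := fun w => by
    have hw : w ∈ N ⊔ P := hsup ▸ Subgroup.mem_top w
    exact Subgroup.mem_sup_of_normal_left.mp hw
  obtain ⟨n, hn, x, hx, rfl⟩ := key g
  obtain ⟨m, hm, y, hy, rfl⟩ := key h
  rw [← QuotientGroup.eq_one_iff (N := N)]
  simp only [QuotientGroup.mk_mul, QuotientGroup.mk_inv, (QuotientGroup.eq_one_iff n).mpr hn,
    (QuotientGroup.eq_one_iff m).mpr hm, one_mul]
  rw [← QuotientGroup.mk_mul, hab x hx y hy, QuotientGroup.mk_mul]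
  group

/-- The constituents of a member of such a block are invariant. -/
theorem conjIrr_eq_of_abelian (hM : IsPModular p M) (hidx : ∃ k : ℕ, N.index = p ^ k)
    (hsup : N ⊔ P = ⊤) (hB : IsPBlock M B) (hP : IsDefectGroup p M B P)
    (hab : ∀ x ∈ P, ∀ y ∈ P, x * y = y * x) {χ : IrrCharacter G} (hχ : χ ∈ B)
    {θ : IrrCharacter N} (hθ : classInner (fun n : N => (χ : G → ℂ) n) (θ : N → ℂ) ≠ 0)
    (g : G) : conjIrr g θ = θ := by
  classical
  set T := CT.inertia N (θ : N → ℂ) with hT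
  have hNT : N ≤ T := CT.le_inertia N (CT.isClassFunction_of_isIrr θ.2)
  haveI : T.Normal := ⟨fun t ht w => by
    have := T.mul_mem (hNT (comm_mem_of_sup hsup hab w t)) ht
    rwa [inv_mul_cancel_right] at this⟩
  have htop : T = ⊤ := by
    by_contra hne
    obtain ⟨x, hx, hxT⟩ : ∃ x ∈ P, x ∉ T := by
      by_contra h
      push Not at h
      exact hne (top_le_iff.mp (hsup ▸ sup_le hNT h))
    obtain ⟨ψ, -, hψi, -⟩ := CT.exists_correspondent N θ.2 T hT hNT χ.2 hθ
    obtain ⟨y, hy, hne'⟩ := exists_ne_zero_in_coset hM hidx hB hP hab hχ hx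
    refine hne' ?_
    rw [← hψi]
    exact CT.indFun_eq_zero_of_not_mem T ψ fun hm => hxT ((T.mul_mem_cancel_right (hNT hy)).mp hm)
  have hg : g ∈ T := htop ▸ Subgroup.mem_top g
  exact Subtype.ext ((CT.mem_inertia N).mp hg)

/-- Above an invariant character: the restriction is irreducible, with `[G : N]` extensions. -/
theorem extensions_of_abelian (hM : IsPModular p M) (hidx : ∃ k : ℕ, N.index = p ^ k)
    (hsup : N ⊔ P = ⊤) (hB : IsPBlock M B) (hP : IsDefectGroup p M B P)
    (hab : ∀ x ∈ P, ∀ y ∈ P, x * y = y * x) (θ : IrrCharacter N)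
    (hθB : ∀ χ : IrrCharacter G, classInner (fun n : N => (χ : G → ℂ) n) (θ : N → ℂ) ≠ 0 → χ ∈ B) :
    (∀ χ : IrrCharacter G, classInner (fun n : N => (χ : G → ℂ) n) (θ : N → ℂ) ≠ 0 →
      ∀ n : N, (χ : G → ℂ) n = (θ : N → ℂ) n) ∧
    Nat.card {χ : IrrCharacter G // classInner (fun n : N => (χ : G → ℂ) n) (θ : N → ℂ) ≠ 0} =
      N.index := by
  classical
  haveI := Fintype.ofFinite (G ⧸ N)
  obtain ⟨χ₀, hχ₀⟩ := CT.exists_irr_over N θ.2
  have hinv : ∀ g : G, CT.conjFun N g (θ : N → ℂ) = θ := fun g =>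
    congrArg Subtype.val (conjIrr_eq_of_abelian hM hidx hsup hB hP hab (hθB χ₀ hχ₀) hχ₀ g)
  let m : IrrCharacter G → ℕ := fun χ => CT.mult (fun n : N => (χ : G → ℂ) n) (θ : N → ℂ)
  have hm : ∀ χ : IrrCharacter G,
      classInner (fun n : N => (χ : G → ℂ) n) (θ : N → ℂ) = (m χ : ℂ) := fun χ =>
    CT.mult_spec (CT.isCharacter_restrict N (CT.isCharacter_of_isIrr χ.2))
      (CT.isCharacter_of_isIrr θ.2)
  -- the norm of the induced character
  have hnorm : ∑ χ, m χ ^ 2 = N.index := by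
    have hres : (fun n : N => indFun N (θ : N → ℂ) n) = (N.index : ℂ) • (θ : N → ℂ) := by
      rw [CT.restrict_indFun]
      simp only [hinv, Finset.sum_const, Finset.card_univ]
      rw [← Nat.cast_smul_eq_nsmul ℂ, smul_smul, ← Nat.card_eq_fintype_card, ← N.index_mul_card]
      congr 1
      have : (Nat.card N : ℂ) ≠ 0 := Nat.cast_ne_zero.mpr Nat.card_pos.ne'
      push_cast
      field_simp
    have hI := CT.isClassFunction_indFun N (θ : N → ℂ)
    have h1 : classInner (indFun N (θ : N → ℂ)) (indFun N (θ : N → ℂ)) = (N.index : ℂ) := by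
      rw [CT.frobenius_reciprocity N _ hI, hres, ← CT.classInner_conj_symm, CT.classInner_smul_left,
        CT.irr_inner_self θ.2, mul_one, Complex.conj_natCast]
    have h2 : ∀ χ : IrrCharacter G, classInner (indFun N (θ : N → ℂ)) (χ : G → ℂ) = (m χ : ℂ) :=
      fun χ => by
        rw [CT.frobenius_reciprocity N _ (CT.isClassFunction_of_isIrr χ.2),
          ← CT.classInner_conj_symm, hm, Complex.conj_natCast]
    apply Nat.cast_injective (R := ℂ)
    rw [← h1]
    conv_rhs => rw [CT.classFunction_eq_sum hI, CT.classInner_sum_left]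
    push_cast
    refine Finset.sum_congr rfl fun χ _ => ?_
    rw [← CT.classFunction_eq_sum hI, CT.classInner_smul_left, ← CT.classInner_conj_symm _ (χ : G → ℂ),
      h2, Complex.conj_natCast, pow_two]
  -- twists by the characters of the quotient
  set S := Finset.univ.filter (fun χ : IrrCharacter G => m χ ≠ 0) with hS
  have hcomm : ∀ a b : G ⧸ N, a * b = b * a := fun a b => by
    induction a using QuotientGroup.induction_on with | _ a =>
    induction b using QuotientGroup.induction_on with | _ b =>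
    have := (QuotientGroup.eq_one_iff (N := N) _).mpr (comm_mem_of_sup hsup hab a b)
    rw [QuotientGroup.mk_mul, QuotientGroup.mk_mul, QuotientGroup.mk_inv, QuotientGroup.mk_inv,
      mul_inv_eq_one, mul_inv_eq_iff_eq_mul] at this
    exact this
  have hcardQ : Nat.card (IrrCharacter (G ⧸ N)) = N.index := by
    rw [CT.card_irr_eq_card_conjClasses, Subgroup.index_eq_card]
    refine (Nat.card_eq_of_bijective ConjClasses.mk ⟨fun a b h => ?_, ConjClasses.mk_surjective⟩).symm
    obtain ⟨c, hcab⟩ := isConj_iff.mp (ConjClasses.mk_eq_mk_iff_isConj.mp h)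
    rw [← hcab, hcomm c a, mul_inv_cancel_right]
  have hlin : ∀ lam : IrrCharacter (G ⧸ N), (lam : G ⧸ N → ℂ) 1 = 1 :=
    fun lam => CT.irr_degree_one_of_comm hcomm lam.2
  let infl : IrrCharacter (G ⧸ N) → G → ℂ := fun lam g => (lam : G ⧸ N → ℂ) g
  let tw : IrrCharacter (G ⧸ N) → IrrCharacter G := fun lam =>
    ⟨(χ₀ : G → ℂ) * infl lam, OddChar.isIrr_mul_linear χ₀.2
      (CT.isCharacter_comp (QuotientGroup.mk' N) (CT.isCharacter_of_isIrr lam.2)) (hlin lam)⟩
  have htw : ∀ lam, tw lam ∈ S := by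
    intro lam
    refine Finset.mem_filter.mpr ⟨Finset.mem_univ _, ?_⟩
    have e : (fun n : N => ((tw lam : IrrCharacter G) : G → ℂ) n) = fun n : N => (χ₀ : G → ℂ) n :=
      funext fun n => by
        show (χ₀ : G → ℂ) n * (lam : G ⧸ N → ℂ) ((n : G) : G ⧸ N) = _
        rw [(QuotientGroup.eq_one_iff (n : G)).mpr n.2, hlin, mul_one]
    simp only [m, e]
    intro h
    exact hχ₀ (by rw [hm χ₀]; simp only [m, h, Nat.cast_zero])
  have hinj : Function.Injective tw := by
    intro l l' h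
    refine Subtype.ext (funext fun q => ?_)
    obtain ⟨g, rfl⟩ := QuotientGroup.mk_surjective q
    obtain ⟨n, hn, x, hx, rfl⟩ := Subgroup.mem_sup_of_normal_left.mp
      (show g ∈ N ⊔ P from hsup ▸ Subgroup.mem_top g)
    obtain ⟨y, hy, hne⟩ := exists_ne_zero_in_coset hM hidx hB hP hab (hθB χ₀ hχ₀) hx
    have h1 := congrFun (congrArg Subtype.val h) (x * y)
    simp only [tw, infl, Pi.mul_apply] at h1
    have h2 := mul_left_cancel₀ hne h1
    simpa [QuotientGroup.mk_mul, (QuotientGroup.eq_one_iff n).mpr hn,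
      (QuotientGroup.eq_one_iff y).mpr hy] using h2
  have hge : N.index ≤ S.card := by
    rw [← hcardQ, Nat.card_eq_fintype_card, ← Finset.card_univ]
    exact Finset.card_le_card_of_injOn tw (fun lam _ => htw lam) hinj.injOn
  have hle : ∀ χ ∈ S, 1 ≤ m χ ^ 2 := fun χ hχ =>
    Nat.one_le_pow _ _ (Nat.pos_of_ne_zero (Finset.mem_filter.mp hχ).2)
  have hsumS : ∑ χ ∈ S, m χ ^ 2 ≤ N.index :=
    hnorm ▸ Finset.sum_le_sum_of_subset (Finset.subset_univ _)
  have hcard : S.card = N.index := le_antisymm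
    (le_trans (le_trans (le_of_eq (Finset.card_eq_sum_ones S)) (Finset.sum_le_sum hle)) hsumS) hge
  have hone : ∀ χ ∈ S, m χ = 1 := by
    have h1 : ∑ χ ∈ S, m χ ^ 2 = ∑ χ ∈ S, 1 := le_antisymm
      (by rw [← Finset.card_eq_sum_ones, hcard]; exact hsumS) (Finset.sum_le_sum hle)
    intro χ hχ
    have h2 := (Finset.sum_eq_sum_iff_of_le hle).mp h1.symm χ hχ
    exact (pow_eq_one_iff.mp h2.symm).resolve_right two_ne_zero
  have hiff : ∀ χ : IrrCharacter G,
      classInner (fun n : N => (χ : G → ℂ) n) (θ : N → ℂ) ≠ 0 ↔ χ ∈ S := fun χ => by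
    rw [hm, Nat.cast_ne_zero]; simp [hS]
  refine ⟨fun χ hχ n => ?_, ?_⟩
  · have h := congrFun (CT.restrict_eq_smul_of_invariant N χ.2 θ.2 hχ hinv) n
    simp only [Pi.smul_apply, smul_eq_mul] at h
    rw [h, hm, hone χ ((hiff χ).mp hχ), Nat.cast_one, one_mul]
  · rw [Nat.card_congr (Equiv.subtypeEquivRight hiff), ← hcard]
    simp

/-- Extension by zero from a normal subgroup containing the regular elements. -/
theorem blockRank_eq_of_restrict (hidx : ∃ k : ℕ, N.index = p ^ k) [Fact p.Prime]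
    {b : Set (IrrCharacter N)} (h₁ : ∀ χ ∈ B, ∃ θ ∈ b, ∀ n : N, (χ : G → ℂ) n = (θ : N → ℂ) n)
    (h₂ : ∀ θ ∈ b, ∃ χ ∈ B, ∀ n : N, (χ : G → ℂ) n = (θ : N → ℂ) n) :
    blockRank p B = blockRank p b := by
  classical
  let E : (N → ℂ) →ₗ[ℂ] (G → ℂ) :=
    { toFun := fun f g => if h : g ∈ N then f ⟨g, h⟩ else 0
      map_add' := fun f f' => funext fun g => by simp only [Pi.add_apply]; split_ifs <;> simp
      map_smul' := fun c f => funext fun g => by
        simp only [Pi.smul_apply, RingHom.id_apply, smul_eq_mul]; split_ifs <;> simp }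
  have hE : Function.Injective E := fun f f' h => funext fun n => by
    have := congrFun h (n : G)
    simpa [E] using this
  have hval : ∀ (χ : IrrCharacter G) (θ : IrrCharacter N), (∀ n : N, (χ : G → ℂ) n = (θ : N → ℂ) n) →
      E (pRegularPart p (θ : N → ℂ)) = pRegularPart p (χ : G → ℂ) := by
    intro χ θ h
    funext g
    simp only [E, LinearMap.coe_mk, AddHom.coe_mk, pRegularPart, IsPRegular]
    by_cases hg : p ∣ orderOf g
    · simp [hg]
    · have hgN : g ∈ N := mem_of_pow_index hidx hg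
      simp [hgN, hg, Subgroup.orderOf_mk, h ⟨g, hgN⟩]
  have himg : (fun χ : IrrCharacter G => pRegularPart p (χ : G → ℂ)) '' B =
      E '' ((fun θ : IrrCharacter N => pRegularPart p (θ : N → ℂ)) '' b) := by
    ext f
    constructor
    · rintro ⟨χ, hχ, rfl⟩
      obtain ⟨θ, hθ, h⟩ := h₁ χ hχ
      exact ⟨_, ⟨θ, hθ, rfl⟩, hval χ θ h⟩
    · rintro ⟨_, ⟨θ, hθ, rfl⟩, rfl⟩
      obtain ⟨χ, hχ, h⟩ := h₂ θ hθ
      exact ⟨χ, hχ, (hval χ θ h).symm⟩
  rw [blockRank, blockRank, himg, Submodule.span_image]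
  exact (LinearEquiv.finrank_eq (Submodule.equivMapOfInjective E hE _)).symm

end Cfsg.Agent.Blocks
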