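import Cfsg.Agent.Lib.Blocks.StarInteg
import Cfsg.Agent.Lib.BrauerPairs.Saturation

/-!
# Weights from fusion stable functions on a defect group

A function on `P` which is constant on the fusion classes of the pairs below a maximal pair
`(P, e)` gives a weight on all pairs.
-/

namespace Cfsg.Agent.Blocks

open MonoidAlgebra BPairs

universe u

variable {G : Type u} [Group G] [Finite G] {p : ℕ} {M : Ideal AlgInt} [M.IsPrime]
  {B : Set (IrrCharacter G)} {P : Subgroup G}
  {e : Set (IrrCharacter (Subgroup.centralizer (P : Set G)))}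

set_option linter.unusedSectionVars false

/-- The idempotent `a` is that of the pair below `(P, e)` on the cyclic group of `u`. -/
def BelAt (p : ℕ) (M : Ideal AlgInt) [M.IsPrime] (P : Subgroup G)
    (e : Set (IrrCharacter (Subgroup.centralizer (P : Set G)))) (u : G)
    (a : MonoidAlgebra (Res M) G) : Prop :=
  ∃ f : Set (IrrCharacter (cz u)),
    SubpairLE p M (Subgroup.zpowers u) f P e ∧ a = bel M (cz u) f

/-- The idempotent `a` of the centralizer of `x` belongs to the block `B`. -/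
def InB (M : Ideal AlgInt) [M.IsPrime] (B : Set (IrrCharacter G)) (x : G)
    (a : MonoidAlgebra (Res M) G) : Prop :=
  trunc (cz x : Set G) (bBar M B : MonoidAlgebra (Res M) G) * a = a

/-- A function compatible with the fusion below `(P, e)`. -/
def Stable (p : ℕ) (M : Ideal AlgInt) [M.IsPrime] (P : Subgroup G)
    (e : Set (IrrCharacter (Subgroup.centralizer (P : Set G)))) (w : G → ℂ) : Prop :=
  ∀ u g a, BelAt p M P e u a → BelAt p M P e (g * u * g⁻¹) (conjA g a) → w (g * u * g⁻¹) = w u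

open Classical in
/-- The weight of a function on `P`. -/
noncomputable def weight (p : ℕ) (P : Subgroup G)
    (e : Set (IrrCharacter (Subgroup.centralizer (P : Set G)))) (w : G → ℂ) (x : G)
    (a : MonoidAlgebra (Res M) G) : ℂ :=
  if h : ∃ g, BelAt p M P e (g * x * g⁻¹) (conjA g a) then w (h.choose * x * h.choose⁻¹) else 0

theorem belAt_mem {u : G} {a : MonoidAlgebra (Res M) G} (h : BelAt p M P e u a) : u ∈ P := by
  obtain ⟨f, hf, -⟩ := h
  exact subpair_le hf (Subgroup.mem_zpowers u)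

theorem belAt_of_le {v : G} {R : Subgroup G}
    {b : Set (IrrCharacter (Subgroup.centralizer (R : Set G)))} (hR : R = Subgroup.zpowers v)
    (h : SubpairLE p M R b P e) : BelAt p M P e v (bel M _ b) := by
  subst hR
  exact ⟨b, h, rfl⟩

theorem belAt_conj (hM : IsPModular p M) {u g : G} {Q : Subgroup G}
    {f : Set (IrrCharacter (Subgroup.centralizer (Q : Set G)))}
    {b : Set (IrrCharacter (cz u))} (hb : IsPBlock M b)
    (hle : SubpairLE p M (Subgroup.zpowers u) b Q f)
    (hg : SubpairLE p M (Q.map (MulAut.conj g).toMonoidHom) (conjBlock Q g f) P e) :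
    BelAt p M P e (g * u * g⁻¹) (conjA g (bel M (cz u) b)) := by
  rw [← bel_conjBlock (Subgroup.zpowers u) g hb]
  refine belAt_of_le (MonoidHom.map_zpowers _ u) ?_
  exact (subpair_conj hM hle g).trans hg

theorem trunc_bBar_facts (hM : IsPModular p M) [Fact p.Prime] (hB : IsPBlock M B) {x : G}
    (hx : ∃ k : ℕ, x ^ p ^ k = 1) :
    Inv2 (Subgroup.zpowers x) (trunc (cz x : Set G) (bBar M B : MonoidAlgebra (Res M) G)) ∧
      trunc (cz x : Set G) (bBar M B : MonoidAlgebra (Res M) G) *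
        trunc (cz x : Set G) (bBar M B : MonoidAlgebra (Res M) G) =
        trunc (cz x : Set G) (bBar M B : MonoidAlgebra (Res M) G) := by
  haveI := charP_res hM
  obtain ⟨h1, h2⟩ := inv2_center (Subgroup.zpowers x) (bBar M B).2
  refine ⟨⟨isInv_trunc h1 fun q hq => Subgroup.le_normalizer hq,
    isInv_trunc h2 fun q hq => Subgroup.centralizer_le_normalizer _ hq⟩, ?_⟩
  rw [← trunc_mul (isPGroup_zpowers hx) h1 h1, ← Subring.coe_mul,
    bBar_mul_self (blockCoeff_mem_loc hB)]

theorem inB_or_mul_eq_zero (hM : IsPModular p M) [Fact p.Prime] (hB : IsPBlock M B) {x : G}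
    (hx : ∃ k : ℕ, x ^ p ^ k = 1) {a : MonoidAlgebra (Res M) G} (ha : a ∈ blkIdem M x) :
    InB M B x a ∨ trunc (cz x : Set G) (bBar M B : MonoidAlgebra (Res M) G) * a = 0 := by
  obtain ⟨b, hb, rfl⟩ := mem_blkIdemS.mp ha
  obtain ⟨h1, h2⟩ := trunc_bBar_facts hM hB hx
  exact mul_bel_cases' hM (isPGroup_zpowers hx) hb (fun v hv => coeff_trunc_of_notMem _ hv) h1 h2

theorem inB_conj (g x : G) (a : MonoidAlgebra (Res M) G) :
    InB M B (g * x * g⁻¹) (conjA g a) ↔ InB M B x a := by
  have e1 : trunc (cz (g * x * g⁻¹) : Set G) (bBar M B : MonoidAlgebra (Res M) G) =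
      conjA g (trunc (cz x : Set G) (bBar M B : MonoidAlgebra (Res M) G)) := by
    conv_lhs => rw [← conjA_of_mem_center g (bBar M B).2]
    exact trunc_conjA g x _
  rw [InB, InB, e1, ← conjA_mul]
  refine ⟨fun h => ?_, fun h => by rw [h]⟩
  have := congrArg (conjA g⁻¹) h
  rwa [conjA_conjA, conjA_conjA, inv_mul_cancel, conjA_one, conjA_one] at this

theorem inB_of_belAt (hM : IsPModular p M) [Fact p.Prime] (hmax : IsMaximalBrauerPair p M B P e)
    {u : G} {a : MonoidAlgebra (Res M) G} (h : BelAt p M P e u a) : InB M B u a := by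
  obtain ⟨f, hf, rfl⟩ := h
  have hB := hmax.1.2.1
  obtain ⟨hQ, hfb, -, ho⟩ := isBrauerPairOf_iff.mp
    ((pairOf_iff_of_subpair hM hB ⟨_, f⟩ ⟨P, e⟩ hf).mp hmax.1)
  exact trunc_mul_of_occ hM hQ hfb (inv2_center _ (bBar M B).2)
    (by rw [← Subring.coe_mul, bBar_mul_self (blockCoeff_mem_loc hB)]) ho

theorem isBrauerPairOf_of_inB (hM : IsPModular p M) [Fact p.Prime] (hB : IsPBlock M B) {x : G}
    (hx : ∃ k : ℕ, x ^ p ^ k = 1) {b : Set (IrrCharacter (cz x))} (hb : IsPBlock M b)
    (h : InB M B x (bel M (cz x) b)) : IsBrauerPairOf p M B (Subgroup.zpowers x) b := by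
  have e1 : embH _ (resH (cz x) (bBar M B : MonoidAlgebra (Res M) G)) =
      trunc (cz x : Set G) (bBar M B : MonoidAlgebra (Res M) G) := by
    ext u
    by_cases hu : u ∈ cz x
    · rw [coeff_trunc_of_mem _ hu, show u = ((⟨u, hu⟩ : cz x) : G) from rfl, coeff_embH, coeff_resH]
    · rw [coeff_trunc_of_notMem _ hu, coeff_embH_of_notMem _ _ hu]
  refine isBrauerPairOf_iff.mpr ⟨isPGroup_zpowers hx, hb, hB,
    occ_of_mul hb (inv2_center _ (bBar M B).2).2 ?_⟩
  rw [e1]
  exact h

theorem exists_belAt_of_inB (hM : IsPModular p M) [Fact p.Prime]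
    (hmax : IsMaximalBrauerPair p M B P e) {x : G} (hx : ∃ k : ℕ, x ^ p ^ k = 1)
    {a : MonoidAlgebra (Res M) G} (ha : a ∈ blkIdem M x) (h : InB M B x a) :
    ∃ g, BelAt p M P e (g * x * g⁻¹) (conjA g a) := by
  obtain ⟨b, hb, rfl⟩ := mem_blkIdemS.mp ha
  obtain ⟨g, hg⟩ := exists_conj_below_maximal hM hmax (isBrauerPairOf_of_inB hM hmax.1.2.1 hx hb h)
  exact ⟨g, belAt_conj hM hb Relation.ReflTransGen.refl hg⟩

theorem inB_of_exists_belAt (hM : IsPModular p M) [Fact p.Prime]
    (hmax : IsMaximalBrauerPair p M B P e) {x : G} {a : MonoidAlgebra (Res M) G}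
    (h : ∃ g, BelAt p M P e (g * x * g⁻¹) (conjA g a)) : InB M B x a := by
  obtain ⟨g, hg⟩ := h
  exact (inB_conj g x a).mp (inB_of_belAt hM hmax hg)

variable {w : G → ℂ}

theorem weight_eq (hw : Stable p M P e w) {x g : G} {a : MonoidAlgebra (Res M) G}
    (h : BelAt p M P e (g * x * g⁻¹) (conjA g a)) :
    weight p P e w x a = w (g * x * g⁻¹) := by
  have h' : ∃ g, BelAt p M P e (g * x * g⁻¹) (conjA g a) := ⟨g, h⟩
  rw [weight, dif_pos h']
  have hs := h'.choose_spec
  obtain ⟨k, hk⟩ : ∃ k, k = g * h'.choose⁻¹ := ⟨_, rfl⟩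
  have e1 : k * (h'.choose * x * h'.choose⁻¹) * k⁻¹ = g * x * g⁻¹ := by rw [hk]; group
  have e2 : conjA k (conjA h'.choose a) = conjA g a := by
    rw [conjA_conjA, hk, inv_mul_cancel_right]
  have := hw _ k _ hs (by rw [e1, e2]; exact h)
  rw [e1] at this
  exact this.symm

theorem weight_self (hw : Stable p M P e w) {u : G} {a : MonoidAlgebra (Res M) G}
    (h : BelAt p M P e u a) : weight p P e w u a = w u := by
  have := weight_eq hw (x := u) (g := 1) (a := a) (by simpa [conjA_one] using h)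
  simpa using this

theorem weight_eq_zero (hM : IsPModular p M) [Fact p.Prime]
    (hmax : IsMaximalBrauerPair p M B P e) {x : G} {a : MonoidAlgebra (Res M) G}
    (h : ¬ InB M B x a) : weight p P e w x a = 0 := by
  rw [weight, dif_neg]
  exact fun h' => h (inB_of_exists_belAt hM hmax h')

theorem isWeight_weight (hM : IsPModular p M) [Fact p.Prime]
    (hmax : IsMaximalBrauerPair p M B P e) (hw : Stable p M P e w)
    (hgen : IsGeneralizedCharacter P fun x : P => w x) :
    IsWeight p M (weight (M := M) p P e w) where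
  conjEq c u a _ := by
    by_cases h : ∃ g, BelAt p M P e (g * u * g⁻¹) (conjA g a)
    · obtain ⟨g, hg⟩ := h
      rw [weight_eq hw hg, weight_eq hw (x := c * u * c⁻¹) (g := g * c⁻¹) (a := conjA c a)]
      · congr 1; group
      · rw [conjA_conjA, inv_mul_cancel_right,
          show g * c⁻¹ * (c * u * c⁻¹) * (g * c⁻¹)⁻¹ = g * u * g⁻¹ by group]
        exact hg
    · rw [weight, weight, dif_neg h, dif_neg]
      rintro ⟨g, hg⟩
      refine h ⟨g * c, ?_⟩
      rw [← conjA_conjA, show g * c * u * (g * c)⁻¹ = g * (c * u * c⁻¹) * g⁻¹ by group]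
      exact hg
  gen Q f hQf := by
    have hB := hmax.1.2.1
    by_cases h : ∃ g : G, SubpairLE p M (Q.map (MulAut.conj g).toMonoidHom) (conjBlock Q g f) P e
    · obtain ⟨g, hg⟩ := h
      have hmem : ∀ u : Q, g * (u : G) * g⁻¹ ∈ P := fun u => subpair_le hg ⟨u, u.2, rfl⟩
      refine ⟨fun u => w (g * (u : G) * g⁻¹), CT.isGen_comp (a := fun x : P => w x)
        { toFun := fun u : Q => (⟨g * (u : G) * g⁻¹, hmem u⟩ : P)
          map_one' := Subtype.ext (by simp)
          map_mul' := fun a b => Subtype.ext (by simp [mul_assoc]) } hgen, ?_⟩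
      intro u b hle
      have hb : IsPBlock M b :=
        (isBrauerPair_of_subpair hle hQf : IsBrauerPair p M (Subgroup.zpowers (u : G)) b).2
      exact weight_eq hw (belAt_conj hM hb hle hg)
    · refine ⟨0, CT.isGen_zero, fun u b hle => ?_⟩
      rw [Pi.zero_apply, weight, dif_neg]
      rintro ⟨k, f', hf', hk⟩
      apply h
      have hb : IsPBlock M b :=
        (isBrauerPair_of_subpair hle hQf : IsBrauerPair p M (Subgroup.zpowers (u : G)) b).2
      have hpair : IsBrauerPairOf p M B (Subgroup.zpowers (u : G)) b :=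
        isBrauerPairOf_of_inB hM hB (exists_pow_eq_one_of_isPGroup hQf.1 u.2) hb
          ((inB_conj k _ _).mp (inB_of_belAt hM hmax ⟨f', hf', hk⟩))
      exact exists_conj_below_maximal hM hmax
        ((pairOf_iff_of_subpair hM hB ⟨_, b⟩ ⟨Q, f⟩ hle).mpr hpair)

/-- Functions trivial on the maps of the fusion system are stable. -/
theorem stable_of_fusion {F : FusionSystem P} (hF : IsBlockFusionSystemOn p M B P e F)
    (hM : IsPModular p M) {w : G → ℂ}
    (h : ∀ (Q : Subgroup G) (φ : Q →* G), φ ∈ F.Hom Q → ∀ x : Q, w (φ x) = w x) :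
    Stable p M P e w := by
  rintro u g a ⟨f, hf, rfl⟩ ⟨f', hf', hff⟩
  have hfb : IsPBlock M f := (isBrauerPair_of_subpair hf hF.1.1.1 :
    IsBrauerPair p M (Subgroup.zpowers u) f).2
  have hf'b : IsPBlock M f' := (isBrauerPair_of_subpair hf' hF.1.1.1 :
    IsBrauerPair p M (Subgroup.zpowers (g * u * g⁻¹)) f').2
  have hidx : conjIdx g (⟨Subgroup.zpowers u, f⟩ : BrauerPairIdx G) =
      ⟨Subgroup.zpowers (g * u * g⁻¹), f'⟩ :=
    idx_ext (M := M) (isPBlock_conjBlock _ _ hfb) hf'b (MonoidHom.map_zpowers _ u)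
      ((bel_conjBlock _ g hfb).trans hff)
  have hle : SubpairLE p M ((Subgroup.zpowers u).map (MulAut.conj g).toMonoidHom)
      (conjBlock (Subgroup.zpowers u) g f) P e := by
    show Relation.ReflTransGen (NormalSubpairRel p M) (conjIdx g ⟨Subgroup.zpowers u, f⟩) ⟨P, e⟩
    rw [hidx]
    exact hf'
  exact h (Subgroup.zpowers u) (conjHom (Subgroup.zpowers u) g)
    ((hF.2 _ _).mpr ⟨subpair_le hf, g, fun _ => rfl, subpair_le hle, f, hf, hle⟩)
    ⟨u, Subgroup.mem_zpowers u⟩

/-- In a nilpotent block the class functions of `P` are stable. -/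
theorem stable_of_nilpotent (hM : IsPModular p M) (hnil : IsNilpotentBlock p M B)
    (hmax : IsMaximalBrauerPair p M B P e) {ζ : P → ℂ} (hζ : IsClassFunction P ζ) :
    Stable p M P e (extendByZero P ζ) := by
  rintro u g a ⟨f, hf, rfl⟩ ⟨f', hf', hff⟩
  have hfb : IsPBlock M f := (isBrauerPair_of_subpair hf hmax.1.1 :
    IsBrauerPair p M (Subgroup.zpowers u) f).2
  have hf'b : IsPBlock M f' := (isBrauerPair_of_subpair hf' hmax.1.1 :
    IsBrauerPair p M (Subgroup.zpowers (g * u * g⁻¹)) f').2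
  have hidx : conjIdx g (⟨Subgroup.zpowers u, f⟩ : BrauerPairIdx G) =
      ⟨Subgroup.zpowers (g * u * g⁻¹), f'⟩ :=
    idx_ext (M := M) (isPBlock_conjBlock _ _ hfb) hf'b (MonoidHom.map_zpowers _ u)
      ((bel_conjBlock _ g hfb).trans hff)
  have hle : SubpairLE p M ((Subgroup.zpowers u).map (MulAut.conj g).toMonoidHom)
      (conjBlock (Subgroup.zpowers u) g f) P e := by
    show Relation.ReflTransGen (NormalSubpairRel p M) (conjIdx g ⟨Subgroup.zpowers u, f⟩) ⟨P, e⟩
    rw [hidx]
    exact hf'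
  obtain ⟨y, hy, hyg⟩ := exists_mem_of_nilpotent hM hnil hmax hf hle
  have hu : u ∈ P := subpair_le hf (Subgroup.mem_zpowers u)
  have e1 : g * u * g⁻¹ = y * u * y⁻¹ := by
    have hc : Commute (y⁻¹ * g) u := mem_cz.mp hyg
    calc g * u * g⁻¹ = y * ((y⁻¹ * g) * u) * g⁻¹ := by group
      _ = y * (u * (y⁻¹ * g)) * g⁻¹ := by rw [hc.eq]
      _ = _ := by group
  rw [e1, show y * u * y⁻¹ = (((⟨y, hy⟩ : P) * ⟨u, hu⟩ * (⟨y, hy⟩ : P)⁻¹ : P) : G) from rfl,
    CT.extendByZero_coe, CT.extendByZero_mem P ζ hu]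
  exact hζ _ _

end Cfsg.Agent.Blocks
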