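import Cfsg.Agent.Lib.Blocks.Brauer
import Mathlib.GroupTheory.PGroup
import Mathlib.GroupTheory.Exponent
import Mathlib.GroupTheory.GroupAction.SubMulAction
import Mathlib.GroupTheory.FiniteAbelian.Basic

/-!
# Idempotents and sums over p-subgroups
-/

namespace Cfsg.Agent.Blocks

open MonoidAlgebra

universe u v

variable {G : Type u} [Group G] [Finite G] {R : Type v} [CommRing R] {p : ℕ}

set_option linter.unusedSectionVars false

open Classical in
/-- The sum of the elements of a subgroup. -/
noncomputable def subgroupSum (R : Type v) [CommRing R] (Q : Subgroup G) : MonoidAlgebra R G :=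
  ofFun fun u => if u ∈ Q then 1 else 0

open Classical in
theorem coeff_subgroupSum_mul [Fintype G] (Q : Subgroup G) (a : MonoidAlgebra R G) (u : G) :
    (subgroupSum R Q * a).coeff u = ∑ q : G, if q ∈ Q then a.coeff (q⁻¹ * u) else 0 := by
  rw [coeff_mul_sum]
  refine Finset.sum_congr rfl fun q _ => ?_
  simp [subgroupSum]

open Classical in
theorem coeff_mul_subgroupSum [Fintype G] (Q : Subgroup G) (a : MonoidAlgebra R G) (u : G) :
    (a * subgroupSum R Q).coeff u = ∑ q : G, if q ∈ Q then a.coeff (u * q) else 0 := by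
  rw [coeff_mul_sum]
  refine Fintype.sum_equiv (Equiv.mulLeft u⁻¹) _ _ fun v => ?_
  simp only [subgroupSum, coeff_ofFun, Equiv.coe_mulLeft, mul_inv_cancel_left, mul_ite, mul_one,
    mul_zero]
  refine if_congr ?_ rfl rfl
  rw [← Q.inv_mem_iff, mul_inv_rev, inv_inv]

/-- A nonzero element supported anywhere has a nonzero `Q`-fixed vector in its span under left
multiplication by a `p`-group `Q`. -/
theorem exists_fixed_of_pgroup [hp : Fact p.Prime] [CharP R p] {Q : Subgroup G}
    (hQ : IsPGroup p Q) {e : MonoidAlgebra R G} (he : e ≠ 0) :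
    ∃ v : MonoidAlgebra R G, v ≠ 0 ∧ (∀ q ∈ Q, single q (1 : R) * v = v) ∧
      v ∈ AddSubgroup.closure (Set.range fun q : Q => single (q : G) (1 : R) * e) := by
  classical
  set V := AddSubgroup.closure (Set.range fun q : Q => single (q : G) (1 : R) * e) with hV
  have hmem : ∀ (q : Q) (x : MonoidAlgebra R G), x ∈ V → single (q : G) (1 : R) * x ∈ V := by
    intro q x hx
    induction hx using AddSubgroup.closure_induction with
    | mem y hy =>
      obtain ⟨r, rfl⟩ := hy
      refine AddSubgroup.subset_closure ⟨q * r, ?_⟩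
      show _ = single (q : G) (1 : R) * (single (r : G) (1 : R) * e)
      rw [← mul_assoc, single_mul_single, one_mul]
      rfl
    | zero => simp
    | add a b _ _ ha hb => rw [mul_add]; exact V.add_mem ha hb
    | neg a _ ha => rw [mul_neg]; exact V.neg_mem ha
  letI : SMul Q V := ⟨fun q x => ⟨single (q : G) (1 : R) * x, hmem q x x.2⟩⟩
  letI : MulAction Q V :=
    { one_smul := fun x => Subtype.ext (by
        show single ((1 : Q) : G) (1 : R) * (x : MonoidAlgebra R G) = x
        rw [OneMemClass.coe_one, ← one_def, one_mul])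
      mul_smul := fun q r x => Subtype.ext (by
        show single ((q * r : Q) : G) (1 : R) * (x : MonoidAlgebra R G) =
          single (q : G) (1 : R) * (single (r : G) (1 : R) * x)
        rw [← mul_assoc, single_mul_single, one_mul]
        rfl) }
  haveI : AddGroup.FG V :=
    (AddGroup.fg_iff_addSubgroup_fg V).mpr
      ⟨(Set.finite_range fun q : Q => single (q : G) (1 : R) * e).toFinset, by simp [hV]⟩
  have hchar : ∀ x : V, p • x = 0 := fun x => Subtype.ext (by
    show p • (x : MonoidAlgebra R G) = 0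
    ext u
    rw [coeff_smul_apply, nsmul_eq_mul, CharP.cast_eq_zero, zero_mul]
    simp)
  have htor : AddMonoid.IsTorsion V := fun x =>
    isOfFinAddOrder_iff_nsmul_eq_zero.mpr ⟨p, hp.out.pos, hchar x⟩
  haveI : Finite V := AddCommGroup.finite_of_fg_torsion _ htor
  have hx0 : (⟨e, AddSubgroup.subset_closure ⟨1, by
      show single ((1 : Q) : G) (1 : R) * e = e
      rw [OneMemClass.coe_one, ← one_def, one_mul]⟩⟩ : V) ≠ 0 :=
    fun h => he (congrArg Subtype.val h)
  have hord : addOrderOf (⟨e, _⟩ : V) = p :=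
    addOrderOf_eq_prime (hchar _) hx0
  have hdvd : p ∣ Nat.card V := hord ▸ addOrderOf_dvd_natCard _
  obtain ⟨v, hv, hv0⟩ := hQ.exists_fixed_point_of_prime_dvd_card_of_fixed_point V hdvd
    (a := (0 : V)) (fun q => Subtype.ext (mul_zero _))
  exact ⟨v, fun h => hv0 (Subtype.ext h.symm), fun q hq => congrArg Subtype.val (hv ⟨q, hq⟩),
    v.2⟩

/-- A vector fixed by `Q` is a multiple of the sum of `Q`. -/
theorem exists_eq_subgroupSum_mul {Q : Subgroup G} {v : MonoidAlgebra R G}
    (hv : ∀ q ∈ Q, single q (1 : R) * v = v) :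
    ∃ w : MonoidAlgebra R G, v = subgroupSum R Q * w := by
  classical
  haveI := Fintype.ofFinite G
  let r : G → G := fun u => (Quotient.mk (QuotientGroup.rightRel Q) u).out
  have hr : ∀ u, r u * u⁻¹ ∈ Q := fun u => by
    have := Quotient.mk_out (s := QuotientGroup.rightRel Q) u
    have h1 : (QuotientGroup.rightRel Q) (r u) u := this
    rw [QuotientGroup.rightRel_apply] at h1
    simpa using Q.inv_mem h1
  have hrc : ∀ u u', u' * u⁻¹ ∈ Q → r u' = r u := fun u u' h => by
    show Quotient.out _ = Quotient.out _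
    congr 1
    exact Quotient.sound (by
      show (QuotientGroup.rightRel Q) u' u
      rw [QuotientGroup.rightRel_apply]
      simpa using Q.inv_mem h)
  refine ⟨ofFun fun u => if r u = u then v.coeff u else 0, ?_⟩
  ext u
  rw [coeff_subgroupSum_mul]
  rw [Finset.sum_eq_single (u * (r u)⁻¹)]
  · have hq : u * (r u)⁻¹ ∈ Q := by simpa using Q.inv_mem (hr u)
    have e : (u * (r u)⁻¹)⁻¹ * u = r u := by group
    rw [if_pos hq, e, coeff_ofFun, if_pos (hrc u (r u) (hr u))]
    have h := congrArg (fun x : MonoidAlgebra R G => x.coeff u) (hv _ hq)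
    simp only [coeff_single_mul', one_mul, e] at h
    exact h.symm
  · intro q _ hq
    by_cases hqQ : q ∈ Q
    · rw [if_pos hqQ, coeff_ofFun, if_neg]
      intro h
      apply hq
      rw [hrc u (q⁻¹ * u) (by simpa [mul_assoc] using Q.inv_mem hqQ)] at h
      rw [h]; group
    · rw [if_neg hqQ]
  · simp

/-- A nonzero idempotent commuting with a `p`-group is not killed by the group sum. -/
theorem idem_mul_subgroupSum_ne_zero [Fact p.Prime] [CharP R p] {Q : Subgroup G}
    (hQ : IsPGroup p Q) {e : MonoidAlgebra R G} (he : e ≠ 0) (hee : e * e = e)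
    (hcomm : ∀ q ∈ Q, Commute e (single q 1)) : e * subgroupSum R Q ≠ 0 := by
  intro h0
  obtain ⟨v, hv0, hfix, hmem⟩ := exists_fixed_of_pgroup hQ he
  obtain ⟨w, hw⟩ := exists_eq_subgroupSum_mul hfix
  apply hv0
  have hev : e * v = v := by
    clear hfix hv0 hw
    induction hmem using AddSubgroup.closure_induction with
    | mem y hy =>
      obtain ⟨q, rfl⟩ := hy
      show e * (single (q : G) (1 : R) * e) = single (q : G) (1 : R) * e
      rw [← mul_assoc, (hcomm q q.2).eq, mul_assoc, hee]
    | zero => simp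
    | add a b _ _ ha hb => rw [mul_add, ha, hb]
    | neg a _ ha => rw [mul_neg, ha]
  rw [← hev, hw, ← mul_assoc, h0, zero_mul]

/-- The Brauer map at a normal `p`-subgroup does not kill a nonzero central idempotent. -/
theorem br_ne_zero_of_normal [Fact p.Prime] [CharP R p] {Q : Subgroup G} [hn : Q.Normal]
    (hQ : IsPGroup p Q) {e : Subring.center (MonoidAlgebra R G)} (he : e ≠ 0) (hee : e * e = e) :
    br Q hQ e ≠ 0 := by
  classical
  haveI := Fintype.ofFinite G
  intro h0
  rw [br_apply, trunc_eq_zero_iff] at h0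
  have hecl := (mem_center_iff_isClassFn (e : MonoidAlgebra R G)).mp e.2
  apply idem_mul_subgroupSum_ne_zero hQ (e := (e : MonoidAlgebra R G))
    (fun h => he (Subtype.ext h)) (congrArg Subtype.val hee)
    (fun q _ => (Subring.mem_center_iff.mp e.2 _).symm)
  ext u
  rw [coeff_mul_subgroupSum, coeff_zero, Finsupp.zero_apply, ← Finset.sum_filter]
  let F : G → R := fun w => if u⁻¹ * w ∈ Q then (e : MonoidAlgebra R G).coeff w else 0
  have hsum : ∑ q ∈ Finset.univ.filter (· ∈ Q), (e : MonoidAlgebra R G).coeff (u * q) =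
      ∑ w : G, F w := by
    rw [Finset.sum_filter]
    exact Fintype.sum_equiv (Equiv.mulLeft u) _ _ fun q => by simp [F]
  rw [hsum, sum_eq_sum_fixed (p := p) (hQ.map (ConjAct.toConjAct : G ≃* ConjAct G).toMonoidHom) F]
  · refine Finset.sum_eq_zero fun w hw => ?_
    simp only [Finset.mem_filter, Finset.mem_univ, true_and, MulAction.mem_fixedPoints] at hw
    have hwC : w ∈ Subgroup.centralizer (Q : Set G) := Subgroup.mem_centralizer_iff.mpr fun q hq => by
      have := hw ⟨_, q, hq, rfl⟩
      rw [Subgroup.smul_def] at this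
      simp only [MulEquiv.toMonoidHom_eq_coe, MonoidHom.coe_coe, ConjAct.smul_def,
        ConjAct.ofConjAct_toConjAct] at this
      exact mul_inv_eq_iff_eq_mul.mp this
    simp [F, h0 w hwC]
  · rintro ⟨_, q, hq, rfl⟩ w
    rw [Subgroup.smul_def]
    simp only [MulEquiv.toMonoidHom_eq_coe, MonoidHom.coe_coe, ConjAct.smul_def,
      ConjAct.ofConjAct_toConjAct, F]
    have hiff : u⁻¹ * (q * w * q⁻¹) ∈ Q ↔ u⁻¹ * w ∈ Q := by
      have h1 : u⁻¹ * (q * w * q⁻¹) = (u⁻¹ * q * (u⁻¹)⁻¹) * (u⁻¹ * w) * q⁻¹ := by group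
      rw [h1, Q.mul_mem_cancel_right (Q.inv_mem hq),
        Q.mul_mem_cancel_left (hn.conj_mem q hq u⁻¹)]
    exact if_congr hiff (hecl w q) rfl

end Cfsg.Agent.Blocks
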