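import Cfsg.Agent.Lib.Blocks.Defect
import Cfsg.Agent.Lib.Blocks.PGroupSum

/-!
# Restriction to subgroups, Brauer maps into subgroups, induced blocks
-/

namespace Cfsg.Agent.Blocks

open MonoidAlgebra
open scoped ComplexConjugate

universe u v w

variable {G : Type u} [Group G] [Finite G]

set_option linter.unusedSectionVars false

section Ring

variable {R : Type v} [CommRing R] {S : Type w} [CommRing S]

/-- Restriction of the coefficients to a subgroup. -/
noncomputable def resH (H : Subgroup G) (a : MonoidAlgebra R G) : MonoidAlgebra R H :=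
  ofFun fun h => a.coeff h

@[simp] theorem coeff_resH (H : Subgroup G) (a : MonoidAlgebra R G) (h : H) :
    (resH H a).coeff h = a.coeff h := rfl

/-- The inclusion of the group algebra of a subgroup. -/
noncomputable def embH (H : Subgroup G) : MonoidAlgebra R H →+* MonoidAlgebra R G :=
  mapDomainRingHom R H.subtype

theorem coeff_embH (H : Subgroup G) (a : MonoidAlgebra R H) (h : H) :
    (embH H a).coeff h = a.coeff h :=
  Finsupp.mapDomain_apply H.subtype_injective a.coeff h

theorem coeff_embH_of_notMem (H : Subgroup G) (a : MonoidAlgebra R H) {u : G} (hu : u ∉ H) :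
    (embH H a).coeff u = 0 :=
  Finsupp.mapDomain_of_notMem_range a.coeff u (by rintro ⟨h, rfl⟩; exact hu h.2)

theorem embH_injective (H : Subgroup G) : Function.Injective (embH (R := R) H) :=
  mapDomain_injective H.subtype_injective

theorem embH_single (H : Subgroup G) (h : H) (r : R) :
    embH H (single h r) = single (h : G) r := by simp [embH]

theorem resH_embH (H : Subgroup G) (a : MonoidAlgebra R H) : resH H (embH H a) = a := by
  ext h
  simp [coeff_embH]

theorem embH_resH {H : Subgroup G} {a : MonoidAlgebra R G} (ha : ∀ u, u ∉ H → a.coeff u = 0) :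
    embH H (resH H a) = a := by
  ext u
  by_cases hu : u ∈ H
  · exact coeff_embH H _ ⟨u, hu⟩
  · rw [coeff_embH_of_notMem H _ hu, ha u hu]

theorem resH_add (H : Subgroup G) (a b : MonoidAlgebra R G) :
    resH H (a + b) = resH H a + resH H b := by ext h; simp

theorem resH_zero (H : Subgroup G) : resH H (0 : MonoidAlgebra R G) = 0 := by ext h; simp

theorem resH_smul (H : Subgroup G) (c : R) (a : MonoidAlgebra R G) :
    resH H (c • a) = c • resH H a := by ext h; simp

theorem map_resH (f : R →+* S) (H : Subgroup G) (a : MonoidAlgebra R G) :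
    mapRingHom H f (resH H a) = resH H (mapRingHom G f a) := by ext h; simp

theorem map_trunc (f : R →+* S) (T : Set G) (a : MonoidAlgebra R G) :
    mapRingHom G f (trunc T a) = trunc T (mapRingHom G f a) := by
  ext u
  by_cases hu : u ∈ T <;> simp [coeff_trunc_of_mem, coeff_trunc_of_notMem, hu]

theorem map_embH (f : R →+* S) (H : Subgroup G) (a : MonoidAlgebra R H) :
    mapRingHom G f (embH H a) = embH H (mapRingHom H f a) := by
  ext u
  by_cases hu : u ∈ H
  · rw [coeff_map', coeff_embH H a ⟨u, hu⟩, coeff_embH H _ ⟨u, hu⟩, coeff_map']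
  · rw [coeff_map', coeff_embH_of_notMem H a hu, coeff_embH_of_notMem H _ hu, map_zero]

theorem resH_mem_center (H : Subgroup G) {a : MonoidAlgebra R G}
    (ha : a ∈ Subring.center (MonoidAlgebra R G)) :
    resH H a ∈ Subring.center (MonoidAlgebra R H) := by
  rw [mem_center_iff_isClassFn] at *
  intro g h
  simp only [coeff_resH, Subgroup.coe_mul, Subgroup.coe_inv]
  exact ha g h

/-- Restriction of central elements. -/
noncomputable def resZ (H : Subgroup G) (a : ZG R G) : ZG R H := ⟨resH H a, resH_mem_center H a.2⟩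

@[simp] theorem coe_resZ (H : Subgroup G) (a : ZG R G) :
    ((resZ H a : ZG R H) : MonoidAlgebra R H) = resH H a := rfl

/-- The restriction, as an additive map on centres. -/
noncomputable def resZHom (H : Subgroup G) : ZG R G →+ ZG R H where
  toFun := resZ H
  map_zero' := Subtype.ext (resH_zero H)
  map_add' a b := Subtype.ext (resH_add H _ _)

theorem isInv_embH {H Q : Subgroup G} (hQ : Q ≤ H) {a : MonoidAlgebra R H}
    (ha : a ∈ Subring.center (MonoidAlgebra R H)) : IsInv Q (embH H a) := by
  rw [isInv_iff_commute]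
  intro q hq
  have := (Subring.mem_center_iff.mp ha (single (⟨q, hQ hq⟩ : H) 1)).symm
  have h2 := congrArg (embH H) this
  rw [map_mul, map_mul, embH_single] at h2
  exact h2

variable {p : ℕ} [Fact p.Prime] [CharP R p]

theorem centralizer_conj_mem {Q : Subgroup G} {n c : G}
    (hn : n ∈ Subgroup.normalizer (Q : Set G)) :
    n * c * n⁻¹ ∈ Subgroup.centralizer (Q : Set G) ↔ c ∈ Subgroup.centralizer (Q : Set G) := by
  simp only [Subgroup.mem_centralizer_iff, SetLike.mem_coe]
  rw [Subgroup.mem_normalizer_iff] at hn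
  constructor
  · intro h q hq
    have e := h _ ((hn q).mp hq)
    calc q * c = n⁻¹ * ((n * q * n⁻¹) * (n * c * n⁻¹)) * n := by group
      _ = n⁻¹ * ((n * c * n⁻¹) * (n * q * n⁻¹)) * n := by rw [e]
      _ = c * q := by group
  · intro h q hq
    have hq' : n⁻¹ * q * n ∈ Q := (hn _).mpr (by simpa [mul_assoc] using hq)
    have e := h _ hq'
    calc q * (n * c * n⁻¹) = n * ((n⁻¹ * q * n) * c) * n⁻¹ := by group
      _ = n * (c * (n⁻¹ * q * n)) * n⁻¹ := by rw [e]
      _ = n * c * n⁻¹ * q := by group

theorem resH_trunc_mem_center {Q H : Subgroup G} (hHN : H ≤ Subgroup.normalizer (Q : Set G))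
    {a : MonoidAlgebra R G} (ha : a ∈ Subring.center (MonoidAlgebra R G)) :
    resH H (trunc (Subgroup.centralizer (Q : Set G) : Set G) a) ∈
      Subring.center (MonoidAlgebra R H) := by
  rw [mem_center_iff_isClassFn] at *
  intro g h
  simp only [coeff_resH, Subgroup.coe_mul, Subgroup.coe_inv]
  by_cases hg : (g : G) ∈ (Subgroup.centralizer (Q : Set G) : Set G)
  · rw [coeff_trunc_of_mem _ hg,
      coeff_trunc_of_mem _ ((centralizer_conj_mem (hHN h.2)).mpr hg)]
    exact ha g h
  · rw [coeff_trunc_of_notMem _ hg,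
      coeff_trunc_of_notMem _ (fun c => hg ((centralizer_conj_mem (hHN h.2)).mp c))]

theorem embH_resH_trunc {Q H : Subgroup G} (hCH : Subgroup.centralizer (Q : Set G) ≤ H)
    (a : MonoidAlgebra R G) :
    embH H (resH H (trunc (Subgroup.centralizer (Q : Set G) : Set G) a)) =
      trunc (Subgroup.centralizer (Q : Set G) : Set G) a :=
  embH_resH fun _ hu => coeff_trunc_of_notMem _ fun hc => hu (hCH hc)

/-- The Brauer map into the centre of a subgroup between `C(Q)` and `N(Q)`. -/
noncomputable def brH (Q H : Subgroup G) (hQ : IsPGroup p Q)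
    (hCH : Subgroup.centralizer (Q : Set G) ≤ H) (hHN : H ≤ Subgroup.normalizer (Q : Set G)) :
    ZG R G →+* ZG R H where
  toFun a := ⟨resH H (trunc (Subgroup.centralizer (Q : Set G) : Set G) (a : MonoidAlgebra R G)),
    resH_trunc_mem_center hHN a.2⟩
  map_one' := Subtype.ext (embH_injective H (by
    show embH H (resH H _) = embH H 1
    rw [embH_resH_trunc hCH, OneMemClass.coe_one, trunc_one (Subgroup.one_mem _), map_one]))
  map_mul' a b := Subtype.ext (embH_injective H (by
    show embH H (resH H _) = embH H (resH H _ * resH H _)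
    rw [map_mul, embH_resH_trunc hCH, embH_resH_trunc hCH, embH_resH_trunc hCH, Subring.coe_mul,
      trunc_mul hQ (isInv_of_mem_center Q a.2) (isInv_of_mem_center Q b.2)]))
  map_zero' := Subtype.ext (by simp [trunc_zero, resH_zero])
  map_add' a b := Subtype.ext (by simp [trunc_add, resH_add])

theorem coe_brH (Q H : Subgroup G) (hQ : IsPGroup p Q)
    (hCH : Subgroup.centralizer (Q : Set G) ≤ H) (hHN : H ≤ Subgroup.normalizer (Q : Set G))
    (a : ZG R G) : ((brH Q H hQ hCH hHN a : ZG R H) : MonoidAlgebra R H) =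
      resH H (trunc (Subgroup.centralizer (Q : Set G) : Set G) (a : MonoidAlgebra R G)) := rfl

theorem brH_scalarZ (Q H : Subgroup G) (hQ : IsPGroup p Q)
    (hCH : Subgroup.centralizer (Q : Set G) ≤ H) (hHN : H ≤ Subgroup.normalizer (Q : Set G))
    (c : R) : brH Q H hQ hCH hHN (scalarZ c) = scalarZ c := by
  classical
  refine Subtype.ext ?_
  ext h
  rw [coe_brH, coeff_resH]
  simp only [scalarZ]
  by_cases hh : h = 1
  · subst hh
    rw [coeff_trunc_of_mem _ (by simp)]
    simp
  · have hh' : (h : G) ≠ 1 := fun e => hh (Subtype.ext e)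
    by_cases hc : (h : G) ∈ (Subgroup.centralizer (Q : Set G) : Set G)
    · rw [coeff_trunc_of_mem _ hc]
      simp [Finsupp.single_eq_of_ne hh', Finsupp.single_eq_of_ne hh]
    · rw [coeff_trunc_of_notMem _ hc]
      simp [Finsupp.single_eq_of_ne hh]

end Ring

section Blocks

variable {p : ℕ} {M : Ideal AlgInt} [M.IsPrime]

/-- A scalar-preserving homomorphism to the residue field is a modular central character. -/
theorem exists_eq_omegaBar (hM : IsPModular p M) (l : ZG (Res M) G →+* Res M)
    (hl : ∀ c, l (scalarZ c) = c) : ∃ χ : IrrCharacter G, l = omegaBar M χ := by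
  by_contra hne
  push Not at hne
  have : ∀ χ : IrrCharacter G, ∃ a, l a ≠ omegaBar M χ a := fun χ => by
    by_contra h
    push Not at h
    exact hne χ (RingHom.ext h)
  choose a ha using this
  set y := ∏ χ : IrrCharacter G, (a χ - scalarZ (omegaBar M χ (a χ)))
  have hy : IsNilpotent y := isNilpotent_of_omegaBar hM y fun η => by
    rw [map_prod]
    exact Finset.prod_eq_zero (Finset.mem_univ η)
      (by rw [map_sub, omegaBar_scalarZ, sub_self])
  have hly : l y ≠ 0 := by
    rw [map_prod]
    exact Finset.prod_ne_zero_iff.mpr fun χ _ => by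
      rw [map_sub, hl, sub_ne_zero]; exact ha χ
  exact hly ((hy.map l).eq_zero)

/-- At a normal `p`-subgroup, central characters only see the Brauer image. -/
theorem omegaBar_eq_zero_of_br (hM : IsPModular p M) [Fact p.Prime] [CharP (Res M) p]
    {Q : Subgroup G} [Q.Normal] (hQ : IsPGroup p Q) (χ : IrrCharacter G) {z : ZG (Res M) G}
    (hz : br Q hQ z = 0) : omegaBar M χ z = 0 := by
  by_contra hne
  have hB := isPBlock_blockOf (M := M) χ
  exact br_ne_zero hM hQ hB (self_mem_blockOf χ) hne
    (br_ne_zero_of_normal hQ (bBar_ne_zero hB) (bBar_mul_self (blockCoeff_mem_loc hB))) hz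

/-- The central character of `ξ` induced to `G`, modulo the local ideal. -/
noncomputable def indBar (M : Ideal AlgInt) [M.IsPrime] (H : Subgroup G) (ξ : IrrCharacter H) :
    ZG (Res M) G →+ Res M :=
  (omegaBar M ξ).toAddMonoidHom.comp (resZHom H)

theorem indBar_apply (H : Subgroup G) (ξ : IrrCharacter H) (a : ZG (Res M) G) :
    indBar M H ξ a = omegaBar M ξ (resZ H a) := rfl

theorem inducedCentralChar_eq_omega (H : Subgroup G) (ξ : IrrCharacter H) (g : G) :
    inducedCentralChar H (ξ : H → ℂ) g = omega (ξ : H → ℂ) (resH H (classSum ℂ g)) := by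
  classical
  haveI := Fintype.ofFinite H
  rw [inducedCentralChar, omega, ev_eq_sum, Finset.sum_div, finsum_mem_eq_toFinset_sum]
  refine Finset.sum_subset_zero_on_sdiff (Finset.subset_univ _) (fun h hh => ?_) fun h hh => ?_
  · simp only [Finset.mem_sdiff, Finset.mem_univ, Set.mem_toFinset, Set.mem_ofPred_eq,
      true_and] at hh
    simp [classSum, classInd_neg hh]
  · simp only [Set.mem_toFinset, Set.mem_ofPred_eq] at hh
    simp [classSum, classInd_pos hh]

theorem inducedCentralChar_mem_loc (H : Subgroup G) (ξ : IrrCharacter H) (g : G) :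
    inducedCentralChar H (ξ : H → ℂ) g ∈ Loc M := by
  rw [inducedCentralChar_eq_omega]
  have := omega_toC_mem (M := M) ξ (a := resH H (classSum (Loc M) g))
    (resH_mem_center H (classSum_mem_center g))
  rwa [map_resH, map_classSum] at this

theorem indBar_classSumZ (H : Subgroup G) (ξ : IrrCharacter H) (g : G) :
    indBar M H ξ (classSumZ (Res M) g) =
      red M ⟨inducedCentralChar H (ξ : H → ℂ) g, inducedCentralChar_mem_loc H ξ g⟩ := by
  have e : resZ H (classSumZ (Res M) g) = redZ M H (resZ H (classSumZ (Loc M) g)) :=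
    Subtype.ext (by simp [map_resH, map_classSum])
  rw [indBar_apply, e, omegaBar_redZ]
  congr 1
  refine Subtype.ext ?_
  simp [inducedCentralChar_eq_omega, map_resH, map_classSum]

/-- A central element is a combination of class sums, in the centre. -/
theorem zg_eq_sum {R : Type v} [CommRing R] (a : ZG R G) :
    a = ∑ K : ConjClasses G,
      scalarZ ((a : MonoidAlgebra R G).coeff (rep K)) * classSumZ R (rep K) := by
  haveI := Fintype.ofFinite G
  refine Subtype.ext ?_
  conv_lhs => rw [eq_sum_classSum a.2]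
  push_cast
  refine Finset.sum_congr rfl fun K _ => ?_
  ext u
  simp only [scalarZ, coeff_single_one_mul, coeff_smul_apply, smul_eq_mul, coe_classSumZ]

theorem resZ_scalar_mul {R : Type v} [CommRing R] (H : Subgroup G) (c : R) (a : ZG R G) :
    resZ H (scalarZ c * a) = scalarZ c * resZ H a := by
  refine Subtype.ext ?_
  ext h
  simp only [coe_resZ, coeff_resH, Subring.coe_mul, scalarZ, coeff_single_one_mul]

theorem indBar_scalar_mul (H : Subgroup G) (ξ : IrrCharacter H) (c : Res M) (a : ZG (Res M) G) :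
    indBar M H ξ (scalarZ c * a) = c * indBar M H ξ a := by
  rw [indBar_apply, resZ_scalar_mul, map_mul, omegaBar_scalarZ]
  rfl

/-- Agreement on class sums gives agreement on the centre. -/
theorem indBar_eq_of_classSum (H : Subgroup G) (ξ : IrrCharacter H) (χ : IrrCharacter G)
    (h : ∀ g, indBar M H ξ (classSumZ (Res M) g) = omegaBar M χ (classSumZ (Res M) g))
    (a : ZG (Res M) G) : indBar M H ξ a = omegaBar M χ a := by
  rw [zg_eq_sum a]
  simp only [map_sum, map_mul, omegaBar_scalarZ, indBar_scalar_mul, h]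

theorem indBar_congr {H : Subgroup G} {ξ ξ' : IrrCharacter H}
    (h : SameBlock M (ξ : H → ℂ) (ξ' : H → ℂ)) (a : ZG (Res M) G) :
    indBar M H ξ a = indBar M H ξ' a := by
  rw [indBar_apply, indBar_apply, omegaBar_eq_of_sameBlock h]

theorem isInducedBlock_iff {H : Subgroup G} {b : Set (IrrCharacter H)} {B : Set (IrrCharacter G)}
    (hb : IsPBlock M b) (hB : IsPBlock M B) {ξ : IrrCharacter H} (hξ : ξ ∈ b) {χ : IrrCharacter G}
    (hχ : χ ∈ B) :
    IsInducedBlock M H b B ↔ ∀ a, indBar M H ξ a = omegaBar M χ a := by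
  constructor
  · intro h a
    refine indBar_eq_of_classSum H ξ χ (fun g => ?_) a
    rw [indBar_classSumZ, omegaBar_classSumZ, red_eq_iff]
    exact h.2.2 ξ hξ χ hχ g
  · intro h
    refine ⟨hb, hB, fun ξ' hξ' χ' hχ' g => ?_⟩
    have e := h (classSumZ (Res M) g)
    rw [indBar_congr ((mem_block_iff hb hξ).mp hξ'),
      omegaBar_eq_of_sameBlock ((mem_block_iff hB hχ).mp hχ'), indBar_classSumZ,
      omegaBar_classSumZ, red_eq_iff] at e
    exact e

theorem indBar_eq_of_isInducedBlock {H : Subgroup G} {b : Set (IrrCharacter H)}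
    {B : Set (IrrCharacter G)} (h : IsInducedBlock M H b B) {ξ : IrrCharacter H} (hξ : ξ ∈ b)
    {χ : IrrCharacter G} (hχ : χ ∈ B) (a : ZG (Res M) G) :
    indBar M H ξ a = omegaBar M χ a :=
  (isInducedBlock_iff h.1 h.2.1 hξ hχ).mp h a

/-- The induced block is unique. -/
theorem inducedBlock_unique {H : Subgroup G} {b : Set (IrrCharacter H)}
    {B B' : Set (IrrCharacter G)} (h : IsInducedBlock M H b B) (h' : IsInducedBlock M H b B') :
    B = B' := by
  obtain ⟨ξ, hξ⟩ := block_nonempty h.1
  obtain ⟨χ, hχ⟩ := block_nonempty h.2.1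
  obtain ⟨χ', hχ'⟩ := block_nonempty h'.2.1
  refine block_eq_of_mem h.2.1 h'.2.1 ((mem_block_iff h.2.1 hχ).mpr ?_) hχ'
  refine sameBlock_iff_red.mpr fun g => ?_
  rw [← omegaBar_classSumZ, ← omegaBar_classSumZ, ← indBar_eq_of_isInducedBlock h hξ hχ,
    ← indBar_eq_of_isInducedBlock h' hξ hχ']

theorem isInducedBlock_blockOf {H : Subgroup G} {b : Set (IrrCharacter H)} (hb : IsPBlock M b)
    {ξ : IrrCharacter H} (hξ : ξ ∈ b) {χ : IrrCharacter G}
    (h : ∀ a, indBar M H ξ a = omegaBar M χ a) : IsInducedBlock M H b (blockOf M (χ : G → ℂ)) :=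
  (isInducedBlock_iff hb (isPBlock_blockOf χ) hξ (self_mem_blockOf χ)).mpr h

/-- For `Q·C(Q) ≤ H ≤ N(Q)` induction agrees with the Brauer map. -/
theorem indBar_eq_brH (hM : IsPModular p M) [Fact p.Prime] [CharP (Res M) p] {Q H : Subgroup G}
    (hQ : IsPGroup p Q) (hQH : Q ≤ H) (hCH : Subgroup.centralizer (Q : Set G) ≤ H)
    (hHN : H ≤ Subgroup.normalizer (Q : Set G)) (ξ : IrrCharacter H) (a : ZG (Res M) G) :
    indBar M H ξ a = omegaBar M ξ (brH Q H hQ hCH hHN a) := by
  rw [indBar_apply, ← sub_eq_zero, ← map_sub]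
  haveI : (Q.subgroupOf H).Normal := (Subgroup.normal_subgroupOf_iff_le_normalizer hQH).mpr hHN
  have hQ' : IsPGroup p (Q.subgroupOf H) :=
    hQ.of_equiv (Subgroup.subgroupOfEquivOfLe hQH).symm
  refine omegaBar_eq_zero_of_br hM hQ' ξ ?_
  rw [br_apply, trunc_eq_zero_iff]
  intro u hu
  have hu' : (u : G) ∈ (Subgroup.centralizer (Q : Set G) : Set G) :=
    Subgroup.mem_centralizer_iff.mpr fun q hq =>
      congrArg Subtype.val (Subgroup.mem_centralizer_iff.mp hu ⟨q, hQH hq⟩
        (Subgroup.mem_subgroupOf.mpr hq))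
  simp [coe_brH, coeff_trunc_of_mem _ hu']

/-- Brauer: for `Q·C(Q) ≤ H ≤ N(Q)` every block of `H` induces a block. -/
theorem exists_inducedBlock (hM : IsPModular p M) [Fact p.Prime] {Q H : Subgroup G}
    (hQ : IsPGroup p Q) (hQH : Q ≤ H) (hCH : Subgroup.centralizer (Q : Set G) ≤ H)
    (hHN : H ≤ Subgroup.normalizer (Q : Set G)) {b : Set (IrrCharacter H)} (hb : IsPBlock M b) :
    ∃ B, IsInducedBlock M H b B := by
  haveI := charP_res hM
  obtain ⟨ξ, hξ⟩ := block_nonempty hb
  obtain ⟨χ, hχ⟩ := exists_eq_omegaBar hM ((omegaBar M ξ).comp (brH Q H hQ hCH hHN)) fun c => by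
    rw [RingHom.comp_apply, brH_scalarZ, omegaBar_scalarZ]
  refine ⟨_, isInducedBlock_blockOf (χ := χ) hb hξ fun a => ?_⟩
  rw [indBar_eq_brH hM hQ hQH hCH hHN, ← hχ, RingHom.comp_apply]

/-- If `ω` does not vanish at a central element, it does not vanish at a class meeting its support. -/
theorem exists_class_of_omegaBar_ne_zero (χ : IrrCharacter G) {a : ZG (Res M) G}
    (h : omegaBar M χ a ≠ 0) :
    ∃ u, (a : MonoidAlgebra (Res M) G).coeff u ≠ 0 ∧
      ¬ MemLocalIdeal M (centralChar (χ : G → ℂ) u) := by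
  rw [omegaBar_apply] at h
  obtain ⟨K, -, hK⟩ := Finset.exists_ne_zero_of_sum_ne_zero h
  exact ⟨rep K, left_ne_zero_of_mul hK,
    (red_centralCharL_ne_zero_iff χ _).mp (right_ne_zero_of_mul hK)⟩

end Blocks

end Cfsg.Agent.Blocks
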