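import Cfsg.Agent.Lib.Blocks.BFMatrix
import Cfsg.Agent.Lib.Blocks.SecondMain
import Cfsg.Agent.Lib.Blocks.Subgroup
import Cfsg.Agent.Lib.ClassSum.GaloisMean
import Cfsg.Agent.Lib.CT.Integral
import Mathlib.LinearAlgebra.Trace
import Mathlib.LinearAlgebra.Projection

/-!
# The contribution matrix of a subsection

For a `p`-element `y` and a block `b` of `C(y)` the matrix of contributions of the subsection
`(y, b)` is a scaled idempotent of trace `p^d l(b)`; its entries at height zero characters are
algebraic integers which are units modulo the maximal ideal.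
-/

namespace Cfsg.Agent.Blocks

open scoped ComplexConjugate

universe u

variable {G : Type u} [Group G] [Fintype G] {p : ℕ} {M : Ideal AlgInt} {y : G}
  [Fintype (Subgroup.centralizer ({y} : Set G))]

set_option linter.unusedSectionVars false

/-- Conjugation fixes the regular pairing. -/
theorem conj_bfPair {H : Type u} [Group H] [Fintype H] (χ ψ : IrrCharacter H) :
    conj (bfPair p χ ψ) = bfPair p χ ψ := by
  classical
  rw [bfPair_eq, map_mul, map_inv₀, map_natCast]
  congr 1
  rw [regPair_symm χ ψ]
  conv_lhs => rw [regPair_symm ψ χ]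
  simp only [regPair, map_sum]
  refine Finset.sum_congr rfl fun x _ => ?_
  split_ifs
  · simp
  · simp [mul_comm]

/-- The regular pairing matrix is idempotent. -/
theorem bfPair_idem {H : Type u} [Group H] [Fintype H] (a c : IrrCharacter H) :
    ∑ η : IrrCharacter H, bfPair p a η * bfPair p η c = bfPair p a c := by
  classical
  have hfc := CT.classFunction_eq_sum (regFun_class (p := p) a)
  have h1 : classInner (regFun p a) (regFun p c) = bfPair p a c := by
    rw [bfPair, classInner, classInner]
    congr 1
    refine Finset.sum_congr rfl fun x _ => ?_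
    simp only [regFun]
    split_ifs <;> simp
  rw [← h1, hfc, CT.classInner_sum_left]
  refine Finset.sum_congr rfl fun η _ => ?_
  rw [CT.classInner_smul_left, ← conj_bfPair η c, bfPair_symm η c]
  congr 1
  rw [bfPair, classInner, classInner, map_mul, map_inv₀, map_natCast, map_sum]
  congr 1
  exact Finset.sum_congr rfl fun x _ => by rw [map_mul, Complex.conj_conj, mul_comm]

/-- The element `y` in its centralizer. -/
def selfC (y : G) : Subgroup.centralizer ({y} : Set G) :=
  ⟨y, Subgroup.mem_centralizer_singleton_iff.mpr rfl⟩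

/-- The scalar by which `y` acts in a character of its centralizer. -/
noncomputable def omC (η : IrrCharacter (Subgroup.centralizer ({y} : Set G))) : ℂ :=
  (η : Subgroup.centralizer ({y} : Set G) → ℂ) (selfC y) /
    (η : Subgroup.centralizer ({y} : Set G) → ℂ) 1

theorem selfC_mem_center (y : G) : selfC y ∈ Subgroup.center (Subgroup.centralizer ({y} : Set G)) :=
  Subgroup.mem_center_iff.mpr fun w =>
    Subtype.ext (Subgroup.mem_centralizer_singleton_iff.mp w.2)

theorem omC_spec (η : IrrCharacter (Subgroup.centralizer ({y} : Set G))) :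
    (∀ c, (η : Subgroup.centralizer ({y} : Set G) → ℂ) (selfC y * c) =
        omC η * (η : Subgroup.centralizer ({y} : Set G) → ℂ) c) ∧
      ∀ n : ℕ, selfC y ^ n = 1 → omC η ^ n = 1 := by
  obtain ⟨χ, n₀, ρ, hρ, rfl⟩ := η
  haveI := hρ
  obtain ⟨ω, hω, -⟩ := CT.central_scalar ρ (selfC_mem_center y)
  have hne : ρ.character 1 ≠ 0 := CT.irr_one_ne_zero (χ := ρ.character) ⟨n₀, ρ, hρ, rfl⟩
  have hc : ∀ c, ρ.character (selfC y * c) = ω * ρ.character c := fun c => by
    rw [Representation.character, map_mul, hω]
    simp [Representation.character, Module.End.mul_eq_comp]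
  have hom : ρ.character (selfC y) / ρ.character 1 = ω := by
    have := hc 1
    rw [mul_one] at this
    rw [this, mul_div_cancel_right₀ _ hne]
  refine ⟨fun c => ?_, fun n hn => ?_⟩
  · simp only [omC]
    rw [hom]
    exact hc c
  · simp only [omC]
    rw [hom]
    have h : ∀ m : ℕ, ρ.character (selfC y ^ m) = ω ^ m * ρ.character 1 := by
      intro m
      induction m with
      | zero => simp
      | succ m ih => rw [pow_succ', hc, ih, pow_succ', mul_assoc]
    have := h n
    rw [hn] at this
    exact (mul_eq_right₀ hne).mp this.symm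

/-- The translate of a character to the centralizer. -/
theorem translate_eq (χ : IrrCharacter G) :
    (fun c : Subgroup.centralizer ({y} : Set G) => (χ : G → ℂ) (y * (c : G))) =
      ∑ η : IrrCharacter (Subgroup.centralizer ({y} : Set G)),
        ((CT.mult (fun h : Subgroup.centralizer ({y} : Set G) => (χ : G → ℂ) h)
          (η : _ → ℂ) : ℂ) * omC η) • (η : _ → ℂ) := by
  classical
  funext c
  have hd := congrFun (CT.character_eq_sum (CT.isCharacter_restrict
    (Subgroup.centralizer ({y} : Set G)) (CT.isCharacter_of_isIrr χ.2))) (selfC y * c)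
  simp only [Finset.sum_apply, Pi.smul_apply, smul_eq_mul] at hd ⊢
  refine Eq.trans hd (Finset.sum_congr rfl fun η _ => ?_)
  rw [(omC_spec η).1 c, mul_assoc]

open Classical in
/-- The coefficient of the translate of `χ` at a member of `b`. -/
noncomputable def secC (b : Set (IrrCharacter (Subgroup.centralizer ({y} : Set G))))
    (χ : IrrCharacter G) (η : IrrCharacter (Subgroup.centralizer ({y} : Set G))) : ℂ :=
  if η ∈ b then (CT.mult (fun h : Subgroup.centralizer ({y} : Set G) => (χ : G → ℂ) h)
    (η : _ → ℂ) : ℂ) * omC η else 0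

/-- The inner product of the `b`-part of a regular translate with a character. -/
noncomputable def gB (p : ℕ) (b : Set (IrrCharacter (Subgroup.centralizer ({y} : Set G))))
    (χ : IrrCharacter G) (η : IrrCharacter (Subgroup.centralizer ({y} : Set G))) : ℂ :=
  ∑ η', secC b χ η' * bfPair p η' η

theorem bfPair_zero_of_mem [M.IsPrime] {H : Type u} [Group H] [Fintype H] (hM : IsPModular p M)
    {b : Set (IrrCharacter H)} (hb : IsPBlock M b) {a c : IrrCharacter H} (ha : a ∈ b) (hc : c ∉ b) :
    bfPair p a c = 0 :=
  bfPair_eq_zero hM fun h => hc ((mem_block_iff hb ha).mpr h)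

theorem gB_eq [M.IsPrime] (hM : IsPModular p M)
    {b : Set (IrrCharacter (Subgroup.centralizer ({y} : Set G)))} (hb : IsPBlock M b)
    (χ : IrrCharacter G) (η : IrrCharacter (Subgroup.centralizer ({y} : Set G))) [Decidable (η ∈ b)]
    [DecidablePred fun c : Subgroup.centralizer ({y} : Set G) => p ∣ orderOf c] :
    gB p b χ η = if η ∈ b then classInner (fun c : Subgroup.centralizer ({y} : Set G) =>
      if p ∣ orderOf c then 0 else (χ : G → ℂ) (y * (c : G))) (η : _ → ℂ) else 0 := by
  classical
  split_ifs with hη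
  · have e : (fun c : Subgroup.centralizer ({y} : Set G) =>
        if p ∣ orderOf c then 0 else (χ : G → ℂ) (y * (c : G))) =
        ∑ η' : IrrCharacter (Subgroup.centralizer ({y} : Set G)),
          ((CT.mult (fun h : Subgroup.centralizer ({y} : Set G) => (χ : G → ℂ) h)
            (η' : _ → ℂ) : ℂ) * omC η') • regFun p η' := by
      funext c
      have h := congrFun (translate_eq (y := y) χ) c
      simp only [Finset.sum_apply, Pi.smul_apply, smul_eq_mul, regFun] at h ⊢
      rw [h]
      split_ifs <;> simp
    rw [e, CT.classInner_sum_left]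
    refine Finset.sum_congr rfl fun η' _ => ?_
    rw [CT.classInner_smul_left, ← bfPair]
    by_cases h' : η' ∈ b
    · rw [secC, if_pos h']
    · rw [secC, if_neg h', bfPair_symm, bfPair_zero_of_mem hM hb hη h']
      simp
  · refine Finset.sum_eq_zero fun η' _ => ?_
    by_cases h' : η' ∈ b
    · rw [bfPair_zero_of_mem hM hb h' hη, mul_zero]
    · rw [secC, if_neg h', zero_mul]

theorem gB_eq_zero [M.IsPrime] (hM : IsPModular p M) (hy : ∃ k : ℕ, y ^ p ^ k = 1)
    {b : Set (IrrCharacter (Subgroup.centralizer ({y} : Set G)))} {B : Set (IrrCharacter G)}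
    (hind : IsInducedBlock M (Subgroup.centralizer ({y} : Set G)) b B)
    {χ : IrrCharacter G} (hχ : χ ∉ B)
    (η : IrrCharacter (Subgroup.centralizer ({y} : Set G))) : gB p b χ η = 0 := by
  classical
  have hnot : ¬ IsInducedBlock M (Subgroup.centralizer ({y} : Set G)) b (blockOf M (χ : G → ℂ)) :=
    fun h => hχ (inducedBlock_unique h hind ▸ self_mem_blockOf χ)
  have hreg : ∑ η', secC b χ η' • regFun p η' = 0 := by
    funext c
    simp only [Finset.sum_apply, Pi.smul_apply, smul_eq_mul, Pi.zero_apply, regFun]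
    by_cases hc : p ∣ orderOf c
    · simp [hc]
    · simp only [if_neg hc]
      have h := second_main_blockPart hM hy hind.1 hnot hc
      rw [show blockPart b (fun c : Subgroup.centralizer ({y} : Set G) =>
          (χ : G → ℂ) (y * (c : G))) c = ∑ᶠ η' ∈ b,
            classInner (fun c : Subgroup.centralizer ({y} : Set G) => (χ : G → ℂ) (y * (c : G)))
              (η' : _ → ℂ) * (η' : _ → ℂ) c by
            simp only [blockPart]
            rw [Subsingleton.elim (Fintype.ofFinite _)
              ‹Fintype (Subgroup.centralizer ({y} : Set G))›],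
        finsum_mem_irr] at h
      refine Eq.trans (Finset.sum_congr rfl fun η' _ => ?_) h
      by_cases h' : η' ∈ b
      · rw [if_pos h', secC, if_pos h', translate_eq, CT.classInner_sum_left,
          Finset.sum_eq_single η']
        · rw [CT.classInner_smul_left, CT.irr_inner_self η'.2, mul_one]
        · intro η'' _ hne
          rw [CT.classInner_smul_left, CT.irr_inner_subtype, if_neg hne, mul_zero]
        · simp
      · rw [if_neg h', secC, if_neg h', zero_mul]
  have e : gB p b χ η = classInner (∑ η', secC b χ η' • regFun p η') (η : _ → ℂ) := by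
    rw [CT.classInner_sum_left]
    exact Finset.sum_congr rfl fun η' _ => (CT.classInner_smul_left _ _ _).symm
  rw [e, hreg]
  simp [classInner]

/-- Column orthogonality on the section of `y`. -/
theorem section_column (hp : p.Prime) (hy : ∃ k : ℕ, y ^ p ^ k = 1)
    {v w : Subgroup.centralizer ({y} : Set G)} (hv : ¬ p ∣ orderOf v) (hw : ¬ p ∣ orderOf w) :
    ∑ χ : IrrCharacter G, (χ : G → ℂ) (y * (w : G)) * conj ((χ : G → ℂ) (y * (v : G))) =
      ∑ η : IrrCharacter (Subgroup.centralizer ({y} : Set G)),
        (η : _ → ℂ) w * conj ((η : _ → ℂ) v) := by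
  classical
  haveI := Fact.mk hp
  have hcom : ∀ c : Subgroup.centralizer ({y} : Set G), Commute y (c : G) :=
    fun c => (Subgroup.mem_centralizer_singleton_iff.mp c.2).symm
  have hpp : ∀ c : Subgroup.centralizer ({y} : Set G), ¬ p ∣ orderOf c →
      IsPPart p (y * (c : G)) y :=
    fun c hc => isPPart_mk (hcom c) hy (by rwa [Subgroup.orderOf_coe])
  rw [CT.column_orthogonality, CT.column_orthogonality]
  have hiff : IsConj (y * (w : G)) (y * (v : G)) ↔ IsConj w v := by
    constructor
    · intro h
      obtain ⟨c, hc⟩ := isConj_iff.mp h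
      have h2 := ppart_conj (hpp w hw) c
      rw [hc] at h2
      have h3 := ppart_unique h2 (hpp v hv)
      have hcy : c * y = y * c := mul_inv_eq_iff_eq_mul.mp h3
      refine isConj_iff.mpr ⟨⟨c, Subgroup.mem_centralizer_singleton_iff.mpr hcy⟩, Subtype.ext ?_⟩
      simp only [Subgroup.coe_mul, Subgroup.coe_inv]
      apply mul_left_cancel (a := y)
      rw [← hc, ← mul_assoc, ← mul_assoc, ← hcy]
      group
    · intro h
      obtain ⟨c, hc⟩ := isConj_iff.mp h
      refine isConj_iff.mpr ⟨(c : G), ?_⟩
      rw [← hc]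
      simp only [Subgroup.coe_mul, Subgroup.coe_inv]
      rw [← mul_assoc, ← (hcom c).eq]
      group
  by_cases h : IsConj w v
  · rw [if_pos h, if_pos (hiff.mpr h)]
    congr 1
    refine Nat.card_congr
      { toFun := fun c => ⟨⟨(c : G), ?_⟩, ?_⟩
        invFun := fun c => ⟨((c : Subgroup.centralizer ({y} : Set G)) : G), ?_⟩
        left_inv := fun c => rfl
        right_inv := fun c => rfl }
    · have h1 := Subgroup.mem_centralizer_singleton_iff.mp c.2
      have h2 := ppart_conj (hpp w hw) (c : G)
      rw [mul_inv_eq_iff_eq_mul.mpr h1] at h2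
      exact Subgroup.mem_centralizer_singleton_iff.mpr
        (mul_inv_eq_iff_eq_mul.mp (ppart_unique h2 (hpp w hw)))
    · have h1 := Subgroup.mem_centralizer_singleton_iff.mp c.2
      have h2 := ppart_conj (hpp w hw) (c : G)
      rw [mul_inv_eq_iff_eq_mul.mpr h1] at h2
      have hcy := mul_inv_eq_iff_eq_mul.mp (ppart_unique h2 (hpp w hw))
      refine Subgroup.mem_centralizer_singleton_iff.mpr (Subtype.ext (mul_left_cancel (a := y) ?_))
      simp only [Subgroup.coe_mul]
      rw [← mul_assoc, ← mul_assoc, ← hcy, mul_assoc]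
      exact h1
    · have h1 := congrArg Subtype.val (Subgroup.mem_centralizer_singleton_iff.mp c.2)
      simp only [Subgroup.coe_mul] at h1
      refine Subgroup.mem_centralizer_singleton_iff.mpr ?_
      rw [← mul_assoc, ← (hcom c).eq, mul_assoc, h1, mul_assoc]
  · rw [if_neg h, if_neg (mt hiff.mp h)]

theorem sum_gB [M.IsPrime] (hM : IsPModular p M) (hy : ∃ k : ℕ, y ^ p ^ k = 1)
    {b : Set (IrrCharacter (Subgroup.centralizer ({y} : Set G)))} (hb : IsPBlock M b)
    (η η' : IrrCharacter (Subgroup.centralizer ({y} : Set G))) [Decidable (η ∈ b)] :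
    ∑ χ : IrrCharacter G, conj (gB p b χ η) * gB p b χ η' =
      if η ∈ b then bfPair p η η' else 0 := by
  classical
  by_cases hη : η ∈ b
  swap
  · rw [if_neg hη]
    exact Finset.sum_eq_zero fun χ _ => by rw [gB_eq hM hb χ η, if_neg hη, map_zero, zero_mul]
  rw [if_pos hη]
  by_cases hη' : η' ∈ b
  swap
  · rw [bfPair_zero_of_mem hM hb hη hη']
    exact Finset.sum_eq_zero fun χ _ => by rw [gB_eq hM hb χ η', if_neg hη', mul_zero]
  set N : ℂ := (Nat.card (Subgroup.centralizer ({y} : Set G)) : ℂ)
  have hN : N ≠ 0 := CT.card_ne_zero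
  have e1 : ∀ χ : IrrCharacter G, conj (gB p b χ η) * gB p b χ η' =
      N⁻¹ * N⁻¹ * ∑ v : Subgroup.centralizer ({y} : Set G), ∑ w : Subgroup.centralizer ({y} : Set G),
        (if p ∣ orderOf v then 0 else if p ∣ orderOf w then 0 else
          ((η : _ → ℂ) v * conj ((η' : _ → ℂ) w)) *
            ((χ : G → ℂ) (y * (w : G)) * conj ((χ : G → ℂ) (y * (v : G))))) := by
    intro χ
    rw [gB_eq hM hb χ η, gB_eq hM hb χ η', if_pos hη, if_pos hη', classInner, classInner, map_mul,
      map_inv₀, map_natCast, mul_mul_mul_comm, map_sum, Finset.sum_mul_sum]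
    congr 1
    refine Finset.sum_congr rfl fun v _ => Finset.sum_congr rfl fun w _ => ?_
    split_ifs <;> simp
    ring
  rw [Finset.sum_congr rfl fun χ _ => e1 χ, ← Finset.mul_sum, Finset.sum_comm]
  have e2 : ∀ v : Subgroup.centralizer ({y} : Set G),
      ∑ χ : IrrCharacter G, ∑ w : Subgroup.centralizer ({y} : Set G),
        (if p ∣ orderOf v then 0 else if p ∣ orderOf w then 0 else
          ((η : _ → ℂ) v * conj ((η' : _ → ℂ) w)) *
            ((χ : G → ℂ) (y * (w : G)) * conj ((χ : G → ℂ) (y * (v : G))))) =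
      ∑ κ : IrrCharacter (Subgroup.centralizer ({y} : Set G)),
        ∑ w : Subgroup.centralizer ({y} : Set G),
        ((η : _ → ℂ) v * (if p ∣ orderOf v then 0 else conj ((κ : _ → ℂ) v))) *
          ((if p ∣ orderOf w then 0 else (κ : _ → ℂ) w) * conj ((η' : _ → ℂ) w)) := by
    intro v
    rw [Finset.sum_comm, Finset.sum_comm (γ := IrrCharacter (Subgroup.centralizer ({y} : Set G)))]
    refine Finset.sum_congr rfl fun w _ => ?_
    by_cases hv : p ∣ orderOf v
    · simp [hv]
    by_cases hw : p ∣ orderOf w
    · simp [hw]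
    simp only [if_neg hv, if_neg hw]
    rw [← Finset.mul_sum, section_column hM.1 hy hv hw, Finset.mul_sum]
    exact Finset.sum_congr rfl fun κ _ => by ring
  rw [Finset.sum_congr rfl fun v _ => e2 v, Finset.sum_comm, ← bfPair_idem η η', Finset.mul_sum]
  refine Finset.sum_congr rfl fun κ _ => ?_
  rw [← conj_bfPair η κ, bfPair_symm η κ, bfPair, bfPair, classInner, classInner, map_mul, map_inv₀,
    map_natCast, mul_mul_mul_comm, map_sum, Finset.sum_mul_sum]
  congr 1
  refine Finset.sum_congr rfl fun v _ => Finset.sum_congr rfl fun w _ => ?_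
  simp only [regFun]
  split_ifs <;>
    simp only [map_zero, mul_zero, zero_mul, map_mul, Complex.conj_conj] <;> ring

open Classical in
/-- The trace of the regular pairing on a block is its regular rank. -/
theorem sum_bfPair_self {H : Type u} [Group H] [Fintype H] [M.IsPrime] (hM : IsPModular p M)
    {b : Set (IrrCharacter H)} (hb : IsPBlock M b) :
    ∑ η : IrrCharacter H, (if η ∈ b then bfPair p η η else 0) = (blockRank p b : ℂ) := by
  haveI : Fintype b := Fintype.ofFinite b
  let P : (b → ℂ) →ₗ[ℂ] (b → ℂ) :=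
    Matrix.mulVecLin (Matrix.of fun a c : b => bfPair p (a : IrrCharacter H) (c : IrrCharacter H))
  let L : (b → ℂ) →ₗ[ℂ] (H → ℂ) := Fintype.linearCombination ℂ fun c : b => regFun p (c : IrrCharacter H)
  have hsum : ∀ a c : b, ∑ e : b, bfPair p (a : IrrCharacter H) e * bfPair p (e : IrrCharacter H) c =
      bfPair p (a : IrrCharacter H) c := by
    intro a c
    rw [← bfPair_idem (a : IrrCharacter H) c,
      ← Finset.sum_filter_add_sum_filter_not Finset.univ (fun η : IrrCharacter H => η ∈ b)]
    rw [Finset.sum_eq_zero (s := Finset.univ.filter fun η : IrrCharacter H => ¬ η ∈ b) fun η hη => by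
      rw [bfPair_zero_of_mem hM hb a.2 (Finset.mem_filter.mp hη).2, zero_mul], add_zero]
    exact (Finset.sum_subtype (p := fun η : IrrCharacter H => η ∈ b) _ (fun x => by simp)
      fun η : IrrCharacter H => bfPair p (a : IrrCharacter H) η * bfPair p η c).symm
  have hidem : IsIdempotentElem P := by
    show P ∘ₗ P = P
    rw [← Matrix.mulVecLin_mul]
    refine congrArg Matrix.mulVecLin ?_
    ext a c
    simp only [Matrix.mul_apply, Matrix.of_apply]
    exact hsum a c
  have htr : LinearMap.trace ℂ (b → ℂ) P = ∑ c : b, bfPair p (c : IrrCharacter H) c := by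
    rw [show P = Matrix.toLin' (Matrix.of fun a c : b =>
      bfPair p (a : IrrCharacter H) (c : IrrCharacter H)) from rfl, Matrix.trace_toLin'_eq]
    rfl
  have hker : LinearMap.ker P = LinearMap.ker L := by
    have hPL : ∀ (v : b → ℂ) (a : b), P v a = classInner (L v) ((a : IrrCharacter H) : H → ℂ) := by
      intro v a
      simp only [P, L, Matrix.mulVecLin_apply, Matrix.mulVec, dotProduct, Matrix.of_apply,
        Fintype.linearCombination_apply, CT.classInner_sum_left, CT.classInner_smul_left]
      exact Finset.sum_congr rfl fun c _ => by rw [bfPair_symm, ← bfPair, mul_comm]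
    ext v
    simp only [LinearMap.mem_ker]
    constructor
    · intro h
      have h0 : classInner (L v) (L v) = 0 := by
        have e : classInner (L v) (L v) =
            ∑ c : b, conj (v c) * classInner (L v) ((c : IrrCharacter H) : H → ℂ) := by
          simp only [classInner, Finset.mul_sum]
          rw [Finset.sum_comm]
          refine Finset.sum_congr rfl fun x _ => ?_
          simp only [L, Fintype.linearCombination_apply, Finset.sum_apply, Pi.smul_apply, smul_eq_mul,
            map_sum, map_mul, Finset.mul_sum, Finset.sum_mul]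
          refine Finset.sum_congr rfl fun c _ => Finset.sum_congr rfl fun c' _ => ?_
          simp only [regFun]
          split_ifs <;> simp
          ring
        rw [e]
        exact Finset.sum_eq_zero fun c _ => by rw [← hPL, h]; simp
      rw [classInner, mul_eq_zero, or_iff_right (inv_ne_zero CT.card_ne_zero)] at h0
      funext x
      have h1 : ∀ z : H, (L v z * conj (L v z)).re = Complex.normSq (L v z) := fun z => by
        rw [Complex.mul_conj, Complex.ofReal_re]
      have h2 := congrArg Complex.re h0
      rw [Complex.re_sum, Complex.zero_re, Finset.sum_congr rfl fun z _ => h1 z] at h2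
      exact Complex.normSq_eq_zero.mp
        ((Finset.sum_eq_zero_iff_of_nonneg fun z _ => Complex.normSq_nonneg _).mp h2 x (Finset.mem_univ x))
    · intro h
      funext a
      rw [hPL, h]
      simp [classInner]
  have hrank : Module.finrank ℂ (LinearMap.range P) = blockRank p b := by
    have e1 := LinearMap.finrank_range_add_finrank_ker P
    have e2 := LinearMap.finrank_range_add_finrank_ker L
    rw [hker] at e1
    have e3 : LinearMap.range L =
        Submodule.span ℂ ((fun χ : IrrCharacter H => pRegularPart p (χ : H → ℂ)) '' b) := by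
      rw [Fintype.range_linearCombination]
      congr 1
      have : (fun χ : IrrCharacter H => pRegularPart p (χ : H → ℂ)) = regFun p := by
        funext c z
        simp only [pRegularPart, IsPRegular, regFun]
        by_cases hz : p ∣ orderOf z <;> simp [hz]
      rw [this, Set.image_eq_range]
    rw [blockRank, ← e3]
    omega
  rw [← hrank, ← LinearMap.IsProj.trace (LinearMap.IsIdempotentElem.isProj_range P hidem), htr]
  rw [Finset.sum_ite, Finset.sum_const_zero, add_zero]
  exact Finset.sum_subtype (p := fun η : IrrCharacter H => η ∈ b) _ (fun x => by simp)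
    fun η : IrrCharacter H => bfPair p η η

/-- The contribution matrix. -/
noncomputable def subMat (p : ℕ) (d : ℕ)
    (b : Set (IrrCharacter (Subgroup.centralizer ({y} : Set G)))) (χ ψ : IrrCharacter G) : ℂ :=
  (p : ℂ) ^ d * ∑ η, gB p b χ η * conj (gB p b ψ η)

/-- The squared norm of the contribution matrix. -/
theorem sum_subMat_mul [M.IsPrime] (hM : IsPModular p M) (hy : ∃ k : ℕ, y ^ p ^ k = 1)
    {b : Set (IrrCharacter (Subgroup.centralizer ({y} : Set G)))} (hb : IsPBlock M b) (d : ℕ) :
    ∑ χ : IrrCharacter G, ∑ ψ : IrrCharacter G, subMat p d b χ ψ * subMat p d b ψ χ =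
      (p : ℂ) ^ (2 * d) * (blockRank p b : ℂ) := by
  classical
  have e1 : ∀ χ ψ : IrrCharacter G, subMat p d b χ ψ * subMat p d b ψ χ = (p : ℂ) ^ (2 * d) *
      ∑ η, ∑ η', (conj (gB p b χ η') * gB p b χ η) * (conj (gB p b ψ η) * gB p b ψ η') := by
    intro χ ψ
    simp only [subMat, two_mul, pow_add]
    rw [mul_mul_mul_comm, Finset.sum_mul_sum]
    congr 1
    exact Finset.sum_congr rfl fun η _ => Finset.sum_congr rfl fun η' _ => by ring
  simp only [e1, ← Finset.mul_sum]
  congr 1
  rw [← sum_bfPair_self hM hb]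
  rw [show (∑ χ : IrrCharacter G, ∑ ψ : IrrCharacter G, ∑ η, ∑ η',
      (conj (gB p b χ η') * gB p b χ η) * (conj (gB p b ψ η) * gB p b ψ η')) =
      ∑ η, ∑ η', (∑ χ, conj (gB p b χ η') * gB p b χ η) * ∑ ψ, conj (gB p b ψ η) * gB p b ψ η' by
    simp only [Finset.sum_mul_sum]
    rw [Finset.sum_congr rfl fun χ _ => Finset.sum_comm, Finset.sum_comm]
    refine Finset.sum_congr rfl fun η _ => ?_
    rw [Finset.sum_congr rfl fun χ _ => Finset.sum_comm, Finset.sum_comm]]
  refine Finset.sum_congr rfl fun η _ => ?_
  by_cases hη : η ∈ b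
  · rw [if_pos hη, ← bfPair_idem η η]
    refine Finset.sum_congr rfl fun η' _ => ?_
    rw [sum_gB hM hy hb, sum_gB hM hy hb, if_pos hη]
    by_cases h' : η' ∈ b
    · rw [if_pos h', mul_comm]
    · rw [if_neg h', bfPair_zero_of_mem hM hb hη h', zero_mul, zero_mul]
  · rw [if_neg hη]
    refine Finset.sum_eq_zero fun η' _ => ?_
    rw [sum_gB hM hy hb η η', if_neg hη, mul_zero]

theorem subMat_eq {b : Set (IrrCharacter (Subgroup.centralizer ({y} : Set G)))} (d : ℕ) (χ ψ : IrrCharacter G) :
    subMat p d b χ ψ =
      ∑ η, ∑ η', secC b χ η * conj (secC b ψ η') * ((p : ℂ) ^ d * bfPair p η η') := by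
  simp only [subMat, gB, map_sum, map_mul, conj_bfPair]
  simp only [Finset.sum_mul_sum]
  simp only [Finset.mul_sum]
  rw [Finset.sum_comm]
  refine Finset.sum_congr rfl fun a _ => ?_
  rw [Finset.sum_comm]
  refine Finset.sum_congr rfl fun c _ => ?_
  rw [← bfPair_idem a c, Finset.mul_sum, Finset.mul_sum]
  refine Finset.sum_congr rfl fun κ _ => ?_
  rw [bfPair_symm κ c]
  ring

/-- The conjugates of a nonzero algebraic integer in a Galois number field have squared norms
summing to at least the degree. -/
theorem card_le_sum_gal {K : IntermediateField ℚ ℂ} [FiniteDimensional ℚ K] [IsGalois ℚ K]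
    (a : K) (ha : (a : ℂ) ≠ 0) (hint : IsIntegral ℤ (a : ℂ)) :
    (Fintype.card Gal(K/ℚ) : ℝ) ≤ ∑ σ : Gal(K/ℚ), Complex.normSq ((σ a : K) : ℂ) := by
  classical
  have ha0 : a ≠ 0 := fun h => ha (by simp [h])
  have hne : ∀ σ : Gal(K/ℚ), ((σ a : K) : ℂ) ≠ 0 := fun σ h =>
    ha0 (by simpa using (Subtype.ext h : σ a = 0))
  have haK : IsIntegral ℤ a :=
    (isIntegral_algHom_iff ((K.val : K →ₐ[ℚ] ℂ).restrictScalars ℤ) K.val.injective).mp hint
  set P : K := ∏ σ : Gal(K/ℚ), σ a
  have hfix : ∀ τ : Gal(K/ℚ), τ P = P := by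
    intro τ
    simp only [P, map_prod]
    exact Fintype.prod_equiv (Equiv.mulLeft τ) _ _ fun σ => rfl
  obtain ⟨r, hr⟩ := IntermediateField.mem_bot.mp ((IsGalois.mem_bot_iff_fixed P).mpr hfix)
  have hPint : IsIntegral ℤ P := IsIntegral.prod _ fun σ _ =>
    haK.map (σ.toAlgHom.restrictScalars ℤ)
  rw [← hr] at hPint
  obtain ⟨z, hz⟩ := IsIntegrallyClosed.isIntegral_iff.mp
    ((isIntegral_algebraMap_iff (A := ℚ) (B := K) (algebraMap ℚ K).injective).mp hPint)
  have hval : ∏ σ : Gal(K/ℚ), ((σ a : K) : ℂ) = (z : ℂ) := by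
    have hP : (P : ℂ) = ∏ σ : Gal(K/ℚ), ((σ a : K) : ℂ) := map_prod K.val _ _
    rw [← hP, ← hr, ← hz]
    simp
  have hz0 : z ≠ 0 := fun e =>
    (Finset.prod_ne_zero_iff.mpr fun σ _ => hne σ) (by rw [hval, e, Int.cast_zero])
  refine (ClassSum.card_le_sum_of_one_le_prod Finset.univ _
    (fun σ _ => Complex.normSq_pos.mpr (hne σ)) ?_)
  rw [← map_prod, hval, Complex.normSq_intCast]
  have h1 := Int.one_le_abs hz0
  have h2 : (1 : ℤ) ≤ z * z := by nlinarith [abs_mul_abs_self z]
  exact_mod_cast h2

end Cfsg.Agent.Blocks
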