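import Cfsg.Agent.Lib.Blocks.StarChar
import Cfsg.Agent.Lib.Blocks.StarWeight
import Cfsg.Agent.Lib.Blocks.Subsection

/-!
# Orthogonality of the parts of characters at the sections

The second main theorem in the language of the star construction: parts at blocks not belonging
to the block of a character vanish, and parts at different blocks of a section are orthogonal.
-/

namespace Cfsg.Agent.Blocks

open MonoidAlgebra BPairs
open scoped ComplexConjugate

universe u

variable {G : Type u} [Group G] [Finite G] {p : ℕ} {M : Ideal AlgInt} [M.IsPrime]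

set_option linter.unusedSectionVars false

theorem ev_charL_toC (χ : IrrCharacter G) (a : MonoidAlgebra (Loc M) G) :
    ((ev (charL M χ) a : Loc M) : ℂ) = ev (χ : G → ℂ) (toC M G a) := by
  induction a using MonoidAlgebra.induction_linear with
  | zero => simp
  | add x y hx hy => rw [ev_add, map_add, ev_add, AddMemClass.coe_add, hx, hy]
  | single g r => simp

theorem pPart_fiber [Fact p.Prime] {x y : G} (hx : ∃ k : ℕ, x ^ p ^ k = 1) (hy : y ∈ cz x)
    (hreg : ¬ p ∣ orderOf y) : pPart p (x * y) = x :=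
  pPart_eq (isPPart_mk (mem_cz.mp hy).symm hx hreg)

/-- Summing over the elements with given `p`-part. -/
theorem sum_fiber [Fact p.Prime] [Fintype G] [DecidableEq G] {x : G}
    [Fintype (cz x)] [DecidablePred fun y : cz x => p ∣ orderOf y] (hx : ∃ k : ℕ, x ^ p ^ k = 1)
    (F : G → ℂ) :
    ∑ g ∈ Finset.univ.filter (fun g : G => pPart p g = x), F g =
      ∑ y : cz x, if p ∣ orderOf y then 0 else F (x * (y : G)) := by
  classical
  rw [← Finset.sum_filter_not_add_sum_filter Finset.univ (fun y : cz x => p ∣ orderOf y),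
    Finset.sum_eq_zero (s := Finset.univ.filter fun y : cz x => p ∣ orderOf y)
      fun y hy => if_pos (Finset.mem_filter.mp hy).2, add_zero]
  refine (Finset.sum_bij (fun (y : cz x) _ => x * (y : G)) (fun y hy => ?_)
    (fun a _ b _ h => Subtype.ext (mul_left_cancel h)) (fun g hg => ?_) fun y hy => ?_).symm
  · simp only [Finset.mem_filter, Finset.mem_univ, true_and] at hy ⊢
    exact pPart_fiber hx y.2 (by rwa [Subgroup.orderOf_coe])
  · simp only [Finset.mem_filter, Finset.mem_univ, true_and] at hg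
    obtain ⟨y, hxy, hcom, -, hy⟩ := id (pPart_spec (p := p) g)
    rw [hg] at hxy hcom
    refine ⟨⟨y, mem_cz.mpr hcom.symm⟩, ?_, hxy⟩
    simp only [Finset.mem_filter, Finset.mem_univ, true_and]
    rwa [← Subgroup.orderOf_coe]
  · rw [if_neg (Finset.mem_filter.mp hy).2]

theorem phi_bBar_mul (hM : IsPModular p M) [Fact p.Prime] {B : Set (IrrCharacter G)}
    (hB : IsPBlock M B) (θ : IrrCharacter G) {g : G} {a : MonoidAlgebra (Res M) G}
    (ha : a ∈ blkIdem M (pPart p g)) [Decidable (θ ∈ B)] :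
    phi p θ g (trunc (cz (pPart p g) : Set G) (bBar M B : MonoidAlgebra (Res M) G) * a) =
      if θ ∈ B then phi p θ g a else 0 := by
  haveI := charP_res hM
  have hA := blockCoeff_mem_loc (M := M) hB
  have hx := ppart_pow_eq_one (pPart_spec (p := p) g)
  obtain ⟨ã, ha1, ha2, ha3⟩ := exists_inv_idem_lift (M := M) (cz (pPart p g)) (blkIdem_mul_self ha)
    (blkIdem_isInv ha)
  obtain ⟨E, hE⟩ : ∃ E : MonoidAlgebra (Loc M) G, E = (bIdem M B : MonoidAlgebra (Loc M) G) := ⟨_, rfl⟩
  have hEc : ∀ z, Commute E z := fun z => hE ▸ (Subring.mem_center_iff.mp (bIdem M B).2 z).symm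
  have hEE : E * E = E := by rw [hE, ← Subring.coe_mul, bIdem_mul_self hA]
  have hag : Commute ã (single g 1) := isInv_iff_commute.mp ha3 g (mem_cz_pPart g)
  have hidem : E * ã * (E * ã) = E * ã := by
    rw [mul_assoc, ← mul_assoc ã, ← (hEc ã).eq, mul_assoc E ã ã, ha1, ← mul_assoc, hEE]
  have hiz : IsInv (Subgroup.zpowers (pPart p g)) a :=
    isInv_mono (Subgroup.zpowers_le.mpr (mem_cz_self _)) (blkIdem_isInv ha)
  have e1 : phi p θ g (trunc (cz (pPart p g) : Set G) (bBar M B : MonoidAlgebra (Res M) G) * a) =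
      ((ev (charL M θ) (E * ã * single g 1) : Loc M) : ℂ) := by
    rw [← phi_eq_of_red hM θ hidem ((hEc _).mul_left hag) rfl, ← phi_trunc θ g (redG M G (E * ã)),
      map_mul, ha2, hE]
    refine congrArg (phi p θ g) (Eq.symm ?_)
    refine (trunc_mul (isPGroup_zpowers hx) (isInv_of_mem_center _ (bBar M B).2) hiz).trans ?_
    rw [trunc_eq_self (a := a) fun v hv => blkIdem_supp ha hv]
  rw [e1, ev_charL_toC, map_mul, map_mul, hE, toC_bIdem hA, mul_assoc, ev_idemC_mul]
  split_ifs
  · rw [phi_eq_of_red hM θ ha1 hag ha2, ev_charL_toC, map_mul]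
  · rfl

/-- The second main theorem. -/
theorem phi_eq_zero_of_not_inB (hM : IsPModular p M) [Fact p.Prime] {B : Set (IrrCharacter G)}
    (hB : IsPBlock M B) {θ : IrrCharacter G} (hθ : θ ∈ B) {g : G} {a : MonoidAlgebra (Res M) G}
    (ha : a ∈ blkIdem M (pPart p g)) (h : ¬ InB M B (pPart p g) a) : phi p θ g a = 0 := by
  classical
  have e1 := phi_bBar_mul hM hB θ ha
  rw [if_pos hθ, (inB_or_mul_eq_zero hM hB (ppart_pow_eq_one (pPart_spec g)) ha).resolve_left h,
    phi_zero hM] at e1
  exact e1.symm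

theorem phi_eq_zero_of_inB (hM : IsPModular p M) [Fact p.Prime] {B : Set (IrrCharacter G)}
    (hB : IsPBlock M B) {θ : IrrCharacter G} (hθ : θ ∉ B) {g : G} {a : MonoidAlgebra (Res M) G}
    (ha : a ∈ blkIdem M (pPart p g)) (h : InB M B (pPart p g) a) : phi p θ g a = 0 := by
  classical
  have e1 := phi_bBar_mul hM hB θ ha
  rw [if_neg hθ, show trunc (cz (pPart p g) : Set G) (bBar M B : MonoidAlgebra (Res M) G) * a = a
    from h] at e1
  exact e1

theorem sum_phi (hM : IsPModular p M) [Fact p.Prime] (θ : IrrCharacter G) (g : G) :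
    ∑ a ∈ blkIdem M (pPart p g), phi p θ g a = (θ : G → ℂ) g := by
  rw [← phi_sum hM θ _ (fun a => a) (fun a ha => blkIdem_mul_self ha) (fun a ha => blk_commute ha)
    (fun a ha a' ha' hne => blkIdem_mul_of_ne hM ha ha' hne), sum_blkIdem hM, phi_one hM]

theorem psi_one (hM : IsPModular p M) [Fact p.Prime] (θ : IrrCharacter G) :
    psi p (fun (_ : G) (_ : MonoidAlgebra (Res M) G) => (1 : ℂ)) θ = (θ : G → ℂ) := by
  funext g
  simp only [psi, one_mul]
  exact sum_phi hM θ g

section Fibre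

variable {x : G}

/-- A central element of a group acts by a scalar in an irreducible character. -/
theorem exists_scalar_central {H : Type u} [Group H] [Finite H] (ξ : IrrCharacter H) {z : H}
    (hz : z ∈ Subgroup.center H) :
    ∃ ω : ℂ, ∀ c, (ξ : H → ℂ) (z * c) = ω * (ξ : H → ℂ) c := by
  haveI := Fintype.ofFinite H
  obtain ⟨χ, n, ρ, hρ, rfl⟩ := ξ
  haveI := hρ
  obtain ⟨ω, hω, -⟩ := CT.central_scalar ρ hz
  refine ⟨ω, fun c => ?_⟩
  show ρ.character _ = _
  rw [Representation.character, map_mul, hω]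
  simp [Representation.character, Module.End.mul_eq_comp]

open Classical in
/-- The part of a character at a block of the centralizer of `x` is a combination of the regular
restrictions of the members of the block. -/
theorem exists_coeff_phi (hM : IsPModular p M) [Fact p.Prime] [Fintype (cz x)]
    (hx : ∃ k : ℕ, x ^ p ^ k = 1)
    (θ : IrrCharacter G) {b : Set (IrrCharacter (cz x))} (hb : IsPBlock M b) :
    ∃ c : IrrCharacter (cz x) → ℂ, (∀ ξ, ξ ∉ b → c ξ = 0) ∧
      (∀ ξ ∈ b, ∃ (w : ℂ) (k : ℕ), w ^ p ^ k = 1 ∧ w ^ orderOf x = 1 ∧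
        c ξ = (CT.mult (fun h : cz x => (θ : G → ℂ) h) (ξ : cz x → ℂ) : ℂ) * w) ∧
      ∀ y : cz x, (if p ∣ orderOf y then 0 else phi p θ (x * (y : G)) (bel M (cz x) b)) =
        ∑ ξ, c ξ * regFun p ξ y := by
  have hxc : (⟨x, mem_cz_self x⟩ : cz x) ∈ Subgroup.center (cz x) :=
    Subgroup.mem_center_iff.mpr fun w => Subtype.ext (mem_cz.mp w.2)
  choose ω hω using fun ξ : IrrCharacter (cz x) => exists_scalar_central ξ hxc
  refine ⟨fun ξ => if ξ ∈ b then
    (CT.mult (fun h : cz x => (θ : G → ℂ) h) (ξ : cz x → ℂ) : ℂ) * ω ξ else 0,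
    fun ξ h => if_neg h, fun ξ h => ?_, fun y => ?_⟩
  · obtain ⟨k, hk⟩ := hx
    refine ⟨ω ξ, k, ?_, ?_, if_pos h⟩
    on_goal 2 =>
      have hstep : ∀ n : ℕ, ∀ c, (ξ : cz x → ℂ) ((⟨x, mem_cz_self x⟩ : cz x) ^ n * c) =
          ω ξ ^ n * (ξ : cz x → ℂ) c := by
        intro n
        induction n with
        | zero => simp
        | succ n ih => intro c; rw [pow_succ', mul_assoc, hω, ih, pow_succ', mul_assoc]
      have h1 := hstep (orderOf x) 1
      rw [show (⟨x, mem_cz_self x⟩ : cz x) ^ orderOf x = 1 from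
        Subtype.ext (by simpa using pow_orderOf_eq_one x), one_mul] at h1
      exact mul_right_cancel₀ (CT.irr_one_ne_zero ξ.2) (h1.symm.trans (one_mul _).symm)
    have hstep : ∀ n : ℕ, ∀ c, (ξ : cz x → ℂ) ((⟨x, mem_cz_self x⟩ : cz x) ^ n * c) =
        ω ξ ^ n * (ξ : cz x → ℂ) c := by
      intro n
      induction n with
      | zero => simp
      | succ n ih => intro c; rw [pow_succ', mul_assoc, hω, ih, pow_succ', mul_assoc]
    have h1 := hstep (p ^ k) 1
    rw [show (⟨x, mem_cz_self x⟩ : cz x) ^ p ^ k = 1 from Subtype.ext (by simpa using hk),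
      one_mul] at h1
    exact mul_right_cancel₀ (CT.irr_one_ne_zero ξ.2) (h1.symm.trans (one_mul _).symm)
  by_cases hy : p ∣ orderOf y
  · simp [hy, regFun]
  rw [if_neg hy]
  have hA := blockCoeff_mem_loc (M := M) hb
  obtain ⟨ε, hε⟩ : ∃ ε : MonoidAlgebra (Loc M) G,
      ε = embH (cz x) (bIdem M b : MonoidAlgebra (Loc M) (cz x)) := ⟨_, rfl⟩
  have hεε : ε * ε = ε := by rw [hε, ← map_mul, ← Subring.coe_mul, bIdem_mul_self hA]
  have hmem : x * (y : G) ∈ cz x := mul_mem (mem_cz_self x) y.2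
  have hεc : Commute ε (single (x * (y : G)) 1) :=
    hε ▸ isInv_iff_commute.mp (isInv_embH le_rfl (bIdem M b).2) _ hmem
  have hred : redG M G ε = bel M (cz x) b := by
    rw [hε, bel, redG, map_embH]; rfl
  rw [phi_eq_of_red hM θ hεε hεc hred, ev_charL_toC, map_mul, hε,
    show toC M G (embH (cz x) (bIdem M b : MonoidAlgebra (Loc M) (cz x))) = embH (cz x) (idemC b) by
      rw [toC, map_embH, toC_bIdem hA],
    show single (x * (y : G)) (1 : Loc M) = single ((⟨x * (y : G), hmem⟩ : cz x) : G) 1 from rfl,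
    toC_single, ← embH_single, ← map_mul, ev_embH]
  have hres : (fun h : cz x => (θ : G → ℂ) h) = ∑ ξ : IrrCharacter (cz x),
      (CT.mult (fun h : cz x => (θ : G → ℂ) h) (ξ : cz x → ℂ) : ℂ) • (ξ : cz x → ℂ) :=
    CT.character_eq_sum (CT.isCharacter_restrict (cz x) (CT.isCharacter_of_isIrr θ.2))
  rw [hres, ev_sum_smul_fun]
  refine Finset.sum_congr rfl fun ξ _ => ?_
  rw [ev_idemC_mul, ← hres]
  by_cases hξ : ξ ∈ b
  · simp only [hξ, if_true, ev_single, one_mul, regFun, if_neg hy]
    rw [show (⟨x * (y : G), hmem⟩ : cz x) = ⟨x, mem_cz_self x⟩ * y from rfl, hω, mul_assoc]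
  · simp [hξ]

theorem sum_regFun_mul {H : Type u} [Group H] [Fintype H] (ξ ξ' : IrrCharacter H) :
    ∑ y, regFun p ξ y * conj (regFun p ξ' y) = (Nat.card H : ℂ) * bfPair p ξ ξ' := by
  classical
  rw [bfPair, classInner, ← mul_assoc, mul_inv_cancel₀ CT.card_ne_zero, one_mul]
  refine Finset.sum_congr rfl fun y _ => ?_
  simp only [regFun]
  split_ifs <;> simp

/-- Parts at different blocks of a section are orthogonal. -/
theorem sum_phi_orth (hM : IsPModular p M) [Fact p.Prime] [Fintype G] [DecidableEq G]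
    (hx : ∃ k : ℕ, x ^ p ^ k = 1) (θ η : IrrCharacter G) {a a' : MonoidAlgebra (Res M) G}
    (ha : a ∈ blkIdem M x) (ha' : a' ∈ blkIdem M x) (hne : a ≠ a') :
    ∑ g ∈ Finset.univ.filter (fun g : G => pPart p g = x), phi p θ g a * conj (phi p η g a') = 0 := by
  classical
  obtain ⟨b, hb, rfl⟩ := mem_blkIdemS.mp ha
  obtain ⟨b', hb', rfl⟩ := mem_blkIdemS.mp ha'
  obtain ⟨c, hc0, -, hc⟩ := exists_coeff_phi hM hx θ hb
  obtain ⟨c', hc0', -, hc'⟩ := exists_coeff_phi hM hx η hb'
  rw [sum_fiber hx]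
  have e1 : ∀ y : cz x, (if p ∣ orderOf y then 0 else
      phi p θ (x * (y : G)) (bel M (cz x) b) * conj (phi p η (x * (y : G)) (bel M (cz x) b'))) =
      ∑ ξ, ∑ ξ', c ξ * conj (c' ξ') * (regFun p ξ y * conj (regFun p ξ' y)) := by
    intro y
    have h1 := hc y
    have h2 := hc' y
    split_ifs at h1 h2 ⊢ with hy
    · simp [regFun, hy]
    · rw [h1, h2, map_sum, Finset.sum_mul_sum]
      exact Finset.sum_congr rfl fun ξ _ => Finset.sum_congr rfl fun ξ' _ => by
        rw [map_mul]; ring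
  rw [Finset.sum_congr rfl fun y _ => e1 y, Finset.sum_comm]
  refine Finset.sum_eq_zero fun ξ _ => ?_
  rw [Finset.sum_comm]
  refine Finset.sum_eq_zero fun ξ' _ => ?_
  rw [← Finset.mul_sum, sum_regFun_mul]
  by_cases hξ : ξ ∈ b
  · by_cases hξ' : ξ' ∈ b'
    · rw [bfPair_zero_of_mem hM hb hξ fun h => hne
        (by rw [block_eq_of_mem hb hb' h hξ']), mul_zero, mul_zero]
    · rw [hc0' _ hξ', map_zero, mul_zero, zero_mul]
  · rw [hc0 _ hξ, zero_mul, zero_mul]

end Fibre

section Inner

variable {W W' : G → MonoidAlgebra (Res M) G → ℂ}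

/-- Products of star values only see equal blocks. -/
theorem sum_psi_mul (hM : IsPModular p M) [Fact p.Prime] [Fintype G] (θ η : IrrCharacter G) :
    ∑ g, psi p W θ g * conj (psi p W' η g) = ∑ g, ∑ a ∈ blkIdem M (pPart p g),
      W (pPart p g) a * conj (W' (pPart p g) a) * (phi p θ g a * conj (phi p η g a)) := by
  classical
  rw [← Finset.sum_fiberwise Finset.univ (pPart p) (fun g => psi p W θ g * conj (psi p W' η g)),
    ← Finset.sum_fiberwise Finset.univ (pPart p) (fun g => ∑ a ∈ blkIdem M (pPart p g),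
      W (pPart p g) a * conj (W' (pPart p g) a) * (phi p θ g a * conj (phi p η g a)))]
  refine Finset.sum_congr rfl fun x _ => ?_
  by_cases hne : (Finset.univ.filter fun g : G => pPart p g = x).Nonempty
  swap
  · rw [Finset.not_nonempty_iff_eq_empty.mp hne, Finset.sum_empty, Finset.sum_empty]
  obtain ⟨g₀, hg₀⟩ := hne
  have hx : ∃ k : ℕ, x ^ p ^ k = 1 := by
    rw [← (Finset.mem_filter.mp hg₀).2]; exact ppart_pow_eq_one (pPart_spec g₀)
  have e1 : ∀ g ∈ Finset.univ.filter (fun g : G => pPart p g = x),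
      psi p W θ g * conj (psi p W' η g) = ∑ a ∈ blkIdem M x, ∑ a' ∈ blkIdem M x,
        W x a * conj (W' x a') * (phi p θ g a * conj (phi p η g a')) := fun g hg => by
    rw [psi, psi, (Finset.mem_filter.mp hg).2, map_sum, Finset.sum_mul_sum]
    exact Finset.sum_congr rfl fun a _ => Finset.sum_congr rfl fun a' _ => by rw [map_mul]; ring
  have e2 : ∀ g ∈ Finset.univ.filter (fun g : G => pPart p g = x),
      (∑ a ∈ blkIdem M (pPart p g),
        W (pPart p g) a * conj (W' (pPart p g) a) * (phi p θ g a * conj (phi p η g a))) =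
      ∑ a ∈ blkIdem M x, W x a * conj (W' x a) * (phi p θ g a * conj (phi p η g a)) := fun g hg => by
    rw [(Finset.mem_filter.mp hg).2]
  rw [Finset.sum_congr rfl e1, Finset.sum_congr rfl e2, Finset.sum_comm,
    Finset.sum_comm (t := blkIdem M x)]
  refine Finset.sum_congr rfl fun a ha => ?_
  rw [Finset.sum_comm, Finset.sum_eq_single a]
  · intro a' ha' hne
    rw [← Finset.mul_sum, sum_phi_orth hM hx θ η ha ha' hne.symm, mul_zero]
  · exact fun h => absurd ha h

/-- The parts of an irreducible star product. -/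
theorem phi_of_eq_psi (hM : IsPModular p M) [Fact p.Prime] {θ η : IrrCharacter G}
    (h : (η : G → ℂ) = psi p W θ) {g : G} {a : MonoidAlgebra (Res M) G}
    (ha : a ∈ blkIdem M (pPart p g)) : phi p η g a = W (pPart p g) a * phi p θ g a := by
  classical
  haveI := Fintype.ofFinite G
  obtain ⟨x, hxdef⟩ : ∃ x, x = pPart p g := ⟨_, rfl⟩
  rw [← hxdef] at ha ⊢
  have hx : ∃ k : ℕ, x ^ p ^ k = 1 := hxdef ▸ ppart_pow_eq_one (pPart_spec g)
  obtain ⟨S, hS⟩ : ∃ S : Finset G, S = Finset.univ.filter (fun g : G => pPart p g = x) := ⟨_, rfl⟩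
  obtain ⟨D, hD⟩ : ∃ D : MonoidAlgebra (Res M) G → G → ℂ,
      D = fun a g => phi p η g a - W x a * phi p θ g a := ⟨_, rfl⟩
  have horth : ∀ a' ∈ blkIdem M x, a' ≠ a → ∑ k ∈ S, D a k * conj (D a' k) = 0 := by
    intro a' ha' hne
    have e : ∀ k, D a k * conj (D a' k) = phi p η k a * conj (phi p η k a') -
        W x a * (phi p θ k a * conj (phi p η k a')) -
        conj (W x a') * (phi p η k a * conj (phi p θ k a')) +
        W x a * conj (W x a') * (phi p θ k a * conj (phi p θ k a')) := fun k => by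
      simp only [hD, map_sub, map_mul]; ring
    rw [Finset.sum_congr rfl fun k _ => e k, Finset.sum_add_distrib, Finset.sum_sub_distrib,
      Finset.sum_sub_distrib, ← Finset.mul_sum, ← Finset.mul_sum, ← Finset.mul_sum, hS,
      sum_phi_orth hM hx η η ha ha' hne.symm, sum_phi_orth hM hx θ η ha ha' hne.symm,
      sum_phi_orth hM hx η θ ha ha' hne.symm, sum_phi_orth hM hx θ θ ha ha' hne.symm]
    ring
  have hsum : ∀ k ∈ S, ∑ a' ∈ blkIdem M x, D a' k = 0 := by
    intro k hk
    rw [hS] at hk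
    have hkx := (Finset.mem_filter.mp hk).2
    simp only [hD, Finset.sum_sub_distrib]
    have h1 := sum_phi (M := M) hM η k
    rw [hkx] at h1
    rw [h1, h, psi, hkx, sub_self]
  have h0 : ∑ k ∈ S, D a k * conj (D a k) = 0 := by
    have h1 : ∑ k ∈ S, D a k * conj (∑ a' ∈ blkIdem M x, D a' k) = 0 :=
      Finset.sum_eq_zero fun k hk => by rw [hsum k hk, map_zero, mul_zero]
    simp only [map_sum, Finset.mul_sum] at h1
    rw [Finset.sum_comm, Finset.sum_eq_single a horth (fun h => absurd ha h)] at h1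
    exact h1
  have hgS : g ∈ S := by
    rw [hS]; exact Finset.mem_filter.mpr ⟨Finset.mem_univ _, hxdef.symm⟩
  have h2 : ∑ k ∈ S, Complex.normSq (D a k) = 0 := by
    apply Complex.ofReal_injective
    push_cast
    rw [← h0]
    exact Finset.sum_congr rfl fun k _ => (Complex.mul_conj _).symm
  have h3 := Complex.normSq_eq_zero.mp
    ((Finset.sum_eq_zero_iff_of_nonneg fun k _ => Complex.normSq_nonneg _).mp h2 g hgS)
  simp only [hD, sub_eq_zero] at h3
  exact h3

end Inner

end Cfsg.Agent.Blocks
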