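import Cfsg.Agent.Lib.Blocks.NilLocal
import Cfsg.Agent.Lib.Blocks.StarParts
import Cfsg.Agent.Lib.Basics.Products

/-!
# Inner products of star products in a nilpotent block
-/

namespace Cfsg.Agent.Blocks

open MonoidAlgebra BPairs
open scoped ComplexConjugate Pointwise

universe u

variable {G : Type u} [Group G] [Finite G] {p : ℕ} {M : Ideal AlgInt} [M.IsPrime]

set_option linter.unusedSectionVars false

open Classical in
/-- The squared norm of a part of a character. -/
noncomputable def partNorm (p : ℕ) (χ : IrrCharacter G) (x : G) (a : MonoidAlgebra (Res M) G) : ℂ :=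
  ∑ᶠ g : G, if pPart p g = x then phi p χ g a * conj (phi p χ g a) else 0

theorem partNorm_conj (hM : IsPModular p M) [Fact p.Prime] (χ : IrrCharacter G) (c x : G)
    {a : MonoidAlgebra (Res M) G} (ha : a ∈ blkIdem M x) :
    partNorm p χ (c * x * c⁻¹) (conjA c a) = partNorm p χ x a := by
  classical
  haveI := Fintype.ofFinite G
  rw [partNorm, partNorm, finsum_eq_sum_of_fintype, finsum_eq_sum_of_fintype]
  refine (Fintype.sum_equiv (MulAut.conj c).toEquiv _ _ fun g => ?_).symm
  simp only [MulEquiv.toEquiv_eq_coe, EquivLike.coe_coe, MulAut.conj_apply, pPart_conj,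
    mul_left_inj, mul_right_inj]
  by_cases h : pPart p g = x
  · rw [if_pos h, if_pos h, phi_conjA hM χ c (blkIdem_mul_self ha) (blk_commute (h ▸ ha))]
  · rw [if_neg h, if_neg h]

/-- The inner product of two star products as a sum over sections. -/
theorem sum_psi_eq_partNorm (hM : IsPModular p M) [Fact p.Prime] [Fintype G]
    {W W' : G → MonoidAlgebra (Res M) G → ℂ} (χ : IrrCharacter G) :
    ∑ g, psi p W χ g * conj (psi p W' χ g) =
      ∑ x, ∑ a ∈ blkIdem M x, W x a * conj (W' x a) * partNorm p χ x a := by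
  classical
  rw [sum_psi_mul hM χ χ, ← Finset.sum_fiberwise Finset.univ (pPart p)]
  refine Finset.sum_congr rfl fun x _ => ?_
  simp only [partNorm, finsum_eq_sum_of_fintype, Finset.mul_sum]
  rw [Finset.sum_comm (s := blkIdem M x), Finset.sum_filter]
  refine Finset.sum_congr rfl fun g _ => ?_
  by_cases h : pPart p g = x
  · rw [if_pos h, h]
    exact Finset.sum_congr rfl fun a _ => by rw [if_pos rfl]
  · rw [if_neg h]
    exact (Finset.sum_eq_zero fun a _ => by rw [if_neg h, mul_zero]).symm

variable {B : Set (IrrCharacter G)} {P : Subgroup G}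
  {e : Set (IrrCharacter (Subgroup.centralizer (P : Set G)))}

open Classical in
/-- The weight of a point of `P` in the count of a nilpotent block. -/
noncomputable def qVal (p : ℕ) (P : Subgroup G) (χ : IrrCharacter G) (u : G)
    (a : MonoidAlgebra (Res M) G) : ℂ :=
  (Nat.card (P ⊓ cz u : Subgroup G) : ℂ) / (Nat.card (cz u) : ℂ) * partNorm p χ u a

theorem belAt_unique (hM : IsPModular p M) (hmax : IsMaximalBrauerPair p M B P e) {u : G}
    {a a' : MonoidAlgebra (Res M) G} (h : BelAt p M P e u a) (h' : BelAt p M P e u a') :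
    a = a' := by
  obtain ⟨f, hf, rfl⟩ := h
  obtain ⟨f', hf', rfl⟩ := h'
  rw [eq_of_below hM hmax.1.1 _ (Subgroup.zpowers u) rfl f f' hf hf']

/-- The elements carrying a pair below the maximal one again below it. -/
theorem card_belAt_conj (hM : IsPModular p M) [Fact p.Prime] (hnil : IsNilpotentBlock p M B)
    (hmax : IsMaximalBrauerPair p M B P e) {u : G} {a : MonoidAlgebra (Res M) G}
    (h : BelAt p M P e u a) :
    Nat.card {g : G // BelAt p M P e (g * u * g⁻¹) (conjA g a)} *
      Nat.card (P ⊓ cz u : Subgroup G) = Nat.card P * Nat.card (cz u) := by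
  have hset : {g : G | BelAt p M P e (g * u * g⁻¹) (conjA g a)} = (P : Set G) * (cz u : Set G) := by
    obtain ⟨f, hf, rfl⟩ := h
    have hfb : IsPBlock M f := (isBrauerPair_of_subpair hf hmax.1.1 :
      IsBrauerPair p M (Subgroup.zpowers u) f).2
    ext g
    constructor
    · rintro ⟨f', hf', hff⟩
      have hf'b : IsPBlock M f' := (isBrauerPair_of_subpair hf' hmax.1.1 :
        IsBrauerPair p M (Subgroup.zpowers (g * u * g⁻¹)) f').2
      have hidx : conjIdx g (⟨Subgroup.zpowers u, f⟩ : BrauerPairIdx G) =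
          ⟨Subgroup.zpowers (g * u * g⁻¹), f'⟩ :=
        idx_ext (M := M) (isPBlock_conjBlock _ _ hfb) hf'b (MonoidHom.map_zpowers _ u)
          ((bel_conjBlock _ g hfb).trans hff)
      have hle : SubpairLE p M ((Subgroup.zpowers u).map (MulAut.conj g).toMonoidHom)
          (conjBlock (Subgroup.zpowers u) g f) P e := by
        show Relation.ReflTransGen (NormalSubpairRel p M) (conjIdx g ⟨Subgroup.zpowers u, f⟩) ⟨P, e⟩
        rw [hidx]
        exact hf'
      obtain ⟨y, hy, hyg⟩ := exists_mem_of_nilpotent hM hnil hmax hf hle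
      exact ⟨y, hy, y⁻¹ * g, hyg, by group⟩
    · rintro ⟨y, hy, c, hc, rfl⟩
      have hfix : conjA c (bel M (cz u) f) = bel M (cz u) f :=
        isInv_iff_conjA.mp (isInv_bel _ f) c hc
      show BelAt p M P e (y * c * u * (y * c)⁻¹) (conjA (y * c) (bel M (cz u) f))
      rw [← conjA_conjA, hfix, show y * c * u * (y * c)⁻¹ = y * (c * u * c⁻¹) * y⁻¹ by group,
        show c * u * c⁻¹ = u by rw [(mem_cz.mp hc).eq, mul_inv_cancel_right]]
      exact belAt_conj hM hfb Relation.ReflTransGen.refl (conj_below hM hmax.1.1.2 hf hy)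
  rw [show Nat.card {g : G // BelAt p M P e (g * u * g⁻¹) (conjA g a)} =
    ({g : G | BelAt p M P e (g * u * g⁻¹) (conjA g a)}).ncard from rfl, hset]
  exact Basics.ncard_mul_mul_card_inf P (cz u)

/-- The inner product of two star products in a nilpotent block. -/
theorem classInner_psi (hM : IsPModular p M) [Fact p.Prime] [Fintype G] [Fintype P]
    (hnil : IsNilpotentBlock p M B) (hmax : IsMaximalBrauerPair p M B P e) {χ : IrrCharacter G}
    (hχ : χ ∈ B) {w w' : G → ℂ} (hw : Stable p M P e w) (hw' : Stable p M P e w')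
    {A : P → MonoidAlgebra (Res M) G} (hA : ∀ u : P, BelAt p M P e u (A u)) :
    classInner (psi p (weight (M := M) p P e w) χ) (psi p (weight (M := M) p P e w') χ) =
      (Nat.card P : ℂ)⁻¹ * ∑ u : P, w u * conj (w' u) * qVal p P χ u (A u) := by
  classical
  obtain ⟨W, hW⟩ : ∃ W, W = weight (M := M) p P e w := ⟨_, rfl⟩
  obtain ⟨W', hW'⟩ : ∃ W', W' = weight (M := M) p P e w' := ⟨_, rfl⟩
  obtain ⟨N, hN⟩ : ∃ N : G → MonoidAlgebra (Res M) G → ℕ, N = fun x a =>
      (Finset.univ.filter fun g : G => BelAt p M P e (g * x * g⁻¹) (conjA g a)).card := ⟨_, rfl⟩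
  obtain ⟨X, hX⟩ : ∃ X : G → MonoidAlgebra (Res M) G → ℂ, X = fun x a =>
      W x a * conj (W' x a) * partNorm p χ x a / (N x a : ℂ) := ⟨_, rfl⟩
  have hNconj : ∀ c x a, N (c * x * c⁻¹) (conjA c a) = N x a := fun c x a => by
    simp only [hN]
    refine Finset.card_equiv (Equiv.mulRight c) fun g => ?_
    simp only [Finset.mem_filter, Finset.mem_univ, true_and, Equiv.coe_mulRight, conjA_conjA]
    rw [show g * (c * x * c⁻¹) * g⁻¹ = g * c * x * (g * c)⁻¹ by group]
  have hterm : ∀ x, ∀ a ∈ blkIdem M x, W x a * conj (W' x a) * partNorm p χ x a =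
      ∑ g : G, if BelAt p M P e (g * x * g⁻¹) (conjA g a) then X x a else 0 := by
    intro x a ha
    rw [← Finset.sum_filter, Finset.sum_const, nsmul_eq_mul, hX]
    rcases eq_or_ne (N x a) 0 with h0 | h0
    · have hne : ¬ ∃ g, BelAt p M P e (g * x * g⁻¹) (conjA g a) := by
        rintro ⟨g, hg⟩
        simp only [hN, Finset.card_eq_zero, Finset.filter_eq_empty_iff] at h0
        exact h0 (Finset.mem_univ g) hg
      simp [hW, weight, dif_neg hne]
    · simp only [hN] at h0 ⊢
      field_simp
  have hshift : ∀ g : G, ∑ x, ∑ a ∈ blkIdem M x,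
      (if BelAt p M P e (g * x * g⁻¹) (conjA g a) then X x a else 0) =
      ∑ u : P, X u (A u) := by
    intro g
    have e1 : ∑ x, ∑ a ∈ blkIdem M x,
        (if BelAt p M P e (g * x * g⁻¹) (conjA g a) then X x a else 0) =
        ∑ x, ∑ a ∈ blkIdem M x, (if BelAt p M P e x a then X x a else 0) := by
      refine Fintype.sum_equiv (MulAut.conj g).toEquiv _ _ fun x => ?_
      simp only [MulEquiv.toEquiv_eq_coe, EquivLike.coe_coe, MulAut.conj_apply]
      rw [sum_blkIdem_conj g x]
      refine Finset.sum_congr rfl fun a ha => ?_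
      by_cases h : BelAt p M P e (g * x * g⁻¹) (conjA g a)
      · rw [if_pos h]
        refine Eq.trans ?_ (if_pos h).symm
        have hwI : ∀ {v : G → ℂ}, Stable p M P e v →
            weight (M := M) p P e v x a = weight (M := M) p P e v (g * x * g⁻¹) (conjA g a) :=
          fun hv => by rw [weight_eq hv h, weight_self hv h]
        simp only [hX, hW, hW']
        rw [hwI hw, hwI hw', hNconj g x a, partNorm_conj hM χ g x ha]
      · rw [if_neg h]
        exact (if_neg h).symm
    rw [e1, ← Finset.sum_filter_add_sum_filter_not Finset.univ (fun x : G => x ∈ P),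
      Finset.sum_eq_zero (s := Finset.univ.filter fun x : G => ¬ x ∈ P) fun x hx =>
        Finset.sum_eq_zero fun a _ => if_neg fun h => (Finset.mem_filter.mp hx).2 (belAt_mem h),
      add_zero, Finset.sum_subtype (p := fun x : G => x ∈ P) _ (fun x => by simp)]
    refine Finset.sum_congr rfl fun u _ => ?_
    have hmem : A u ∈ blkIdem M (u : G) := by
      obtain ⟨f, hf, hf'⟩ := hA u
      exact hf' ▸ mem_blkIdemS.mpr ⟨f, (isBrauerPair_of_subpair hf hmax.1.1 :
        IsBrauerPair p M (Subgroup.zpowers (u : G)) f).2, rfl⟩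
    rw [Finset.sum_eq_single_of_mem _ hmem fun a _ hne =>
      if_neg fun h => hne (belAt_unique hM hmax h (hA u)), if_pos (hA u)]
  have htot : ∑ g, psi p W χ g * conj (psi p W' χ g) = (Nat.card G : ℂ) * ∑ u : P, X u (A u) := by
    rw [sum_psi_eq_partNorm hM χ, Finset.sum_congr rfl fun x _ => Finset.sum_congr rfl (hterm x),
      Finset.sum_congr rfl fun x _ => Finset.sum_comm, Finset.sum_comm,
      Finset.sum_congr rfl fun g _ => hshift g, Finset.sum_const, Finset.card_univ,
      ← Nat.card_eq_fintype_card, nsmul_eq_mul]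
  rw [← hW, ← hW', classInner, htot, ← mul_assoc, inv_mul_cancel₀ CT.card_ne_zero, one_mul,
    Finset.mul_sum]
  refine Finset.sum_congr rfl fun u _ => ?_
  have hc : (N u (A u) : ℂ) * (Nat.card (P ⊓ cz (u : G) : Subgroup G) : ℂ) =
      (Nat.card P : ℂ) * (Nat.card (cz (u : G)) : ℂ) := by
    have := card_belAt_conj hM hnil hmax (hA u)
    rw [Nat.card_eq_fintype_card, Fintype.card_subtype] at this
    simp only [hN]
    exact_mod_cast this
  have hne1 : (Nat.card P : ℂ) ≠ 0 := Nat.cast_ne_zero.mpr Nat.card_pos.ne'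
  have hne2 : (Nat.card (cz (u : G)) : ℂ) ≠ 0 := Nat.cast_ne_zero.mpr Nat.card_pos.ne'
  have hne3 : (Nat.card (P ⊓ cz (u : G) : Subgroup G) : ℂ) ≠ 0 :=
    Nat.cast_ne_zero.mpr Nat.card_pos.ne'
  have hNinv : (N u (A u) : ℂ) = (Nat.card P : ℂ) * (Nat.card (cz (u : G)) : ℂ) /
      (Nat.card (P ⊓ cz (u : G) : Subgroup G) : ℂ) := by
    rw [eq_div_iff hne3]; exact hc
  simp only [hX, hW, hW', weight_self hw (hA u), weight_self hw' (hA u), qVal, hNinv]
  field_simp

end Cfsg.Agent.Blocks
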