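import Cfsg.Agent.Lib.Blocks.StarVanish
import Cfsg.Agent.Lib.CT.Induced
import Mathlib.GroupTheory.FiniteAbelian.Duality

/-!
# The action of the linear characters of `P/foc` on a block

Products with weights of modulus one permute the characters of a block, preserving degrees modulo
the regular elements; the linear characters of a defect group trivial on the focal subgroup act
in this way.
-/

namespace Cfsg.Agent.Blocks

open MonoidAlgebra BPairs
open scoped ComplexConjugate commutatorElement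

universe u

variable {G : Type u} [Group G] [Finite G] {p : ℕ} {M : Ideal AlgInt} [M.IsPrime]

set_option linter.unusedSectionVars false

theorem pPart_of_regular [Fact p.Prime] {g : G} (hg : ¬ p ∣ orderOf g) : pPart p g = 1 :=
  pPart_eq (isPPart_one hg)

/-- A weight of modulus one on the block sends its characters to characters of the block. -/
theorem exists_star (hM : IsPModular p M) [hp : Fact p.Prime] {B : Set (IrrCharacter G)}
    (hB : IsPBlock M B) {W : G → MonoidAlgebra (Res M) G → ℂ} (hW : IsWeight p M W)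
    (hone : ∀ x, (∃ k : ℕ, x ^ p ^ k = 1) → ∀ a, InB M B x a → a ∈ blkIdem M x →
      W x a * conj (W x a) = 1)
    (h1 : ∀ a, InB M B 1 a → a ∈ blkIdem M 1 → W 1 a = 1)
    {θ : IrrCharacter G} (hθ : θ ∈ B) :
    ∃ η ∈ B, (η : G → ℂ) = psi p W θ ∧
      ∀ g : G, ¬ p ∣ orderOf g → (η : G → ℂ) g = (θ : G → ℂ) g := by
  classical
  haveI := Fintype.ofFinite G
  have hreg : ∀ g : G, ¬ p ∣ orderOf g → psi p W θ g = (θ : G → ℂ) g := by
    intro g hg
    rw [← sum_phi (M := M) hM θ g, psi]
    refine Finset.sum_congr rfl fun a ha => ?_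
    by_cases hi : InB M B (pPart p g) a
    · rw [pPart_of_regular hg] at ha hi ⊢
      rw [h1 a hi ha, one_mul]
    · rw [phi_eq_zero_of_not_inB hM hB hθ ha hi, mul_zero]
  have hsum : ∑ g, psi p W θ g * conj (psi p W θ g) = ∑ g, (θ : G → ℂ) g * conj ((θ : G → ℂ) g) := by
    rw [← psi_one (M := M) (p := p) hM θ, sum_psi_mul hM θ θ, sum_psi_mul hM θ θ]
    refine Finset.sum_congr rfl fun g _ => Finset.sum_congr rfl fun a ha => ?_
    by_cases hi : InB M B (pPart p g) a
    · rw [hone _ (ppart_pow_eq_one (pPart_spec g)) a hi ha]; simp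
    · rw [phi_eq_zero_of_not_inB hM hB hθ ha hi]; simp
  have hnorm : classInner (psi p W θ) (psi p W θ) = 1 := by
    rw [classInner, hsum, ← classInner, CT.irr_inner_self θ.2]
  have hpos : 0 < (psi p W θ 1).re := by
    rw [hreg 1 (by rw [orderOf_one]; exact hp.out.not_dvd_one), charDegree_cast, Complex.natCast_re]
    exact_mod_cast charDegree_pos θ
  have hirr := CT.isIrr_of_isGen_norm_one (isGen_psi hM hW θ) hnorm hpos
  obtain ⟨η, hη⟩ : ∃ η : IrrCharacter G, (η : G → ℂ) = psi p W θ := ⟨⟨_, hirr⟩, rfl⟩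
  refine ⟨η, ?_, hη, fun g hg => hη ▸ hreg g hg⟩
  by_contra hnot
  have h0 : ∑ g, (η : G → ℂ) g * conj ((η : G → ℂ) g) = 0 := by
    conv_lhs =>
      enter [2, g]
      arg 1
      rw [hη]
    rw [← psi_one (M := M) (p := p) hM η, sum_psi_mul hM θ η]
    refine Finset.sum_eq_zero fun g _ => Finset.sum_eq_zero fun a ha => ?_
    by_cases hi : InB M B (pPart p g) a
    · rw [phi_eq_zero_of_inB hM hB hnot ha hi]; simp
    · rw [phi_eq_zero_of_not_inB hM hB hθ ha hi]; simp
  have h2 := CT.irr_inner_self η.2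
  rw [classInner, h0, mul_zero] at h2
  exact zero_ne_one h2

section Dual

variable {P : Type*} [Group P]

/-- The linear characters trivial on a subgroup. -/
def dualSub (L : Subgroup P) : Subgroup (P →* ℂˣ) where
  carrier := {f | ∀ x ∈ L, f x = 1}
  one_mem' := fun _ _ => rfl
  mul_mem' := fun {f g} hf hg x hx => by rw [MonoidHom.mul_apply, hf x hx, hg x hx, one_mul]
  inv_mem' := fun {f} hf x hx => by rw [MonoidHom.inv_apply, hf x hx, inv_one]

theorem mem_dualSub {L : Subgroup P} {f : P →* ℂˣ} : f ∈ dualSub L ↔ ∀ x ∈ L, f x = 1 := Iff.rfl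

theorem dualSub_anti {L L' : Subgroup P} (h : L ≤ L') : dualSub L' ≤ dualSub L :=
  fun _ hf x hx => hf x (h hx)

theorem card_dualSub [Finite P] (L : Subgroup P) (hL : commutator P ≤ L) :
    Nat.card (dualSub L) = L.index := by
  haveI hn : L.Normal := Subgroup.Normal.of_commutator_le P hL
  letI : CommGroup (P ⧸ L) :=
    { (inferInstance : Group (P ⧸ L)) with
      mul_comm := by
        intro a b
        induction a using QuotientGroup.induction_on with | _ x => ?_
        induction b using QuotientGroup.induction_on with | _ y => ?_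
        rw [← QuotientGroup.mk_mul, ← QuotientGroup.mk_mul]
        refine QuotientGroup.eq.mpr (hL ?_)
        rw [show (x * y)⁻¹ * (y * x) = ⁅y⁻¹, x⁻¹⁆ by rw [commutatorElement_def]; group]
        exact Subgroup.commutator_mem_commutator (Subgroup.mem_top _) (Subgroup.mem_top _) }
  haveI : NeZero (Monoid.exponent (P ⧸ L)) := ⟨Monoid.exponent_ne_zero_of_finite⟩
  rw [Subgroup.index, ← CommGroup.card_monoidHom_of_hasEnoughRootsOfUnity (P ⧸ L) ℂ]
  exact Nat.card_congr
    { toFun := fun f => QuotientGroup.lift L f.1 f.2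
      invFun := fun f => ⟨f.comp (QuotientGroup.mk' L), fun x hx => by
        rw [MonoidHom.comp_apply, QuotientGroup.mk'_apply, (QuotientGroup.eq_one_iff x).mpr hx,
          map_one]⟩
      left_inv := fun f => Subtype.ext (MonoidHom.ext fun x => rfl)
      right_inv := fun f => MonoidHom.ext fun q => QuotientGroup.induction_on q fun x => rfl }

end Dual

/-- The size of a finite set acted on is divisible by any index dividing all orbit sizes. -/
theorem index_dvd_card_of_stabilizer_le {Λ X : Type*} [Group Λ] [MulAction Λ X] [Finite X] [Finite Λ]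
    (K : Subgroup Λ) (h : ∀ x : X, MulAction.stabilizer Λ x ≤ K) : K.index ∣ Nat.card X := by
  classical
  haveI := Fintype.ofFinite (Quotient (MulAction.orbitRel Λ X))
  rw [Nat.card_congr (MulAction.selfEquivSigmaOrbitsQuotientStabilizer Λ X), Nat.card_sigma]
  exact Finset.dvd_sum fun ω _ => (Subgroup.index_dvd_of_le (h _))

section Focal

variable {B : Set (IrrCharacter G)} {P : Subgroup G}
  {e : Set (IrrCharacter (Subgroup.centralizer (P : Set G)))} {F : FusionSystem P}

/-- The linear character `f` as a weight. -/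
noncomputable def linW (P : Subgroup G) (e : Set (IrrCharacter (Subgroup.centralizer (P : Set G))))
    (p : ℕ) (f : P →* ℂˣ) : G → MonoidAlgebra (Res M) G → ℂ :=
  weight p P e (extendByZero P fun x => (f x : ℂ))

theorem commutator_le_focal (F : FusionSystem P) : commutator P ≤ F.focalSubgroup.subgroupOf P := by
  rw [commutator_def, Subgroup.commutator_le]
  intro a _ b _
  rw [Subgroup.mem_subgroupOf]
  refine Subgroup.subset_closure ⟨P, conjHom P (b : G), a⁻¹, F.conj_mem le_rfl b.2, ?_⟩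
  rw [conjHom]
  simp only [commutatorElement_def, Subgroup.coe_mul, Subgroup.coe_inv, inv_inv, MonoidHom.coe_comp,
    Function.comp_apply, MulEquiv.coe_toMonoidHom, Subgroup.coe_subtype, MulAut.conj_apply]
  group

theorem stable_lin (hM : IsPModular p M) (hF : IsBlockFusionSystemOn p M B P e F) {f : P →* ℂˣ}
    (hf : f ∈ dualSub (F.focalSubgroup.subgroupOf P)) :
    Stable p M P e (extendByZero P fun x => (f x : ℂ)) := by
  refine stable_of_fusion hF hM fun Q φ hφ x => ?_
  obtain ⟨hQ, hφP⟩ := F.le_of_mem hφ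
  rw [CT.extendByZero_mem P _ (hφP x), CT.extendByZero_mem P _ (hQ x.2)]
  congr 1
  have h := hf ((⟨(x : G), hQ x.2⟩ : P)⁻¹ * ⟨φ x, hφP x⟩)
    (Subgroup.mem_subgroupOf.mpr (Subgroup.subset_closure ⟨Q, φ, x, hφ, rfl⟩))
  rw [map_mul, map_inv, inv_mul_eq_one] at h
  exact h.symm

theorem isWeight_linW (hM : IsPModular p M) [Fact p.Prime]
    (hF : IsBlockFusionSystemOn p M B P e F) {f : P →* ℂˣ}
    (hf : f ∈ dualSub (F.focalSubgroup.subgroupOf P)) : IsWeight p M (linW (M := M) P e p f) := by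
  refine isWeight_weight hM hF.1 (stable_lin hM hF hf) ?_
  haveI := Fintype.ofFinite P
  rw [show (fun x : P => extendByZero P (fun y => (f y : ℂ)) (x : G)) = fun x => (f x : ℂ) from
    funext fun x => CT.extendByZero_coe P _ x]
  exact CT.isGen_of_isIrr (CT.isIrrCharacter_lin f)

theorem linW_belAt (hM : IsPModular p M) (hF : IsBlockFusionSystemOn p M B P e F) {f : P →* ℂˣ}
    (hf : f ∈ dualSub (F.focalSubgroup.subgroupOf P)) {x g : G} {a : MonoidAlgebra (Res M) G}
    (h : BelAt p M P e (g * x * g⁻¹) (conjA g a)) :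
    linW P e p f x a = (f ⟨g * x * g⁻¹, belAt_mem h⟩ : ℂ) := by
  rw [linW, weight_eq (stable_lin hM hF hf) h, CT.extendByZero_mem P _ (belAt_mem h)]

theorem linW_unit (hM : IsPModular p M) [Fact p.Prime] (hF : IsBlockFusionSystemOn p M B P e F)
    {f : P →* ℂˣ} (hf : f ∈ dualSub (F.focalSubgroup.subgroupOf P)) {x : G}
    (hx : ∃ k : ℕ, x ^ p ^ k = 1) {a : MonoidAlgebra (Res M) G} (ha : a ∈ blkIdem M x)
    (hi : InB M B x a) : linW P e p f x a * conj (linW P e p f x a) = 1 := by
  obtain ⟨g, hg⟩ := exists_belAt_of_inB hM hF.1 hx ha hi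
  obtain ⟨u, hu⟩ : ∃ u : P, u = ⟨g * x * g⁻¹, belAt_mem hg⟩ := ⟨_, rfl⟩
  rw [linW_belAt hM hF hf hg, ← hu, Complex.mul_conj']
  have hn : ‖(f u : ℂ)‖ = 1 := by
    refine Complex.norm_eq_one_of_pow_eq_one (n := orderOf u) ?_ (orderOf_pos u).ne'
    rw [← Units.val_pow_eq_pow_val, ← map_pow, pow_orderOf_eq_one, map_one, Units.val_one]
  rw [hn]; simp

theorem linW_one (hM : IsPModular p M) [Fact p.Prime] (hF : IsBlockFusionSystemOn p M B P e F)
    {f : P →* ℂˣ} (hf : f ∈ dualSub (F.focalSubgroup.subgroupOf P))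
    {a : MonoidAlgebra (Res M) G} (ha : a ∈ blkIdem M (1 : G)) (hi : InB M B 1 a) :
    linW P e p f 1 a = 1 := by
  obtain ⟨g, hg⟩ := exists_belAt_of_inB hM hF.1 ⟨0, one_pow _⟩ ha hi
  rw [linW_belAt hM hF hf hg, show (⟨g * 1 * g⁻¹, belAt_mem hg⟩ : P) = 1 from Subtype.ext (by simp),
    map_one, Units.val_one]

theorem linW_mul (hM : IsPModular p M) [Fact p.Prime] (hF : IsBlockFusionSystemOn p M B P e F)
    {f f' : P →* ℂˣ} (hf : f ∈ dualSub (F.focalSubgroup.subgroupOf P))
    (hf' : f' ∈ dualSub (F.focalSubgroup.subgroupOf P)) {x : G} (hx : ∃ k : ℕ, x ^ p ^ k = 1)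
    {a : MonoidAlgebra (Res M) G} (ha : a ∈ blkIdem M x) (hi : InB M B x a) :
    linW P e p f x a * linW P e p f' x a = linW P e p (f * f') x a := by
  obtain ⟨g, hg⟩ := exists_belAt_of_inB hM hF.1 hx ha hi
  rw [linW_belAt hM hF hf hg, linW_belAt hM hF hf' hg, linW_belAt hM hF (mul_mem hf hf') hg,
    MonoidHom.mul_apply, Units.val_mul]

/-- The action of the linear characters on the block. -/
theorem exists_star_lin (hM : IsPModular p M) [Fact p.Prime] (hF : IsBlockFusionSystemOn p M B P e F)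
    {f : P →* ℂˣ} (hf : f ∈ dualSub (F.focalSubgroup.subgroupOf P)) {θ : IrrCharacter G}
    (hθ : θ ∈ B) : ∃ η ∈ B, (η : G → ℂ) = psi p (linW (M := M) P e p f) θ ∧
      ∀ g : G, ¬ p ∣ orderOf g → (η : G → ℂ) g = (θ : G → ℂ) g := by
  exact exists_star hM hF.1.1.2.1 (isWeight_linW hM hF hf)
    (fun x hx a hi ha => linW_unit hM hF hf hx ha hi) (fun a hi ha => linW_one hM hF hf ha hi) hθ

/-- The action is compatible with products. -/
theorem psi_linW_comp (hM : IsPModular p M) [Fact p.Prime] (hF : IsBlockFusionSystemOn p M B P e F)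
    {f f' : P →* ℂˣ} (hf : f ∈ dualSub (F.focalSubgroup.subgroupOf P))
    (hf' : f' ∈ dualSub (F.focalSubgroup.subgroupOf P)) {θ η : IrrCharacter G} (hθ : θ ∈ B)
    (hη : (η : G → ℂ) = psi p (linW (M := M) P e p f') θ) :
    psi p (linW (M := M) P e p f) η = psi p (linW (M := M) P e p (f * f')) θ := by
  funext g
  refine Finset.sum_congr rfl fun a ha => ?_
  rw [phi_of_eq_psi hM hη ha]
  by_cases hi : InB M B (pPart p g) a
  · rw [← linW_mul hM hF hf hf' (ppart_pow_eq_one (pPart_spec g)) ha hi]; ring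
  · rw [phi_eq_zero_of_not_inB hM hF.1.1.2.1 hθ ha hi]; simp

theorem psi_linW_trivial (hM : IsPModular p M) [Fact p.Prime] (hF : IsBlockFusionSystemOn p M B P e F)
    {θ : IrrCharacter G} (hθ : θ ∈ B) :
    psi p (linW (M := M) P e p (1 : P →* ℂˣ)) θ = (θ : G → ℂ) := by
  funext g
  rw [← sum_phi (M := M) hM θ g, psi]
  refine Finset.sum_congr rfl fun a ha => ?_
  by_cases hi : InB M B (pPart p g) a
  · obtain ⟨k, hk⟩ := exists_belAt_of_inB hM hF.1 (ppart_pow_eq_one (pPart_spec g)) ha hi
    rw [linW_belAt hM hF (one_mem _) hk, MonoidHom.one_apply, Units.val_one, one_mul]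
  · rw [phi_eq_zero_of_not_inB hM hF.1.1.2.1 hθ ha hi, mul_zero]

/-- A character of height zero fixed by `f` forces `f` to be trivial. -/
theorem eq_one_of_fixed (hM : IsPModular p M) [hp : Fact p.Prime]
    (hF : IsBlockFusionSystemOn p M B P e F) {f : P →* ℂˣ}
    (hf : f ∈ dualSub (F.focalSubgroup.subgroupOf P)) {θ : IrrCharacter G} (hθ : θ ∈ B)
    (h0 : blockHeight p B (θ : G → ℂ) = 0)
    (hfix : (θ : G → ℂ) = psi p (linW (M := M) P e p f) θ) (u : P) : f u = 1 := by
  haveI := Fintype.ofFinite G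
  obtain ⟨b, ⟨hb, hle⟩, -⟩ := existsUnique_below hM hF.1.1.1 (Subgroup.zpowers_le.mpr u.2)
  have hbel : BelAt p M P e (u : G) (bel M (cz (u : G)) b) := ⟨b, hle, rfl⟩
  have hu : ∃ k : ℕ, (u : G) ^ p ^ k = 1 :=
    exists_pow_eq_one_of_isPGroup hF.1.1.1.1 u.2
  have hi := inB_of_belAt hM hF.1 hbel
  obtain ⟨y, hy, hne⟩ := exists_phi_ne_zero hM hu
    (isInducedBlock_of_brauerPair hM (isBrauerPairOf_of_inB hM hF.1.1.2.1 hu hb hi)) hθ h0
  have hpp : pPart p ((u : G) * (y : G)) = (u : G) :=
    pPart_fiber hu y.2 (by rwa [Subgroup.orderOf_coe])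
  have h := phi_of_eq_psi hM hfix (g := (u : G) * (y : G))
    (by rw [hpp]; exact mem_blkIdemS.mpr ⟨b, hb, rfl⟩)
  rw [hpp, linW, weight_self (stable_lin hM hF hf) hbel, CT.extendByZero_coe] at h
  exact Units.ext ((mul_eq_right₀ hne).mp h.symm)

/-- Any fixed character forces `f` to be trivial on the centre of `P`. -/
theorem eq_one_of_fixed_central (hM : IsPModular p M) [hp : Fact p.Prime]
    (hF : IsBlockFusionSystemOn p M B P e F) {f : P →* ℂˣ}
    (hf : f ∈ dualSub (F.focalSubgroup.subgroupOf P)) {θ : IrrCharacter G} (hθ : θ ∈ B)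
    (hfix : (θ : G → ℂ) = psi p (linW (M := M) P e p f) θ) (u : P)
    (hc : (u : G) ∈ Subgroup.centralizer (P : Set G)) : f u = 1 := by
  haveI := Fintype.ofFinite G
  obtain ⟨b, ⟨hb, hle⟩, -⟩ := existsUnique_below hM hF.1.1.1 (Subgroup.zpowers_le.mpr u.2)
  have hbel : BelAt p M P e (u : G) (bel M (cz (u : G)) b) := ⟨b, hle, rfl⟩
  have hu : ∃ k : ℕ, (u : G) ^ p ^ k = 1 :=
    exists_pow_eq_one_of_isPGroup hF.1.1.1.1 u.2
  have hi := inB_of_belAt hM hF.1 hbel
  have hPC : P ≤ cz (u : G) := fun v hv => mem_cz.mpr (hc v hv)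
  have heq : P ⊓ Subgroup.centralizer (Subgroup.zpowers (u : G) : Set G) = P := inf_eq_left.mpr hPC
  have hdef : blockDefect p b = blockDefect p B := by
    have h1 := centralizer_defect_of_fullyCentralized hM hF.1 hle fun g _ => by
      rw [heq]; exact Subgroup.card_le_of_le inf_le_left
    rw [heq] at h1
    have h2 := card_defectGroup hM hb h1
    rw [Nat.card_congr (Subgroup.subgroupOfEquivOfLe hPC).toEquiv,
      card_defectGroup hM hF.1.1.2.1 (isDefectGroup_of_maximal hM hF.1)] at h2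
    exact (Nat.pow_right_injective hp.out.two_le h2).symm
  have hne := phi_ne_zero_of_full_defect hM hu
    (isInducedBlock_of_brauerPair hM (isBrauerPairOf_of_inB hM hF.1.1.2.1 hu hb hi)) hdef hθ
  have h := phi_of_eq_psi hM hfix (g := (u : G))
    (by rw [pPart_self hu]; exact mem_blkIdemS.mpr ⟨b, hb, rfl⟩)
  rw [pPart_self hu, linW, weight_self (stable_lin hM hF hf) hbel, CT.extendByZero_coe] at h
  exact Units.ext ((mul_eq_right₀ hne).mp h.symm)

/-- The number of characters of given height is divisible by the index of every subgroup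
containing the stabilisers. -/
theorem index_dvd_card_height (hM : IsPModular p M) [Fact p.Prime]
    (hF : IsBlockFusionSystemOn p M B P e F) (n : ℕ)
    (K : Subgroup (dualSub (F.focalSubgroup.subgroupOf P)))
    (hK : ∀ f : dualSub (F.focalSubgroup.subgroupOf P), ∀ θ ∈ B,
      blockHeight p B ((θ : IrrCharacter G) : G → ℂ) = n →
        (θ : G → ℂ) = psi p (linW (M := M) P e p f.1) θ → f ∈ K) :
    K.index ∣ Nat.card {χ : IrrCharacter G // χ ∈ B ∧ blockHeight p B (χ : G → ℂ) = n} := by
  have hact : ∀ (f : dualSub (F.focalSubgroup.subgroupOf P))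
      (θ : {χ : IrrCharacter G // χ ∈ B ∧ blockHeight p B (χ : G → ℂ) = n}),
      ∃ η : {χ : IrrCharacter G // χ ∈ B ∧ blockHeight p B (χ : G → ℂ) = n},
        (η.1 : G → ℂ) = psi p (linW (M := M) P e p f.1) θ.1 := by
    intro f θ
    obtain ⟨η, hηB, hη, hreg⟩ := exists_star_lin hM hF f.2 θ.2.1
    refine ⟨⟨η, hηB, ?_⟩, hη⟩
    have hd : charDegree (η : G → ℂ) = charDegree (θ.1 : G → ℂ) := by
      have := hreg 1 (by rw [orderOf_one]; exact (Fact.out : p.Prime).not_dvd_one)
      rw [charDegree_cast, charDegree_cast] at this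
      exact_mod_cast this
    rw [blockHeight, hd]
    exact θ.2.2
  choose act hact' using hact
  letI : MulAction (dualSub (F.focalSubgroup.subgroupOf P))
      {χ : IrrCharacter G // χ ∈ B ∧ blockHeight p B (χ : G → ℂ) = n} :=
    { smul := act
      one_smul := fun θ => Subtype.ext (Subtype.ext ((hact' 1 θ).trans (psi_linW_trivial hM hF θ.2.1)))
      mul_smul := fun f f' θ => Subtype.ext (Subtype.ext ((hact' (f * f') θ).trans
        ((hact' f (act f' θ)).trans
          (psi_linW_comp hM hF f.2 f'.2 θ.2.1 (hact' f' θ))).symm)) }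
  refine index_dvd_card_of_stabilizer_le K fun θ f hf => hK f θ.1 θ.2.1 θ.2.2 ?_
  have h := hact' f θ
  rw [show act f θ = θ from hf] at h
  exact h

end Focal

end Cfsg.Agent.Blocks
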