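import Cfsg.Agent.Lib.Blocks.BelowRank
import Cfsg.Agent.Lib.Blocks.NilCount
import Cfsg.Agent.Lib.Blocks.StarAction
import Cfsg.Agent.Lib.BrauerPairs.AbelianFusion

/-!
# The trace of the star products over a block with an abelian defect group

For a stable function `w` on an abelian defect group `P` the sum of the inner products of the
star products of the characters of the block with the characters themselves is a sum over `P`
weighted by the ranks of the blocks below.
-/

namespace Cfsg.Agent.Blocks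

open MonoidAlgebra BPairs
open scoped ComplexConjugate Pointwise

universe u

variable {G : Type u} [Group G] [Finite G] {p : ℕ} {M : Ideal AlgInt} [M.IsPrime]
  {B : Set (IrrCharacter G)} {P : Subgroup G}
  {e : Set (IrrCharacter (Subgroup.centralizer (P : Set G)))}

set_option linter.unusedSectionVars false

/-- The part of a character at a block of a centralizer is the block part of the translate. -/
theorem phi_eq_blockPart (hM : IsPModular p M) [Fact p.Prime] {x : G}
    {b : Set (IrrCharacter (cz x))} (hb : IsPBlock M b) (θ : IrrCharacter G) (y : cz x) :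
    phi p θ (x * (y : G)) (bel M (cz x) b) =
      blockPart b (fun c : cz x => (θ : G → ℂ) (x * (c : G))) y := by
  classical
  letI : Fintype (cz x) := Fintype.ofFinite _
  have hA := blockCoeff_mem_loc (M := M) hb
  obtain ⟨ε, hε⟩ : ∃ ε : MonoidAlgebra (Loc M) G,
      ε = embH (cz x) (bIdem M b : MonoidAlgebra (Loc M) (cz x)) := ⟨_, rfl⟩
  have hεε : ε * ε = ε := by rw [hε, ← map_mul, ← Subring.coe_mul, bIdem_mul_self hA]
  have hmem : x * (y : G) ∈ cz x := mul_mem (mem_cz_self x) y.2
  have hεc : Commute ε (single (x * (y : G)) 1) :=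
    hε ▸ isInv_iff_commute.mp (isInv_embH le_rfl (bIdem M b).2) _ hmem
  have hred : redG M G ε = bel M (cz x) b := by
    rw [hε, bel, redG, map_embH]; rfl
  rw [phi_eq_of_red hM θ hεε hεc hred, ev_charL_toC, map_mul, hε,
    show toC M G (embH (cz x) (bIdem M b : MonoidAlgebra (Loc M) (cz x))) = embH (cz x) (idemC b) by
      rw [toC, map_embH, toC_bIdem hA],
    show single (x * (y : G)) (1 : Loc M) = single ((⟨x * (y : G), hmem⟩ : cz x) : G) 1 from rfl,
    toC_single, ← embH_single, ← map_mul, ev_embH]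
  obtain ⟨z, hz⟩ : ∃ z : cz x, z = ⟨x, mem_cz_self x⟩ := ⟨_, rfl⟩
  have hzc : z ∈ Subgroup.center (cz x) :=
    hz ▸ Subgroup.mem_center_iff.mpr fun w => Subtype.ext (mem_cz.mp w.2)
  have e1 : idemC b * single (⟨x * (y : G), hmem⟩ : cz x) (1 : ℂ) =
      single z 1 * (idemC b * single y 1) := by
    have hzy : (⟨x * (y : G), hmem⟩ : cz x) = z * y := by rw [hz]; rfl
    rw [hzy, ← mul_assoc,
      Subring.mem_center_iff.mp (idemC_mem_center b) (single z 1), mul_assoc, single_mul_single,
      one_mul]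
  have e2 : ∀ a : MonoidAlgebra ℂ (cz x), ev (fun c : cz x => (θ : G → ℂ) c) (single z 1 * a) =
      ev (fun c : cz x => (θ : G → ℂ) (x * (c : G))) a := by
    intro a
    induction a using MonoidAlgebra.induction_linear with
    | zero => simp
    | add a₁ a₂ h₁ h₂ => rw [mul_add, ev_add, h₁, h₂, ev_add]
    | single g r => rw [single_mul_single, one_mul, ev_single, ev_single, hz]; rfl
  rw [e1, e2, blockPart, Subsingleton.elim (Fintype.ofFinite _) ‹Fintype (cz x)›, finsum_mem_irr]
  have hexp : IsClassFunction (cz x) fun c : cz x => (θ : G → ℂ) (x * (c : G)) := by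
    intro g h
    show (θ : G → ℂ) (x * ((h * g * h⁻¹ : cz x) : G)) = (θ : G → ℂ) (x * (g : G))
    rw [← isClassFn_irr θ (x * (g : G)) (h : G)]
    refine congrArg _ ?_
    simp only [Subgroup.coe_mul, Subgroup.coe_inv]
    calc x * ((h : G) * g * (h : G)⁻¹) = x * (h : G) * (g * (h : G)⁻¹) := by group
      _ = (h : G) * x * (g * (h : G)⁻¹) := by rw [(mem_cz.mp h.2).eq]
      _ = _ := by group
  conv_lhs => rw [CT.classFunction_eq_sum hexp]
  rw [ev_sum_smul_fun]
  refine Finset.sum_congr rfl fun ξ _ => ?_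
  rw [ev_idemC_mul]
  by_cases hξ : ξ ∈ b
  · rw [if_pos hξ, if_pos hξ, ev_single, one_mul]
  · rw [if_neg hξ, if_neg hξ, mul_zero]

/-- The squared norms of the parts at a pair below the maximal one. -/
theorem sum_partNorm (hM : IsPModular p M) [Fact p.Prime]
    (hmax : IsMaximalBrauerPair p M B P e) {v : G} (hv : Subgroup.zpowers v ≤ P)
    {a : MonoidAlgebra (Res M) G} (ha : BelAt p M P e v a) :
    ∑ᶠ χ ∈ B, partNorm p χ v a = (Nat.card (cz v) : ℂ) * (rankAt hM hmax hv : ℂ) := by
  classical
  haveI := Fintype.ofFinite G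
  letI : Fintype (cz v) := Fintype.ofFinite _
  have hi := inB_of_belAt hM hmax ha
  obtain ⟨f, hle, rfl⟩ := ha
  have hfb : IsPBlock M f := (isBrauerPair_of_subpair hle hmax.1.1 :
    IsBrauerPair p M (Subgroup.zpowers v) f).2
  have hx : ∃ k : ℕ, v ^ p ^ k = 1 :=
    exists_pow_eq_one_of_isPGroup hmax.1.1.1 (hv (Subgroup.mem_zpowers v))
  rw [rankAt_eq hM hmax hv hfb hle, ← sum_regular_blockPart hM hx (cz v)
    (centralizer_zpowers_eq v).symm
    (isInducedBlock_of_brauerPair hM (isBrauerPairOf_of_inB hM hmax.1.2.1 hx hfb hi))]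
  refine finsum_mem_congr rfl fun χ _ => ?_
  rw [partNorm, finsum_eq_sum_of_fintype, ← Finset.sum_filter, sum_fiber hx]
  refine Finset.sum_congr rfl fun y _ => ?_
  rw [phi_eq_blockPart hM hfb]

/-- The elements moving a pair below the maximal one below it again. -/
theorem card_belAt_abelian (hM : IsPModular p M) [Fact p.Prime]
    (hmax : IsMaximalBrauerPair p M B P e) (hP : P ≤ Subgroup.centralizer (P : Set G)) {u : G}
    {a : MonoidAlgebra (Res M) G} (h : BelAt p M P e u a) :
    Nat.card {g : G // BelAt p M P e (g * u * g⁻¹) (conjA g a)} *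
      Nat.card (stabSub M P e ⊓ cz u : Subgroup G) =
      Nat.card (stabSub M P e) * Nat.card (cz u) := by
  have hset : {g : G | BelAt p M P e (g * u * g⁻¹) (conjA g a)} =
      (stabSub M P e : Set G) * (cz u : Set G) := by
    obtain ⟨f, hf, rfl⟩ := h
    have hfb : IsPBlock M f := (isBrauerPair_of_subpair hf hmax.1.1 :
      IsBrauerPair p M (Subgroup.zpowers u) f).2
    ext g
    constructor
    · rintro ⟨f', hf', hff⟩
      have hf'b : IsPBlock M f' := (isBrauerPair_of_subpair hf' hmax.1.1 :
        IsBrauerPair p M (Subgroup.zpowers (g * u * g⁻¹)) f').2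
      have hidx : conjIdx g (⟨Subgroup.zpowers u, f⟩ : BrauerPairIdx G) =
          ⟨Subgroup.zpowers (g * u * g⁻¹), f'⟩ :=
        idx_ext (M := M) (isPBlock_conjBlock _ _ hfb) hf'b (MonoidHom.map_zpowers _ u)
          ((bel_conjBlock _ g hfb).trans hff)
      obtain ⟨t, ht, c, hc, hgct⟩ := abelian_fusion hM hmax hP hf hf' hidx
      refine ⟨t, ht, t⁻¹ * g, ?_, mul_inv_cancel_left t g⟩
      refine mem_cz.mpr ?_
      have hc' : Commute c (g * u * g⁻¹) := mem_cz.mp hc
      show t⁻¹ * g * u = u * (t⁻¹ * g)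
      rw [hgct] at hc' ⊢
      have h1 : c * (t * u * t⁻¹) * c⁻¹ = t * u * t⁻¹ := by
        refine mul_left_cancel (a := c) ?_
        calc c * (c * (t * u * t⁻¹) * c⁻¹) = c * (c * t * u * (c * t)⁻¹) := by group
          _ = c * t * u * (c * t)⁻¹ * c := hc'.eq
          _ = _ := by group
      calc t⁻¹ * (c * t) * u = t⁻¹ * (c * (t * u * t⁻¹) * c⁻¹) * (c * t) := by group
        _ = u * (t⁻¹ * (c * t)) := by rw [h1]; group
    · rintro ⟨y, hy, c, hc, rfl⟩
      have hfix : conjA c (bel M (cz u) f) = bel M (cz u) f :=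
        isInv_iff_conjA.mp (isInv_bel _ f) c hc
      show BelAt p M P e (y * c * u * (y * c)⁻¹) (conjA (y * c) (bel M (cz u) f))
      rw [← conjA_conjA, hfix, show y * c * u * (y * c)⁻¹ = y * (c * u * c⁻¹) * y⁻¹ by group,
        show c * u * c⁻¹ = u by rw [(mem_cz.mp hc).eq, mul_inv_cancel_right]]
      have h1 := subpair_conj hM hf y
      rw [(conjIdx_eq_self_iff (show IsPBlock M (⟨P, e⟩ : BrauerPairIdx G).2 from hmax.1.1.2)).mpr
        hy] at h1
      exact belAt_conj hM hfb Relation.ReflTransGen.refl h1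
  rw [show Nat.card {g : G // BelAt p M P e (g * u * g⁻¹) (conjA g a)} =
    ({g : G | BelAt p M P e (g * u * g⁻¹) (conjA g a)}).ncard from rfl, hset]
  exact Basics.ncard_mul_mul_card_inf (stabSub M P e) (cz u)

/-- The weight of a point of `P` in the trace. -/
noncomputable def traceVal (hM : IsPModular p M) (hmax : IsMaximalBrauerPair p M B P e) (v : P) : ℂ :=
  (rankAt hM hmax (Subgroup.zpowers_le.mpr v.2) : ℂ) *
    (Nat.card (stabSub M P e ⊓ cz (v : G) : Subgroup G) : ℂ)

/-- The trace of a star product. -/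
theorem sum_inner_psi (hM : IsPModular p M) [Fact p.Prime] [Fintype G] [Fintype P]
    (hmax : IsMaximalBrauerPair p M B P e) (hP : P ≤ Subgroup.centralizer (P : Set G))
    {w : G → ℂ} (hw : Stable p M P e w) :
    ∑ᶠ χ ∈ B, classInner (psi p (weight (M := M) p P e w) χ) (χ : G → ℂ) =
      (Nat.card (stabSub M P e) : ℂ)⁻¹ * ∑ v : P, w v * traceVal hM hmax v := by
  classical
  have hex : ∀ v : P, ∃ a : MonoidAlgebra (Res M) G, BelAt p M P e (v : G) a := fun v => by
    obtain ⟨f, ⟨hf, hle⟩, -⟩ := existsUnique_below hM hmax.1.1 (Subgroup.zpowers_le.mpr v.2)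
    exact ⟨_, f, hle, rfl⟩
  choose A hA using hex
  obtain ⟨W, hW⟩ : ∃ W, W = weight (M := M) p P e w := ⟨_, rfl⟩
  obtain ⟨N, hN⟩ : ∃ N : G → MonoidAlgebra (Res M) G → ℕ, N = fun x a =>
      (Finset.univ.filter fun g : G => BelAt p M P e (g * x * g⁻¹) (conjA g a)).card := ⟨_, rfl⟩
  have hNconj : ∀ c x a, N (c * x * c⁻¹) (conjA c a) = N x a := fun c x a => by
    simp only [hN]
    refine Finset.card_equiv (Equiv.mulRight c) fun g => ?_
    simp only [Finset.mem_filter, Finset.mem_univ, true_and, Equiv.coe_mulRight, conjA_conjA]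
    rw [show g * (c * x * c⁻¹) * g⁻¹ = g * c * x * (g * c)⁻¹ by group]
  have hchar : ∀ χ : IrrCharacter G, classInner (psi p W χ) (χ : G → ℂ) =
      ∑ v : P, w v * partNorm p χ (v : G) (A v) / (N v (A v) : ℂ) := by
    intro χ
    obtain ⟨X, hX⟩ : ∃ X : G → MonoidAlgebra (Res M) G → ℂ, X = fun x a =>
        W x a * partNorm p χ x a / (N x a : ℂ) := ⟨_, rfl⟩
    have hterm : ∀ x, ∀ a ∈ blkIdem M x, W x a * partNorm p χ x a =
        ∑ g : G, if BelAt p M P e (g * x * g⁻¹) (conjA g a) then X x a else 0 := by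
      intro x a ha
      rw [← Finset.sum_filter, Finset.sum_const, nsmul_eq_mul, hX]
      rcases eq_or_ne (N x a) 0 with h0 | h0
      · have hne : ¬ ∃ g, BelAt p M P e (g * x * g⁻¹) (conjA g a) := by
          rintro ⟨g, hg⟩
          simp only [hN, Finset.card_eq_zero, Finset.filter_eq_empty_iff] at h0
          exact h0 (Finset.mem_univ g) hg
        simp [hW, weight, dif_neg hne]
      · simp only [hN] at h0 ⊢
        field_simp
    have hshift : ∀ g : G, ∑ x, ∑ a ∈ blkIdem M x,
        (if BelAt p M P e (g * x * g⁻¹) (conjA g a) then X x a else 0) =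
        ∑ v : P, X v (A v) := by
      intro g
      have e1 : ∑ x, ∑ a ∈ blkIdem M x,
          (if BelAt p M P e (g * x * g⁻¹) (conjA g a) then X x a else 0) =
          ∑ x, ∑ a ∈ blkIdem M x, (if BelAt p M P e x a then X x a else 0) := by
        refine Fintype.sum_equiv (MulAut.conj g).toEquiv _ _ fun x => ?_
        simp only [MulEquiv.toEquiv_eq_coe, EquivLike.coe_coe, MulAut.conj_apply]
        rw [sum_blkIdem_conj g x]
        refine Finset.sum_congr rfl fun a ha => ?_
        by_cases h : BelAt p M P e (g * x * g⁻¹) (conjA g a)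
        · rw [if_pos h]
          refine Eq.trans ?_ (if_pos h).symm
          simp only [hX, hW]
          rw [show weight (M := M) p P e w x a =
              weight (M := M) p P e w (g * x * g⁻¹) (conjA g a) by
              rw [weight_eq hw h, weight_self hw h], hNconj g x a, partNorm_conj hM χ g x ha]
        · rw [if_neg h]
          exact (if_neg h).symm
      rw [e1, ← Finset.sum_filter_add_sum_filter_not Finset.univ (fun x : G => x ∈ P),
        Finset.sum_eq_zero (s := Finset.univ.filter fun x : G => ¬ x ∈ P) fun x hx =>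
          Finset.sum_eq_zero fun a _ => if_neg fun h => (Finset.mem_filter.mp hx).2 (belAt_mem h),
        add_zero, Finset.sum_subtype (p := fun x : G => x ∈ P) _ (fun x => by simp)]
      refine Finset.sum_congr rfl fun v _ => ?_
      have hmem : A v ∈ blkIdem M (v : G) := by
        obtain ⟨f, hf, hf'⟩ := hA v
        exact hf' ▸ mem_blkIdemS.mpr ⟨f, (isBrauerPair_of_subpair hf hmax.1.1 :
          IsBrauerPair p M (Subgroup.zpowers (v : G)) f).2, rfl⟩
      rw [Finset.sum_eq_single_of_mem _ hmem fun a _ hne =>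
        if_neg fun h => hne (belAt_unique hM hmax h (hA v)), if_pos (hA v)]
    have htot : ∑ g, psi p W χ g * conj ((χ : G → ℂ) g) = (Nat.card G : ℂ) * ∑ v : P, X v (A v) := by
      rw [← psi_one (M := M) (p := p) hM χ, sum_psi_eq_partNorm hM χ]
      simp only [map_one, mul_one]
      rw [Finset.sum_congr rfl fun x _ => Finset.sum_congr rfl (hterm x),
        Finset.sum_congr rfl fun x _ => Finset.sum_comm, Finset.sum_comm,
        Finset.sum_congr rfl fun g _ => hshift g, Finset.sum_const, Finset.card_univ,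
        ← Nat.card_eq_fintype_card, nsmul_eq_mul]
    rw [classInner, htot, ← mul_assoc, inv_mul_cancel₀ CT.card_ne_zero, one_mul]
    refine Finset.sum_congr rfl fun v _ => ?_
    simp only [hX, hW, weight_self hw (hA v)]
  rw [← hW, finsum_mem_congr rfl fun χ _ => hchar χ, finsum_mem_eq_finite_toFinset_sum _ (Set.toFinite B),
    Finset.sum_comm, Finset.mul_sum]
  refine Finset.sum_congr rfl fun v _ => ?_
  have hs := sum_partNorm hM hmax (Subgroup.zpowers_le.mpr v.2) (hA v)
  rw [finsum_mem_eq_finite_toFinset_sum _ (Set.toFinite B)] at hs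
  rw [← Finset.sum_div, ← Finset.mul_sum, hs]
  have hc : (N v (A v) : ℂ) * (Nat.card (stabSub M P e ⊓ cz (v : G) : Subgroup G) : ℂ) =
      (Nat.card (stabSub M P e) : ℂ) * (Nat.card (cz (v : G)) : ℂ) := by
    have := card_belAt_abelian hM hmax hP (hA v)
    rw [Nat.card_eq_fintype_card, Fintype.card_subtype] at this
    simp only [hN]
    exact_mod_cast this
  have hne1 : (Nat.card (stabSub M P e) : ℂ) ≠ 0 := Nat.cast_ne_zero.mpr Nat.card_pos.ne'
  have hne2 : (Nat.card (cz (v : G)) : ℂ) ≠ 0 := Nat.cast_ne_zero.mpr Nat.card_pos.ne'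
  have hne3 : (Nat.card (stabSub M P e ⊓ cz (v : G) : Subgroup G) : ℂ) ≠ 0 :=
    Nat.cast_ne_zero.mpr Nat.card_pos.ne'
  have hNinv : (N v (A v) : ℂ) = (Nat.card (stabSub M P e) : ℂ) * (Nat.card (cz (v : G)) : ℂ) /
      (Nat.card (stabSub M P e ⊓ cz (v : G) : Subgroup G) : ℂ) := by
    rw [eq_div_iff hne3]; exact hc
  rw [hNinv, traceVal]
  field_simp

end Cfsg.Agent.Blocks
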