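import Cfsg.Agent.Lib.Blocks.BrauerFeit
import Cfsg.Prelude.Def_BlockRank

/-!
# Divisibility properties of the Brauer–Feit matrix
-/

namespace Cfsg.Agent.Blocks

open scoped ComplexConjugate

universe u

variable {G : Type u} [Group G] [Fintype G] {p : ℕ} {M : Ideal AlgInt}

theorem factorization_deg_le (χ : IrrCharacter G) :
    (charDegree (χ : G → ℂ)).factorization p ≤ (Nat.card G).factorization p :=
  (Nat.factorization_le_iff_dvd (charDegree_pos χ).ne' Nat.card_pos.ne').mpr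
    (ClassSum.degree_dvd_card χ) p

/-- Degree exponent, defect and height. -/
theorem height_add {B : Set (IrrCharacter G)} {χ : IrrCharacter G} (hχ : χ ∈ B) :
    blockHeight p B (χ : G → ℂ) + (Nat.card G).factorization p =
      blockDefect p B + (charDegree (χ : G → ℂ)).factorization p := by
  have h : sInf ((fun χ : IrrCharacter G => (charDegree (χ : G → ℂ)).factorization p) '' B) ≤
      (charDegree (χ : G → ℂ)).factorization p := Nat.sInf_le ⟨χ, hχ, rfl⟩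
  have := factorization_deg_le (p := p) χ
  rw [blockHeight, blockDefect]
  omega

/-- An entry of the Brauer–Feit matrix as the height part times a local integer. -/
theorem bfPair_local [M.IsPrime] (hM : IsPModular p M) {B : Set (IrrCharacter G)}
    {χ : IrrCharacter G} (hχ : χ ∈ B) (ψ : IrrCharacter G) :
    ((Nat.card G / p ^ (Nat.card G).factorization p : ℕ) : ℂ) *
        ((p : ℂ) ^ blockDefect p B * bfPair p χ ψ) =
      (p : ℂ) ^ blockHeight p B (χ : G → ℂ) *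
        (((charDegree (χ : G → ℂ) / p ^ (charDegree (χ : G → ℂ)).factorization p : ℕ) : ℂ) *
          (regS M p χ ψ : ℂ)) := by
  set a := (Nat.card G).factorization p
  set n1 := Nat.card G / p ^ a
  set e := (charDegree (χ : G → ℂ)).factorization p
  set d := blockDefect p B
  set h := blockHeight p B (χ : G → ℂ)
  have hp0 : (p : ℂ) ≠ 0 := Nat.cast_ne_zero.mpr hM.1.ne_zero
  have hn0 : (n1 : ℂ) ≠ 0 := Nat.cast_ne_zero.mpr
    fun h => Nat.not_dvd_ordCompl hM.1 Nat.card_pos.ne' (show p ∣ n1 by rw [h]; exact dvd_zero p)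
  have hdeg : (charDegree (χ : G → ℂ) : ℂ) =
      (p : ℂ) ^ e * ((charDegree (χ : G → ℂ) / p ^ e : ℕ) : ℂ) := by
    exact_mod_cast (Nat.ordProj_mul_ordCompl_eq_self (charDegree (χ : G → ℂ)) p).symm
  have hG : (Nat.card G : ℂ) = (p : ℂ) ^ a * (n1 : ℂ) := by
    exact_mod_cast (Nat.ordProj_mul_ordCompl_eq_self (Nat.card G) p).symm
  rw [bfPair_eq, ← deg_mul_regS (M := M), charDegree_cast, hdeg, hG]
  have e2 : (p : ℂ) ^ d * (p : ℂ) ^ e = (p : ℂ) ^ a * (p : ℂ) ^ h := by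
    rw [← pow_add, ← pow_add]
    congr 1
    have := height_add (p := p) hχ
    omega
  have hpa := pow_ne_zero a hp0
  field_simp
  linear_combination (((charDegree (χ : G → ℂ) / p ^ e : ℕ) : ℂ) * (regS M p χ ψ : ℂ)) * e2

/-- The height divides the row, exactly at height zero columns. -/
theorem bfInt_valuation [M.IsPrime] (hM : IsPModular p M) {B : Set (IrrCharacter G)}
    {χ : IrrCharacter G} (hχ : χ ∈ B) (ψ : IrrCharacter G) {X : ℤ}
    (hX : (p : ℂ) ^ blockDefect p B * bfPair p χ ψ = (X : ℂ)) :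
    ∃ W : ℤ, X = (p : ℤ) ^ blockHeight p B (χ : G → ℂ) * W ∧
      (IsPBlock M B → ψ ∈ B → ((p : ℤ) ∣ W ↔ blockHeight p B (ψ : G → ℂ) ≠ 0)) := by
  haveI := charP_res (M := M) hM
  set n1 := Nat.card G / p ^ (Nat.card G).factorization p
  set n3 := charDegree (χ : G → ℂ) / p ^ (charDegree (χ : G → ℂ)).factorization p
  have hn1 : ¬ p ∣ n1 := Nat.not_dvd_ordCompl hM.1 Nat.card_pos.ne'
  have hn3 : ¬ p ∣ n3 := Nat.not_dvd_ordCompl hM.1 (charDegree_pos χ).ne'
  have hn0 : (n1 : ℂ) ≠ 0 := Nat.cast_ne_zero.mpr fun h => hn1 (h ▸ dvd_zero p)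
  have hloc := bfPair_local hM hχ ψ
  rw [hX] at hloc
  have hinv := inv_mem_loc (M := M) (natCast_mem _ n1) (mt (memLocalIdeal_natCast hM n1).mp hn1)
  obtain ⟨W, hW⟩ := exists_int_of_pow_mul hM (M := M)
    (x := (n1 : ℂ)⁻¹ * ((n3 : ℂ) * (regS M p χ ψ : ℂ)))
    (mul_mem hinv (mul_mem (natCast_mem _ _) (regS M p χ ψ).2)) _ X (by
      rw [mul_left_comm, ← hloc, inv_mul_cancel_left₀ hn0])
  have hXW : X = (p : ℤ) ^ blockHeight p B (χ : G → ℂ) * W := by
    have : (X : ℂ) = (p : ℂ) ^ blockHeight p B (χ : G → ℂ) * (W : ℂ) := by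
      rw [← hW, mul_left_comm, ← hloc, inv_mul_cancel_left₀ hn0]
    exact_mod_cast this
  refine ⟨W, hXW, fun hB hψ => ?_⟩
  have e : (n1 : Loc M) * (W : Loc M) = (n3 : Loc M) * regS M p χ ψ := Subtype.ext (by
    simp only [Subring.coe_mul, SubringClass.coe_natCast, SubringClass.coe_intCast]
    rw [← hW, mul_inv_cancel_left₀ hn0])
  have e2 := congrArg (red M) e
  rw [map_mul, map_mul, map_intCast, map_natCast, map_natCast] at e2
  have hu1 : (n1 : Res M) ≠ 0 := mt (CharP.cast_eq_zero_iff (Res M) p _).mp hn1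
  have hu3 : (n3 : Res M) ≠ 0 := mt (CharP.cast_eq_zero_iff (Res M) p _).mp hn3
  rw [← CharP.intCast_eq_zero_iff (Res M) p W, Ne, ← red_regS_ne_zero_iff hM hB hχ hψ, not_not]
  constructor
  · intro h
    rw [h, mul_zero] at e2
    exact (mul_eq_zero.mp e2.symm).resolve_left hu3
  · intro h
    rw [h, mul_zero] at e2
    exact (mul_eq_zero.mp e2).resolve_left hu1

/-- Rows of squares. -/
theorem sum_sq_bfInt [Fact p.Prime] (χ : IrrCharacter G) (d : ℕ) {X : IrrCharacter G → ℤ}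
    (hX : ∀ ψ, (p : ℂ) ^ d * bfPair p χ ψ = (X ψ : ℂ)) :
    ∑ ψ, X ψ ^ 2 = (p : ℤ) ^ d * X χ := by
  have h1 : ((∑ ψ, X ψ ^ 2 : ℤ) : ℂ) = (((p : ℤ) ^ d * X χ : ℤ) : ℂ) := by
    push_cast
    rw [← hX χ, ← sum_bfPair_mul_conj, Finset.mul_sum, Finset.mul_sum]
    refine Finset.sum_congr rfl fun ψ _ => ?_
    have hr : (starRingEnd ℂ) ((X ψ : ℂ)) = (X ψ : ℂ) := by simp
    rw [pow_two]
    nth_rewrite 2 [← hr]
    rw [← hX ψ, map_mul, map_pow, map_natCast]
    ring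
  exact_mod_cast h1

/-- The row of a character of height `h` against any other character of the block. -/
theorem pow_height_sq_le [M.IsPrime] (hM : IsPModular p M) {B : Set (IrrCharacter G)}
    (hB : IsPBlock M B) {χ ψ : IrrCharacter G} (hχ : χ ∈ B) (hψ : ψ ∈ B)
    (h0 : blockHeight p B (ψ : G → ℂ) = 0) {X : ℤ}
    (hX : (p : ℂ) ^ blockDefect p B * bfPair p χ ψ = (X : ℂ)) :
    ((p : ℤ) ^ blockHeight p B (χ : G → ℂ)) ^ 2 ≤ X ^ 2 := by
  obtain ⟨W, hW, hiff⟩ := bfInt_valuation hM hχ ψ hX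
  have hW0 : W ≠ 0 := fun h => (hiff hB hψ).mp (h ▸ dvd_zero _) h0
  rw [hW, mul_pow]
  exact le_mul_of_one_le_right (sq_nonneg _)
    ((Int.one_le_abs (pow_ne_zero 2 hW0)).trans_eq (abs_of_nonneg (sq_nonneg _)))

/-- The sum of the squares of the height powers is bounded. -/
theorem sum_height_sq_le [M.IsPrime] (hM : IsPModular p M) {B : Set (IrrCharacter G)}
    (hB : IsPBlock M B) [DecidablePred (· ∈ B)] :
    4 * ∑ ψ ∈ Finset.univ.filter (· ∈ B), p ^ (2 * blockHeight p B (ψ : G → ℂ)) ≤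
      p ^ (2 * blockDefect p B) + 4 := by
  classical
  haveI := Fact.mk hM.1
  obtain ⟨χ, hχ, h0⟩ := exists_height_zero (p := p) hB
  set d := blockDefect p B
  choose X hX using fun ψ => exists_int_bfPair hM hχ ψ
  set S := Finset.univ.filter (fun ψ : IrrCharacter G => ψ ∈ B)
  have hle : ∑ ψ ∈ S, X ψ ^ 2 ≤ (p : ℤ) ^ d * X χ :=
    sum_sq_bfInt χ d hX ▸
      Finset.sum_le_sum_of_subset_of_nonneg (Finset.subset_univ _) fun ψ _ _ => sq_nonneg _
  have hχS : χ ∈ S := Finset.mem_filter.mpr ⟨Finset.mem_univ _, hχ⟩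
  rw [← Finset.add_sum_erase _ _ hχS] at hle
  have h2 : ((∑ ψ ∈ S.erase χ, p ^ (2 * blockHeight p B (ψ : G → ℂ)) : ℕ) : ℤ) ≤
      ∑ ψ ∈ S.erase χ, X ψ ^ 2 := by
    push_cast
    refine Finset.sum_le_sum fun ψ hψ => ?_
    rw [mul_comm 2, pow_mul]
    refine pow_height_sq_le hM hB (Finset.mem_filter.mp (Finset.mem_of_mem_erase hψ)).2 hχ h0 ?_
    rw [bfPair_symm]
    exact hX ψ
  have h3 : (4 * (∑ ψ ∈ S.erase χ, p ^ (2 * blockHeight p B (ψ : G → ℂ)) : ℕ) : ℤ) ≤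
      ((p : ℤ) ^ d) ^ 2 := by
    nlinarith [sq_nonneg (2 * X χ - (p : ℤ) ^ d)]
  have h3' : 4 * ∑ ψ ∈ S.erase χ, p ^ (2 * blockHeight p B (ψ : G → ℂ)) ≤ (p ^ d) ^ 2 := by
    exact_mod_cast h3
  rw [← Finset.add_sum_erase _ _ hχS, h0, mul_zero, pow_zero, mul_comm 2 d, pow_mul]
  omega

/-- A positive height is at most `d - 2`, and few characters have height zero. -/
theorem height_bound [M.IsPrime] (hM : IsPModular p M) {B : Set (IrrCharacter G)}
    (hB : IsPBlock M B) [DecidablePred (· ∈ B)] {χ : IrrCharacter G} (hχ : χ ∈ B)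
    (hpos : 0 < blockHeight p B (χ : G → ℂ)) :
    blockHeight p B (χ : G → ℂ) + 2 ≤ blockDefect p B ∧
      4 * (((Finset.univ : Finset (IrrCharacter G)).filter (· ∈ B)).filter
          (fun ψ : IrrCharacter G => blockHeight p B (ψ : G → ℂ) = 0)).card *
        p ^ (2 * blockHeight p B (χ : G → ℂ)) ≤ p ^ (2 * blockDefect p B) := by
  classical
  haveI := Fact.mk hM.1
  set h := blockHeight p B (χ : G → ℂ)
  set d := blockDefect p B
  choose X hX using fun ψ => exists_int_bfPair hM hχ ψ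
  set S := (Finset.univ.filter (fun ψ : IrrCharacter G => ψ ∈ B)).filter
    (fun ψ : IrrCharacter G => blockHeight p B (ψ : G → ℂ) = 0) with hSdef
  have hχS : χ ∉ S := fun hc => hpos.ne' (Finset.mem_filter.mp hc).2
  have hle : X χ ^ 2 + ∑ ψ ∈ S, X ψ ^ 2 ≤ (p : ℤ) ^ d * X χ := by
    rw [← sum_sq_bfInt χ d hX, ← Finset.sum_insert (f := fun ψ => X ψ ^ 2) hχS]
    exact Finset.sum_le_sum_of_subset_of_nonneg (Finset.subset_univ _) fun ψ _ _ => sq_nonneg _
  have h2 : (S.card : ℤ) * ((p : ℤ) ^ h) ^ 2 ≤ ∑ ψ ∈ S, X ψ ^ 2 := by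
    rw [← nsmul_eq_mul, ← Finset.sum_const]
    refine Finset.sum_le_sum fun ψ hψ => ?_
    simp only [S, Finset.mem_filter] at hψ
    exact pow_height_sq_le hM hB hχ hψ.1.2 hψ.2 (hX ψ)
  obtain ⟨ψ₀, hψ₀, h0⟩ := exists_height_zero (p := p) hB
  have hS : 1 ≤ S.card := Finset.card_pos.mpr ⟨ψ₀, by simp [S, hψ₀, h0]⟩
  have hp2 : (2 : ℤ) ≤ p := by exact_mod_cast hM.1.two_le
  obtain ⟨W, hW, hiff⟩ := bfInt_valuation hM hχ χ (hX χ)
  obtain ⟨y, hy⟩ := (hiff hB hχ).mpr hpos.ne'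
  have hXy : X χ = (p : ℤ) ^ (h + 1) * y := by rw [hW, hy, pow_succ]; ring
  have hrow : (1 : ℤ) * ((p : ℤ) ^ h) ^ 2 ≤ (S.card : ℤ) * ((p : ℤ) ^ h) ^ 2 :=
    mul_le_mul_of_nonneg_right (by exact_mod_cast hS) (sq_nonneg _)
  have hppos : (0 : ℤ) < (p : ℤ) ^ h := pow_pos (by omega) h
  have hpos2 : 0 < X χ * ((p : ℤ) ^ d - X χ) := by nlinarith
  refine ⟨?_, ?_⟩
  · by_contra hlt
    push Not at hlt
    obtain ⟨t, ht⟩ : ∃ t, h + 1 = d + t := ⟨h + 1 - d, by omega⟩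
    rw [hXy, ht, pow_add] at hpos2
    have hd : (0 : ℤ) < ((p : ℤ) ^ d) ^ 2 := pow_pos (pow_pos (by omega) _) 2
    have h5 : 0 < ((p : ℤ) ^ t * y) * (1 - (p : ℤ) ^ t * y) := by
      by_contra hn
      push Not at hn
      nlinarith
    rcases le_or_gt ((p : ℤ) ^ t * y) 0 with h6 | h6
    · nlinarith
    · nlinarith
  · have h4 : (4 * (S.card : ℤ)) * ((p : ℤ) ^ h) ^ 2 ≤ ((p : ℤ) ^ d) ^ 2 := by
      nlinarith [sq_nonneg (2 * X χ - (p : ℤ) ^ d)]
    rw [mul_comm 2 h, pow_mul, mul_comm 2 d, pow_mul]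
    exact_mod_cast h4

/-- Combinations of a block times `p^d` on the p-regular elements stay integral in the block. -/
theorem pow_mul_regFun_eq [M.IsPrime] (hM : IsPModular p M) {B : Set (IrrCharacter G)}
    (hB : IsPBlock M B) {χ : IrrCharacter G} (hχ : χ ∈ B) {d : ℕ} :
    (p : ℂ) ^ d • regFun p χ = ∑ ψ : IrrCharacter G,
      ((p : ℂ) ^ d * bfPair p χ ψ) • (ψ : G → ℂ) ∧
    ∀ ψ, ψ ∉ B → bfPair p χ ψ = 0 := by
  refine ⟨?_, fun ψ hψ => bfPair_eq_zero hM fun h => hψ ((mem_block_iff hB hχ).mpr h)⟩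
  conv_lhs => rw [CT.classFunction_eq_sum (regFun_class (p := p) χ), Finset.smul_sum]
  exact Finset.sum_congr rfl fun ψ _ => smul_smul _ _ _

/-- An inner product with the regular restriction is a scaled pairing. -/
theorem classInner_regInd_mul [DecidablePred fun x : G => p ∣ orderOf x] (c : ℂ)
    (χ ψ : IrrCharacter G) :
    classInner (fun x : G => if p ∣ orderOf x then (0 : ℂ) else c * (χ : G → ℂ) x) (ψ : G → ℂ) =
      c * bfPair p χ ψ := by
  simp only [bfPair, classInner]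
  conv_rhs => rw [mul_left_comm, Finset.mul_sum]
  congr 1
  refine Finset.sum_congr rfl fun x _ => ?_
  unfold regFun
  split_ifs <;> ring

theorem regInd_mul_eq [DecidablePred fun x : G => p ∣ orderOf x] (c : ℂ) (χ : IrrCharacter G) :
    (fun x : G => if p ∣ orderOf x then (0 : ℂ) else c * (χ : G → ℂ) x) = c • regFun p χ := by
  funext x
  simp only [Pi.smul_apply, smul_eq_mul, regFun]
  split_ifs <;> simp

end Cfsg.Agent.Blocks
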