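import Cfsg.Agent.Lib.Blocks.InertialFree

/-!
# The ranks of the blocks below an abelian maximal pair

For `S ≤ P` the rank of the block of `C(S)` below a maximal pair `(P, e)`, and its behaviour on
passing to the centralizer of an element of `P`.
-/

namespace Cfsg.Agent.Blocks

open MonoidAlgebra BPairs

universe u

variable {G : Type u} [Group G] [Finite G] {p : ℕ} {M : Ideal AlgInt} [M.IsPrime]
  {B : Set (IrrCharacter G)} {P : Subgroup G}
  {e : Set (IrrCharacter (Subgroup.centralizer (P : Set G)))}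

set_option linter.unusedSectionVars false

theorem blockRank_pullSet {H : Type u} [Group H] [Finite H] (i : H ≃* G)
    (b : Set (IrrCharacter G)) : blockRank p (pullSet i b) = blockRank p b := by
  have himg : (fun ξ : IrrCharacter H => pRegularPart p (ξ : H → ℂ)) '' pullSet i b =
      LinearMap.funLeft ℂ ℂ i '' ((fun χ : IrrCharacter G => pRegularPart p (χ : G → ℂ)) '' b) := by
    rw [Set.image_image]
    have hval : ∀ χ : IrrCharacter G,
        LinearMap.funLeft ℂ ℂ i (pRegularPart p (χ : G → ℂ)) =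
          pRegularPart p (Glauberman.compIrr i χ : H → ℂ) := by
      intro χ
      funext h
      simp only [LinearMap.funLeft_apply, pRegularPart, IsPRegular, MulEquiv.orderOf_eq i h,
        Glauberman.compIrr_apply]
      congr
    ext f
    constructor
    · rintro ⟨ξ, hξ, rfl⟩
      refine ⟨Glauberman.compIrr i.symm ξ, hξ, ?_⟩
      dsimp only
      rw [hval]
      congr 1
      exact congrArg Subtype.val ((Glauberman.compIrrEquiv i).apply_symm_apply ξ)
    · rintro ⟨χ, hχ, rfl⟩
      exact ⟨Glauberman.compIrr i χ, (compIrr_mem_pullSet i).mpr hχ, (hval χ).symm⟩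
  rw [blockRank, blockRank, himg, Submodule.span_image]
  exact (Submodule.equivMapOfInjective _
    (LinearMap.funLeft_injective_of_surjective ℂ ℂ i i.surjective) _).finrank_eq.symm

theorem blockRank_eq_of_bel {K₁ K₂ : Subgroup G} (h : K₁ = K₂) {b₁ : Set (IrrCharacter K₁)}
    {b₂ : Set (IrrCharacter K₂)} (h₁ : IsPBlock M b₁) (h₂ : IsPBlock M b₂)
    (hb : bel M K₁ b₁ = bel M K₂ b₂) : blockRank p b₁ = blockRank p b₂ := by
  subst h
  rw [bel_injective K₁ h₁ h₂ hb]

theorem exists_top_block {K : Subgroup G} (hK : K = ⊤) (hB : IsPBlock M B) :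
    ∃ b : Set (IrrCharacter K), IsPBlock M b ∧
      bel M K b = (bBar M B : MonoidAlgebra (Res M) G) ∧ blockRank p b = blockRank p B := by
  subst hK
  refine ⟨pullSet Subgroup.topEquiv B, isPBlock_pullSet _ hB, ?_, blockRank_pullSet _ _⟩
  refine MonoidAlgebra.ext (Finsupp.ext fun v => ?_)
  rw [show v = ((⟨v, Subgroup.mem_top v⟩ : (⊤ : Subgroup G)) : G) from rfl, coeff_bel,
    bBar_pullSet _ hB]
  rfl

/-- The rank of the block below `(P, e)` on `S`. -/
noncomputable def rankAt (hM : IsPModular p M) (hmax : IsMaximalBrauerPair p M B P e)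
    {S : Subgroup G} (hS : S ≤ P) : ℕ :=
  blockRank p (existsUnique_below hM hmax.1.1 hS).choose

theorem rankAt_eq (hM : IsPModular p M) (hmax : IsMaximalBrauerPair p M B P e)
    {S : Subgroup G} (hS : S ≤ P) {f : Set (IrrCharacter (Subgroup.centralizer (S : Set G)))}
    (hf : IsPBlock M f) (hle : SubpairLE p M S f P e) :
    rankAt hM hmax hS = blockRank p f := by
  rw [rankAt, (existsUnique_below hM hmax.1.1 hS).unique
    (existsUnique_below hM hmax.1.1 hS).choose_spec.1 ⟨hf, hle⟩]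

theorem rankAt_congr (hM : IsPModular p M) (hmax : IsMaximalBrauerPair p M B P e)
    {S S' : Subgroup G} (h : S = S') (hS : S ≤ P) (hS' : S' ≤ P) :
    rankAt hM hmax hS = rankAt hM hmax hS' := by
  subst h; rfl

/-- At the identity the rank is that of the block. -/
theorem rankAt_one (hM : IsPModular p M) [Fact p.Prime] (hmax : IsMaximalBrauerPair p M B P e)
    (h1 : Subgroup.zpowers (1 : G) ≤ P) : rankAt hM hmax h1 = blockRank p B := by
  obtain ⟨f, ⟨hf, hle⟩, -⟩ := existsUnique_below hM hmax.1.1 h1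
  rw [rankAt_eq hM hmax h1 hf hle]
  have hB := hmax.1.2.1
  have htop : cz (1 : G) = ⊤ := eq_top_iff.mpr fun v _ => mem_cz.mpr (Commute.one_right v)
  have hi : trunc (cz (1 : G) : Set G) (bBar M B : MonoidAlgebra (Res M) G) * bel M (cz (1 : G)) f =
      bel M (cz (1 : G)) f := inB_of_belAt hM hmax ⟨f, hle, rfl⟩
  rw [trunc_eq_self fun v hv => absurd (htop ▸ Subgroup.mem_top v) hv] at hi
  obtain ⟨b, hb, hbel, hrk⟩ := exists_top_block (p := p) htop hB
  rw [← hbel] at hi
  have hbf : b = f := by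
    by_contra hne
    exact bel_ne_zero _ hf (hi.symm.trans (bel_mul_of_ne hM _ hb hf hne))
  rw [← hbf, hrk]

/-- The block of the centralizer of `x ∈ P` below `(P, e)` with the pulled maximal pair. -/
theorem exists_local_maximal (hM : IsPModular p M) [Fact p.Prime]
    (hmax : IsMaximalBrauerPair p M B P e) (hP : P ≤ Subgroup.centralizer (P : Set G)) {x : G}
    (hx : x ∈ P) {f : Set (IrrCharacter (cz x))} (hf : IsPBlock M f)
    (hle : SubpairLE p M (Subgroup.zpowers x) f P e) :
    ∃ (P' : Subgroup (cz x)) (c' : Set (IrrCharacter (Subgroup.centralizer (P' : Set (cz x))))),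
      IsMaximalBrauerPair p M f P' c' ∧ P' ≤ Subgroup.centralizer (P' : Set (cz x)) ∧
        IsPush M (⟨P', c'⟩ : BrauerPairIdx (cz x)) (⟨P, e⟩ : BrauerPairIdx G) := by
  have hxP : Subgroup.zpowers x ≤ P := Subgroup.zpowers_le.mpr hx
  have hPx : P ≤ cz x := hP.trans (Subgroup.centralizer_le hxP)
  have hC : Subgroup.centralizer (P : Set G) ≤ cz x := Subgroup.centralizer_le hxP
  obtain ⟨⟨P', c'⟩, hpush⟩ := exists_pull (⟨P, e⟩ : BrauerPairIdx G) hmax.1.1.2 hPx hC
  have hpush' := hpush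
  obtain ⟨hc', -, hsub, hbel⟩ := hpush
  dsimp only at hc' hsub hbel
  have hP'p : IsPGroup p P' := (isPGroup_push hsub).mpr hmax.1.1.1
  have hpair : IsBrauerPairOf p M f P' c' := by
    refine isBrauerPairOf_iff.mpr ⟨hP'p, hc', hf, ?_⟩
    refine (occ_push hM hpush' hC hP'p (inv2_center P' (bBar M f).2) (by
      rw [← Subring.coe_mul, bBar_mul_self (blockCoeff_mem_loc hf)])).mp ?_
    exact (isNormalSubpair_iff.mp (rel_of_below hM hmax.1.1 hle hxP
      (hPx.trans (Subgroup.centralizer_le_normalizer _)) Relation.ReflTransGen.refl)).2.2.2.2.2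
  have heq : P ⊓ Subgroup.centralizer (Subgroup.zpowers x : Set G) = P := inf_eq_left.mpr hPx
  have hdef : IsDefectGroup p M f (P.subgroupOf (cz x)) := by
    have h1 := centralizer_defect_of_fullyCentralized hM hmax hle fun g _ => by
      rw [heq]; exact Subgroup.card_le_of_le inf_le_left
    rwa [heq] at h1
  refine ⟨P', c', ⟨hpair, fun R g hR hle' => ?_⟩, fun v hv => ?_, hpush'⟩
  · obtain ⟨⟨R', g'⟩, hle'', hmax'⟩ := exists_maximal hM hR
    have hcd := card_defect_eq hM hf (isDefectGroup_of_maximal hM hmax') hdef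
    refine (Subgroup.eq_of_le_of_card_ge (subpair_le hle') ?_).symm
    refine (Subgroup.card_le_of_le (subpair_le hle'')).trans (hcd.le.trans ?_)
    rw [Nat.card_congr (Subgroup.subgroupOfEquivOfLe hPx).toEquiv, ← hsub,
      Subgroup.card_map_of_injective (cz x).subtype_injective]
  · rw [Subgroup.mem_centralizer_iff]
    intro w hw
    exact Subtype.ext (Subgroup.mem_centralizer_iff.mp
      (hP (hsub ▸ ⟨v, hv, rfl⟩ : (v : G) ∈ P)) (w : G) (hsub ▸ ⟨w, hw, rfl⟩))

/-- The stabilizer of the pulled pair. -/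
theorem mem_stabSub_push {x : G} {P' : Subgroup (cz x)}
    {c' : Set (IrrCharacter (Subgroup.centralizer (P' : Set (cz x))))}
    (h : IsPush M (⟨P', c'⟩ : BrauerPairIdx (cz x)) (⟨P, e⟩ : BrauerPairIdx G)) (t : cz x) :
    t ∈ stabSub M P' c' ↔ (t : G) ∈ stabSub M P e := by
  obtain ⟨hc', hc, hsub, hbel⟩ := h
  dsimp only at hc' hc hsub hbel
  refine and_congr ?_ ⟨fun h2 => by rw [← hbel, conjA_embH, h2], fun h2 => ?_⟩
  · constructor
    · intro h1
      refine Subgroup.mem_normalizer_fintype ?_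
      intro v hv
      rw [← hsub] at hv
      obtain ⟨w, hw, rfl⟩ := hv
      exact hsub ▸ ⟨t * w * t⁻¹, (Subgroup.mem_normalizer_iff.mp h1 w).mp hw, by simp⟩
    · intro h1
      refine Subgroup.mem_normalizer_fintype fun v hv => ?_
      have h2 : (t : G) * (v : G) * (t : G)⁻¹ ∈ P :=
        (Subgroup.mem_normalizer_iff.mp h1 (v : G)).mp (hsub ▸ ⟨v, hv, rfl⟩)
      rw [← hsub] at h2
      obtain ⟨w, hw, he⟩ := h2
      rwa [show t * v * t⁻¹ = w from Subtype.ext (by simpa using he.symm)]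
  · apply embH_injective (R := Res M) (cz x)
    rw [← conjA_embH, hbel]
    exact h2

/-- The ranks below the pulled pair. -/
theorem rankAt_push (hM : IsPModular p M) [Fact p.Prime]
    (hmax : IsMaximalBrauerPair p M B P e) {x : G}
    {f : Set (IrrCharacter (cz x))} {P' : Subgroup (cz x)}
    {c' : Set (IrrCharacter (Subgroup.centralizer (P' : Set (cz x))))}
    (hmax' : IsMaximalBrauerPair p M f P' c')
    (hpush : IsPush M (⟨P', c'⟩ : BrauerPairIdx (cz x)) (⟨P, e⟩ : BrauerPairIdx G))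
    (hP' : P' ≤ Subgroup.centralizer (P' : Set (cz x)))
    (hx' : (⟨x, mem_cz_self x⟩ : cz x) ∈ P') {v : cz x} (hv : Subgroup.zpowers v ≤ P')
    (hS : Subgroup.zpowers x ⊔ Subgroup.zpowers (v : G) ≤ P) :
    rankAt hM hmax' hv = rankAt hM hmax hS := by
  obtain ⟨S', hS'⟩ : ∃ S', S' =
      Subgroup.zpowers (⟨x, mem_cz_self x⟩ : cz x) ⊔ Subgroup.zpowers v := ⟨_, rfl⟩
  have hS'P : S' ≤ P' := hS' ▸ sup_le (Subgroup.zpowers_le.mpr hx') hv
  obtain ⟨f', ⟨hf', hle'⟩, -⟩ := existsUnique_below hM hmax'.1.1 hv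
  rw [rankAt_eq hM hmax' hv hf' hle']
  obtain ⟨k, ⟨hk, hkle⟩, -⟩ := existsUnique_below hM hmax'.1.1 hS'P
  have hmap : S'.map (cz x).subtype = Subgroup.zpowers x ⊔ Subgroup.zpowers (v : G) := by
    rw [hS', Subgroup.map_sup, MonoidHom.map_zpowers, MonoidHom.map_zpowers]
    rfl
  have hR : Subgroup.centralizer ((S'.map (cz x).subtype : Subgroup G) : Set G) ≤ cz x :=
    Subgroup.centralizer_le (hmap ▸ le_sup_left :
      Subgroup.zpowers x ≤ S'.map (cz x).subtype)
  have hS'p : IsPGroup p S' := hmax'.1.1.1.to_le hS'P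
  have hcent : Subgroup.centralizer (Subgroup.zpowers v : Set (cz x)) =
      Subgroup.centralizer (S' : Set (cz x)) := by
    refine le_antisymm (fun w hw => ?_) (Subgroup.centralizer_le (hS' ▸ le_sup_right :
      Subgroup.zpowers v ≤ S'))
    have h1 : S' ≤ Subgroup.centralizer ({w} : Set (cz x)) := by
      refine hS' ▸ sup_le (Subgroup.zpowers_le.mpr ?_) (Subgroup.zpowers_le.mpr ?_)
      · rw [Subgroup.mem_centralizer_singleton_iff]
        exact Subtype.ext (mem_cz.mp w.2).eq.symm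
      · rw [Subgroup.mem_centralizer_singleton_iff]
        exact hw v (Subgroup.mem_zpowers v)
    exact fun r hr => Subgroup.mem_centralizer_singleton_iff.mp (h1 hr)
  -- the blocks below on `⟨v⟩` and on `S'` agree
  have hkf : blockRank p f' = blockRank p k := by
    obtain ⟨f'', hf'', hbel, -⟩ := exists_block_of_subgroup_eq (M := M) hcent hf'
    refine blockRank_eq_of_bel hcent hf' hk (hbel.symm.trans ?_)
    have hrel := rel_of_below hM hmax'.1.1 hle' (hS' ▸ le_sup_right : Subgroup.zpowers v ≤ S')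
      ((hS'P.trans (hP'.trans (Subgroup.centralizer_le hv))).trans
        (Subgroup.centralizer_le_normalizer _)) hkle
    obtain ⟨hQ, hR', hQS, -, hst, ho⟩ := isNormalSubpair_iff.mp hrel
    have hmul := mul_of_occ hM hS'p hk (inv2_bel hQS hst) (bel_mul_self _ hf') ho
    rw [Blocks.embH_resH fun w hw => coeff_bel_of_notMem _ _ (hcent ▸ hw), ← hbel] at hmul
    by_contra hne
    exact bel_ne_zero _ hk (hmul.symm.trans (bel_mul_of_ne hM _ hf'' hk fun h => hne (by rw [h])))
  rw [hkf]
  -- push the block on `S'` into `G`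
  obtain ⟨b, hb⟩ := exists_push (⟨S', k⟩ : BrauerPairIdx (cz x)) hk hR
  obtain ⟨b', hb', hchain⟩ := chain_push hM (Q := Subgroup.zpowers x) le_rfl hkle hb
    (by rw [← hb.2.2.1]; exact hmap ▸ le_sup_left)
  have hbb' : b' = (⟨P, e⟩ : BrauerPairIdx G) :=
    idx_ext (M := M) hb'.2.1 hpush.2.1 (hb'.2.2.1.symm.trans hpush.2.2.1)
      (hb'.2.2.2.symm.trans hpush.2.2.2)
  rw [hbb'] at hchain
  obtain ⟨S₁, g₁⟩ := b
  obtain ⟨-, hg₁, hsub₁, hbel₁⟩ := hb
  dsimp only at hg₁ hsub₁ hbel₁
  subst hsub₁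
  rw [rankAt_congr hM hmax hmap.symm hS (subpair_le hchain), rankAt_eq hM hmax _ hg₁ hchain]
  have hpull : k = pullSet (pushIso S' hR) g₁ := by
    refine bel_injective _ hk (isPBlock_pullSet _ hg₁) (embH_injective (R := Res M) (cz x) ?_)
    rw [hbel₁]
    exact (coeff_push S' hR fun w => bBar_pullSet _ hg₁ w).symm
  rw [hpull, blockRank_pullSet]

end Cfsg.Agent.Blocks
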