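import Cfsg.Agent.Lib.Blocks.GroupAlg
import Mathlib.GroupTheory.Sylow

/-!
# The Brauer homomorphism in characteristic `p`
-/

namespace Cfsg.Agent.Blocks

open MonoidAlgebra

universe u v

variable {G : Type u} [Group G] [Finite G] {R : Type v} [CommRing R] {p : ℕ}

set_option linter.unusedSectionVars false

theorem mem_map_conj {Q : Subgroup G} {x y : G} :
    y ∈ Q.map (MulAut.conj x).toMonoidHom ↔ x⁻¹ * y * x ∈ Q := by
  constructor
  · rintro ⟨q, hq, rfl⟩
    simpa [mul_assoc] using hq
  · intro h
    exact ⟨x⁻¹ * y * x, h, by simp [mul_assoc]⟩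

theorem isPGroup_map_conj {Q : Subgroup G} (hQ : IsPGroup p Q) (x : G) :
    IsPGroup p (Q.map (MulAut.conj x).toMonoidHom) := hQ.map _

theorem card_map_conj (Q : Subgroup G) (x : G) :
    Nat.card (Q.map (MulAut.conj x).toMonoidHom) = Nat.card Q :=
  Subgroup.card_map_of_injective (MulAut.conj x).injective

theorem map_conj_map_conj (Q : Subgroup G) (x y : G) :
    (Q.map (MulAut.conj x).toMonoidHom).map (MulAut.conj y).toMonoidHom =
      Q.map (MulAut.conj (y * x)).toMonoidHom := by
  ext z
  simp only [mem_map_conj]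
  constructor <;> intro h <;> simpa [mul_assoc] using h

theorem map_conj_one (Q : Subgroup G) : Q.map (MulAut.conj (1 : G)).toMonoidHom = Q := by
  ext z; simp [mem_map_conj]

theorem le_centralizer_singleton {Q : Subgroup G} {u : G} :
    Q ≤ Subgroup.centralizer ({u} : Set G) ↔ u ∈ Subgroup.centralizer (Q : Set G) := by
  constructor
  · intro h q hq
    exact Subgroup.mem_centralizer_singleton_iff.mp (h hq)
  · intro h q hq
    exact Subgroup.mem_centralizer_singleton_iff.mpr (h q hq)

open Classical in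
/-- The part of a group algebra element supported on a set. -/
noncomputable def trunc (S : Set G) (a : MonoidAlgebra R G) : MonoidAlgebra R G :=
  ofFun fun u => if u ∈ S then a.coeff u else 0

theorem coeff_trunc_of_mem {S : Set G} (a : MonoidAlgebra R G) {u : G} (h : u ∈ S) :
    (trunc S a).coeff u = a.coeff u := by simp [trunc, h]

theorem coeff_trunc_of_notMem {S : Set G} (a : MonoidAlgebra R G) {u : G} (h : u ∉ S) :
    (trunc S a).coeff u = 0 := by simp [trunc, h]

theorem trunc_add (S : Set G) (a b : MonoidAlgebra R G) :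
    trunc S (a + b) = trunc S a + trunc S b := by
  ext u
  by_cases h : u ∈ S <;> simp [coeff_trunc_of_mem, coeff_trunc_of_notMem, h]

theorem trunc_zero (S : Set G) : trunc S (0 : MonoidAlgebra R G) = 0 := by
  ext u
  by_cases h : u ∈ S <;> simp [coeff_trunc_of_mem, coeff_trunc_of_notMem, h]

theorem trunc_one {S : Set G} (h1 : (1 : G) ∈ S) : trunc S (1 : MonoidAlgebra R G) = 1 := by
  classical
  ext u
  by_cases h : u ∈ S
  · simp [coeff_trunc_of_mem, h]
  · have : u ≠ 1 := fun e => h (e ▸ h1)
    simp [coeff_trunc_of_notMem, h, one_def, Finsupp.single_eq_of_ne this]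

theorem trunc_eq_zero_iff {S : Set G} {a : MonoidAlgebra R G} :
    trunc S a = 0 ↔ ∀ u ∈ S, a.coeff u = 0 := by
  constructor
  · intro h u hu
    have := congrArg (fun x : MonoidAlgebra R G => x.coeff u) h
    simpa [coeff_trunc_of_mem _ hu] using this
  · intro h
    ext u
    by_cases hu : u ∈ S <;> simp [coeff_trunc_of_mem, coeff_trunc_of_notMem, hu, h]

/-- Coefficients invariant under conjugation by a subgroup. -/
def IsInv (Q : Subgroup G) (a : MonoidAlgebra R G) : Prop :=
  ∀ q ∈ Q, ∀ u, a.coeff (q * u * q⁻¹) = a.coeff u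

theorem isInv_iff_commute {Q : Subgroup G} {a : MonoidAlgebra R G} :
    IsInv Q a ↔ ∀ q ∈ Q, Commute a (single q 1) := by
  simp only [IsInv, commute_single_iff]

theorem isInv_of_mem_center (Q : Subgroup G) {a : MonoidAlgebra R G}
    (ha : a ∈ Subring.center (MonoidAlgebra R G)) : IsInv Q a :=
  fun q _ u => (mem_center_iff_isClassFn a).mp ha u q

theorem isInv_mul {Q : Subgroup G} {a b : MonoidAlgebra R G} (ha : IsInv Q a) (hb : IsInv Q b) :
    IsInv Q (a * b) :=
  isInv_iff_commute.mpr fun q hq =>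
    (isInv_iff_commute.mp ha q hq).mul_left (isInv_iff_commute.mp hb q hq)

/-- The Brauer map is multiplicative on invariant elements. -/
theorem trunc_mul [Fact p.Prime] [CharP R p] {Q : Subgroup G} (hQ : IsPGroup p Q)
    {a b : MonoidAlgebra R G} (ha : IsInv Q a) (hb : IsInv Q b) :
    trunc (Subgroup.centralizer (Q : Set G) : Set G) (a * b) =
      trunc (Subgroup.centralizer (Q : Set G) : Set G) a *
        trunc (Subgroup.centralizer (Q : Set G) : Set G) b := by
  classical
  haveI := Fintype.ofFinite G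
  set C := Subgroup.centralizer (Q : Set G) with hC
  ext c
  by_cases hc : c ∈ (C : Set G)
  · rw [coeff_trunc_of_mem _ hc, coeff_mul_sum, coeff_mul_sum]
    have hfix : ∀ u : G, u ∈ MulAction.fixedPoints
        (Q.map (ConjAct.toConjAct : G ≃* ConjAct G).toMonoidHom) G ↔ u ∈ C := by
      intro u
      simp only [MulAction.mem_fixedPoints, hC, Subgroup.mem_centralizer_iff]
      constructor
      · intro h q hq
        have := h ⟨_, q, hq, rfl⟩
        rw [Subgroup.smul_def] at this
        simp only [MulEquiv.toMonoidHom_eq_coe, MonoidHom.coe_coe, ConjAct.smul_def,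
          ConjAct.ofConjAct_toConjAct] at this
        exact mul_inv_eq_iff_eq_mul.mp this
      · rintro h ⟨_, q, hq, rfl⟩
        rw [Subgroup.smul_def]
        simp only [MulEquiv.toMonoidHom_eq_coe, MonoidHom.coe_coe, ConjAct.smul_def,
          ConjAct.ofConjAct_toConjAct]
        exact mul_inv_eq_iff_eq_mul.mpr (h q hq)
    rw [sum_eq_sum_fixed (p := p) (hQ.map (ConjAct.toConjAct : G ≃* ConjAct G).toMonoidHom)
      (fun u => a.coeff u * b.coeff (u⁻¹ * c)), Finset.sum_filter]
    · refine Finset.sum_congr rfl fun u _ => ?_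
      by_cases hu : u ∈ C
      · rw [if_pos ((hfix u).mpr hu), coeff_trunc_of_mem _ hu,
          coeff_trunc_of_mem _ (C.mul_mem (C.inv_mem hu) hc)]
      · rw [if_neg (fun h => hu ((hfix u).mp h)), coeff_trunc_of_notMem _ hu, zero_mul]
    · rintro ⟨_, q, hq, rfl⟩ u
      rw [Subgroup.smul_def]
      simp only [MulEquiv.toMonoidHom_eq_coe, MonoidHom.coe_coe, ConjAct.smul_def,
        ConjAct.ofConjAct_toConjAct]
      rw [ha q hq u]
      congr 1
      have hcq : c = q * c * q⁻¹ :=
        (mul_inv_eq_iff_eq_mul.mpr (Subgroup.mem_centralizer_iff.mp hc q hq)).symm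
      conv_lhs => rw [hcq]
      rw [show (q * u * q⁻¹)⁻¹ * (q * c * q⁻¹) = q * (u⁻¹ * c) * q⁻¹ by group, hb q hq]
  · rw [coeff_trunc_of_notMem _ hc, coeff_mul_sum]
    symm
    refine Finset.sum_eq_zero fun u _ => ?_
    by_cases hu : u ∈ C
    · rw [coeff_trunc_of_notMem (b : MonoidAlgebra R G) (u := u⁻¹ * c)
        (fun h => hc (by simpa using C.mul_mem hu h)), mul_zero]
    · rw [coeff_trunc_of_notMem _ hu, zero_mul]

/-- The Brauer homomorphism on the centre of the group algebra. -/
noncomputable def br [Fact p.Prime] [CharP R p] (Q : Subgroup G) (hQ : IsPGroup p Q) :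
    Subring.center (MonoidAlgebra R G) →+* MonoidAlgebra R G where
  toFun a := trunc (Subgroup.centralizer (Q : Set G) : Set G) (a : MonoidAlgebra R G)
  map_one' := trunc_one (Subgroup.one_mem _)
  map_mul' a b := trunc_mul hQ (isInv_of_mem_center Q a.2) (isInv_of_mem_center Q b.2)
  map_zero' := trunc_zero _
  map_add' a b := trunc_add _ _ _

theorem br_apply [Fact p.Prime] [CharP R p] (Q : Subgroup G) (hQ : IsPGroup p Q)
    (a : Subring.center (MonoidAlgebra R G)) :
    br Q hQ a = trunc (Subgroup.centralizer (Q : Set G) : Set G) (a : MonoidAlgebra R G) := rfl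

section Sylow

/-- A `p`-subgroup of maximal order in `H` is a Sylow subgroup of `H`. -/
theorem exists_sylow_map_eq [Fact p.Prime] {H Q : Subgroup G} (hle : Q ≤ H)
    (hcard : Nat.card Q = p ^ (Nat.card H).factorization p) :
    ∃ S : Sylow p H, (S : Subgroup H).map H.subtype = Q := by
  refine ⟨Sylow.ofCard (Q.subgroupOf H) ?_, ?_⟩
  · rw [Nat.card_congr (Subgroup.subgroupOfEquivOfLe hle).toEquiv, hcard]
  · simp [Subgroup.map_subgroupOf_eq_of_le hle]

/-- A `p`-subgroup of `H` lies in a Sylow subgroup of `H`. -/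
theorem exists_sylow_ge [Fact p.Prime] {H Q : Subgroup G} (hle : Q ≤ H) (hQ : IsPGroup p Q) :
    ∃ S : Sylow p H, Q ≤ (S : Subgroup H).map H.subtype := by
  have hQ' : IsPGroup p (Q.subgroupOf H) :=
    hQ.of_equiv (Subgroup.subgroupOfEquivOfLe hle).symm
  obtain ⟨S, hS⟩ := hQ'.exists_le_sylow
  exact ⟨S, fun q hq => ⟨⟨q, hle hq⟩, hS hq, rfl⟩⟩

theorem card_sylow_map [Fact p.Prime] {H : Subgroup G} (S : Sylow p H) :
    Nat.card ((S : Subgroup H).map H.subtype) = p ^ (Nat.card H).factorization p := by
  rw [Subgroup.card_map_of_injective H.subtype_injective, S.card_eq_multiplicity]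

theorem card_le_of_isPGroup_le [Fact p.Prime] {H Q : Subgroup G} (hle : Q ≤ H)
    (hQ : IsPGroup p Q) : Nat.card Q ≤ p ^ (Nat.card H).factorization p := by
  obtain ⟨S, hS⟩ := exists_sylow_ge hle hQ
  rw [← card_sylow_map S]
  exact Subgroup.card_le_of_le hS

end Sylow

end Cfsg.Agent.Blocks
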