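import Cfsg.Agent.Lib.Blocks.Orthogonality
import Cfsg.Agent.Lib.Blocks.Brauer

/-!
# Defect classes, defect groups, the min-max argument
-/

namespace Cfsg.Agent.Blocks

open MonoidAlgebra
open scoped ComplexConjugate

universe u v

variable {G : Type u} [Group G] [Finite G] {p : ℕ} {M : Ideal AlgInt} [M.IsPrime]

set_option linter.unusedSectionVars false

/-- The idempotent coefficient modulo the local ideal. -/
theorem coeff_bBar_ne_zero_iff {A : Set (IrrCharacter G)} (hA : ∀ u, blockCoeff A u ∈ Loc M)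
    (u : G) : (bBar M A : MonoidAlgebra (Res M) G).coeff u ≠ 0 ↔
      ¬ MemLocalIdeal M (blockCoeff A u) := by
  rw [bBar, coe_redZ, coeff_map', coeff_bIdem hA, ne_eq, red_eq_zero_iff]

theorem red_centralCharL_ne_zero_iff (χ : IrrCharacter G) (g : G) :
    red M (centralCharL M χ g) ≠ 0 ↔ ¬ MemLocalIdeal M (centralChar (χ : G → ℂ) g) := by
  rw [ne_eq, red_eq_zero_iff, coe_centralCharL]

theorem blockCoeff_congr (A : Set (IrrCharacter G)) {g h : G} (hgh : IsConj g h) :
    blockCoeff A g = blockCoeff A h :=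
  ((mem_center_iff_isClassFn _).mp (idemC_mem_center A)).eq_of_isConj hgh

theorem omegaBar_bBar_eq_one {B : Set (IrrCharacter G)} (hB : IsPBlock M B) {χ : IrrCharacter G}
    (hχ : χ ∈ B) : omegaBar M χ (bBar M B) = 1 := by
  classical
  rw [omegaBar_bBar (blockCoeff_mem_loc hB), if_pos hχ]

theorem bBar_ne_zero {B : Set (IrrCharacter G)} (hB : IsPBlock M B) : bBar M B ≠ 0 := by
  intro h
  obtain ⟨χ, hχ⟩ := block_nonempty hB
  have := omegaBar_bBar_eq_one hB hχ
  rw [h, map_zero] at this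
  exact zero_ne_one this

/-- The key argument: if the Brauer map at `Q` does not kill the block idempotent, it does not
kill any central element on which the block takes a nonzero value. -/
theorem br_ne_zero (hM : IsPModular p M) [Fact p.Prime] [CharP (Res M) p]
    {Q : Subgroup G} (hQ : IsPGroup p Q) {B : Set (IrrCharacter G)} (hB : IsPBlock M B)
    {χ : IrrCharacter G} (hχ : χ ∈ B) {z : ZG (Res M) G} (hz : omegaBar M χ z ≠ 0)
    (hf : br Q hQ (bBar M B) ≠ 0) : br Q hQ z ≠ 0 := by
  classical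
  intro hz0
  apply hf
  set y : ZG (Res M) G := scalarZ (omegaBar M χ z)⁻¹ * z
  have hnil : IsNilpotent (bBar M B * (1 - y)) := isNilpotent_of_omegaBar hM _ fun η => by
    rw [map_mul, omegaBar_bBar (blockCoeff_mem_loc hB)]
    split_ifs with hη
    · rw [one_mul, map_sub, map_one, map_mul, omegaBar_scalarZ,
        ← omegaBar_eq_of_sameBlock ((mem_block_iff hB hχ).mp hη), inv_mul_cancel₀ hz, sub_self]
    · rw [zero_mul]
  have h1 : br Q hQ (bBar M B * (1 - y)) = br Q hQ (bBar M B) := by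
    rw [map_mul, map_sub, map_one, map_mul, hz0, mul_zero, sub_zero, mul_one]
  obtain ⟨n, hn⟩ := hnil
  have h2 : br Q hQ (bBar M B) ^ (n + 1) = 0 := by
    rw [← h1, ← map_pow, pow_succ, hn, zero_mul, map_zero]
  rwa [IsIdempotentElem.pow_eq
    (show br Q hQ (bBar M B) * br Q hQ (bBar M B) = br Q hQ (bBar M B) by
      rw [← map_mul, bBar_mul_self (blockCoeff_mem_loc hB)]) (Nat.succ_ne_zero n)] at h2

theorem br_bBar_ne_zero_of_coeff (hM : IsPModular p M) [Fact p.Prime] [CharP (Res M) p]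
    {Q : Subgroup G} (hQ : IsPGroup p Q) {B : Set (IrrCharacter G)} (hB : IsPBlock M B) {u : G}
    (hu : ¬ MemLocalIdeal M (blockCoeff B u)) (hQu : Q ≤ Subgroup.centralizer ({u} : Set G)) :
    br Q hQ (bBar M B) ≠ 0 := by
  intro h
  rw [br_apply, trunc_eq_zero_iff] at h
  exact (coeff_bBar_ne_zero_iff (blockCoeff_mem_loc hB) u).mpr hu
    (h u (le_centralizer_singleton.mp hQu))

/-- The centralizer of a class with nonzero central character meets every subgroup centralizing
an element with nonzero idempotent coefficient, up to conjugation. -/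
theorem exists_conj_le_centralizer (hM : IsPModular p M) {B : Set (IrrCharacter G)}
    (hB : IsPBlock M B) {χ : IrrCharacter G} (hχ : χ ∈ B) {h u : G}
    (hh : ¬ MemLocalIdeal M (centralChar (χ : G → ℂ) h))
    (hu : ¬ MemLocalIdeal M (blockCoeff B u)) {Q : Subgroup G} (hQ : IsPGroup p Q)
    (hQu : Q ≤ Subgroup.centralizer ({u} : Set G)) :
    ∃ x : G, Q.map (MulAut.conj x).toMonoidHom ≤ Subgroup.centralizer ({h} : Set G) := by
  haveI : Fact p.Prime := ⟨hM.1⟩
  haveI := charP_res hM
  have h1 := br_ne_zero hM hQ hB hχ (z := classSumZ (Res M) h)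
    (by rw [omegaBar_classSumZ]; exact (red_centralCharL_ne_zero_iff χ h).mpr hh)
    (br_bBar_ne_zero_of_coeff hM hQ hB hu hQu)
  obtain ⟨c, hc, hc'⟩ : ∃ c ∈ Subgroup.centralizer (Q : Set G), IsConj h c := by
    by_contra hne
    push Not at hne
    refine h1 ?_
    rw [br_apply, trunc_eq_zero_iff]
    intro c hc
    simp [classSum, classInd_neg (hne c hc)]
  obtain ⟨x, rfl⟩ := isConj_iff.mp hc'
  refine ⟨x⁻¹, fun y hy => Subgroup.mem_centralizer_singleton_iff.mpr ?_⟩
  rw [mem_map_conj, inv_inv] at hy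
  have e := Subgroup.mem_centralizer_iff.mp hc _ hy
  calc y * h = x⁻¹ * ((x * y * x⁻¹) * (x * h * x⁻¹)) * x := by group
    _ = x⁻¹ * ((x * h * x⁻¹) * (x * y * x⁻¹)) * x := by rw [e]
    _ = h * y := by group

theorem exists_defectClass {B : Set (IrrCharacter G)} (hB : IsPBlock M B) :
    ∃ g, IsDefectClass M B g := by
  obtain ⟨χ, hχ⟩ := block_nonempty hB
  have hA := blockCoeff_mem_loc hB
  have h1 := omegaBar_bBar_eq_one hB hχ
  rw [omegaBar_apply] at h1
  obtain ⟨K, -, hK⟩ := Finset.exists_ne_zero_of_sum_ne_zero (h1.trans_ne one_ne_zero)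
  refine ⟨rep K, hA _, (coeff_bBar_ne_zero_iff hA _).mp (left_ne_zero_of_mul hK), fun ψ hψ => ?_⟩
  rw [← red_centralCharL_ne_zero_iff, ← sameBlock_iff_red.mp ((mem_block_iff hB hχ).mp hψ)]
  exact right_ne_zero_of_mul hK

theorem regular_of_defectClass (hM : IsPModular p M) {B : Set (IrrCharacter G)}
    (hB : IsPBlock M B) {g : G} (hg : IsDefectClass M B g) : ¬ p ∣ orderOf g :=
  regular_of_red_blockCoeff hM hB hg.2.1

theorem isDefectClass_congr {B : Set (IrrCharacter G)} {g h : G} (hgh : IsConj g h)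
    (hg : IsDefectClass M B g) : IsDefectClass M B h := by
  obtain ⟨h1, h2, h3⟩ := hg
  rw [blockCoeff_congr B hgh] at h1 h2
  exact ⟨h1, h2, fun χ hχ => by rw [← centralChar_congr χ hgh]; exact h3 χ hχ⟩

/-- Membership facts of a defect group. -/
theorem defectGroup_spec [Fact p.Prime] {B : Set (IrrCharacter G)} {D : Subgroup G}
    (hD : IsDefectGroup p M B D) :
    ∃ g, IsDefectClass M B g ∧ D ≤ Subgroup.centralizer ({g} : Set G) ∧ IsPGroup p D ∧
      Nat.card D = p ^ (Nat.card (Subgroup.centralizer ({g} : Set G))).factorization p := by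
  obtain ⟨g, hg, P, rfl⟩ := hD
  exact ⟨g, hg, Subgroup.map_subtype_le _, P.isPGroup'.map _, card_sylow_map P⟩

theorem isDefectGroup_of_card [Fact p.Prime] {B : Set (IrrCharacter G)} {g : G}
    (hg : IsDefectClass M B g) {D : Subgroup G} (hle : D ≤ Subgroup.centralizer ({g} : Set G))
    (hcard : Nat.card D = p ^ (Nat.card (Subgroup.centralizer ({g} : Set G))).factorization p) :
    IsDefectGroup p M B D := by
  obtain ⟨S, hS⟩ := exists_sylow_map_eq hle hcard
  exact ⟨g, hg, S, hS.symm⟩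

theorem exists_defectGroup [Fact p.Prime] {B : Set (IrrCharacter G)} (hB : IsPBlock M B) :
    ∃ D, IsDefectGroup p M B D := by
  obtain ⟨g, hg⟩ := exists_defectClass hB
  exact ⟨_, g, hg, Classical.arbitrary _, rfl⟩

theorem card_centralizer_conj (g x : G) :
    Nat.card (Subgroup.centralizer ({x * g * x⁻¹} : Set G)) =
      Nat.card (Subgroup.centralizer ({g} : Set G)) := by
  haveI := Fintype.ofFinite G
  have h1 := CT.card_conj_class_mul_centralizer g
  have h2 := CT.card_conj_class_mul_centralizer (x * g * x⁻¹)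
  have hc : IsConj g (x * g * x⁻¹) := isConj_iff.mpr ⟨x, rfl⟩
  rw [Nat.card_congr (Equiv.subtypeEquivRight fun w =>
    (⟨fun a => hc.trans a, fun a => hc.symm.trans a⟩ :
      IsConj (x * g * x⁻¹) w ↔ IsConj g w)), ← h1] at h2
  exact Nat.eq_of_mul_eq_mul_left
    (Nat.card_pos_iff.mpr ⟨⟨⟨g, IsConj.refl g⟩⟩, inferInstance⟩) h2

theorem map_conj_le_centralizer {Q : Subgroup G} {g : G}
    (hle : Q ≤ Subgroup.centralizer ({g} : Set G)) (x : G) :
    Q.map (MulAut.conj x).toMonoidHom ≤ Subgroup.centralizer ({x * g * x⁻¹} : Set G) := by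
  intro y hy
  rw [mem_map_conj] at hy
  have e := Subgroup.mem_centralizer_singleton_iff.mp (hle hy)
  refine Subgroup.mem_centralizer_singleton_iff.mpr ?_
  calc y * (x * g * x⁻¹) = x * ((x⁻¹ * y * x) * g) * x⁻¹ := by group
    _ = x * (g * (x⁻¹ * y * x)) * x⁻¹ := by rw [e]
    _ = x * g * x⁻¹ * y := by group

theorem isDefectGroup_conj [Fact p.Prime] {B : Set (IrrCharacter G)} {D : Subgroup G}
    (hD : IsDefectGroup p M B D) (x : G) :
    IsDefectGroup p M B (D.map (MulAut.conj x).toMonoidHom) := by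
  obtain ⟨g, hg, hle, -, hcard⟩ := defectGroup_spec hD
  refine isDefectGroup_of_card (isDefectClass_congr (isConj_iff.mpr ⟨x, rfl⟩) hg)
    (map_conj_le_centralizer hle x) ?_
  rw [card_map_conj, hcard, card_centralizer_conj]

theorem conj_le_of_le_centralizer [Fact p.Prime] {D : Subgroup G} {g : G}
    (hle : D ≤ Subgroup.centralizer ({g} : Set G))
    (hcard : Nat.card D = p ^ (Nat.card (Subgroup.centralizer ({g} : Set G))).factorization p)
    {Q : Subgroup G} (hQ : IsPGroup p Q) (hQg : Q ≤ Subgroup.centralizer ({g} : Set G)) :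
    ∃ x : G, Q.map (MulAut.conj x).toMonoidHom ≤ D := by
  obtain ⟨S, hS⟩ := exists_sylow_ge hQg hQ
  obtain ⟨T, hT⟩ := exists_sylow_map_eq hle hcard
  obtain ⟨c, hc⟩ := MulAction.exists_smul_eq (Subgroup.centralizer ({g} : Set G)) S T
  refine ⟨c, fun y hy => ?_⟩
  rw [mem_map_conj] at hy
  obtain ⟨s, hs, hse⟩ := hS hy
  rw [← hT]
  refine ⟨c * s * c⁻¹, ?_, ?_⟩
  · show c * s * c⁻¹ ∈ (T : Subgroup _)
    rw [← hc, Sylow.coe_subgroup_smul]
    exact Subgroup.smul_mem_pointwise_smul _ (MulAut.conj c) _ hs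
  · simp only [Subgroup.coe_subtype, Subgroup.coe_mul, Subgroup.coe_inv] at hse ⊢
    rw [hse]
    group

/-- A `p`-subgroup centralizing an element with unit idempotent coefficient is conjugate into
every defect group. -/
theorem conj_le_defect (hM : IsPModular p M) {B : Set (IrrCharacter G)} (hB : IsPBlock M B)
    {D : Subgroup G} (hD : IsDefectGroup p M B D) {Q : Subgroup G} (hQ : IsPGroup p Q) {u : G}
    (hu : ¬ MemLocalIdeal M (blockCoeff B u)) (hQu : Q ≤ Subgroup.centralizer ({u} : Set G)) :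
    ∃ x : G, Q.map (MulAut.conj x).toMonoidHom ≤ D := by
  haveI : Fact p.Prime := ⟨hM.1⟩
  obtain ⟨g, hg, hle, -, hcard⟩ := defectGroup_spec hD
  obtain ⟨χ, hχ⟩ := block_nonempty hB
  obtain ⟨x, hx⟩ := exists_conj_le_centralizer hM hB hχ (hg.2.2 χ hχ) hu hQ hQu
  obtain ⟨y, hy⟩ := conj_le_of_le_centralizer hle hcard (isPGroup_map_conj hQ x) hx
  exact ⟨y * x, by rwa [map_conj_map_conj] at hy⟩

/-- A defect group is conjugate into the centralizer of every element with nonzero central
character. -/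
theorem defect_conj_le_centralizer (hM : IsPModular p M) {B : Set (IrrCharacter G)}
    (hB : IsPBlock M B) {D : Subgroup G} (hD : IsDefectGroup p M B D) {χ : IrrCharacter G}
    (hχ : χ ∈ B) {h : G} (hh : ¬ MemLocalIdeal M (centralChar (χ : G → ℂ) h)) :
    ∃ x : G, D.map (MulAut.conj x).toMonoidHom ≤ Subgroup.centralizer ({h} : Set G) := by
  haveI : Fact p.Prime := ⟨hM.1⟩
  obtain ⟨g, hg, hle, hDp, -⟩ := defectGroup_spec hD
  exact exists_conj_le_centralizer hM hB hχ hh hg.2.1 hDp hle

theorem defect_le_of_defect (hM : IsPModular p M) {B : Set (IrrCharacter G)} (hB : IsPBlock M B)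
    {D E : Subgroup G} (hD : IsDefectGroup p M B D) (hE : IsDefectGroup p M B E) :
    ∃ x : G, D.map (MulAut.conj x).toMonoidHom ≤ E := by
  haveI : Fact p.Prime := ⟨hM.1⟩
  obtain ⟨g, hg, hle, hDp, -⟩ := defectGroup_spec hD
  exact conj_le_defect hM hB hE hDp hg.2.1 hle

theorem card_defect_eq (hM : IsPModular p M) {B : Set (IrrCharacter G)} (hB : IsPBlock M B)
    {D E : Subgroup G} (hD : IsDefectGroup p M B D) (hE : IsDefectGroup p M B E) :
    Nat.card D = Nat.card E := by
  obtain ⟨x, hx⟩ := defect_le_of_defect hM hB hD hE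
  obtain ⟨y, hy⟩ := defect_le_of_defect hM hB hE hD
  exact le_antisymm (card_map_conj D x ▸ Subgroup.card_le_of_le hx)
    (card_map_conj E y ▸ Subgroup.card_le_of_le hy)

theorem defect_conj (hM : IsPModular p M) {B : Set (IrrCharacter G)} (hB : IsPBlock M B)
    {D E : Subgroup G} (hD : IsDefectGroup p M B D) (hE : IsDefectGroup p M B E) :
    ∃ x : G, D.map (MulAut.conj x).toMonoidHom = E := by
  obtain ⟨x, hx⟩ := defect_le_of_defect hM hB hD hE
  refine ⟨x, Subgroup.eq_of_le_of_card_ge hx ?_⟩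
  rw [card_map_conj, card_defect_eq hM hB hD hE]

/-- The Brauer map at `Q` is nonzero on the block idempotent exactly for `Q` conjugate into a
defect group. -/
theorem br_bBar_ne_zero_iff (hM : IsPModular p M) [Fact p.Prime] [CharP (Res M) p]
    {B : Set (IrrCharacter G)} (hB : IsPBlock M B) {D : Subgroup G}
    (hD : IsDefectGroup p M B D) {Q : Subgroup G} (hQ : IsPGroup p Q) :
    br Q hQ (bBar M B) ≠ 0 ↔ ∃ x : G, Q.map (MulAut.conj x).toMonoidHom ≤ D := by
  constructor
  · intro h
    rw [br_apply, ne_eq, trunc_eq_zero_iff] at h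
    push Not at h
    obtain ⟨u, hu, hu0⟩ := h
    exact conj_le_defect hM hB hD hQ ((coeff_bBar_ne_zero_iff (blockCoeff_mem_loc hB) u).mp hu0)
      (le_centralizer_singleton.mpr hu)
  · rintro ⟨x, hx⟩
    obtain ⟨g, hg, hle, -, -⟩ := defectGroup_spec hD
    refine br_bBar_ne_zero_of_coeff hM hQ hB (u := x⁻¹ * g * x) ?_ fun q hq => ?_
    · rw [← blockCoeff_congr B (isConj_iff.mpr ⟨x⁻¹, by group⟩ : IsConj g (x⁻¹ * g * x))]
      exact hg.2.1
    · have h1 : x * q * x⁻¹ ∈ D := hx (mem_map_conj.mpr (by simpa [mul_assoc] using hq))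
      have e := Subgroup.mem_centralizer_singleton_iff.mp (hle h1)
      refine Subgroup.mem_centralizer_singleton_iff.mpr ?_
      calc q * (x⁻¹ * g * x) = x⁻¹ * ((x * q * x⁻¹) * g) * x := by group
        _ = x⁻¹ * (g * (x * q * x⁻¹)) * x := by rw [e]
        _ = x⁻¹ * g * x * q := by group

/-- A local integer is in the local ideal if it times a unit is. -/
theorem memLocalIdeal_of_mul {a b : ℂ} (ha : a ∈ Loc M) (hb : b ∈ Loc M)
    (hu : ¬ MemLocalIdeal M b) (h : MemLocalIdeal M (b * a)) : MemLocalIdeal M a := by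
  have h1 : red M (⟨b, hb⟩ * ⟨a, ha⟩) = 0 := red_eq_zero_iff.mpr h
  rw [map_mul] at h1
  exact red_eq_zero_iff.mp
    ((mul_eq_zero.mp h1).resolve_left fun h2 => hu (red_eq_zero_iff.mp h2))

theorem charDegree_cast (χ : IrrCharacter G) :
    (χ : G → ℂ) 1 = (charDegree (χ : G → ℂ) : ℂ) :=
  CT.deg_eq (CT.isCharacter_of_isIrr χ.2)

theorem charDegree_pos (χ : IrrCharacter G) : 0 < charDegree (χ : G → ℂ) := CT.deg_pos χ.2

/-- Evaluating the central character: `|C(g)| χ(1) ω(g) = |G| χ(g)`. -/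
theorem centralChar_mul (χ : IrrCharacter G) (g : G) :
    (Nat.card (Subgroup.centralizer ({g} : Set G)) : ℂ) * (χ : G → ℂ) 1 *
      centralChar (χ : G → ℂ) g = (Nat.card G : ℂ) * (χ : G → ℂ) g := by
  rw [← card_centralizer_mul_class g, centralChar]
  field_simp [CT.irr_one_ne_zero χ.2]

/-- The defect of a block: every degree is divisible by `p^(a-d)`. -/
theorem le_factorization_of_defectClass (hM : IsPModular p M) {B : Set (IrrCharacter G)}
    {g : G} (hg : IsDefectClass M B g) {χ : IrrCharacter G} (hχ : χ ∈ B) :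
    (Nat.card G).factorization p ≤
      (Nat.card (Subgroup.centralizer ({g} : Set G))).factorization p +
        (charDegree (χ : G → ℂ)).factorization p := by
  by_contra hlt
  push Not at hlt
  have hp0 : (p : ℂ) ≠ 0 := Nat.cast_ne_zero.mpr hM.1.ne_zero
  set a := (Nat.card G).factorization p
  set d := (Nat.card (Subgroup.centralizer ({g} : Set G))).factorization p
  set e := (charDegree (χ : G → ℂ)).factorization p
  set n₁ := Nat.card G / p ^ a
  set n₂ := Nat.card (Subgroup.centralizer ({g} : Set G)) / p ^ d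
  set n₃ := charDegree (χ : G → ℂ) / p ^ e
  obtain ⟨t, ht⟩ : ∃ t, a = d + e + (t + 1) := ⟨a - (d + e) - 1, by omega⟩
  have key : ((n₂ * n₃ : ℕ) : ℂ) * centralChar (χ : G → ℂ) g =
      (p : ℂ) * ((p : ℂ) ^ t * (n₁ : ℂ) * (χ : G → ℂ) g) := by
    apply mul_left_cancel₀ (pow_ne_zero (d + e) hp0)
    have h := centralChar_mul χ g
    rw [charDegree_cast, ← Nat.ordProj_mul_ordCompl_eq_self (Nat.card G) p,
      ← Nat.ordProj_mul_ordCompl_eq_self (Nat.card (Subgroup.centralizer ({g} : Set G))) p,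
      ← Nat.ordProj_mul_ordCompl_eq_self (charDegree (χ : G → ℂ)) p] at h
    push_cast at h ⊢
    change (p : ℂ) ^ d * (n₂ : ℂ) * ((p : ℂ) ^ e * (n₃ : ℂ)) * _ =
      (p : ℂ) ^ a * (n₁ : ℂ) * _ at h
    rw [ht] at h
    linear_combination h
  have hmem : ((p : ℂ) ^ t * (n₁ : ℂ) * (χ : G → ℂ) g) ∈ Loc M :=
    mul_mem (mul_mem (pow_mem (natCast_mem _ p) t) (natCast_mem _ _))
      (integral_mem_loc (isIntegral_irr χ.2 g))
  have h1 : MemLocalIdeal M (((n₂ * n₃ : ℕ) : ℂ) * centralChar (χ : G → ℂ) g) := by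
    rw [key, mul_comm]
    exact memLocalIdeal_mul_left hmem ((memLocalIdeal_natCast hM p).mpr dvd_rfl)
  refine hg.2.2 χ hχ (memLocalIdeal_of_mul (integral_mem_loc (isIntegral_centralChar χ.2 g))
    (natCast_mem _ _) (fun hI => ?_) h1)
  rcases hM.1.dvd_mul.mp ((memLocalIdeal_natCast hM _).mp hI) with h | h
  · exact Nat.not_dvd_ordCompl hM.1 Nat.card_pos.ne' h
  · exact Nat.not_dvd_ordCompl hM.1 (charDegree_pos χ).ne' h

/-- Some degree in the block has `p`-part at most `p^(a-d)`. -/
theorem exists_factorization_le (hM : IsPModular p M) {B : Set (IrrCharacter G)}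
    (hB : IsPBlock M B) {g : G} (hg : IsDefectClass M B g) :
    ∃ χ ∈ B, (Nat.card (Subgroup.centralizer ({g} : Set G))).factorization p +
      (charDegree (χ : G → ℂ)).factorization p ≤ (Nat.card G).factorization p := by
  classical
  haveI : Fact p.Prime := ⟨hM.1⟩
  haveI := Fintype.ofFinite G
  by_contra hne
  push Not at hne
  set a := (Nat.card G).factorization p with ha
  set d := (Nat.card (Subgroup.centralizer ({g} : Set G))).factorization p
  have hd : d ≤ a :=
    (Nat.factorization_le_iff_dvd Nat.card_pos.ne' Nat.card_pos.ne').mpr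
      (Subgroup.card_subgroup_dvd_card _) p
  obtain ⟨e, he⟩ : ∃ e, a = d + e := ⟨a - d, by omega⟩
  have hdvd : ∀ χ ∈ B, p ^ (e + 1) ∣ charDegree (χ : G → ℂ) := fun χ hχ =>
    (pow_dvd_pow p (by have := hne χ hχ; omega)).trans (Nat.ordProj_dvd _ p)
  have hreg := regular_of_defectClass hM hB hg
  let c : IrrCharacter G → ℂ := fun χ =>
    if χ ∈ B then ((charDegree (χ : G → ℂ) / p ^ (e + 1) : ℕ) : ℂ) *
      conj (centralChar (χ : G → ℂ) g) else 0
  have hp0 : (p : ℂ) ≠ 0 := Nat.cast_ne_zero.mpr hM.1.ne_zero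
  set i : ℂ := ((Subgroup.centralizer ({g} : Set G)).index : ℂ) with hi
  have hc : ∀ χ ∈ B, c χ * (p : ℂ) ^ (e + 1) = i * conj ((χ : G → ℂ) g) := fun χ hχ => by
    obtain ⟨n, hn⟩ := hdvd χ hχ
    simp only [c, if_pos hχ, hn, Nat.mul_div_cancel_left _ (pow_pos hM.1.pos (e + 1)),
      centralChar, map_div₀, map_mul, map_natCast, charDegree_cast, hi]
    have hn0 : (n : ℂ) ≠ 0 := by
      have := charDegree_pos χ
      rw [hn] at this
      exact Nat.cast_ne_zero.mpr (Nat.pos_of_mul_pos_left this).ne'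
    push_cast
    field_simp
  obtain ⟨n, hn, hw⟩ := exists_eq_pow_mul (G := G) (M := M) hM.1 c (fun χ => by
      simp only [c]
      split_ifs
      · exact mul_mem (natCast_mem _ _)
          (integral_mem_loc (CT.isIntegral_conj (isIntegral_centralChar χ.2 g)))
      · exact zero_mem _) fun u hu => by
    have h0 := weak_orthogonality' hM (blockCoeff_mem_loc hB) hu hreg
    rw [finsum_mem_irr] at h0
    apply mul_left_cancel₀ (pow_ne_zero (e + 1) hp0)
    refine Eq.trans ?_ (Eq.trans (congrArg (i * ·) h0) (by simp))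
    simp only [Finset.mul_sum]
    refine Finset.sum_congr rfl fun χ _ => ?_
    by_cases hχ : χ ∈ B
    · rw [if_pos hχ]; linear_combination ((χ : G → ℂ) u) * hc χ hχ
    · simp [c, hχ]
  have hsum : i * ((Nat.card G : ℂ) * blockCoeff B g) =
      (p : ℂ) ^ (e + 1) * ((p : ℂ) ^ a * ∑ χ, c χ * (n χ : ℂ)) := by
    rw [ha, ← hn, blockCoeff, mul_inv_cancel_left₀ (CT.card_ne_zero (G := G)), finsum_mem_irr]
    simp only [Finset.mul_sum]
    refine Finset.sum_congr rfl fun χ _ => ?_
    by_cases hχ : χ ∈ B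
    · rw [if_pos hχ]; linear_combination (-(χ : G → ℂ) 1) * hc χ hχ
    · simp [c, hχ]
  set m := Nat.card G / p ^ a
  have hidx : (Subgroup.centralizer ({g} : Set G)).index.factorization p = e := by
    have h1 := congrArg (fun N => N.factorization p)
      (Subgroup.centralizer ({g} : Set G)).index_mul_card
    simp only [Nat.factorization_mul Subgroup.index_ne_zero_of_finite Nat.card_pos.ne',
      Finsupp.coe_add, Pi.add_apply] at h1
    omega
  set i' := (Subgroup.centralizer ({g} : Set G)).index / p ^ e with hi'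
  have hii : i = (p : ℂ) ^ e * (i' : ℂ) := by
    have := Nat.ordProj_mul_ordCompl_eq_self (Subgroup.centralizer ({g} : Set G)).index p
    rw [hidx] at this
    rw [hi, ← this]
    push_cast
    rfl
  have key : ((i' * m : ℕ) : ℂ) * blockCoeff B g = (p : ℂ) * ∑ χ, c χ * (n χ : ℂ) := by
    apply mul_left_cancel₀ (pow_ne_zero (e + a) hp0)
    have hG : (Nat.card G : ℂ) = (p : ℂ) ^ a * (m : ℂ) := by
      exact_mod_cast (Nat.ordProj_mul_ordCompl_eq_self (Nat.card G) p).symm
    rw [hii, hG] at hsum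
    push_cast
    linear_combination hsum
  refine hg.2.1 (memLocalIdeal_of_mul (b := ((i' * m : ℕ) : ℂ)) hg.1 (natCast_mem _ _)
    (fun hI => ?_) ?_)
  · rcases hM.1.dvd_mul.mp ((memLocalIdeal_natCast hM _).mp hI) with h | h
    · refine Nat.not_dvd_ordCompl hM.1 Subgroup.index_ne_zero_of_finite
        (n := (Subgroup.centralizer ({g} : Set G)).index) ?_
      rwa [hidx]
    · exact Nat.not_dvd_ordCompl hM.1 Nat.card_pos.ne' h
  · rw [key, mul_comm]
    exact memLocalIdeal_mul_left hw ((memLocalIdeal_natCast hM p).mpr dvd_rfl)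

theorem blockDefect_eq (hM : IsPModular p M) {B : Set (IrrCharacter G)}
    (hB : IsPBlock M B) {g : G} (hg : IsDefectClass M B g) :
    blockDefect p B = (Nat.card (Subgroup.centralizer ({g} : Set G))).factorization p := by
  obtain ⟨χ, hχ, hle⟩ := exists_factorization_le hM hB hg
  have h1 := le_factorization_of_defectClass hM hg hχ
  have hinf : sInf ((fun χ : IrrCharacter G => (charDegree (χ : G → ℂ)).factorization p) '' B) =
      (charDegree (χ : G → ℂ)).factorization p := by
    refine le_antisymm (Nat.sInf_le ⟨χ, hχ, rfl⟩)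
      (le_csInf ⟨_, χ, hχ, rfl⟩ ?_)
    rintro _ ⟨ψ, hψ, rfl⟩
    have h2 := le_factorization_of_defectClass hM hg hψ
    show _ ≤ (charDegree (ψ : G → ℂ)).factorization p
    omega
  rw [blockDefect, hinf]
  omega

theorem card_defectGroup (hM : IsPModular p M) {B : Set (IrrCharacter G)} (hB : IsPBlock M B)
    {D : Subgroup G} (hD : IsDefectGroup p M B D) : Nat.card D = p ^ blockDefect p B := by
  haveI : Fact p.Prime := ⟨hM.1⟩
  obtain ⟨g, hg, -, -, hcard⟩ := defectGroup_spec hD
  rw [hcard, blockDefect_eq hM hB hg]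

end Cfsg.Agent.Blocks
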