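import Cfsg.Agent.Lib.Blocks.Subgroup
import Cfsg.Agent.Lib.Blocks.Defect

/-!
# Blocks of the centralizer of a `p`-subgroup and the blocks they induce
-/

namespace Cfsg.Agent.Blocks

open MonoidAlgebra

universe u

variable {G : Type u} [Group G] [Finite G] {p : ℕ} {M : Ideal AlgInt} [M.IsPrime]

set_option linter.unusedSectionVars false

theorem indBar_centralizer (hM : IsPModular p M) [Fact p.Prime] [CharP (Res M) p] {Q : Subgroup G}
    (hQ : IsPGroup p Q) (ξ : IrrCharacter (Subgroup.centralizer (Q : Set G))) (a : ZG (Res M) G) :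
    indBar M (Subgroup.centralizer (Q : Set G)) ξ a =
      omegaBar M ξ (brH Q (Subgroup.centralizer (Q : Set G)) hQ le_rfl
        (Subgroup.centralizer_le_normalizer _) a) := by
  rw [indBar_apply]
  refine congrArg _ (Subtype.ext (MonoidAlgebra.ext (Finsupp.ext fun u => ?_)))
  rw [coe_resZ, coe_brH, coeff_resH, coeff_resH, coeff_trunc_of_mem _ u.2]

/-- Every block of a centralizer of a `p`-subgroup induces a block. -/
theorem exists_inducedBlock_centralizer (hM : IsPModular p M) {Q : Subgroup G} (hQ : IsPGroup p Q)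
    {f : Set (IrrCharacter (Subgroup.centralizer (Q : Set G)))} (hf : IsPBlock M f) :
    ∃ B, IsInducedBlock M (Subgroup.centralizer (Q : Set G)) f B := by
  haveI : Fact p.Prime := ⟨hM.1⟩
  haveI := charP_res hM
  obtain ⟨ξ, hξ⟩ := block_nonempty hf
  obtain ⟨χ, hχ⟩ := exists_eq_omegaBar hM ((omegaBar M ξ).comp
      (brH Q (Subgroup.centralizer (Q : Set G)) hQ le_rfl (Subgroup.centralizer_le_normalizer _)))
    fun c => by rw [RingHom.comp_apply, brH_scalarZ, omegaBar_scalarZ]
  refine ⟨_, isInducedBlock_blockOf (χ := χ) hf hξ fun a => ?_⟩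
  rw [indBar_centralizer hM hQ, ← hχ, RingHom.comp_apply]

/-- A block of a centralizer induces `B` exactly when its central character at the restricted
idempotent of `B` is `1`. -/
theorem isInducedBlock_centralizer_iff (hM : IsPModular p M) {Q : Subgroup G} (hQ : IsPGroup p Q)
    {f : Set (IrrCharacter (Subgroup.centralizer (Q : Set G)))} (hf : IsPBlock M f)
    {B : Set (IrrCharacter G)} (hB : IsPBlock M B)
    {ξ : IrrCharacter (Subgroup.centralizer (Q : Set G))} (hξ : ξ ∈ f) :
    IsInducedBlock M (Subgroup.centralizer (Q : Set G)) f B ↔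
      omegaBar M ξ (resZ (Subgroup.centralizer (Q : Set G)) (bBar M B)) = 1 := by
  obtain ⟨B', hB'⟩ := exists_inducedBlock_centralizer hM hQ hf
  obtain ⟨χ', hχ'⟩ := block_nonempty hB'.2.1
  constructor
  · intro h
    obtain ⟨χ, hχ⟩ := block_nonempty hB
    rw [← indBar_apply, indBar_eq_of_isInducedBlock h hξ hχ, omegaBar_bBar_eq_one hB hχ]
  · intro h
    rw [← indBar_apply, indBar_eq_of_isInducedBlock hB' hξ hχ',
      omegaBar_bBar (blockCoeff_mem_loc hB)] at h
    have hmem : χ' ∈ B := by
      by_contra hc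
      rw [if_neg hc] at h
      exact zero_ne_one h
    exact block_eq_of_mem hB'.2.1 hB hχ' hmem ▸ hB'

end Cfsg.Agent.Blocks
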