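import Cfsg.Agent.Lib.Blocks.Subsection
import Cfsg.Agent.Lib.Blocks.InducedCentralizer
import Cfsg.Agent.Lib.BrauerPairs.Pairs

/-!
# Counting the characters of a block over its subsections
-/

namespace Cfsg.Agent.Blocks

open scoped ComplexConjugate

universe u

variable {G : Type u} [Group G] [Fintype G] {p : ℕ} {M : Ideal AlgInt}

set_option linter.unusedSectionVars false

open Classical in
/-- The elements whose `p`-part is `x` are the products of `x` with regular elements of `C(x)`. -/
theorem sum_section (hp : p.Prime) {x : G} (hx : ∃ k : ℕ, x ^ p ^ k = 1)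
    [Fintype (Subgroup.centralizer ({x} : Set G))] (F : G → ℂ) :
    ∑ g ∈ Finset.univ.filter (fun g : G => IsPPart p g x), F g =
      ∑ v ∈ Finset.univ.filter (fun v : Subgroup.centralizer ({x} : Set G) => ¬ p ∣ orderOf v),
        F (x * (v : G)) := by
  haveI := Fact.mk hp
  symm
  refine Finset.sum_bij (fun v _ => x * (v : G)) (fun v hv => ?_) (fun v _ w _ h => ?_)
    (fun g hg => ?_) (fun v _ => rfl)
  · refine Finset.mem_filter.mpr ⟨Finset.mem_univ _,
      isPPart_mk (Subgroup.mem_centralizer_singleton_iff.mp v.2).symm hx ?_⟩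
    rw [Subgroup.orderOf_coe]
    exact (Finset.mem_filter.mp hv).2
  · exact Subtype.ext (mul_left_cancel h)
  · obtain ⟨y, hy, hc, hk, hreg⟩ := (Finset.mem_filter.mp hg).2
    refine ⟨⟨y, Subgroup.mem_centralizer_singleton_iff.mpr hc.symm.eq⟩,
      Finset.mem_filter.mpr ⟨Finset.mem_univ _, ?_⟩, hy⟩
    rw [Subgroup.orderOf_mk]
    exact hreg

open Classical in
/-- A class function averaged over the group, along the sections of representatives of the
classes of `p`-elements. -/
theorem sum_sections (hp : p.Prime) {X : Finset G} (hX : ∀ x ∈ X, ∃ k : ℕ, orderOf x = p ^ k)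
    (hrep : ∀ g : G, (∃ k : ℕ, orderOf g = p ^ k) → ∃! x, x ∈ X ∧ IsConj g x)
    {F : G → ℂ} (hF : ∀ g c : G, F (c * g * c⁻¹) = F g) :
    (Nat.card G : ℂ)⁻¹ * ∑ g : G, F g = ∑ x ∈ X,
      (Nat.card (Subgroup.centralizer ({x} : Set G)) : ℂ)⁻¹ *
        ∑ v ∈ Finset.univ.filter (fun v : Subgroup.centralizer ({x} : Set G) => ¬ p ∣ orderOf v),
          F (x * (v : G)) := by
  haveI := Fact.mk hp
  choose π hπ using fun g : G => exists_isPPart (p := p) g
  have hpow : ∀ g, ∃ k : ℕ, orderOf (π g) = p ^ k := fun g => by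
    obtain ⟨k, hk⟩ := ppart_pow_eq_one (hπ g).1
    obtain ⟨j, -, hj⟩ := (Nat.dvd_prime_pow hp).mp (orderOf_dvd_of_pow_eq_one hk)
    exact ⟨j, hj⟩
  choose τ hτ hτu using fun g : G => hrep (π g) (hpow g)
  have hfib : ∀ x ∈ X, ∑ g ∈ Finset.univ.filter (fun g : G => τ g = x), F g =
      (Nat.card {z : G // IsConj x z} : ℂ) *
        ∑ g ∈ Finset.univ.filter (fun g : G => IsPPart p g x), F g := by
    intro x hx
    have hmem : ∀ g, τ g = x ↔ IsConj x (π g) := fun g =>
      ⟨fun h => h ▸ (hτ g).2.symm, fun h => ((hτu g x ⟨hx, h.symm⟩)).symm⟩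
    have hS : ∀ z ∈ Finset.univ.filter (fun z : G => IsConj x z),
        ∑ g ∈ Finset.univ.filter (fun g : G => τ g = x) with π g = z, F g =
          ∑ g ∈ Finset.univ.filter (fun g : G => IsPPart p g x), F g := by
      intro z hz
      obtain ⟨c, rfl⟩ := isConj_iff.mp (Finset.mem_filter.mp hz).2
      refine Finset.sum_bij (fun g _ => c⁻¹ * g * c) (fun g hg => ?_)
        (fun g _ g' _ h => mul_left_cancel (mul_right_cancel h)) (fun g hg => ?_) (fun g _ => ?_)
      · have h2 := ppart_conj (hπ g).1 c⁻¹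
        rw [(Finset.mem_filter.mp hg).2, inv_inv, show c⁻¹ * (c * x * c⁻¹) * c = x by group] at h2
        exact Finset.mem_filter.mpr ⟨Finset.mem_univ _, h2⟩
      · have h2 := ppart_conj (Finset.mem_filter.mp hg).2 c
        have h3 : π (c * g * c⁻¹) = c * x * c⁻¹ := ppart_unique (hπ _).1 h2
        refine ⟨c * g * c⁻¹, Finset.mem_filter.mpr ⟨Finset.mem_filter.mpr ⟨Finset.mem_univ _,
          (hmem _).mpr (h3 ▸ isConj_iff.mpr ⟨c, rfl⟩)⟩, h3⟩, ?_⟩
        group
      · have := hF g c⁻¹
        rwa [inv_inv, eq_comm] at this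
    rw [← Finset.sum_fiberwise_of_maps_to (g := π) (t := Finset.univ.filter fun z : G => IsConj x z)
      (fun g hg => Finset.mem_filter.mpr ⟨Finset.mem_univ _, (hmem g).mp (Finset.mem_filter.mp hg).2⟩),
      Finset.sum_congr rfl hS, Finset.sum_const, nsmul_eq_mul, Nat.card_eq_fintype_card,
      Fintype.card_subtype]
  rw [← Finset.sum_fiberwise_of_maps_to (g := τ) (t := X) (fun g _ => (hτ g).1), Finset.mul_sum]
  refine Finset.sum_congr rfl fun x hx => ?_
  obtain ⟨k, hk⟩ := hX x hx
  rw [hfib x hx, sum_section hp ⟨k, hk ▸ pow_orderOf_eq_one x⟩ F, ← mul_assoc]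
  congr 1
  rw [← CT.card_conj_class_mul_centralizer x, Nat.cast_mul]
  have h1 : (Nat.card {z : G // IsConj x z} : ℂ) ≠ 0 := Nat.cast_ne_zero.mpr
    (Nat.card_pos_iff.mpr ⟨⟨⟨x, IsConj.refl x⟩⟩, inferInstance⟩).ne'
  field_simp

variable {y : G} [Fintype (Subgroup.centralizer ({y} : Set G))] [M.IsPrime]

/-- The regular part of the translate of `χ` at `y`. -/
noncomputable def secFun (p : ℕ) (χ : IrrCharacter G) (y : G) :
    Subgroup.centralizer ({y} : Set G) → ℂ :=
  fun c => by classical exact if p ∣ orderOf c then 0 else (χ : G → ℂ) (y * (c : G))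

theorem secFun_class (χ : IrrCharacter G) :
    IsClassFunction (Subgroup.centralizer ({y} : Set G)) (secFun p χ y) := by
  classical
  intro g h
  have e := isClassFunction_translate χ y g h
  simp only at e
  have ho : orderOf (h * g * h⁻¹) = orderOf g := by rw [← MulAut.conj_apply, MulEquiv.orderOf_eq]
  simp only [secFun, ho, e]

open Classical in
/-- For a character of `B` the blocks of `C(y)` inducing `B` carry the whole regular translate. -/
theorem sum_gB_blocks (hM : IsPModular p M) (hy : ∃ k : ℕ, y ^ p ^ k = 1)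
    {B : Set (IrrCharacter G)} (hB : IsPBlock M B) {χ : IrrCharacter G} (hχ : χ ∈ B) :
    ∑ b ∈ Finset.univ.filter (fun b : Set (IrrCharacter (Subgroup.centralizer ({y} : Set G))) =>
        IsInducedBlock M (Subgroup.centralizer ({y} : Set G)) b B),
      ∑ η, conj (gB p b χ η) * gB p b χ η =
        classInner (secFun p χ y) (secFun p χ y) := by
  haveI : Fact p.Prime := ⟨hM.1⟩
  set c : IrrCharacter (Subgroup.centralizer ({y} : Set G)) → ℂ := fun η => classInner (secFun p χ y) (η : Subgroup.centralizer ({y} : Set G) → ℂ) with hc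
  have hg : ∀ (b : Set (IrrCharacter (Subgroup.centralizer ({y} : Set G)))), IsPBlock M b → ∀ η,
      gB p b χ η = if η ∈ b then c η else 0 := fun b hb η => by
    rw [gB_eq hM hb χ η]
    rfl
  have hQ := isPGroup_zpowers (p := p) hy
  have hCQ := centralizer_zpowers_eq y
  have hCN : (Subgroup.centralizer ({y} : Set G)) ≤ Subgroup.normalizer ((Subgroup.zpowers y : Subgroup G) : Set G) := by
    rw [← hCQ]; exact Subgroup.centralizer_le_normalizer _
  have hzero : ∀ η : IrrCharacter (Subgroup.centralizer ({y} : Set G)),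
      ¬ IsInducedBlock M (Subgroup.centralizer ({y} : Set G)) (blockOf M (η : Subgroup.centralizer ({y} : Set G) → ℂ)) B → c η = 0 := by
    intro η hn
    obtain ⟨B', hB'⟩ := exists_inducedBlock hM hQ
      (Subgroup.zpowers_le.mpr (Subgroup.mem_centralizer_singleton_iff.mpr rfl)) hCQ.le hCN
      (isPBlock_blockOf (M := M) η)
    have hne : χ ∉ B' := fun h => hn (block_eq_of_mem hB'.2.1 hB h hχ ▸ hB')
    have h := gB_eq_zero hM hy hB' hne η
    rwa [hg _ (isPBlock_blockOf η), if_pos (self_mem_blockOf η)] at h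
  rw [Finset.sum_comm]
  conv_rhs => rw [CT.classFunction_eq_sum (secFun_class (p := p) (y := y) χ), CT.classInner_sum_left]
  refine Finset.sum_congr rfl fun η _ => ?_
  rw [CT.classInner_smul_left]
  have hrev : classInner (η : Subgroup.centralizer ({y} : Set G) → ℂ)
      (∑ χ' : IrrCharacter (Subgroup.centralizer ({y} : Set G)), classInner (secFun p χ y) (χ' : Subgroup.centralizer ({y} : Set G) → ℂ) • (χ' : Subgroup.centralizer ({y} : Set G) → ℂ)) = conj (c η) := by
    rw [← CT.classFunction_eq_sum (secFun_class (p := p) (y := y) χ), CT.classInner_conj_symm]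
  rw [hrev]
  by_cases hi : IsInducedBlock M (Subgroup.centralizer ({y} : Set G)) (blockOf M (η : Subgroup.centralizer ({y} : Set G) → ℂ)) B
  · rw [Finset.sum_eq_single_of_mem (blockOf M (η : Subgroup.centralizer ({y} : Set G) → ℂ))
      (Finset.mem_filter.mpr ⟨Finset.mem_univ _, hi⟩) (fun b hb hne => ?_)]
    · rw [hg _ hi.1, if_pos (self_mem_blockOf η), mul_comm]
    · have hb' := (Finset.mem_filter.mp hb).2.1
      rw [hg b hb', if_neg fun h => hne (block_eq_blockOf hb' h), map_zero, zero_mul]
  · refine (Finset.sum_eq_zero fun b hb => ?_).trans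
      (by rw [show classInner (secFun p χ y) (η : Subgroup.centralizer ({y} : Set G) → ℂ) = 0 from hzero η hi, zero_mul])
    have hb' := (Finset.mem_filter.mp hb).2
    by_cases h : η ∈ b
    · rw [hg b hb'.1, if_pos h, hzero η hi, mul_zero]
    · rw [hg b hb'.1, if_neg h, mul_zero]

/-- The rank of a block inducing `B`, as a sum over the characters of `B`. -/
theorem blockRank_eq_sum_gB (hM : IsPModular p M) (hy : ∃ k : ℕ, y ^ p ^ k = 1)
    {b : Set (IrrCharacter (Subgroup.centralizer ({y} : Set G)))} {B : Set (IrrCharacter G)}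
    (hind : IsInducedBlock M (Subgroup.centralizer ({y} : Set G)) b B) :
    (blockRank p b : ℂ) = ∑ᶠ χ ∈ B, ∑ η, conj (gB p b χ η) * gB p b χ η := by
  classical
  rw [finsum_mem_irr, ← sum_bfPair_self hM hind.1]
  have e1 : ∀ η : IrrCharacter (Subgroup.centralizer ({y} : Set G)),
      (if η ∈ b then bfPair p η η else 0) = ∑ χ : IrrCharacter G, conj (gB p b χ η) * gB p b χ η :=
    fun η => (sum_gB hM hy hind.1 η η).symm
  rw [Finset.sum_congr rfl fun η _ => e1 η, Finset.sum_comm]
  refine Finset.sum_congr rfl fun χ _ => ?_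
  by_cases hχ : χ ∈ B
  · rw [if_pos hχ]
  · rw [if_neg hχ]
    exact Finset.sum_eq_zero fun η _ => by rw [gB_eq_zero hM hy hind hχ η, mul_zero]

/-- Brauer's count of the characters of a block by subsections. -/
theorem card_block_eq_sum_rank (hM : IsPModular p M) {B : Set (IrrCharacter G)} (hB : IsPBlock M B)
    {X : Finset G} (hX : ∀ x ∈ X, ∃ k : ℕ, orderOf x = p ^ k)
    (hrep : ∀ g : G, (∃ k : ℕ, orderOf g = p ^ k) → ∃! x, x ∈ X ∧ IsConj g x) :
    Nat.card B = ∑ x ∈ X, ∑ᶠ b ∈ {b : Set (IrrCharacter ↥(Subgroup.centralizer ({x} : Set G))) |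
      IsInducedBlock M (Subgroup.centralizer ({x} : Set G)) b B}, blockRank p b := by
  classical
  apply Nat.cast_injective (R := ℂ)
  rw [Nat.cast_sum]
  have hx : ∀ x ∈ X, ((∑ᶠ b ∈ {b : Set (IrrCharacter ↥(Subgroup.centralizer ({x} : Set G))) |
      IsInducedBlock M (Subgroup.centralizer ({x} : Set G)) b B}, blockRank p b : ℕ) : ℂ) =
      ∑ χ ∈ Finset.univ.filter (fun χ : IrrCharacter G => χ ∈ B),
        (Nat.card (Subgroup.centralizer ({x} : Set G)) : ℂ)⁻¹ *
          ∑ v ∈ Finset.univ.filter (fun v : Subgroup.centralizer ({x} : Set G) => ¬ p ∣ orderOf v),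
            (χ : G → ℂ) (x * (v : G)) * conj ((χ : G → ℂ) (x * (v : G))) := by
    intro x hxX
    letI := Fintype.ofFinite (Subgroup.centralizer ({x} : Set G))
    obtain ⟨k, hk⟩ := hX x hxX
    have hxk : ∃ k : ℕ, x ^ p ^ k = 1 := ⟨k, hk ▸ pow_orderOf_eq_one x⟩
    rw [finsum_mem_eq_finite_toFinset_sum _ (Set.toFinite _), Nat.cast_sum]
    have e : ∀ b ∈ (Set.toFinite {b : Set (IrrCharacter ↥(Subgroup.centralizer ({x} : Set G))) |
        IsInducedBlock M (Subgroup.centralizer ({x} : Set G)) b B}).toFinset,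
        (blockRank p b : ℂ) = ∑ χ ∈ Finset.univ.filter (fun χ : IrrCharacter G => χ ∈ B),
          ∑ η, conj (gB p b χ η) * gB p b χ η := fun b hb => by
      have hb' : IsInducedBlock M (Subgroup.centralizer ({x} : Set G)) b B := by simpa using hb
      rw [blockRank_eq_sum_gB hM hxk hb', finsum_mem_irr, Finset.sum_filter]
    rw [Finset.sum_congr rfl e, Finset.sum_comm]
    refine Finset.sum_congr rfl fun χ hχ => ?_
    rw [show (Set.toFinite {b : Set (IrrCharacter ↥(Subgroup.centralizer ({x} : Set G))) |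
        IsInducedBlock M (Subgroup.centralizer ({x} : Set G)) b B}).toFinset =
        Finset.univ.filter (fun b : Set (IrrCharacter ↥(Subgroup.centralizer ({x} : Set G))) =>
          IsInducedBlock M (Subgroup.centralizer ({x} : Set G)) b B) by ext b; simp,
      sum_gB_blocks hM hxk hB (Finset.mem_filter.mp hχ).2, classInner, Finset.sum_filter]
    congr 1
    refine Finset.sum_congr (by ext; simp) fun v _ => ?_
    simp only [secFun]
    by_cases hv : p ∣ orderOf v <;> simp [hv]
  rw [Finset.sum_congr rfl hx, Finset.sum_comm, Nat.card_eq_fintype_card,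
    Fintype.card_subtype, Finset.card_eq_sum_ones, Nat.cast_sum]
  refine Finset.sum_congr rfl fun χ _ => ?_
  rw [← sum_sections hM.1 hX hrep (F := fun g => (χ : G → ℂ) g * conj ((χ : G → ℂ) g))
    (fun g c => by rw [isClassFn_irr χ g c]), Nat.cast_one, ← CT.irr_inner_self χ.2]
  rfl

/-- A Brauer pair on a cyclic group gives an induced block of the centralizer. -/
theorem isInducedBlock_of_brauerPair (hM : IsPModular p M) {Q : Subgroup G}
    {e : Set (IrrCharacter (Subgroup.centralizer (Q : Set G)))} {B : Set (IrrCharacter G)}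
    (h : IsBrauerPairOf p M B Q e) : IsInducedBlock M (Subgroup.centralizer (Q : Set G)) e B := by
  obtain ⟨hQ, he, hB, hocc⟩ := BPairs.isBrauerPairOf_iff.mp h
  obtain ⟨ξ, hξ⟩ := block_nonempty he
  refine (isInducedBlock_centralizer_iff hM hQ he hB hξ).mpr ?_
  rw [← hocc ξ hξ, BPairs.val_eq_omegaBar Q ξ (resH_mem_center _ (bBar M B).2)]
  rfl

open Classical in
/-- The regular squared norm of the `b`-parts of the translates of the characters of `B`. -/
theorem sum_regular_blockPart {u : G} (hM : IsPModular p M) (hu : ∃ k : ℕ, u ^ p ^ k = 1)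
    (C : Subgroup G) (hC : Subgroup.centralizer ({u} : Set G) = C) [Fintype C]
    {b : Set (IrrCharacter C)} {B : Set (IrrCharacter G)} (hind : IsInducedBlock M C b B) :
    ∑ᶠ χ ∈ B, ∑ s : C,
      (if p ∣ orderOf s then (0 : ℂ) else blockPart b (fun c : C => (χ : G → ℂ) (u * (c : G))) s *
        conj (blockPart b (fun c : C => (χ : G → ℂ) (u * (c : G))) s)) =
      (Nat.card C : ℂ) * (blockRank p b : ℂ) := by
  subst hC
  rw [blockRank_eq_sum_gB hM hu hind, finsum_mem_irr, finsum_mem_irr, Finset.mul_sum]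
  refine Finset.sum_congr rfl fun χ _ => ?_
  by_cases hχB : χ ∈ B
  swap
  · rw [if_neg hχB, if_neg hχB, mul_zero]
  rw [if_pos hχB, if_pos hχB]
  set h : Subgroup.centralizer ({u} : Set G) → ℂ := fun s =>
    if p ∣ orderOf s then (0 : ℂ) else
      blockPart b (fun c : Subgroup.centralizer ({u} : Set G) => (χ : G → ℂ) (u * (c : G))) s
    with hh
  have hexp : h = ∑ η', secC b χ η' • regFun p η' := by
    funext c
    simp only [hh, Finset.sum_apply, Pi.smul_apply, smul_eq_mul, regFun]
    by_cases hc : p ∣ orderOf c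
    · simp [hc]
    simp only [if_neg hc, blockPart]
    rw [Subsingleton.elim (Fintype.ofFinite _) ‹Fintype (Subgroup.centralizer ({u} : Set G))›,
      finsum_mem_irr]
    refine Finset.sum_congr rfl fun η' _ => ?_
    by_cases h' : η' ∈ b
    · rw [if_pos h', secC, if_pos h', translate_eq, CT.classInner_sum_left,
        Finset.sum_eq_single η']
      · rw [CT.classInner_smul_left, CT.irr_inner_self η'.2, mul_one]
      · intro η'' _ hne
        rw [CT.classInner_smul_left, CT.irr_inner_subtype, if_neg hne, mul_zero]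
      · simp
    · rw [if_neg h', secC, if_neg h', zero_mul]
  have hcl : IsClassFunction (Subgroup.centralizer ({u} : Set G)) h := by
    rw [hexp]
    intro g k
    simp only [Finset.sum_apply, Pi.smul_apply, regFun_class (p := p) _ g k]
  have hcoef : ∀ η : IrrCharacter (Subgroup.centralizer ({u} : Set G)),
      classInner h (η : Subgroup.centralizer ({u} : Set G) → ℂ) = gB p b χ η := fun η => by
    rw [hexp, CT.classInner_sum_left]
    exact Finset.sum_congr rfl fun η' _ => CT.classInner_smul_left _ _ _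
  have hl : ∑ s, (if p ∣ orderOf s then (0 : ℂ) else
      blockPart b (fun c : Subgroup.centralizer ({u} : Set G) => (χ : G → ℂ) (u * (c : G))) s *
        conj (blockPart b (fun c : Subgroup.centralizer ({u} : Set G) => (χ : G → ℂ) (u * (c : G))) s)) =
      (Nat.card (Subgroup.centralizer ({u} : Set G)) : ℂ) * classInner h h := by
    rw [classInner, mul_inv_cancel_left₀ CT.card_ne_zero]
    refine Finset.sum_congr rfl fun s _ => ?_
    simp only [hh]
    split_ifs <;> simp
  rw [hl]
  congr 1
  conv_lhs => rw [CT.classFunction_eq_sum hcl, CT.classInner_sum_left]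
  refine Finset.sum_congr rfl fun η _ => ?_
  rw [CT.classInner_smul_left, ← CT.classFunction_eq_sum hcl, ← CT.classInner_conj_symm h,
    hcoef, mul_comm]

end Cfsg.Agent.Blocks
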