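import Cfsg.Agent.Lib.Blocks.Idempotent
import Mathlib.LinearAlgebra.Trace
import Mathlib.LinearAlgebra.Matrix.NonsingularInverse
import Mathlib.LinearAlgebra.Matrix.Nondegenerate

/-!
# Dimensions of reduced blocks

The reduction of a block algebra has dimension the sum of the squares of the degrees, and its
centre has dimension at most the number of characters.
-/

set_option linter.unusedSectionVars false

namespace Cfsg.Agent.Blocks

open scoped ComplexConjugate
open MonoidAlgebra Module

universe u v w

variable {G : Type u} [Group G] [Fintype G] {p : ℕ} {M : Ideal AlgInt} [M.IsPrime]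

open Classical in
/-- Local vectors with independent reductions are independent. -/
theorem linearIndependent_of_red {ι : Type v} {κ : Type w} [Fintype ι] [Fintype κ] (f : ι → κ → Loc M)
    (h : LinearIndependent (Res M) fun i k => red M (f i k)) :
    LinearIndependent ℂ fun i k => (f i k : ℂ) := by
  set L := Fintype.linearCombination (Res M) fun i k => red M (f i k) with hL
  obtain ⟨g, hg⟩ := LinearMap.exists_leftInverse_of_injective L
    (LinearMap.ker_eq_bot.mpr (by
      intro a b hab
      rw [← sub_eq_zero, ← map_sub] at hab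
      simp only [L, Fintype.linearCombination_apply] at hab
      exact funext fun i => sub_eq_zero.mp (Fintype.linearIndependent_iff.mp h _ hab i)))
  choose W hW using fun (k : κ) (i : ι) => red_surjective (M := M) (g (Pi.single k 1) i)
  set D : Matrix ι ι (Loc M) := Matrix.of fun i i' => ∑ k, f i k * W k i' with hD
  have hDred : D.map (red M) = 1 := by
    refine Matrix.ext fun i i' => ?_
    have h1 : g (L (Pi.single i 1)) = Pi.single i 1 := LinearMap.congr_fun hg _
    simp only [L, Fintype.linearCombination_apply_single, one_smul] at h1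
    have h2 : (fun k => red M (f i k)) = ∑ k, red M (f i k) • Pi.single k (1 : Res M) := by
      ext k; simp [Pi.single_apply]
    rw [h2, map_sum] at h1
    have h3 := congrFun h1 i'
    simp only [map_smul, Finset.sum_apply, Pi.smul_apply, smul_eq_mul] at h3
    rw [Matrix.map_apply, hD, Matrix.of_apply, map_sum, Matrix.one_apply]
    simp only [map_mul, hW]
    rw [h3, Pi.single_apply]
    simp [eq_comm]
  have hdet : (D.map (Subtype.val : Loc M → ℂ)).det ≠ 0 := by
    intro h0
    have h1 : ((D.det : Loc M) : ℂ) = 0 := by
      rw [← h0]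
      exact RingHom.map_det (Subring.subtype (Loc M)) D
    have h2 : red M D.det = 1 := by
      rw [RingHom.map_det]
      show (D.map (red M)).det = 1
      rw [hDred, Matrix.det_one]
    rw [Subtype.ext (h1.trans (Subring.coe_zero (Loc M)).symm), map_zero] at h2
    exact zero_ne_one h2
  refine Fintype.linearIndependent_iff.mpr fun c hc => congrFun ?_
  refine Matrix.eq_zero_of_vecMul_eq_zero hdet ?_
  funext i'
  simp only [Matrix.vecMul, dotProduct, Matrix.map_apply, hD, Matrix.of_apply]
  have : ∀ i, ((∑ k, f i k * W k i' : Loc M) : ℂ) = ∑ k, (f i k : ℂ) * (W k i' : ℂ) := fun i => by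
    simp
  simp only [this, Finset.mul_sum]
  rw [Finset.sum_comm]
  refine Finset.sum_eq_zero fun k _ => ?_
  have hk := congrFun hc k
  simp only [Finset.sum_apply, Pi.smul_apply, smul_eq_mul, Pi.zero_apply] at hk
  simp only [← mul_assoc, ← Finset.sum_mul, hk, zero_mul]

open Classical in
/-- Reduction does not increase the dimension of a span. -/
theorem finrank_span_red_le {ι : Type v} [Finite ι] {κ : Type w} [Fintype κ] (f : ι → κ → Loc M) :
    finrank (Res M) (Submodule.span (Res M) (Set.range fun i k => red M (f i k))) ≤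
      finrank ℂ (Submodule.span ℂ (Set.range fun i k => (f i k : ℂ))) := by
  haveI := Fintype.ofFinite ι
  obtain ⟨κ', a, ha, hspan, hli⟩ := exists_linearIndependent' (Res M) fun i k => red M (f i k)
  haveI : Finite κ' := Finite.of_injective a ha
  haveI := Fintype.ofFinite κ'
  rw [← hspan, finrank_span_eq_card hli]
  refine le_trans (le_of_eq (finrank_span_eq_card (linearIndependent_of_red (f ∘ a) hli)).symm) ?_
  exact Submodule.finrank_mono (Submodule.span_mono (Set.range_comp_subset_range a fun i k => (f i k : ℂ)))

/-- The coefficient map. -/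
noncomputable def coeffFun (R : Type v) [CommRing R] (G : Type u) [Group G] [Fintype G] :
    MonoidAlgebra R G ≃ₗ[R] (G → R) :=
  (MonoidAlgebra.coeffLinearEquiv R).trans (Finsupp.linearEquivFunOnFinite R R G)

theorem coeffFun_apply (R : Type v) [CommRing R] (a : MonoidAlgebra R G) (u : G) :
    coeffFun R G a u = a.coeff u := rfl

theorem range_mulLeft_eq_span {R : Type v} [CommRing R] (a : MonoidAlgebra R G) :
    LinearMap.range (LinearMap.mulLeft R a) = Submodule.span R (Set.range fun g => a * single g 1) := by
  refine le_antisymm ?_ (Submodule.span_le.mpr ?_)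
  · rintro _ ⟨x, rfl⟩
    rw [LinearMap.mulLeft_apply, eq_sum_single x, Finset.mul_sum]
    refine Submodule.sum_mem _ fun g _ => ?_
    rw [show single g (x.coeff g) = x.coeff g • single g (1 : R) by simp, mul_smul_comm]
    exact Submodule.smul_mem _ _ (Submodule.subset_span ⟨g, rfl⟩)
  · rintro _ ⟨g, rfl⟩
    exact ⟨_, rfl⟩

theorem finrank_span_coeffFun {R : Type v} [Field R] {ι : Type w} (f : ι → MonoidAlgebra R G) :
    finrank R (Submodule.span R (Set.range f)) =
      finrank R (Submodule.span R (Set.range fun i => coeffFun R G (f i))) := by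
  rw [show (fun i => coeffFun R G (f i)) = coeffFun R G ∘ f from rfl, Set.range_comp,
    ← LinearEquiv.coe_toLinearMap, Submodule.span_image, LinearEquiv.finrank_map_eq]

theorem finrank_range_red_le (a : MonoidAlgebra (Loc M) G) :
    finrank (Res M) (LinearMap.range (LinearMap.mulLeft (Res M) (redG M G a))) ≤
      finrank ℂ (LinearMap.range (LinearMap.mulLeft ℂ (toC M G a))) := by
  have h1 : (fun g => coeffFun (Res M) G (redG M G a * single g 1)) =
      fun g u => red M ((a * single g (1 : Loc M)).coeff u) := by
    funext g u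
    rw [coeffFun_apply, ← coeff_map' (red M), map_mul]
    simp
  have h2 : (fun g => coeffFun ℂ G (toC M G a * single g 1)) =
      fun g u => (((a * single g (1 : Loc M)).coeff u : Loc M) : ℂ) := by
    funext g u
    rw [coeffFun_apply, show (single g (1 : ℂ)) = toC M G (single g (1 : Loc M)) by simp, ← map_mul,
      coeff_map']
    rfl
  rw [range_mulLeft_eq_span, range_mulLeft_eq_span, finrank_span_coeffFun, finrank_span_coeffFun,
    h1, h2]
  set F : G → G → Loc M := fun g u => (a * single g (1 : Loc M)).coeff u with hF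
  have := finrank_span_red_le F
  exact this

/-- The trace of a left multiplication on the group algebra. -/
theorem trace_mulLeft (a : MonoidAlgebra ℂ G) :
    LinearMap.trace ℂ _ (LinearMap.mulLeft ℂ a) = (Fintype.card G : ℂ) * a.coeff 1 := by
  classical
  rw [LinearMap.trace_eq_matrix_trace ℂ (MonoidAlgebra.basis G ℂ), Matrix.trace]
  rw [Finset.sum_eq_card_nsmul (b := a.coeff 1) fun g _ => ?_]
  · simp [nsmul_eq_mul]
  · have hb : MonoidAlgebra.basis G ℂ g = single g 1 := by simp
    rw [Matrix.diag_apply, LinearMap.toMatrix_apply, LinearMap.mulLeft_apply, hb]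
    show (a * single g (1 : ℂ)).coeff g = a.coeff 1
    rw [coeff_mul_single', mul_inv_cancel, mul_one]

/-- An idempotent cuts a summand of dimension the group order times its coefficient at one. -/
theorem finrank_range_idem {a : MonoidAlgebra ℂ G} (ha : a * a = a) :
    (finrank ℂ (LinearMap.range (LinearMap.mulLeft ℂ a)) : ℂ) = (Fintype.card G : ℂ) * a.coeff 1 := by
  have hproj : LinearMap.IsProj (LinearMap.range (LinearMap.mulLeft ℂ a)) (LinearMap.mulLeft ℂ a) :=
    ⟨fun x => ⟨x, rfl⟩, fun x hx => by
      obtain ⟨y, rfl⟩ := hx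
      simp [← mul_assoc, ha]⟩
  rw [← hproj.trace, trace_mulLeft]

theorem card_le_finrank_add {R : Type v} [Field R] (a : MonoidAlgebra R G) :
    Fintype.card G ≤ finrank R (LinearMap.range (LinearMap.mulLeft R a)) +
      finrank R (LinearMap.range (LinearMap.mulLeft R (1 - a))) := by
  haveI : FiniteDimensional R (MonoidAlgebra R G) := Module.Finite.of_basis (MonoidAlgebra.basis G R)
  rw [← Module.finrank_eq_card_basis (MonoidAlgebra.basis G R), ← finrank_top R (MonoidAlgebra R G)]
  refine le_trans (Submodule.finrank_mono fun x _ => ?_) (Submodule.finrank_add_le_finrank_add_finrank _ _)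
  have : x = a * x + (1 - a) * x := by rw [← add_mul, add_sub_cancel, one_mul]
  rw [this]
  exact Submodule.add_mem_sup ⟨x, rfl⟩ ⟨x, rfl⟩

open Classical in
/-- The dimension of a reduced block algebra. -/
theorem finrank_bBar {B : Set (IrrCharacter G)} (hB : IsPBlock M B) :
    (finrank (Res M) (LinearMap.range (LinearMap.mulLeft (Res M)
      (bBar M B : MonoidAlgebra (Res M) G))) : ℂ) =
      ∑ χ : IrrCharacter G, if χ ∈ B then (χ : G → ℂ) 1 ^ 2 else 0 := by
  have hA := blockCoeff_mem_loc hB
  set b : MonoidAlgebra (Loc M) G := (bIdem M B : MonoidAlgebra (Loc M) G) with hb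
  have hbb : b * b = b := congrArg Subtype.val (bIdem_mul_self hA)
  have h1 := finrank_range_red_le b
  have h2 := finrank_range_red_le (1 - b)
  have hc := card_le_finrank_add (redG M G b)
  rw [map_sub, map_one] at h2
  rw [map_sub, map_one] at h2
  have hC1 : toC M G b * toC M G b = toC M G b := by rw [← map_mul, hbb]
  have e1 := finrank_range_idem hC1
  have e2 := finrank_range_idem (a := 1 - toC M G b) (by rw [mul_sub, sub_mul, sub_mul, one_mul, one_mul, mul_one, hC1, sub_self, sub_zero])
  rw [MonoidAlgebra.coeff_sub, Finsupp.sub_apply, MonoidAlgebra.coeff_one_one, mul_sub, mul_one, ← e1] at e2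
  have hsum : finrank ℂ (LinearMap.range (LinearMap.mulLeft ℂ (toC M G b))) +
      finrank ℂ (LinearMap.range (LinearMap.mulLeft ℂ (1 - toC M G b))) = Fintype.card G := by
    have : ((finrank ℂ (LinearMap.range (LinearMap.mulLeft ℂ (toC M G b))) +
      finrank ℂ (LinearMap.range (LinearMap.mulLeft ℂ (1 - toC M G b))) : ℕ) : ℂ) =
        (Fintype.card G : ℂ) := by rw [Nat.cast_add, e2]; ring
    exact_mod_cast this
  have heq : finrank (Res M) (LinearMap.range (LinearMap.mulLeft (Res M) (redG M G b))) =
      finrank ℂ (LinearMap.range (LinearMap.mulLeft ℂ (toC M G b))) := by omega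
  have hbar : (bBar M B : MonoidAlgebra (Res M) G) = redG M G b := rfl
  rw [hbar, heq, e1, toC_bIdem hA, idemC, coeff_ofFun, blockCoeff, finsum_mem_irr,
    ← mul_assoc, ← Nat.card_eq_fintype_card, mul_inv_cancel₀ CT.card_ne_zero, one_mul]
  refine Finset.sum_congr rfl fun χ _ => ?_
  split_ifs
  · rw [CT.deg_eq (CT.isCharacter_of_isIrr χ.2)]; simp [pow_two]
  · rfl

/-- The centre of a reduced block. -/
noncomputable def centerSpan (M : Ideal AlgInt) [M.IsPrime] (B : Set (IrrCharacter G)) :
    Submodule (Res M) (MonoidAlgebra (Res M) G) :=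
  Submodule.span (Res M) (Set.range fun g : G =>
    ((bBar M B * classSumZ (Res M) g : ZG (Res M) G) : MonoidAlgebra (Res M) G))

theorem mem_centerSpan {B : Set (IrrCharacter G)} {c : MonoidAlgebra (Res M) G}
    (hc : ∀ x, c * x = x * c) (hce : c * (bBar M B : MonoidAlgebra (Res M) G) = c) :
    c ∈ centerSpan M B := by
  classical
  have hsum : c = ∑ K : ConjClasses G, c.coeff (rep K) • classSum (Res M) (rep K) :=
    eq_sum_classSum (Subring.mem_center_iff.mpr fun x => (hc x).symm)
  rw [← hce, ← (Subring.mem_center_iff.mp (bBar M B).2 c).symm, hsum, Finset.mul_sum]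
  refine Submodule.sum_mem _ fun K _ => ?_
  rw [mul_smul_comm]
  exact Submodule.smul_mem _ _ (Submodule.subset_span ⟨rep K, rfl⟩)

open Classical in
/-- The centre of a reduced block has dimension at most the number of characters. -/
theorem finrank_centerSpan_le {B : Set (IrrCharacter G)} (hB : IsPBlock M B) :
    finrank (Res M) (centerSpan M B) ≤ Nat.card B := by
  have hA := blockCoeff_mem_loc hB
  let v : G → ZG (Loc M) G := fun g => bIdem M B * classSumZ (Loc M) g
  have hred : ∀ g, ((bBar M B * classSumZ (Res M) g : ZG (Res M) G) : MonoidAlgebra (Res M) G) =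
      redG M G (v g : MonoidAlgebra (Loc M) G) := by
    intro g
    rw [← redZ_classSumZ]
    show (redZ M G (bIdem M B) * redZ M G (classSumZ (Loc M) g) : ZG (Res M) G).1 = _
    rw [← map_mul]
    rfl
  rw [centerSpan, finrank_span_coeffFun]
  rw [show (fun g => coeffFun (Res M) G
      ((bBar M B * classSumZ (Res M) g : ZG (Res M) G) : MonoidAlgebra (Res M) G)) =
      fun g u => red M ((v g : MonoidAlgebra (Loc M) G).coeff u) by
    funext g u
    rw [coeffFun_apply, hred, coeff_map']]
  refine (finrank_span_red_le (fun g u => (v g : MonoidAlgebra (Loc M) G).coeff u)).trans ?_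
  -- central elements of the block are seen by its central characters
  let Λ : (G → ℂ) →ₗ[ℂ] ({χ : IrrCharacter G // χ ∈ B} → ℂ) :=
    { toFun := fun f χ => omega (χ.1 : G → ℂ) (ofFun f)
      map_add' := fun f f' => by
        ext χ
        simp only [Pi.add_apply]
        rw [← omega_add]
        congr 1
        ext u
        simp
      map_smul' := fun r f => by
        ext χ
        simp only [Pi.smul_apply, smul_eq_mul, RingHom.id_apply]
        rw [← omega_smul]
        congr 1
        ext u
        simp }
  set S := Submodule.span ℂ (Set.range fun g u => (((v g : MonoidAlgebra (Loc M) G).coeff u : Loc M) : ℂ))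
  have hS : ∀ f ∈ S, (ofFun f : MonoidAlgebra ℂ G) ∈ Subring.center (MonoidAlgebra ℂ G) ∧
      ∀ χ : IrrCharacter G, χ ∉ B → omega (χ : G → ℂ) (ofFun f) = 0 := by
    intro f hf
    induction hf using Submodule.span_induction with
    | mem f hf =>
      obtain ⟨g, rfl⟩ := hf
      have e : ofFun (fun u => (((v g : MonoidAlgebra (Loc M) G).coeff u : Loc M) : ℂ)) =
          toC M G (v g : MonoidAlgebra (Loc M) G) := by
        ext u
        rw [coeff_ofFun, coeff_map']
        rfl
      rw [e]
      refine ⟨mem_center_map _ (v g).2, fun χ hχ => ?_⟩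
      show omega (χ : G → ℂ) (toC M G ((bIdem M B : MonoidAlgebra (Loc M) G) * _)) = 0
      rw [map_mul, omega_mul χ.2 (mem_center_map _ (bIdem M B).2), toC_bIdem hA, omega_idemC,
        if_neg hχ, zero_mul]
    | zero =>
      have e : (ofFun (0 : G → ℂ) : MonoidAlgebra ℂ G) = 0 := by ext u; simp
      rw [e]
      exact ⟨Subring.zero_mem _, fun χ _ => omega_zero _⟩
    | add f f' _ _ h h' =>
      have e : (ofFun (f + f') : MonoidAlgebra ℂ G) = ofFun f + ofFun f' := by ext u; simp
      rw [e]
      exact ⟨Subring.add_mem _ h.1 h'.1, fun χ hχ => by rw [omega_add, h.2 χ hχ, h'.2 χ hχ, add_zero]⟩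
    | smul r f _ h =>
      have e : (ofFun (r • f) : MonoidAlgebra ℂ G) = r • ofFun f := by ext u; simp
      rw [e]
      refine ⟨Subring.mem_center_iff.mpr fun x => ?_, fun χ hχ => by rw [omega_smul, h.2 χ hχ, mul_zero]⟩
      rw [mul_smul_comm, smul_mul_assoc, Subring.mem_center_iff.mp h.1 x]
  have hinj : Function.Injective (Λ.comp S.subtype) := by
    intro a b hab
    refine Subtype.ext (funext fun u => ?_)
    have : (ofFun (a : G → ℂ) : MonoidAlgebra ℂ G) = ofFun (b : G → ℂ) := by
      refine central_ext (hS a a.2).1 (hS b b.2).1 fun χ => ?_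
      by_cases hχ : χ ∈ B
      · exact congrFun hab ⟨χ, hχ⟩
      · rw [(hS a a.2).2 χ hχ, (hS b b.2).2 χ hχ]
    simpa using congrArg (fun x : MonoidAlgebra ℂ G => x.coeff u) this
  refine (LinearMap.finrank_le_finrank_of_injective hinj).trans ?_
  rw [Module.finrank_pi, Nat.card_eq_fintype_card]

end Cfsg.Agent.Blocks
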