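import Cfsg.Agent.Lib.Blocks.BrauerChar
import Cfsg.Agent.Lib.Blocks.Orthogonality

/-!
# Brauer characters of a block

The simple components of a block, the rank of the block as their number, and the divisibility of
the degrees of the projective characters.
-/

set_option autoImplicit false
set_option linter.unusedSectionVars false

namespace Cfsg.Agent.Blocks

open MonoidAlgebra SplitAlg
open scoped ComplexConjugate

universe u

variable {G : Type u} [Group G] [Fintype G] {p : ℕ} {M : Ideal AlgInt} [M.IsPrime]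
variable (Sp : GSplit M G) {B : Set (IrrCharacter G)}

open Classical in
/-- The simple components in a set of characters. -/
noncomputable def inBlk (B : Set (IrrCharacter G)) : Finset (Fin Sp.r) :=
  Finset.univ.filter fun i =>
    redG M G (bIdem M B : MonoidAlgebra (Loc M) G) * Sp.prim i = Sp.prim i

open Classical in
theorem dec_cases (hM : IsPModular p M) (hA : ∀ u, blockCoeff B u ∈ Loc M) (χ : IrrCharacter G)
    (i : Fin Sp.r) : (i ∈ inBlk Sp B → χ ∉ B → dec Sp χ i = 0) ∧
      (i ∉ inBlk Sp B → χ ∈ B → dec Sp χ i = 0) := by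
  obtain ⟨ε, hε, hεr⟩ := exists_lift_idem hM (Sp.prim_idem i)
  obtain ⟨F, hF⟩ : ∃ F, F = (bIdem M B : MonoidAlgebra (Loc M) G) := ⟨_, rfl⟩
  have hFF : F * F = F := hF ▸ congrArg Subtype.val (bIdem_mul_self hA)
  have hFc : ∀ a, F * a = a * F := fun a =>
    hF ▸ (Subring.mem_center_iff.mp (bIdem M B).2 a).symm
  have hFε : (F * ε) * (F * ε) = F * ε := by
    rw [hFc ε, mul_assoc, ← mul_assoc F ε F, hFc ε, mul_assoc ε F F, hFF, ← mul_assoc, hε]
  have hval : ((ev (charL M χ) (F * ε) : Loc M) : ℂ) =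
      if χ ∈ B then ((ev (charL M χ) ε : Loc M) : ℂ) else 0 := by
    rw [coe_ev, coe_ev, map_mul, hF, toC_bIdem hA]
    simp only [coe_charL]
    rw [ev_idemC_mul]
  have e1 := coe_ev_idem hM χ hFε
  rw [hval] at e1
  have hdec : ((ev (charL M χ) ε : Loc M) : ℂ) = (dec Sp χ i : ℂ) := by
    rw [coe_ev_idem hM χ hε, hεr, dec]
  constructor
  · intro hi hχ
    rw [if_neg hχ, map_mul, hF, hεr, (Finset.mem_filter.mp hi).2] at e1
    exact_mod_cast e1.symm
  · intro hi hχ
    have h0 : redG M G (F * ε) = 0 := by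
      refine (Sp.eq_prim_or_zero (i := i) (f := redG M G (F * ε)) (by rw [← map_mul, hFε])
        (by rw [← hεr, ← map_mul, mul_assoc, hε])
        (by rw [← hεr, ← map_mul, hFc ε, ← mul_assoc, hε])).resolve_right fun h => hi ?_
      rw [map_mul, hεr, hF] at h
      exact Finset.mem_filter.mpr ⟨Finset.mem_univ _, h⟩
    rw [if_pos hχ, hdec, h0] at e1
    have e2 := coe_ev_idem hM χ (zero_mul (0 : MonoidAlgebra (Loc M) G))
    rw [map_zero, show ev (charL M χ) (0 : MonoidAlgebra (Loc M) G) = 0 by simp [ev]] at e2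
    rw [← e2] at e1
    exact_mod_cast e1

open Classical in
theorem irr_eq_sum_blk (hM : IsPModular p M) (hA : ∀ u, blockCoeff B u ∈ Loc M)
    {χ : IrrCharacter G} (hχ : χ ∈ B) {g : G} (hg : ¬ p ∣ orderOf g) :
    (χ : G → ℂ) g = ∑ i ∈ inBlk Sp B, (dec Sp χ i : ℂ) * phiB Sp g i := by
  rw [irr_eq_sum_phi Sp hM χ hg]
  refine (Finset.sum_subset (Finset.subset_univ _) fun i _ hi => ?_).symm
  rw [(dec_cases Sp hM hA χ i).2 hi hχ]
  simp

open Classical in
theorem phi_eq_sum_blk (hM : IsPModular p M) [Fact p.Prime] (hA : ∀ u, blockCoeff B u ∈ Loc M)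
    {i : Fin Sp.r} (hi : i ∈ inBlk Sp B) {g : G} (hg : ¬ p ∣ orderOf g) :
    phiB Sp g i = ∑ χ ∈ Finset.univ.filter (· ∈ B),
      classInner (theta Sp p i) (χ : G → ℂ) * (χ : G → ℂ) g := by
  rw [Finset.sum_congr rfl (fun χ hχ => by
    rw [irr_eq_sum_blk Sp hM hA (Finset.mem_filter.mp hχ).2 hg, Finset.mul_sum]), Finset.sum_comm]
  have h : ∀ k ∈ inBlk Sp B, ∑ χ ∈ Finset.univ.filter (· ∈ B),
      classInner (theta Sp p i) (χ : G → ℂ) * ((dec Sp χ k : ℂ) * phiB Sp g k) =
      if k = i then phiB Sp g k else 0 := by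
    intro k hk
    rw [Finset.sum_filter_of_ne (fun χ _ h => by
      by_contra hB
      rw [(dec_cases Sp hM hA χ k).1 hk hB] at h
      simp at h)]
    simp only [← mul_assoc, ← Finset.sum_mul, sum_theta_dec Sp hM]
    split_ifs <;> simp
  rw [Finset.sum_congr rfl h, Finset.sum_ite_eq', if_pos hi]

open Classical in
/-- The rank of a union of blocks is the number of its simple components. -/
theorem blockRank_eq_card (hM : IsPModular p M) (hA : ∀ u, blockCoeff B u ∈ Loc M) :
    blockRank p B = (inBlk Sp B).card := by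
  haveI := Fact.mk hM.1
  let v : inBlk Sp B → G → ℂ := fun i g => if ¬ p ∣ orderOf g then phiB Sp g i.1 else 0
  have hind : LinearIndependent ℂ v := by
    rw [Fintype.linearIndependent_iff]
    intro c hc i
    let c' : Fin Sp.r → ℂ := fun k => if h : k ∈ inBlk Sp B then c ⟨k, h⟩ else 0
    have h0 : c' = 0 := phi_independent Sp hM fun g hg => by
      have h := congrFun hc g
      simp only [v, Finset.sum_apply, Pi.smul_apply, smul_eq_mul, if_pos hg, Pi.zero_apply] at h
      rw [← h, ← Finset.sum_subset (Finset.subset_univ (inBlk Sp B)) fun k _ hk => by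
        simp [c', hk], ← Finset.sum_coe_sort]
      exact Finset.sum_congr rfl fun k _ => by simp [c', k.2]
    simpa [c', i.2] using congrFun h0 i.1
  have hspan : Submodule.span ℂ (Set.range v) =
      Submodule.span ℂ ((fun χ : IrrCharacter G => pRegularPart p (χ : G → ℂ)) '' B) := by
    refine le_antisymm (Submodule.span_le.mpr ?_) (Submodule.span_le.mpr ?_)
    · rintro _ ⟨i, rfl⟩
      have e : v i = ∑ χ ∈ Finset.univ.filter (· ∈ B),
          classInner (theta Sp p i.1) (χ : G → ℂ) • pRegularPart p (χ : G → ℂ) := by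
        funext g
        simp only [v, Finset.sum_apply, Pi.smul_apply, smul_eq_mul, pRegularPart, IsPRegular]
        by_cases hg : ¬ p ∣ orderOf g
        · simp only [hg, not_false_eq_true, if_true]
          exact phi_eq_sum_blk Sp hM hA i.2 hg
        · simp [not_not.mp hg]
      rw [e]
      exact Submodule.sum_mem _ fun χ hχ => Submodule.smul_mem _ _
        (Submodule.subset_span ⟨χ, (Finset.mem_filter.mp hχ).2, rfl⟩)
    · rintro _ ⟨χ, hχ, rfl⟩
      have e : pRegularPart p (χ : G → ℂ) = ∑ i : inBlk Sp B, (dec Sp χ i.1 : ℂ) • v i := by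
        funext g
        simp only [v, Finset.sum_apply, Pi.smul_apply, smul_eq_mul, pRegularPart, IsPRegular]
        by_cases hg : ¬ p ∣ orderOf g
        · simp only [hg, not_false_eq_true, if_true]
          rw [irr_eq_sum_blk Sp hM hA hχ hg, ← Finset.sum_coe_sort]
        · simp [not_not.mp hg]
      rw [SetLike.mem_coe]
      dsimp only
      rw [e]
      exact Submodule.sum_mem _ fun i _ => Submodule.smul_mem _ _
        (Submodule.subset_span ⟨i, rfl⟩)
  rw [blockRank, ← hspan, finrank_span_eq_card hind, Fintype.card_coe]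

/-- The degree of the projective character of a simple component. -/
noncomputable def projDeg (i : Fin Sp.r) : ℕ :=
  ∑ χ : IrrCharacter G, charDegree (χ : G → ℂ) * dec Sp χ i

theorem projDeg_pos (hM : IsPModular p M) (i : Fin Sp.r) : 0 < projDeg Sp i := by
  obtain ⟨χ, hχ⟩ := exists_dec_ne_zero Sp hM i
  refine Finset.sum_pos' (fun _ _ => Nat.zero_le _) ⟨χ, Finset.mem_univ _, ?_⟩
  exact Nat.mul_pos (charDegree_pos χ) (Nat.pos_of_ne_zero hχ)

theorem pow_dvd_projDeg (hM : IsPModular p M) (i : Fin Sp.r) :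
    p ^ (Nat.card G).factorization p ∣ projDeg Sp i := by
  classical
  haveI := Fact.mk hM.1
  obtain ⟨ε, hε, hεr⟩ := exists_lift_idem hM (Sp.prim_idem i)
  have hval : (projDeg Sp i : ℂ) = (Nat.card G : ℂ) * (ε.coeff 1 : ℂ) := by
    have h : ∀ χ : IrrCharacter G, ((charDegree (χ : G → ℂ) * dec Sp χ i : ℕ) : ℂ) =
        ∑ u : G, (ε.coeff u : ℂ) * ((χ : G → ℂ) u * conj ((χ : G → ℂ) 1)) := fun χ => by
      rw [Nat.cast_mul, ← charDegree_cast, dec, ← hεr, ← coe_ev_idem hM χ hε, ev_eq_sum,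
        AddSubmonoidClass.coe_finset_sum, Finset.mul_sum]
      refine Finset.sum_congr rfl fun u _ => ?_
      rw [Subring.coe_mul, coe_charL, charDegree_cast χ, map_natCast]
      ring
    rw [projDeg, Nat.cast_sum, Finset.sum_congr rfl fun χ _ => h χ, Finset.sum_comm]
    simp only [← Finset.mul_sum, CT.column_orthogonality]
    rw [Finset.sum_eq_single (1 : G)]
    · rw [if_pos (IsConj.refl 1),
        show Subgroup.centralizer ({1} : Set G) = ⊤ by ext x; simp [Subgroup.mem_centralizer_iff],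
        Subgroup.card_top, mul_comm]
    · intro u _ hu
      rw [if_neg fun h => hu (isConj_one_left.mp h), mul_zero]
    · simp
  set a := (Nat.card G).factorization p
  have hG : (Nat.card G : ℂ) = (p : ℂ) ^ a * ((Nat.card G / p ^ a : ℕ) : ℂ) := by
    exact_mod_cast (Nat.ordProj_mul_ordCompl_eq_self (Nat.card G) p).symm
  obtain ⟨w, hw⟩ := exists_int_of_pow_mul hM
    (x := ((Nat.card G / p ^ a : ℕ) : ℂ) * (ε.coeff 1 : ℂ))
    (mul_mem (natCast_mem _ _) (ε.coeff 1).2) a (projDeg Sp i : ℤ)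
    (by rw [← mul_assoc, ← hG, ← hval]; simp)
  have e : ((projDeg Sp i : ℤ) : ℂ) = (((p : ℤ) ^ a * w : ℤ) : ℂ) := by
    push_cast
    rw [hval, hG, mul_assoc, hw]
  exact Int.natCast_dvd_natCast.mp ⟨w, by exact_mod_cast e⟩

open Classical in
theorem projDeg_eq_sum_blk (hM : IsPModular p M) (hA : ∀ u, blockCoeff B u ∈ Loc M) {i : Fin Sp.r}
    (hi : i ∈ inBlk Sp B) : projDeg Sp i =
      ∑ χ ∈ Finset.univ.filter (· ∈ B), charDegree (χ : G → ℂ) * dec Sp χ i := by
  refine (Finset.sum_subset (Finset.filter_subset _ _) fun χ _ hχ => ?_).symm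
  rw [(dec_cases Sp hM hA χ i).1 hi (by simpa using hχ), mul_zero]

open Classical in
theorem sum_deg_sq_blk (hM : IsPModular p M) (hA : ∀ u, blockCoeff B u ∈ Loc M) :
    ∑ χ ∈ Finset.univ.filter (· ∈ B), charDegree (χ : G → ℂ) ^ 2 =
      ∑ i ∈ inBlk Sp B, Sp.d i * projDeg Sp i := by
  haveI := Fact.mk hM.1
  have h1 : ∀ χ ∈ Finset.univ.filter (· ∈ B), charDegree (χ : G → ℂ) ^ 2 =
      ∑ i ∈ inBlk Sp B, Sp.d i * (charDegree (χ : G → ℂ) * dec Sp χ i) := by
    intro χ hχ
    have h := irr_eq_sum_blk Sp hM hA (Finset.mem_filter.mp hχ).2 (g := 1)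
      (by rw [orderOf_one]; exact hM.1.not_dvd_one)
    simp only [phiB_one Sp hM, charDegree_cast] at h
    have hn : charDegree (χ : G → ℂ) = ∑ i ∈ inBlk Sp B, dec Sp χ i * Sp.d i := by exact_mod_cast h
    rw [pow_two]
    nth_rewrite 2 [hn]
    rw [Finset.mul_sum]
    exact Finset.sum_congr rfl fun i _ => by ring
  rw [Finset.sum_congr rfl h1, Finset.sum_comm]
  refine Finset.sum_congr rfl fun i hi => ?_
  rw [projDeg_eq_sum_blk Sp hM hA hi, Finset.mul_sum]

open Classical in
/-- A common divisor of the degrees of a block divides the degrees of its Brauer characters. -/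
theorem dvd_deg_brauer (hM : IsPModular p M) (hA : ∀ u, blockCoeff B u ∈ Loc M) {g : ℕ}
    (hg : ∀ χ ∈ B, g ∣ charDegree (χ : G → ℂ)) {i : Fin Sp.r} (hi : i ∈ inBlk Sp B) :
    g ∣ Sp.d i := by
  haveI := Fact.mk hM.1
  have h := phi_eq_sum_blk Sp hM hA hi (g := 1) (by rw [orderOf_one]; exact hM.1.not_dvd_one)
  choose a ha using fun χ : IrrCharacter G => exists_int_theta_inner Sp hM i χ
  rw [phiB_one Sp hM] at h
  have e : ((Sp.d i : ℤ) : ℂ) =
      ((∑ χ ∈ Finset.univ.filter (· ∈ B), a χ * (charDegree (χ : G → ℂ) : ℤ) : ℤ) : ℂ) := by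
    push_cast
    rw [h]
    exact Finset.sum_congr rfl fun χ _ => by rw [ha χ, charDegree_cast]
  refine Int.natCast_dvd_natCast.mp ?_
  rw [show (Sp.d i : ℤ) = _ from Int.cast_injective e]
  exact Finset.dvd_sum fun χ hχ =>
    (Int.natCast_dvd_natCast.mpr (hg χ (Finset.mem_filter.mp hχ).2)).mul_left _

omit [M.IsPrime] in
/-- A generalized character vanishing at singular elements has degree divisible by the Sylow
order. -/
theorem pow_dvd_of_vanish [Fact p.Prime] {f : G → ℂ} (hf : IsGeneralizedCharacter G f)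
    (h0 : ∀ g : G, p ∣ orderOf g → f g = 0) {z : ℤ} (hz : f 1 = z) :
    ((p ^ (Nat.card G).factorization p : ℕ) : ℤ) ∣ z := by
  classical
  obtain ⟨P⟩ : Nonempty (Sylow p G) := inferInstance
  obtain ⟨m, hm⟩ := CT.isGen_inner_int (CT.isGen_restrict (P : Subgroup G) hf)
    (CT.isGen_of_isCharacter (CT.isCharacter_one (G := (P : Subgroup G))))
  rw [classInner, Finset.sum_eq_single (1 : (P : Subgroup G))] at hm
  · rw [OneMemClass.coe_one, hz, map_one, mul_one,
      inv_mul_eq_iff_eq_mul₀ (Nat.cast_ne_zero.mpr Nat.card_pos.ne')] at hm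
    refine ⟨m, ?_⟩
    rw [← P.card_eq_multiplicity]
    exact_mod_cast hm
  · intro x _ hx
    obtain ⟨k, hk⟩ := IsPGroup.iff_orderOf.mp P.2 x
    have hk0 : k ≠ 0 := fun h => hx (orderOf_eq_one_iff.mp (by rw [hk, h, pow_zero]))
    rw [h0 x (by rw [Subgroup.orderOf_coe, hk]; exact dvd_pow_self p hk0), zero_mul]
  · simp

end Cfsg.Agent.Blocks
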