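import Cfsg.Agent.Lib.Blocks.UnramRing
import Cfsg.Agent.Lib.Blocks.Brauer
import Cfsg.Agent.Lib.BrauerPairs.Elem
import Mathlib.RingTheory.Nakayama
import Mathlib.RingTheory.OrzechProperty
import Mathlib.RingTheory.FiniteType
import Mathlib.RingTheory.IntegralClosure.IsIntegralClosure.Basic
import Mathlib.NumberTheory.Basic

/-!
# Lifting idempotents of the residue group algebra, and congruences of their traces
-/

namespace Cfsg.Agent.Blocks

open MonoidAlgebra

universe u

variable {G : Type u} [Group G] [Finite G] {p : ℕ} {M : Ideal AlgInt} [M.IsPrime]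

set_option linter.unusedSectionVars false

theorem finite_monoidAlgebra_loc : Module.Finite (Loc M) (MonoidAlgebra (Loc M) G) := by
  haveI := Fintype.ofFinite G
  exact Module.Finite.of_surjective
    (Fintype.linearCombination (Loc M) (fun g : G => single g (1 : Loc M))) fun a => by
      refine ⟨fun g => a.coeff g, ?_⟩
      rw [Fintype.linearCombination_apply]
      conv_rhs => rw [eq_sum_single a]
      exact Finset.sum_congr rfl fun g _ => by simp

theorem redG_surjective : Function.Surjective (redG M G) := by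
  haveI := Fintype.ofFinite G
  intro a
  choose s hs using red_surjective (M := M)
  refine ⟨ofFun fun u => s (a.coeff u), ?_⟩
  ext u
  simp [hs]

theorem isUnit_of_redG_eq_one {c : MonoidAlgebra (Loc M) G} (h : redG M G c = 1) : IsUnit c := by
  haveI := finite_monoidAlgebra_loc (M := M) (G := G)
  haveI := Fintype.ofFinite G
  let f : MonoidAlgebra (Loc M) G →ₗ[Loc M] MonoidAlgebra (Loc M) G :=
    LinearMap.mulLeft (Loc M) c
  have hle : (⊤ : Submodule (Loc M) (MonoidAlgebra (Loc M) G)) ≤
      LinearMap.range f ⊔ IsLocalRing.maximalIdeal (Loc M) • ⊤ := fun x _ => by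
    refine Submodule.mem_sup.mpr ⟨f x, LinearMap.mem_range_self f x, x - f x, ?_, by simp⟩
    rw [eq_sum_single (x - f x)]
    refine Submodule.sum_mem _ fun g _ => ?_
    have hg : red M ((x - f x).coeff g) = 0 := by
      have h1 : redG M G (x - f x) = 0 := by
        show redG M G (x - c * x) = 0
        rw [map_sub, map_mul, h, one_mul, sub_self]
      simpa using congrArg (fun y : MonoidAlgebra (Res M) G => y.coeff g) h1
    rw [show single g ((x - f x).coeff g) = ((x - f x).coeff g) • single g (1 : Loc M) by simp]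
    exact Submodule.smul_mem_smul ((IsLocalRing.residue_eq_zero_iff _).mp hg) Submodule.mem_top
  have hsur : Function.Surjective f := by
    rw [← LinearMap.range_eq_top]
    exact top_le_iff.mp (Submodule.le_of_le_smul_of_le_jacobson_bot Module.Finite.fg_top
      (IsLocalRing.maximalIdeal_le_jacobson _) hle)
  have hinj : Function.Injective f := OrzechProperty.injective_of_surjective_endomorphism f hsur
  obtain ⟨d, hd⟩ := hsur 1
  have hd' : c * d = 1 := hd
  refine isUnit_iff_exists.mpr ⟨d, hd', hinj ?_⟩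
  show c * (d * c) = c * 1
  rw [← mul_assoc, hd', one_mul, mul_one]

theorem isUnit_of_redG {c : MonoidAlgebra (Loc M) G} (h : IsUnit (redG M G c)) : IsUnit c := by
  obtain ⟨u, hu⟩ := h
  obtain ⟨d, hd⟩ := redG_surjective (M := M) (↑u⁻¹ : MonoidAlgebra (Res M) G)
  obtain ⟨x, hx⟩ := isUnit_of_redG_eq_one (c := c * d) (by rw [map_mul, hd, ← hu, Units.mul_inv])
  obtain ⟨y, hy⟩ := isUnit_of_redG_eq_one (c := d * c) (by rw [map_mul, hd, ← hu, Units.inv_mul])
  have h1 : c * (d * ↑x⁻¹) = 1 := by rw [← mul_assoc, ← hx, Units.mul_inv]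
  have h2 : ↑y⁻¹ * d * c = 1 := by rw [mul_assoc, ← hy, Units.inv_mul]
  have h3 : ↑y⁻¹ * d = d * ↑x⁻¹ := left_inv_eq_right_inv h2 h1
  exact isUnit_iff_exists_and_exists.mpr ⟨⟨_, h1⟩, ⟨_, h2⟩⟩

theorem mul_add_smul_one_sub {K : Type*} [CommRing K] {A : Type*} [Ring A] [Algebra K A] {e : A}
    (he : e * e = e) {c d : K} (h : c * d = 1) :
    (e + c • (1 - e)) * (e + d • (1 - e)) = 1 := by
  have h1 : e * (1 - e) = 0 := by rw [mul_sub, mul_one, he, sub_self]
  have h2 : (1 - e) * e = 0 := by rw [sub_mul, one_mul, he, sub_self]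
  have h3 : (1 - e) * (1 - e) = 1 - e := by rw [mul_sub, mul_one, h2, sub_zero]
  rw [mul_add, add_mul, add_mul, smul_mul_assoc, mul_smul_comm, smul_mul_assoc, mul_smul_comm, he,
    h1, h2, h3, smul_zero, smul_zero, add_zero, zero_add, smul_smul, h, one_smul, add_sub_cancel]

theorem exists_prod_roots (a : MonoidAlgebra (Loc M) G) :
    ∃ l : List (Loc M), (l.map fun r => a - algebraMap (Loc M) _ r).prod = 0 := by
  haveI := finite_monoidAlgebra_loc (M := M) (G := G)
  obtain ⟨P, hPm, hP⟩ := IsIntegral.of_finite (Loc M) a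
  have hsplit := IsAlgClosed.splits (P.map (Loc M).subtype)
  have hroots : ∀ r ∈ (P.map (Loc M).subtype).roots.toList, r ∈ Loc M := fun r hr =>
    isAlgClosed_res.mem_loc_of_isRoot hPm (Polynomial.isRoot_of_mem_roots (Multiset.mem_toList.mp hr))
  refine ⟨(P.map (Loc M).subtype).roots.toList.attach.map fun r => ⟨r.1, hroots r.1 r.2⟩, ?_⟩
  have hPl : P = (((P.map (Loc M).subtype).roots.toList.attach.map fun r =>
      (⟨r.1, hroots r.1 r.2⟩ : Loc M)).map fun r => Polynomial.X - Polynomial.C r).prod := by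
    refine Polynomial.map_injective (Loc M).subtype (Loc M).subtype_injective ?_
    rw [Polynomial.map_list_prod, List.map_map, List.map_map]
    have e : ((Polynomial.map (Loc M).subtype ∘ (fun r => Polynomial.X - Polynomial.C r)) ∘
        fun r : {x // x ∈ (P.map (Loc M).subtype).roots.toList} => (⟨r.1, hroots r.1 r.2⟩ : Loc M)) =
        (fun r => Polynomial.X - Polynomial.C r) ∘ Subtype.val := by
      funext r; simp
    rw [e, ← List.map_map, List.attach_map_subtype_val, ← Multiset.prod_coe, ← Multiset.map_coe,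
      Multiset.coe_toList, ← hsplit.eq_prod_roots_of_monic (hPm.map _)]
  rw [← Polynomial.aeval_def, hPl, map_list_prod, List.map_map] at hP
  rw [← hP]
  congr 1
  refine List.map_congr_left fun r _ => ?_
  simp

theorem redG_prod_sub (a : MonoidAlgebra (Loc M) G) (l : List (Loc M)) :
    redG M G (l.map fun r => a - algebraMap (Loc M) _ r).prod =
      (l.map fun r => redG M G a - algebraMap (Res M) _ (red M r)).prod := by
  rw [map_list_prod, List.map_map]
  congr 1
  refine List.map_congr_left fun r _ => ?_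
  simp

/-- Lifting of idempotents. -/
theorem exists_idem_lift {a : MonoidAlgebra (Loc M) G} (ha : redG M G a * redG M G a = redG M G a) :
    ∃ ε : MonoidAlgebra (Loc M) G, ε * ε = ε ∧ redG M G ε = redG M G a ∧
      ∀ b, Commute a b → Commute ε b := by
  classical
  obtain ⟨e, he⟩ : ∃ e, e = redG M G a := ⟨_, rfl⟩
  rw [← he] at ha ⊢
  obtain ⟨l, hl⟩ := exists_prod_roots a
  obtain ⟨l0, hl0⟩ : ∃ l0, l0 = l.filter fun r => decide (red M r = 0) := ⟨_, rfl⟩
  obtain ⟨l1, hl1⟩ : ∃ l1, l1 = l.filter fun r => !decide (red M r = 0) := ⟨_, rfl⟩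
  obtain ⟨A0, hA0⟩ : ∃ A0, A0 = (l0.map fun r => a - algebraMap (Loc M) _ r).prod := ⟨_, rfl⟩
  obtain ⟨A1, hA1⟩ : ∃ A1, A1 = (l1.map fun r => a - algebraMap (Loc M) _ r).prod := ⟨_, rfl⟩
  have hcomm : ∀ (L : List (Loc M)) b, Commute a b →
      Commute (L.map fun r => a - algebraMap (Loc M) _ r).prod b := by
    intro L b hb
    induction L with
    | nil => exact Commute.one_left b
    | cons x L ih =>
      rw [List.map_cons, List.prod_cons]
      exact (hb.sub_left (Algebra.commute_algebraMap_left x b)).mul_left ih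
  have hA01 : A0 * A1 = 0 := by
    have h : ∀ L : List (Loc M),
        ((L.filter fun r => decide (red M r = 0)).map fun r => a - algebraMap (Loc M) _ r).prod *
          ((L.filter fun r => !decide (red M r = 0)).map fun r => a - algebraMap (Loc M) _ r).prod =
        (L.map fun r => a - algebraMap (Loc M) _ r).prod := by
      intro L
      induction L with
      | nil => simp
      | cons x L ih =>
        by_cases hx : red M x = 0
        · rw [List.filter_cons_of_pos (by simp [hx]), List.filter_cons_of_neg (by simp [hx]),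
            List.map_cons, List.prod_cons, List.map_cons, List.prod_cons, mul_assoc, ih]
        · rw [List.filter_cons_of_neg (by simp [hx]), List.filter_cons_of_pos (by simp [hx]),
            List.map_cons, List.prod_cons, List.map_cons, List.prod_cons, ← mul_assoc,
            (hcomm _ _ ((Commute.refl a).sub_right (Algebra.commute_algebraMap_right x a))).eq,
            mul_assoc, ih]
    rw [hA0, hA1, hl0, hl1, h, hl]
  have hr0 : redG M G A0 = e ^ l0.length := by
    rw [hA0, redG_prod_sub, ← he]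
    refine List.prod_eq_pow_card _ e (fun x hx => ?_) |>.trans (by rw [List.length_map])
    obtain ⟨r, hr, rfl⟩ := List.mem_map.mp hx
    rw [hl0, List.mem_filter] at hr
    rw [of_decide_eq_true hr.2, map_zero, sub_zero]
  obtain ⟨c, hc0, hr1⟩ : ∃ c : Res M, c ≠ 0 ∧ redG M G A1 * (1 - e) = c • (1 - e) := by
    rw [hA1, redG_prod_sub, ← he]
    have : ∀ L : List (Loc M), (∀ r ∈ L, red M r ≠ 0) → ∃ c : Res M, c ≠ 0 ∧
        (L.map fun r => e - algebraMap (Res M) _ (red M r)).prod * (1 - e) = c • (1 - e) := by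
      intro L hL
      induction L with
      | nil => exact ⟨1, one_ne_zero, by simp⟩
      | cons x L ih =>
        obtain ⟨c, hc0, hc⟩ := ih fun r hr => hL r (List.mem_cons_of_mem _ hr)
        refine ⟨c * -red M x, mul_ne_zero hc0 (neg_ne_zero.mpr (hL x List.mem_cons_self)), ?_⟩
        rw [List.map_cons, List.prod_cons, mul_assoc, hc, mul_smul_comm, sub_mul, mul_sub, ha,
          mul_one, sub_self, zero_sub, Algebra.algebraMap_eq_smul_one, smul_one_mul, ← neg_smul,
          smul_smul]
    exact this l1 fun r hr => by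
      rw [hl1, List.mem_filter] at hr
      simpa using hr.2
  have hek : e ^ l0.length = e := by
    rcases Nat.eq_zero_or_pos l0.length with hk | hk
    · rw [hk, pow_zero]
      have h0 : A0 = 1 := by rw [hA0, List.length_eq_zero_iff.mp hk]; simp
      have h1 : A1 = 0 := by simpa [h0] using hA01
      rw [h1, map_zero, zero_mul] at hr1
      exact sub_eq_zero.mp ((smul_eq_zero.mp hr1.symm).resolve_left hc0)
    · exact IsIdempotentElem.pow_eq ha hk.ne'
  rw [hek] at hr0
  have hAa : Commute A1 a := hA1 ▸ hcomm l1 a (Commute.refl a)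
  obtain ⟨u, hu⟩ : IsUnit (A0 + A1 * (1 - a)) := isUnit_of_redG (by
    rw [map_add, map_mul, map_sub, map_one, ← he, hr0, hr1]
    exact ⟨⟨e + c • (1 - e), e + c⁻¹ • (1 - e), mul_add_smul_one_sub ha (mul_inv_cancel₀ hc0),
      mul_add_smul_one_sub ha (inv_mul_cancel₀ hc0)⟩, rfl⟩)
  have hucomm : ∀ b, Commute a b → Commute (↑u : MonoidAlgebra (Loc M) G) b := fun b hb => by
    rw [hu, hA0, hA1]
    exact (hcomm l0 b hb).add_left ((hcomm l1 b hb).mul_left ((Commute.one_left b).sub_left hb))
  have hεb : ∀ b, Commute a b → Commute (A0 * ↑u⁻¹) b := fun b hb =>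
    (hA0 ▸ hcomm l0 b hb).mul_left (hucomm b hb).units_inv_left
  have hA0u : Commute A0 (↑u : MonoidAlgebra (Loc M) G) :=
    (hucomm _ (hA0 ▸ hcomm l0 a (Commute.refl a)).symm).symm
  refine ⟨A0 * (↑u⁻¹ : MonoidAlgebra (Loc M) G), ?_, ?_, hεb⟩
  · have h1 : A0 * A0 = A0 * ↑u := by rw [hu, mul_add, ← mul_assoc, hA01, zero_mul, add_zero]
    calc A0 * ↑u⁻¹ * (A0 * ↑u⁻¹) = A0 * (↑u⁻¹ * A0) * ↑u⁻¹ := by simp only [mul_assoc]
      _ = A0 * A0 * ↑u⁻¹ * ↑u⁻¹ := by rw [← hA0u.units_inv_right.eq, ← mul_assoc]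
      _ = A0 * ↑u⁻¹ := by rw [h1, Units.mul_inv_cancel_right]
  · have h2 : e * redG M G ↑u = e := by
      rw [hu, map_add, map_mul, map_sub, map_one, ← he, hr0, mul_add, ha, hr1, mul_smul_comm,
        mul_sub, mul_one, ha, sub_self, smul_zero, add_zero]
    rw [map_mul, hr0]
    conv_lhs => rw [← h2]
    rw [mul_assoc, ← map_mul, Units.mul_inv, map_one, mul_one]

/-- Lifting of an invariant idempotent to an invariant idempotent. -/
theorem exists_inv_idem_lift (Q : Subgroup G) {e : MonoidAlgebra (Res M) G} (he : e * e = e)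
    (hQ : IsInv Q e) :
    ∃ ε : MonoidAlgebra (Loc M) G, ε * ε = ε ∧ redG M G ε = e ∧ IsInv Q ε := by
  haveI := Fintype.ofFinite G
  choose s hs using red_surjective (M := M)
  obtain ⟨a, hadef⟩ : ∃ a : MonoidAlgebra (Loc M) G, a = ofFun fun u => s (e.coeff u) := ⟨_, rfl⟩
  have hred : redG M G a = e := by subst hadef; ext u; simp [hs]
  have ha : IsInv Q a := fun q hq u => by
    subst hadef
    simp only [coeff_ofFun]
    exact congrArg s (hQ q hq u)
  obtain ⟨ε, h1, h2, h3⟩ := exists_idem_lift (a := a) (by rw [hred, he])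
  refine ⟨ε, h1, h2.trans hred, isInv_iff_commute.mpr fun q hq => ?_⟩
  exact h3 _ (isInv_iff_commute.mp ha q hq)

/-- Lifting orthogonally to a given idempotent. -/
theorem exists_inv_idem_lift_orth (Q : Subgroup G) {ε : MonoidAlgebra (Loc M) G} (hε : ε * ε = ε)
    (hεQ : IsInv Q ε) {e' : MonoidAlgebra (Res M) G} (he : e' * e' = e') (hQ : IsInv Q e')
    (h1 : redG M G ε * e' = 0) (h2 : e' * redG M G ε = 0) :
    ∃ ε' : MonoidAlgebra (Loc M) G, ε' * ε' = ε' ∧ redG M G ε' = e' ∧ IsInv Q ε' ∧
      ε * ε' = 0 ∧ ε' * ε = 0 := by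
  haveI := Fintype.ofFinite G
  choose s hs using red_surjective (M := M)
  obtain ⟨a0, hadef⟩ : ∃ a : MonoidAlgebra (Loc M) G, a = ofFun fun u => s (e'.coeff u) := ⟨_, rfl⟩
  have hred : redG M G a0 = e' := by subst hadef; ext u; simp [hs]
  have ha : IsInv Q a0 := fun q hq u => by
    subst hadef
    simp only [coeff_ofFun]
    exact congrArg s (hQ q hq u)
  have hra : redG M G ((1 - ε) * a0 * (1 - ε)) = e' := by
    rw [map_mul, map_mul, map_sub, map_one, hred, sub_mul, one_mul, h1, sub_zero, mul_sub, mul_one,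
      h2, sub_zero]
  obtain ⟨ε', h3, h4, h5⟩ := exists_idem_lift (a := (1 - ε) * a0 * (1 - ε)) (by rw [hra, he])
  have hl : ε * (1 - ε) = 0 := by rw [mul_sub, mul_one, hε, sub_self]
  have hr : (1 - ε) * ε = 0 := by rw [sub_mul, one_mul, hε, sub_self]
  have hcl : ε * ((1 - ε) * a0 * (1 - ε)) = 0 := by
    rw [← mul_assoc, ← mul_assoc, hl, zero_mul, zero_mul]
  have hcr : (1 - ε) * a0 * (1 - ε) * ε = 0 := by rw [mul_assoc, hr, mul_zero]
  have hc : Commute ε' ε := h5 ε (show _ * ε = ε * _ by rw [hcl, hcr])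
  have h6 : (1 - ε) * ε' = ε' * (1 - ε) := by rw [sub_mul, mul_sub, one_mul, mul_one, hc.eq]
  have hzero : redG M G (ε * ε') = 0 := by rw [map_mul, h4, hra, h1]
  have hidem : (ε * ε') * (ε * ε') = ε * ε' := by
    rw [mul_assoc, ← mul_assoc ε', hc.eq, mul_assoc ε, h3, ← mul_assoc, hε]
  obtain ⟨v, hv⟩ := isUnit_of_redG_eq_one (c := 1 - ε * ε') (by
    rw [map_sub, map_one, hzero, sub_zero])
  have h0 : ε * ε' = 0 := by
    have : (1 - ε * ε') * (ε * ε') = 0 := by rw [sub_mul, one_mul, hidem, sub_self]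
    rw [← hv] at this
    calc ε * ε' = ↑v⁻¹ * (↑v * (ε * ε')) := by rw [Units.inv_mul_cancel_left]
      _ = 0 := by rw [this, mul_zero]
  refine ⟨ε', h3, h4.trans hra, isInv_iff_commute.mpr fun q hq => h5 _ ?_, h0, hc.eq.trans h0⟩
  have hεq := isInv_iff_commute.mp hεQ q hq
  exact (((Commute.one_left _).sub_left hεq).mul_left (isInv_iff_commute.mp ha q hq)).mul_left
    ((Commute.one_left _).sub_left hεq)

theorem exists_pow_congr (hM : IsPModular p M) [Fact p.Prime] {x y : Loc M}
    (h : red M x = red M y) (k : ℕ) :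
    ∃ N : ℕ, ∀ n ≥ N, (p : Loc M) ^ k ∣ x ^ p ^ n - y ^ p ^ n := by
  have hI : MemLocalIdeal M ((x - y : Loc M) : ℂ) :=
    red_eq_zero_iff.mp (by rw [map_sub, h, sub_self])
  obtain ⟨N0, hN0⟩ := exists_pow_dvd_pow hM hI 1
  have hp := (Fact.out : p.Prime)
  have h1 : (p : Loc M) ∣ x ^ p ^ N0 - y ^ p ^ N0 := by
    have := hN0 (p ^ N0) (Nat.lt_pow_self hp.one_lt).le
    rw [pow_one] at this
    have e := add_pow_prime_pow_eq' hp (x - y) y N0
    rw [sub_add_cancel] at e
    rw [e, add_right_comm ((x - y) ^ p ^ N0), add_sub_cancel_right]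
    exact dvd_add this (dvd_mul_right _ _)
  refine ⟨N0 + k, fun n hn => ?_⟩
  obtain ⟨i, rfl⟩ : ∃ i, n = N0 + i := ⟨n - N0, by omega⟩
  rw [pow_add p N0, pow_mul, pow_mul]
  exact (pow_dvd_pow _ (by omega)).trans (dvd_sub_pow_of_dvd_sub h1 i)

/-- Two elements with congruent coefficients on the centralizer of `z`, fixed by high `p`-power
maps, have the same traces at `z`. -/
theorem ev_mul_single_congr (hM : IsPModular p M) [Fact p.Prime] {T : G → Loc M}
    (hT : IsClassFn T) {a a' : MonoidAlgebra (Loc M) G} {z : G}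
    (haz : Commute a (single z 1)) (haz' : Commute a' (single z 1)) (hz : ∃ r, z ^ p ^ r = 1)
    (ha : ∀ n₀, ∃ n ≥ n₀, a ^ p ^ n = a ∧ a' ^ p ^ n = a')
    (hc : ∀ u, Commute u z → red M (a.coeff u) = red M (a'.coeff u)) :
    ev T (a * single z 1) = ev T (a' * single z 1) := by
  classical
  haveI := Fintype.ofFinite G
  have hp := (Fact.out : p.Prime)
  rw [← sub_eq_zero]
  refine eq_zero_of_forall_pow_dvd hM fun k => ⟨k, le_rfl, ?_⟩
  have : ∀ u : G, ∃ N : ℕ, Commute u z → ∀ n ≥ N,
      (p : Loc M) ^ k ∣ a.coeff u ^ p ^ n - a'.coeff u ^ p ^ n := fun u => by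
    by_cases hu : Commute u z
    · obtain ⟨N, hN⟩ := exists_pow_congr hM (hc u hu) k; exact ⟨N, fun _ => hN⟩
    · exact ⟨0, fun h => absurd h hu⟩
  choose N hN using this
  obtain ⟨n, hn, han, han'⟩ := ha (k + Finset.univ.sup N)
  rw [← han, ← han', ev_pow_mul_single, ev_pow_mul_single, ← Finset.sum_sub_distrib,
    ← Nat.cast_pow]
  obtain ⟨r, hr⟩ := hz
  have hpn : 0 < p ^ n := pow_pos hp.pos n
  have hinv : ∀ u, a.coeff (z * u * z⁻¹) = a.coeff u := (commute_single_iff a z).mp haz
  have hinv' : ∀ u, a'.coeff (z * u * z⁻¹) = a'.coeff u := (commute_single_iff a' z).mp haz'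
  obtain ⟨F, hFdef⟩ : ∃ F : (Fin (p ^ n) → G) → Loc M, F = fun w =>
      (∏ i, a.coeff (w i)) * T ((List.ofFn w).prod * z) -
        (∏ i, a'.coeff (w i)) * T ((List.ofFn w).prod * z) := ⟨_, rfl⟩
  have hFrot : ∀ w, F (rot hpn z w) = F w := fun w => by
    simp only [hFdef]
    rw [rot_prod_mul hpn z hT, rot_prod_coeff (f := fun u => a.coeff u) hpn z hinv,
      rot_prod_coeff (f := fun u => a'.coeff u) hpn z hinv']
  have hFpow : ∀ (j : ℕ) (w), F ((rot hpn z ^ j) w) = F w := by
    intro j
    induction j with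
    | zero => simp
    | succ j ih => intro w; rw [pow_succ', Equiv.Perm.mul_apply, hFrot, ih]
  have key : ((p ^ k : ℕ) : Loc M) ∣ ∑ w, F w := by
    refine dvd_sum_of_orbits (H := Subgroup.zpowers (rot hpn z)) F ?_ _ fun w => ?_
    · rintro ⟨g, hg⟩ w
      obtain ⟨m, rfl⟩ := mem_powers_iff_mem_zpowers.mpr hg
      exact hFpow m w
    · obtain ⟨j, hj⟩ := (isPGroup_zpowers_rot hpn z rfl hr).card_orbit (a := w)
      rcases Nat.lt_or_ge j k with hjk | hjk
      · left
        rw [Nat.cast_pow]
        have hfix : (rot hpn z ^ (p ^ j)) w = w := by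
          haveI := Fintype.ofFinite (MulAction.orbit (Subgroup.zpowers (rot hpn z)) w)
          have h1 := MulAction.minimalPeriod_eq_card (a := rot hpn z) (b := w)
          rw [← Nat.card_eq_fintype_card, hj] at h1
          have h2 := Function.iterate_minimalPeriod (f := (rot hpn z • ·)) (x := w)
          rw [h1, smul_iterate] at h2
          exact h2
        have hmq : p ^ n = p ^ j * p ^ (n - j) := by rw [← pow_add]; congr 1; omega
        obtain ⟨hcm, hpr, hpc⟩ := periodic_of_fixed (R := Loc M) hpn z hmq hfix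
        simp only [hFdef]
        rw [hpc, hpc, ← sub_mul]
        refine Dvd.dvd.mul_right ?_ _
        rw [← Finset.prod_pow, ← Finset.prod_pow, ← Ideal.mem_span_singleton,
          ← Ideal.Quotient.eq, map_prod, map_prod]
        refine Finset.prod_congr rfl fun t ht => ?_
        rw [Ideal.Quotient.eq, Ideal.mem_span_singleton]
        have ht' : t < p ^ n :=
          lt_of_lt_of_le (Finset.mem_range.mp ht) (Nat.pow_le_pow_right hp.pos (by omega))
        have hct : Commute (ext hpn z w t) z := by rw [ext_of_lt hpn z w ht']; exact hcm _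
        refine hN _ hct (n - j) ?_
        have h1 : N (ext hpn z w t) ≤ Finset.univ.sup N := Finset.le_sup (Finset.mem_univ _)
        omega
      · right
        rw [hj]
        exact pow_dvd_pow p hjk
  simpa only [hFdef] using key

end Cfsg.Agent.Blocks
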