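import Mathlib.RepresentationTheory.Basic
import Mathlib.GroupTheory.Sylow
import Mathlib.LinearAlgebra.Trace
import Mathlib.LinearAlgebra.FreeModule.PID
import Mathlib.RingTheory.Length

/-!
# The Tate groups of a lattice over a Sylow subgroup of prime order

`R` is a principal ideal domain with a map `red : R →+* k` onto a field whose kernel is
generated by `p`.  For submodules `I ≤ K` of a lattice with `p K ≤ I`, the quotient `K / I` is
realized as the subspace `tateSpace` of `ι → k` (`ι` a basis index of `I`).  Every endomorphism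
of this space commuting with the normalizer lifts to the whole group, with the expected trace.
-/

set_option linter.unusedSectionVars false

namespace Cfsg.Agent.Blocks.Tate

open Module

universe u v w z

variable {R : Type u} [CommRing R] [IsDomain R] {k : Type z} [Field k] {p : ℕ}
variable {L : Type w} [AddCommGroup L] [Module R L]

/-- The hypotheses on the reduction map. -/
structure IsRed (p : ℕ) (red : R →+* k) : Prop where
  surj : Function.Surjective red
  ker : ∀ z, red z = 0 ↔ (p : R) ∣ z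
  unit : ∀ z, red z ≠ 0 → IsUnit z
  ne : (p : R) ≠ 0

variable (red : R →+* k) (K I : Submodule R L) (hpK : ∀ u ∈ K, (p : R) • u ∈ I)
variable {ι : Type v} [Fintype ι] (bI : Basis ι R I)

/-- The reduction of the coordinates of `p • u` in a basis of `I`. -/
noncomputable def cls (u : K) : ι → k :=
  fun i => red (bI.repr ⟨(p : R) • (u : L), hpK u u.2⟩ i)

theorem cls_add (u v : K) :
    cls red K I hpK bI (u + v) = cls red K I hpK bI u + cls red K I hpK bI v := by
  funext i
  have e : (⟨(p : R) • ((u + v : K) : L), hpK _ (u + v).2⟩ : I) =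
      ⟨(p : R) • (u : L), hpK u u.2⟩ + ⟨(p : R) • (v : L), hpK v v.2⟩ :=
    Subtype.ext (smul_add _ _ _)
  simp only [cls, Pi.add_apply, e, map_add, Finsupp.add_apply]

theorem cls_smul (r : R) (u : K) :
    cls red K I hpK bI (r • u) = red r • cls red K I hpK bI u := by
  funext i
  have e : (⟨(p : R) • ((r • u : K) : L), hpK _ (r • u).2⟩ : I) =
      r • ⟨(p : R) • (u : L), hpK u u.2⟩ := Subtype.ext (smul_comm _ _ _)
  simp only [cls, Pi.smul_apply, smul_eq_mul, e, map_smul, Finsupp.smul_apply, map_mul]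

theorem cls_zero : cls red K I hpK bI 0 = 0 := by
  have h := cls_smul red K I hpK bI 0 0
  rwa [zero_smul, map_zero, zero_smul] at h

theorem cls_sum {α : Type*} (s : Finset α) (f : α → K) :
    cls red K I hpK bI (∑ a ∈ s, f a) = ∑ a ∈ s, cls red K I hpK bI (f a) := by
  classical
  induction s using Finset.induction_on with
  | empty => simp [cls_zero]
  | insert a s ha ih => rw [Finset.sum_insert ha, Finset.sum_insert ha, cls_add, ih]

theorem cls_eq_zero_iff [Module.IsTorsionFree R L] (h : IsRed p red) (u : K) :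
    cls red K I hpK bI u = 0 ↔ (u : L) ∈ I := by
  constructor
  · intro h0
    choose c hc using fun i => (h.ker _).mp (congrFun h0 i)
    have e : (⟨(p : R) • (u : L), hpK u u.2⟩ : I) = (p : R) • ∑ i, c i • bI i := by
      conv_lhs => rw [← bI.sum_repr ⟨(p : R) • (u : L), hpK u u.2⟩]
      rw [Finset.smul_sum]
      exact Finset.sum_congr rfl fun i _ => by rw [hc i, mul_smul]
    have e' : (p : R) • (u : L) = (p : R) • ((∑ i, c i • bI i : I) : L) := congrArg Subtype.val e
    rw [smul_right_injective L h.ne e']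
    exact Submodule.coe_mem _
  · intro hu
    funext i
    have e : (⟨(p : R) • (u : L), hpK u u.2⟩ : I) = (p : R) • ⟨(u : L), hu⟩ := rfl
    simp only [cls, e, map_smul, Finsupp.smul_apply, smul_eq_mul, Pi.zero_apply]
    exact (h.ker _).mpr (dvd_mul_right _ _)

/-- The space `K / I`. -/
noncomputable def tateSpace : Submodule k (ι → k) :=
  Submodule.span k (Set.range (cls red K I hpK bI))

theorem cls_mem (u : K) : cls red K I hpK bI u ∈ tateSpace red K I hpK bI :=
  Submodule.subset_span ⟨u, rfl⟩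

theorem exists_of_mem (h : IsRed p red) {x : ι → k} (hx : x ∈ tateSpace red K I hpK bI) :
    ∃ u : K, cls red K I hpK bI u = x := by
  induction hx using Submodule.span_induction with
  | mem x hx => exact hx
  | zero => exact ⟨0, cls_zero ..⟩
  | add a b _ _ ha hb =>
    obtain ⟨u, rfl⟩ := ha
    obtain ⟨v, rfl⟩ := hb
    exact ⟨u + v, cls_add ..⟩
  | smul c a _ ha =>
    obtain ⟨u, rfl⟩ := ha
    obtain ⟨r, rfl⟩ := h.surj c
    exact ⟨r • u, cls_smul ..⟩

/-- The class of `u` as an element of the space `K / I`. -/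
noncomputable def clsT (u : K) : tateSpace red K I hpK bI := ⟨_, cls_mem red K I hpK bI u⟩

@[simp] theorem coe_clsT (u : K) :
    (clsT red K I hpK bI u : ι → k) = cls red K I hpK bI u := rfl

theorem clsT_surjective (h : IsRed p red) : Function.Surjective (clsT red K I hpK bI) :=
  fun x => (exists_of_mem red K I hpK bI h x.2).imp fun _ hu => Subtype.ext hu

/-- Functionals of `K / I` come from functionals of `I`. -/
theorem exists_functional (h : IsRed p red) (g : tateSpace red K I hpK bI →ₗ[k] k) :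
    ∃ f : I →ₗ[R] R, ∀ u : K,
      red (f ⟨(p : R) • (u : L), hpK u u.2⟩) = g (clsT red K I hpK bI u) := by
  classical
  obtain ⟨G', hG'⟩ := LinearMap.exists_extend g
  choose c hc using fun i : ι => h.surj (G' (Pi.single i 1))
  refine ⟨bI.constr R c, fun u => ?_⟩
  rw [← hG', LinearMap.comp_apply, Submodule.subtype_apply, coe_clsT,
    pi_eq_sum_univ' (cls red K I hpK bI u), map_sum, Basis.constr_apply_fintype, map_sum]
  refine Finset.sum_congr rfl fun i _ => ?_
  rw [smul_eq_mul, map_mul, hc, map_smul, smul_eq_mul]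
  simp only [cls, Basis.equivFun_apply]

/-- Lifting all endomorphisms from rank one ones. -/
theorem exists_lift_of_rank_one [Module.Free R L] [Module.Finite R L] (h : IsRed p red)
    (P : (L →ₗ[R] L) → Prop) (hP0 : P 0) (hPadd : ∀ a b, P a → P b → P (a + b)) (sgn : k)
    (C : (L →ₗ[R] L) → Prop)
    (h1 : ∀ (g : tateSpace red K I hpK bI →ₗ[k] k) (v : K), ∃ φ : L →ₗ[R] L, P φ ∧
      (∀ u : K, ∃ hu : φ u ∈ K,
        clsT red K I hpK bI ⟨φ u, hu⟩ = g (clsT red K I hpK bI u) • clsT red K I hpK bI v) ∧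
      ∀ Φ : L →ₗ[R] L, C Φ → ∀ hv : Φ v ∈ K,
        red (LinearMap.trace R L (Φ * φ)) = sgn * g (clsT red K I hpK bI ⟨Φ v, hv⟩))
    (a : tateSpace red K I hpK bI →ₗ[k] tateSpace red K I hpK bI) :
    ∃ φ : L →ₗ[R] L, P φ ∧
      (∀ u : K, ∃ hu : φ u ∈ K,
        clsT red K I hpK bI ⟨φ u, hu⟩ = a (clsT red K I hpK bI u)) ∧
      ∀ Φ : L →ₗ[R] L, C Φ → ∀ b : tateSpace red K I hpK bI →ₗ[k] tateSpace red K I hpK bI,
        (∀ u : K, ∃ hu : Φ u ∈ K, clsT red K I hpK bI ⟨Φ u, hu⟩ = b (clsT red K I hpK bI u)) →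
        red (LinearMap.trace R L (Φ * φ)) = sgn * LinearMap.trace k _ (b * a) := by
  classical
  let b := Module.finBasis k (tateSpace red K I hpK bI)
  choose v hv using fun i => clsT_surjective red K I hpK bI h (a (b i))
  choose φ hφP hφ hφt using fun i => h1 (b.coord i) (v i)
  have key : ∀ s : Finset (Fin (finrank k (tateSpace red K I hpK bI))),
      P (∑ i ∈ s, φ i) ∧ (∀ u : K, ∃ hu : (∑ i ∈ s, φ i) u ∈ K,
        clsT red K I hpK bI ⟨_, hu⟩ = ∑ i ∈ s, b.coord i (clsT red K I hpK bI u) • a (b i)) := by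
    intro s
    induction s using Finset.induction_on with
    | empty =>
      refine ⟨by simpa using hP0, fun u => ⟨by simp, Subtype.ext ?_⟩⟩
      simp only [coe_clsT, Finset.sum_empty]
      exact (congrArg _ (Subtype.ext (by simp) : _ = (0 : K))).trans (cls_zero ..)
    | insert i s hi ih =>
      refine ⟨by rw [Finset.sum_insert hi]; exact hPadd _ _ (hφP i) ih.1, fun u => ?_⟩
      obtain ⟨hu1, e1⟩ := hφ i u
      obtain ⟨hu2, e2⟩ := ih.2 u
      have hu : (∑ j ∈ insert i s, φ j) u ∈ K := by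
        rw [Finset.sum_insert hi, LinearMap.add_apply]; exact add_mem hu1 hu2
      refine ⟨hu, ?_⟩
      conv_rhs => rw [Finset.sum_insert hi, ← hv i, ← e1, ← e2]
      refine Subtype.ext ?_
      rw [coe_clsT, Submodule.coe_add, coe_clsT, coe_clsT, ← cls_add]
      exact congrArg _ (Subtype.ext (by simp [Finset.sum_insert hi]))
  refine ⟨∑ i, φ i, (key Finset.univ).1, fun u => ?_, fun Φ hC c hΦ => ?_⟩
  · obtain ⟨hu, e⟩ := (key Finset.univ).2 u
    refine ⟨hu, e.trans ?_⟩
    conv_rhs => rw [← b.sum_repr (clsT red K I hpK bI u), map_sum]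
    exact Finset.sum_congr rfl fun i _ => by rw [map_smul, Basis.coord_apply]
  · rw [Finset.mul_sum, map_sum, map_sum, LinearMap.trace_eq_matrix_trace k b, Matrix.trace,
      Finset.mul_sum]
    refine Finset.sum_congr rfl fun i _ => ?_
    obtain ⟨hu, e⟩ := hΦ (v i)
    rw [hφt i Φ hC hu, e, hv, Matrix.diag_apply, LinearMap.toMatrix_apply, Basis.coord_apply,
      Module.End.mul_apply]

/-! ### Lifting to the whole group -/

variable {G : Type*} [Group G] [Finite G] (ρ : Representation R G L) (x : G)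

/-- The sum of the powers of `x`. -/
noncomputable def normSum (p : ℕ) : L →ₗ[R] L := ∑ i ∈ Finset.range p, ρ (x ^ i)

/-- The relative trace of an endomorphism along the powers of `x`. -/
noncomputable def relTrace (p : ℕ) (ψ : L →ₗ[R] L) : L →ₗ[R] L :=
  ∑ i ∈ Finset.range p, ρ (x ^ i) * ψ * ρ (x ^ i)⁻¹

/-- Averaging over `Q` and transferring to `G`. -/
theorem exists_lift_group [Module.Free R L] [Module.Finite R L] [Fact p.Prime] [CharP k p]
    (h : IsRed p red) (hx : orderOf x = p) {N Q : Subgroup G} (hxN : x ∈ N)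
    (hN : ∀ g : G, g⁻¹ * x * g ∈ N → g ∈ N) (hidx : ((N.index : ℕ) : k) = 1)
    (hNQ : N ≤ Subgroup.zpowers x ⊔ Q) (hQN : Q ≤ N) (hQ : ¬ p ∣ Nat.card Q)
    (hQx : ∀ q ∈ Q, q⁻¹ * x * q ∈ Subgroup.zpowers x)
    (hK : ∀ n ∈ N, ∀ u ∈ K, ρ n u ∈ K) (hI : ∀ n ∈ N, ∀ u ∈ I, ρ n u ∈ I)
    (hIK : I ≤ K) (hT : ∀ ψ : L →ₗ[R] L, ∀ u ∈ K, relTrace ρ x p ψ u ∈ I)
    (a : tateSpace red K I hpK bI →ₗ[k] tateSpace red K I hpK bI)
    (ha : ∀ q (hq : q ∈ Q) (u u' : K), a (clsT red K I hpK bI u) = clsT red K I hpK bI u' →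
      a (clsT red K I hpK bI ⟨ρ q u, hK q (hQN hq) u u.2⟩) =
        clsT red K I hpK bI ⟨ρ q u', hK q (hQN hq) u' u'.2⟩)
    (φ : L →ₗ[R] L) (hφx : Commute (ρ x) φ)
    (hφ : ∀ u : K, ∃ hu : φ u ∈ K,
      clsT red K I hpK bI ⟨φ u, hu⟩ = a (clsT red K I hpK bI u)) :
    ∃ Φ : L →ₗ[R] L, (∀ g : G, Commute (ρ g) Φ) ∧
      (∀ u : K, ∃ hu : Φ u ∈ K,
        clsT red K I hpK bI ⟨Φ u, hu⟩ = a (clsT red K I hpK bI u)) ∧
      ∀ Φ' : L →ₗ[R] L, (∀ g : G, Commute (ρ g) Φ') →
        red (LinearMap.trace R L (Φ' * Φ)) = red (LinearMap.trace R L (Φ' * φ)) := by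
  classical
  letI : Fintype Q := Fintype.ofFinite Q
  haveI : CharP k p := inferInstance
  have hcard : red (Nat.card Q : R) ≠ 0 := by
    rw [map_natCast, Ne, CharP.cast_eq_zero_iff k p]; exact hQ
  obtain ⟨w, hw⟩ := (h.unit _ hcard).exists_left_inv
  have htr : ∀ (g : G) (ψ : L →ₗ[R] L),
      LinearMap.trace R L (ρ g * ψ * ρ g⁻¹) = LinearMap.trace R L ψ := by
    intro g ψ
    rw [LinearMap.trace_mul_comm, ← mul_assoc, ← map_mul, inv_mul_cancel, map_one, one_mul]
  -- the average over `Q`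
  set φ₁ : L →ₗ[R] L := w • ∑ q : Q, ρ (q : G) * φ * ρ (q : G)⁻¹ with hφ₁
  have hcomm : ∀ g ∈ Subgroup.zpowers x, Commute (ρ g) φ := by
    intro g hg
    obtain ⟨i, -, rfl⟩ : ∃ i, i < p ∧ x ^ i = g := by
      have : g ∈ (Finset.range (orderOf x)).image (x ^ ·) := mem_zpowers_iff_mem_range_orderOf.mp hg
      obtain ⟨i, hi, e⟩ := Finset.mem_image.mp this
      exact ⟨i, hx ▸ Finset.mem_range.mp hi, e⟩
    rw [map_pow]; exact hφx.pow_left i
  have hQc : ∀ g ∈ Q, ρ g * φ₁ * ρ g⁻¹ = φ₁ := by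
    intro g hg
    rw [hφ₁, mul_smul_comm, smul_mul_assoc, Finset.mul_sum, Finset.sum_mul]
    congr 1
    refine Fintype.sum_equiv (Equiv.mulLeft (⟨g, hg⟩ : Q)) _ _ fun q => ?_
    simp only [Equiv.coe_mulLeft, Subgroup.coe_mul, mul_inv_rev, map_mul, mul_assoc]
  have hxc : ρ x * φ₁ * ρ x⁻¹ = φ₁ := by
    rw [hφ₁, mul_smul_comm, smul_mul_assoc, Finset.mul_sum, Finset.sum_mul]
    congr 1
    refine Finset.sum_congr rfl fun q _ => ?_
    have hc := hcomm _ (hQx q q.2)
    calc ρ x * (ρ (q : G) * φ * ρ (q : G)⁻¹) * ρ x⁻¹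
        = ρ (q : G) * (ρ ((q : G)⁻¹ * x * q) * φ) * (ρ (q : G)⁻¹ * ρ x⁻¹) := by
          simp only [map_mul, ← mul_assoc]
          rw [← map_mul ρ (q : G) (q : G)⁻¹, mul_inv_cancel, map_one, one_mul]
      _ = ρ (q : G) * φ * ρ (q : G)⁻¹ := by
          rw [hc.eq]
          simp only [mul_assoc, ← map_mul]
          congr 3
          group
  let S : Subgroup G :=
    { carrier := {g | ρ g * φ₁ * ρ g⁻¹ = φ₁}
      one_mem' := by simp
      mul_mem' := fun {a b} ha hb => by
        simp only [Set.mem_setOf_eq, mul_inv_rev, map_mul] at ha hb ⊢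
        calc ρ a * ρ b * φ₁ * (ρ b⁻¹ * ρ a⁻¹) = ρ a * (ρ b * φ₁ * ρ b⁻¹) * ρ a⁻¹ := by
              simp only [mul_assoc]
          _ = φ₁ := by rw [hb, ha]
      inv_mem' := fun {a} ha => by
        simp only [Set.mem_setOf_eq, inv_inv] at ha ⊢
        conv_lhs => rw [← ha]
        simp only [← mul_assoc, ← map_mul, inv_mul_cancel, map_one, one_mul]
        simp only [mul_assoc, ← map_mul, inv_mul_cancel, map_one, mul_one] }
  have hNS : N ≤ S := hNQ.trans (sup_le (Subgroup.zpowers_le.mpr hxc) hQc)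
  have hφ₁' : ∀ u : K, ∃ hu : φ₁ u ∈ K,
      clsT red K I hpK bI ⟨φ₁ u, hu⟩ = a (clsT red K I hpK bI u) := by
    intro u
    have hu0 : ∀ q : Q, ρ (q : G)⁻¹ u ∈ K := fun q => hK _ (inv_mem (hQN q.2)) u u.2
    choose hm he using fun q : Q => hφ ⟨_, hu0 q⟩
    let term : Q → K := fun q => ⟨ρ (q : G) (φ (ρ (q : G)⁻¹ u)), hK _ (hQN q.2) _ (hm q)⟩
    have hterm : ∀ q, clsT red K I hpK bI (term q) = a (clsT red K I hpK bI u) := by
      intro q
      have h2 := ha q q.2 ⟨_, hu0 q⟩ ⟨_, hm q⟩ (he q).symm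
      have e : (⟨ρ (q : G) (ρ (q : G)⁻¹ u), hK _ (hQN q.2) _ (hu0 q)⟩ : K) = u :=
        Subtype.ext (show ρ (q : G) (ρ (q : G)⁻¹ u) = u by
          rw [← Module.End.mul_apply, ← map_mul, mul_inv_cancel, map_one]; rfl)
      rw [e] at h2
      exact h2.symm
    have e : φ₁ u = ((w • ∑ q, term q : K) : L) := by
      simp [hφ₁, term, LinearMap.sum_apply, Submodule.coe_sum]
    refine ⟨e ▸ Submodule.coe_mem _, Subtype.ext ?_⟩
    rw [coe_clsT, show (⟨φ₁ u, _⟩ : K) = w • ∑ q, term q from Subtype.ext e, cls_smul, cls_sum]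
    simp only [← coe_clsT, hterm, Finset.sum_const, Finset.card_univ, ← Nat.card_eq_fintype_card,
      ← Nat.cast_smul_eq_nsmul k, smul_smul]
    rw [← map_natCast red, ← map_mul, hw, map_one, one_smul]
  have hconj : ∀ (Φ' : L →ₗ[R] L), (∀ g : G, Commute (ρ g) Φ') → ∀ (g : G) (ψ : L →ₗ[R] L),
      LinearMap.trace R L (Φ' * (ρ g * ψ * ρ g⁻¹)) = LinearMap.trace R L (Φ' * ψ) := by
    intro Φ' hΦ' g ψ
    rw [show Φ' * (ρ g * ψ * ρ g⁻¹) = ρ g * (Φ' * ψ) * ρ g⁻¹ by
      rw [← mul_assoc, ← mul_assoc, ← (hΦ' g).eq, mul_assoc (ρ g) Φ' ψ], htr]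
  have htr₁ : ∀ (Φ' : L →ₗ[R] L), (∀ g : G, Commute (ρ g) Φ') →
      LinearMap.trace R L (Φ' * φ₁) = LinearMap.trace R L (Φ' * φ) := by
    intro Φ' hΦ'
    rw [hφ₁, mul_smul_comm, Finset.mul_sum, map_smul, map_sum]
    simp only [hconj Φ' hΦ']
    simp only [Finset.sum_const, Finset.card_univ, ← Nat.card_eq_fintype_card,
      nsmul_eq_mul, smul_eq_mul, ← mul_assoc, hw, one_mul]
  -- the transfer
  letI : Fintype (G ⧸ N) := Fintype.ofFinite _
  let ψ : G → (L →ₗ[R] L) := fun g => ρ g * φ₁ * ρ g⁻¹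
  have hψ : ∀ g g' : G, (g : G ⧸ N) = g' → ψ g = ψ g' := by
    intro g g' e
    have hn : ρ (g⁻¹ * g') * φ₁ * ρ (g⁻¹ * g')⁻¹ = φ₁ := hNS (QuotientGroup.eq.mp e)
    show ρ g * φ₁ * ρ g⁻¹ = _
    rw [← hn]
    simp only [ψ, ← mul_assoc, ← map_mul, mul_inv_cancel_left]
    simp only [mul_assoc, ← map_mul]
    congr 3
    group
  let F : G ⧸ N → (L →ₗ[R] L) := fun c => ψ c.out
  have hF : ∀ (g : G) (c : G ⧸ N), F (g • c) = ρ g * F c * ρ g⁻¹ := by
    intro g c
    have e : ψ (g • c).out = ψ (g * c.out) := hψ _ _ (by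
      rw [QuotientGroup.out_eq', ← smul_eq_mul, ← MulAction.Quotient.smul_coe,
        QuotientGroup.out_eq'])
    show ψ _ = ρ g * ψ c.out * ρ g⁻¹
    rw [e]
    simp only [ψ, map_mul, mul_inv_rev, mul_assoc]
  set Φ := ∑ c : G ⧸ N, F c with hΦ
  refine ⟨Φ, fun g => ?_, fun u => ?_, fun Φ' hΦ' => ?_⟩
  · have e : ρ g * Φ * ρ g⁻¹ = Φ := by
      rw [hΦ, Finset.mul_sum, Finset.sum_mul]
      exact Fintype.sum_equiv (MulAction.toPerm g) _ _ fun c => (hF g c).symm
    show ρ g * Φ = Φ * ρ g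
    conv_rhs => rw [← e]
    rw [mul_assoc _ (ρ g⁻¹), ← map_mul, inv_mul_cancel, map_one, mul_one]
  · set c₀ : G ⧸ N := ((1 : G) : G ⧸ N)
    have hF₀ : F c₀ = φ₁ := by
      show ψ c₀.out = φ₁
      rw [hψ _ 1 (QuotientGroup.out_eq' _)]
      simp [ψ]
    have hfix : ∀ c : G ⧸ N, x • c = c ↔ c = c₀ := by
      intro c
      induction c using QuotientGroup.induction_on with
      | H g =>
        rw [MulAction.Quotient.smul_coe, smul_eq_mul, QuotientGroup.eq, QuotientGroup.eq, mul_one]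
        constructor
        · intro hm
          refine inv_mem (hN g ?_)
          have := inv_mem hm
          simpa [mul_assoc] using this
        · intro hg
          rw [inv_mem_iff] at hg
          simpa [mul_assoc] using mul_mem (mul_mem (inv_mem hg) (inv_mem hxN)) hg
    -- a transversal for the free orbits
    let r : G ⧸ N → G ⧸ N := fun c =>
      (Quotient.mk (MulAction.orbitRel (Subgroup.zpowers x) (G ⧸ N)) c).out
    have hr : ∀ c, r c ∈ MulAction.orbit (Subgroup.zpowers x) c := fun c =>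
      Quotient.mk_out (s := MulAction.orbitRel (Subgroup.zpowers x) (G ⧸ N)) c
    have hex : ∀ c, ∃ i, i < p ∧ x ^ i • r c = c := by
      intro c
      obtain ⟨⟨g, hg⟩, hgc⟩ := MulAction.orbit_eq_iff.mpr (hr c) ▸ MulAction.mem_orbit_self
        (M := Subgroup.zpowers x) c
      have hg' : g ∈ (Finset.range (orderOf x)).image (x ^ ·) := mem_zpowers_iff_mem_range_orderOf.mp hg
      obtain ⟨i, hi, e⟩ := Finset.mem_image.mp hg'
      exact ⟨i, hx ▸ Finset.mem_range.mp hi, by rw [e]; exact hgc⟩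
    have hr_smul : ∀ (i : ℕ) c, r (x ^ i • c) = r c := fun i c =>
      congrArg Quotient.out (Quotient.sound
        ⟨⟨x ^ i, Subgroup.pow_mem _ (Subgroup.mem_zpowers x) i⟩, rfl⟩)
    let D := Finset.univ.filter fun c : G ⧸ N => c ≠ c₀ ∧ r c = c
    have hpow : ∀ i : ℕ, x ^ i • c₀ = c₀ := by
      intro i
      induction i with
      | zero => simp
      | succ i ih => rw [pow_succ, mul_smul, (hfix c₀).mpr rfl, ih]
    have hsum : ∑ c ∈ Finset.univ.erase c₀, F c =
        ∑ i ∈ Finset.range p, ∑ d ∈ D, F (x ^ i • d) := by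
      rw [← Finset.sum_product']
      symm
      refine Finset.sum_bij (fun id _ => x ^ id.1 • id.2) (fun id hid => ?_) ?_ ?_ (fun _ _ => rfl)
      · simp only [Finset.mem_product, D, Finset.mem_filter] at hid
        refine Finset.mem_erase.mpr ⟨fun e => hid.2.2.1 ?_, Finset.mem_univ _⟩
        exact MulAction.injective (x ^ id.1) (e.trans (hpow id.1).symm)
      · intro id hid jd hjd e
        simp only [Finset.mem_product, Finset.mem_range, D, Finset.mem_filter] at hid hjd
        have hd : id.2 = jd.2 := by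
          have := congrArg r e
          rwa [hr_smul, hr_smul, hid.2.2.2, hjd.2.2.2] at this
        refine Prod.ext ?_ hd
        by_contra hne
        wlog hlt : id.1 < jd.1 generalizing id jd
        · exact this jd id e.symm hjd hid hd.symm (Ne.symm hne) (by omega)
        apply hid.2.2.1
        have e1 : x ^ (jd.1 - id.1) • id.2 = id.2 := by
          apply MulAction.injective (x ^ id.1)
          show x ^ id.1 • x ^ (jd.1 - id.1) • id.2 = x ^ id.1 • id.2
          rw [smul_smul, ← pow_add, Nat.add_sub_cancel' hlt.le, hd, ← e, hd]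
        refine (hfix _).mp ?_
        have hmem : x ∈ Subgroup.zpowers (x ^ (jd.1 - id.1)) := by
          have hco : (jd.1 - id.1).Coprime (orderOf x) := by
            rw [hx, Nat.coprime_comm, (Fact.out : p.Prime).coprime_iff_not_dvd]
            exact Nat.not_dvd_of_pos_of_lt (by omega) (by omega)
          obtain ⟨m, hm⟩ := exists_pow_eq_self_of_coprime hco
          exact ⟨m, (zpow_natCast _ _).trans hm⟩
        exact Subgroup.zpowers_le.mpr (show x ^ (jd.1 - id.1) ∈ MulAction.stabilizer G id.2 from e1) hmem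
      · intro c hc
        obtain ⟨i, hi, e⟩ := hex c
        refine ⟨(i, r c), ?_, e⟩
        simp only [Finset.mem_product, Finset.mem_range, D, Finset.mem_filter, Finset.mem_univ,
          true_and]
        refine ⟨hi, fun e0 => Finset.ne_of_mem_erase hc ?_, ?_⟩
        · rw [← e, e0, hpow]
        · conv_rhs => rw [← e]
          rw [← hr_smul i (r c), e]
    have hsplit : Φ = φ₁ + relTrace ρ x p (∑ d ∈ D, F d) := by
      rw [hΦ, ← Finset.add_sum_erase _ _ (Finset.mem_univ c₀), hF₀, hsum, relTrace]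
      congr 1
      refine Finset.sum_congr rfl fun i _ => ?_
      rw [Finset.mul_sum, Finset.sum_mul]
      exact Finset.sum_congr rfl fun d _ => hF _ d
    obtain ⟨hu1, e1⟩ := hφ₁' u
    have hu2 := hT (∑ d ∈ D, F d) u u.2
    have hu2K : relTrace ρ x p (∑ d ∈ D, F d) u ∈ K := hIK hu2
    refine ⟨by rw [hsplit, LinearMap.add_apply]; exact add_mem hu1 hu2K, Subtype.ext ?_⟩
    rw [← e1, coe_clsT, coe_clsT,
      show (⟨Φ u, _⟩ : K) = ⟨φ₁ u, hu1⟩ + ⟨_, hu2K⟩ from
        Subtype.ext (show Φ u = _ by rw [hsplit]; rfl),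
      cls_add, (cls_eq_zero_iff red K I hpK bI h ⟨_, hu2K⟩).mpr hu2, add_zero]
  · rw [hΦ, Finset.mul_sum, map_sum]
    have : ∀ c, LinearMap.trace R L (Φ' * F c) = LinearMap.trace R L (Φ' * φ₁) :=
      fun c => hconj Φ' hΦ' _ _
    simp only [this, Finset.sum_const, Finset.card_univ, ← Nat.card_eq_fintype_card,
      ← Subgroup.index_eq_card, nsmul_eq_mul, map_mul, map_natCast, hidx, one_mul, htr₁ Φ' hΦ']

/-! ### The two Tate groups of a cyclic group of order `p` -/

variable (p)

/-- The fixed points of `x`. -/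
noncomputable abbrev fixK : Submodule R L := LinearMap.ker (ρ x - 1)
/-- The image of the norm. -/
noncomputable abbrev normI : Submodule R L := LinearMap.range (normSum ρ x p)
/-- The kernel of the norm. -/
noncomputable abbrev normK : Submodule R L := LinearMap.ker (normSum ρ x p)
/-- The image of `x - 1`. -/
noncomputable abbrev augI : Submodule R L := LinearMap.range (ρ x - 1)

variable {p}

theorem mem_fixK {u : L} : u ∈ fixK ρ x ↔ ρ x u = u := by
  simp [fixK, sub_eq_zero]

theorem rho_pow_fix {u : L} (hu : u ∈ fixK ρ x) (i : ℕ) : ρ (x ^ i) u = u := by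
  induction i with
  | zero => simp
  | succ i ih => rw [pow_succ, map_mul, Module.End.mul_apply, (mem_fixK ρ x).mp hu, ih]

theorem sum_range_shift {A : Type*} [AddCommMonoid A] (f : ℕ → A) {n : ℕ} (hn : f n = f 0) :
    ∑ i ∈ Finset.range n, f (i + 1) = ∑ i ∈ Finset.range n, f i := by
  cases n with
  | zero => simp
  | succ m => rw [Finset.sum_range_succ, hn, Finset.sum_range_succ' f]

theorem normSum_comm (hxp : x ^ p = 1) : ρ x * normSum ρ x p = normSum ρ x p := by
  rw [normSum, Finset.mul_sum]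
  refine Eq.trans (Finset.sum_congr rfl fun i _ => ?_)
    (sum_range_shift (fun i => ρ (x ^ i)) (by simp [hxp]))
  rw [pow_succ', map_mul]

theorem normSum_mul (hxp : x ^ p = 1) : normSum ρ x p * ρ x = normSum ρ x p := by
  rw [normSum, Finset.sum_mul]
  refine Eq.trans (Finset.sum_congr rfl fun i _ => ?_)
    (sum_range_shift (fun i => ρ (x ^ i)) (by simp [hxp]))
  rw [pow_succ, map_mul]

theorem normSum_inv_mul (hxp : x ^ p = 1) : normSum ρ x p * ρ x⁻¹ = normSum ρ x p := by
  conv_lhs => rw [← normSum_mul ρ x hxp, mul_assoc, ← map_mul, mul_inv_cancel, map_one, mul_one]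

theorem normI_le_fixK (hxp : x ^ p = 1) : normI p ρ x ≤ fixK ρ x := by
  rintro _ ⟨y, rfl⟩
  rw [mem_fixK, ← Module.End.mul_apply, normSum_comm ρ x hxp]

theorem augI_le_normK (hxp : x ^ p = 1) : augI ρ x ≤ normK p ρ x := by
  rintro _ ⟨y, rfl⟩
  rw [normK, LinearMap.mem_ker, ← Module.End.mul_apply, mul_sub, normSum_mul ρ x hxp, mul_one,
    sub_self, LinearMap.zero_apply]

theorem p_fix_mem (u : L) (hu : u ∈ fixK ρ x) : (p : R) • u ∈ normI p ρ x := by
  refine ⟨u, ?_⟩
  simp only [normSum, LinearMap.sum_apply, rho_pow_fix ρ x hu, Finset.sum_const,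
    Finset.card_range, Nat.cast_smul_eq_nsmul]

theorem pow_sub_one_mem_augI (i : ℕ) (v : L) : ρ (x ^ i) v - v ∈ augI ρ x := by
  induction i with
  | zero => simp
  | succ i ih =>
    have h1 : ρ (x ^ (i + 1)) v - v = (ρ x - 1) (ρ (x ^ i) v) + (ρ (x ^ i) v - v) := by
      rw [pow_succ', map_mul, Module.End.mul_apply, LinearMap.sub_apply, Module.End.one_apply]
      abel
    rw [h1]
    exact add_mem ⟨_, rfl⟩ ih

theorem p_ker_mem (u : L) (hu : u ∈ normK p ρ x) : (p : R) • u ∈ augI ρ x := by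
  have e : (p : R) • u = -∑ i ∈ Finset.range p, (ρ (x ^ i) u - u) := by
    rw [Finset.sum_sub_distrib, Finset.sum_const, Finset.card_range, Nat.cast_smul_eq_nsmul,
      ← LinearMap.sum_apply, show (∑ i ∈ Finset.range p, ρ (x ^ i)) u = 0 from hu, zero_sub,
      neg_neg]
  rw [e]
  exact neg_mem (Submodule.sum_mem _ fun i _ => pow_sub_one_mem_augI ρ x i u)

theorem relTrace_fix (ψ : L →ₗ[R] L) (u : L) (hu : u ∈ fixK ρ x) :
    relTrace ρ x p ψ u ∈ normI p ρ x := by
  refine ⟨ψ u, ?_⟩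
  simp only [relTrace, normSum, LinearMap.sum_apply, Module.End.mul_apply]
  refine Finset.sum_congr rfl fun i _ => ?_
  have : ρ (x ^ i)⁻¹ u = u := by
    conv_lhs => rw [← rho_pow_fix ρ x hu i, ← Module.End.mul_apply, ← map_mul, inv_mul_cancel,
      map_one, Module.End.one_apply]
  rw [this]

theorem sum_inv_pow (hxp : x ^ p = 1) :
    ∑ i ∈ Finset.range p, ρ (x ^ i)⁻¹ = normSum ρ x p := by
  rcases Nat.eq_zero_or_pos p with rfl | hp
  · simp [normSum]
  rw [normSum, ← Finset.sum_range_reflect (fun i => ρ (x ^ i)) p]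
  refine Eq.trans (sum_range_shift (fun i => ρ (x ^ i)⁻¹) (by simp [hxp])).symm
    (Finset.sum_congr rfl fun i hi => ?_)
  have hi' := Finset.mem_range.mp hi
  congr 1
  rw [inv_eq_iff_mul_eq_one, ← pow_add, show i + 1 + (p - 1 - i) = p by omega, hxp]

theorem relTrace_ker (hxp : x ^ p = 1) (ψ : L →ₗ[R] L) (u : L) (hu : u ∈ normK p ρ x) :
    relTrace ρ x p ψ u ∈ augI ρ x := by
  have e : relTrace ρ x p ψ u = ∑ i ∈ Finset.range p,
      (ρ (x ^ i) (ψ (ρ (x ^ i)⁻¹ u)) - ψ (ρ (x ^ i)⁻¹ u)) := by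
    rw [Finset.sum_sub_distrib, ← map_sum, ← LinearMap.sum_apply, sum_inv_pow ρ x hxp,
      show normSum ρ x p u = 0 from hu, map_zero, sub_zero]
    simp [relTrace, LinearMap.sum_apply]
  rw [e]
  exact Submodule.sum_mem _ fun i _ => pow_sub_one_mem_augI ρ x i _

variable [Module.Free R L] [Module.Finite R L]

/-- Rank one lifts on `L^P / Norm`. -/
theorem exists_rank_one_fix (h : IsRed p red) (hxp : x ^ p = 1)
    {ι : Type v} [Fintype ι] (bI : Basis ι R (normI p ρ x))
    (g : tateSpace red (fixK ρ x) (normI p ρ x) (p_fix_mem ρ x) bI →ₗ[k] k) (v : fixK ρ x) :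
    ∃ φ : L →ₗ[R] L, Commute (ρ x) φ ∧
      (∀ u : fixK ρ x, ∃ hu : φ u ∈ fixK ρ x,
        clsT red _ _ (p_fix_mem ρ x) bI ⟨φ u, hu⟩ =
          g (clsT red _ _ (p_fix_mem ρ x) bI u) • clsT red _ _ (p_fix_mem ρ x) bI v) ∧
      ∀ Φ : L →ₗ[R] L, Commute (ρ x) Φ → ∀ hv : Φ v ∈ fixK ρ x,
        red (LinearMap.trace R L (Φ * φ)) =
          1 * g (clsT red _ _ (p_fix_mem ρ x) bI ⟨Φ v, hv⟩) := by
  obtain ⟨f, hf⟩ := exists_functional red _ _ (p_fix_mem ρ x) bI h g
  have hσ : ∀ u : fixK ρ x, (⟨normSum ρ x p u, ⟨_, rfl⟩⟩ : normI p ρ x) =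
      ⟨(p : R) • (u : L), p_fix_mem ρ x u u.2⟩ := fun u => Subtype.ext (by
    simp only [normSum, LinearMap.sum_apply, rho_pow_fix ρ x u.2, Finset.sum_const,
      Finset.card_range, Nat.cast_smul_eq_nsmul])
  refine ⟨((f.comp (normSum ρ x p).rangeRestrict).smulRight (v : L)), ?_, fun u => ?_,
    fun Φ _ hv => ?_⟩
  · refine LinearMap.ext fun y => ?_
    simp only [Module.End.mul_apply, LinearMap.smulRight_apply, LinearMap.comp_apply, map_smul,
      (mem_fixK ρ x).mp v.2]
    congr 2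
    exact Subtype.ext (by
      show normSum ρ x p y = normSum ρ x p (ρ x y)
      rw [← Module.End.mul_apply, normSum_mul ρ x hxp])
  · refine ⟨Submodule.smul_mem _ _ v.2, Subtype.ext ?_⟩
    rw [coe_clsT, Submodule.coe_smul, coe_clsT, ← hf, ← hσ, ← cls_smul]
    exact congrArg _ (Subtype.ext rfl)
  · rw [show Φ * (f.comp (normSum ρ x p).rangeRestrict).smulRight (v : L) =
      (f.comp (normSum ρ x p).rangeRestrict).smulRight (Φ v) from
        LinearMap.ext fun z => by simp, LinearMap.trace_smulRight, one_mul, LinearMap.comp_apply,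
      ← hf, ← hσ]
    rfl

/-- Rank one lifts on `Ker Norm / (x - 1)`. -/
theorem exists_rank_one_ker (h : IsRed p red) (hxp : x ^ p = 1)
    {ι : Type v} [Fintype ι] (bI : Basis ι R (augI ρ x))
    (g : tateSpace red (normK p ρ x) (augI ρ x) (p_ker_mem ρ x) bI →ₗ[k] k) (v : normK p ρ x) :
    ∃ φ : L →ₗ[R] L, Commute (ρ x) φ ∧
      (∀ u : normK p ρ x, ∃ hu : φ u ∈ normK p ρ x,
        clsT red _ _ (p_ker_mem ρ x) bI ⟨φ u, hu⟩ =
          g (clsT red _ _ (p_ker_mem ρ x) bI u) • clsT red _ _ (p_ker_mem ρ x) bI v) ∧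
      ∀ Φ : L →ₗ[R] L, Commute (ρ x) Φ → ∀ hv : Φ v ∈ normK p ρ x,
        red (LinearMap.trace R L (Φ * φ)) =
          (-1) * g (clsT red _ _ (p_ker_mem ρ x) bI ⟨Φ v, hv⟩) := by
  obtain ⟨f', hf⟩ := exists_functional red _ _ (p_ker_mem ρ x) bI h g
  set y := ρ x⁻¹ with hy
  have hyx : y * ρ x = 1 := by rw [hy, ← map_mul, inv_mul_cancel, map_one]
  have hyp : y ^ p = 1 := by rw [hy, ← map_pow, inv_pow, hxp, inv_one, map_one]
  have hyσ : y * normSum ρ x p = normSum ρ x p := by
    conv_lhs => rw [← normSum_comm ρ x hxp, ← mul_assoc, hyx, one_mul]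
  have hmem : ∀ z, (y - 1) z ∈ augI ρ x := fun z => ⟨-(y z), by
    have e : ρ x (y z) = z := by
      rw [← Module.End.mul_apply, hy, ← map_mul, mul_inv_cancel, map_one, Module.End.one_apply]
    simp only [map_neg, LinearMap.sub_apply, Module.End.one_apply, e, neg_sub]⟩
  set f : L →ₗ[R] R := f'.comp (LinearMap.codRestrict (augI ρ x) (y - 1) hmem) with hfdef
  -- partial sums
  let S : ℕ → (L →ₗ[R] L) := fun i => ∑ j ∈ Finset.range i, ρ (x ^ j)
  have hS : ∀ i, S (i + 1) = 1 + ρ x * S i := by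
    intro i
    simp only [S, Finset.sum_range_succ', pow_zero, map_one, Finset.mul_sum, pow_succ', map_mul]
    rw [add_comm]
  have hfσ : ∀ z, f (normSum ρ x p z) = 0 := by
    intro z
    have e : LinearMap.codRestrict (augI ρ x) (y - 1) hmem (normSum ρ x p z) = 0 := Subtype.ext (by
      show (y - 1) (normSum ρ x p z) = 0
      rw [← Module.End.mul_apply, sub_mul, hyσ, one_mul, sub_self, LinearMap.zero_apply])
    rw [hfdef, LinearMap.comp_apply, e, map_zero]
  have hsum : ∀ z, ∑ i ∈ Finset.range p, f ((y ^ i) z) = f (normSum ρ x p z) := by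
    intro z
    rw [← map_sum, ← LinearMap.sum_apply, ← sum_inv_pow ρ x hxp]
    simp only [hy, ← map_pow, inv_pow]
  set D : L →ₗ[R] L := ∑ i ∈ Finset.range p, (i : R) • y ^ i with hD
  have hD1 : (y - 1) * D = (p : R) • 1 - normSum ρ x p := by
    have tele : ∀ n : ℕ, (y - 1) * ∑ i ∈ Finset.range n, (i : R) • y ^ i =
        (n : R) • y ^ n - ∑ i ∈ Finset.range n, y ^ (i + 1) := by
      intro n
      induction n with
      | zero => simp
      | succ n ih =>
        rw [Finset.sum_range_succ, mul_add, ih, Finset.sum_range_succ, mul_smul_comm, sub_mul,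
          one_mul, ← pow_succ', Nat.cast_succ, add_smul, one_smul, smul_sub]
        abel
    rw [hD, tele, hyp, sum_range_shift (fun i => y ^ i) (by simp [hyp]),
      ← sum_inv_pow ρ x hxp]
    simp only [hy, ← map_pow, inv_pow]
  have hfD : ∀ u : normK p ρ x, red (f (D u)) = g (clsT red _ _ (p_ker_mem ρ x) bI u) := by
    intro u
    rw [← hf, hfdef, LinearMap.comp_apply]
    congr 2
    refine Subtype.ext ?_
    show (y - 1) (D u) = (p : R) • (u : L)
    rw [← Module.End.mul_apply, hD1, LinearMap.sub_apply,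
      show normSum ρ x p u = 0 from u.2, sub_zero, LinearMap.smul_apply, Module.End.one_apply]
  let φ : L →ₗ[R] L := ∑ i ∈ Finset.range p, (f.comp (y ^ i)).smulRight (S i v)
  have hφapp : ∀ z, φ z = ∑ i ∈ Finset.range p, f ((y ^ i) z) • S i v := fun z => by
    simp [φ, LinearMap.sum_apply]
  refine ⟨φ, ?_, fun u => ?_, fun Φ hΦ hv' => ?_⟩
  · refine LinearMap.ext fun z => ?_
    rw [Module.End.mul_apply, Module.End.mul_apply, hφapp, hφapp, map_sum,
      ← sum_range_shift (fun i => f ((y ^ i) (ρ x z)) • S i v) (by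
        show f ((y ^ p) (ρ x z)) • normSum ρ x p v = f ((y ^ 0) (ρ x z)) • (S 0) v
        rw [show normSum ρ x p v = 0 from v.2, smul_zero]
        simp [S])]
    have e : ∀ i, f ((y ^ (i + 1)) (ρ x z)) • S (i + 1) v =
        f ((y ^ i) z) • (v : L) + ρ x (f ((y ^ i) z) • S i v) := by
      intro i
      rw [hS, pow_succ, Module.End.mul_apply, ← Module.End.mul_apply y, hyx, Module.End.one_apply,
        LinearMap.add_apply, Module.End.one_apply, smul_add, map_smul, Module.End.mul_apply]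
    rw [Finset.sum_congr rfl fun i _ => e i, Finset.sum_add_distrib, ← Finset.sum_smul, hsum,
      hfσ, zero_smul, zero_add]
  · have haug : φ u - f (D u) • (v : L) ∈ augI ρ x := by
      have e : f (D u) • (v : L) = ∑ i ∈ Finset.range p, f ((y ^ i) u) • ((i : R) • (v : L)) := by
        rw [hD, LinearMap.sum_apply, map_sum, Finset.sum_smul]
        refine Finset.sum_congr rfl fun i _ => ?_
        rw [LinearMap.smul_apply, map_smul, smul_eq_mul, mul_comm, mul_smul]
      rw [hφapp, e, ← Finset.sum_sub_distrib]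
      refine Submodule.sum_mem _ fun i _ => ?_
      rw [← smul_sub]
      refine Submodule.smul_mem _ _ ?_
      have e2 : S i v - (i : R) • (v : L) =
          ∑ j ∈ Finset.range i, (ρ (x ^ j) v - (v : L)) := by
        simp [S, LinearMap.sum_apply, Finset.sum_sub_distrib, Nat.cast_smul_eq_nsmul]
      rw [e2]
      exact Submodule.sum_mem _ fun j _ => pow_sub_one_mem_augI ρ x j _
    have hK' := augI_le_normK ρ x hxp haug
    have hu : φ u ∈ normK p ρ x := by
      have := add_mem hK' (Submodule.smul_mem (normK p ρ x) (f (D u)) v.2)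
      rwa [sub_add_cancel] at this
    refine ⟨hu, Subtype.ext ?_⟩
    rw [coe_clsT, Submodule.coe_smul, coe_clsT, ← hfD, ← cls_smul,
      show (⟨φ u, hu⟩ : normK p ρ x) = ⟨_, hK'⟩ + f (D u) • v from
        Subtype.ext (sub_add_cancel _ _).symm,
      cls_add, (cls_eq_zero_iff red _ _ _ bI h ⟨_, hK'⟩).mpr haug, zero_add]
  · set w : L := Φ v with hwdef
    have hSΦ : ∀ i, Φ (S i v) = S i w := by
      intro i
      simp only [S, LinearMap.sum_apply, map_sum]
      refine Finset.sum_congr rfl fun j _ => ?_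
      rw [map_pow, ← Module.End.mul_apply, ← (hΦ.pow_left j).eq, Module.End.mul_apply]
    have htr : LinearMap.trace R L (Φ * φ) = ∑ i ∈ Finset.range p, f ((y ^ i) (S i w)) := by
      rw [show Φ * φ = ∑ i ∈ Finset.range p, (f.comp (y ^ i)).smulRight (S i w) from
        LinearMap.ext fun z => by simp [hφapp, LinearMap.sum_apply, hSΦ]]
      simp [map_sum, LinearMap.trace_smulRight]
    let T : ℕ → (L →ₗ[R] L) := fun i => ∑ j ∈ Finset.range i, y ^ (j + 1)
    have hST : ∀ i, y ^ i * S i = T i := by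
      intro i
      induction i with
      | zero => simp [S, T]
      | succ i ih =>
        have : y ^ (i + 1) * S (i + 1) = y ^ (i + 1) + y ^ i * S i := by
          rw [hS, mul_add, mul_one, pow_succ, mul_assoc (y ^ i) y (ρ x * S i), ← mul_assoc y,
            hyx, one_mul]
        rw [this, ih]
        simp [T, Finset.sum_range_succ, add_comm]
    have hTD : ∀ n, ∑ i ∈ Finset.range (n + 1), (T i + (i : R) • y ^ i) =
        ((n + 1 : ℕ) : R) • T n := by
      intro n
      induction n with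
      | zero => simp [T]
      | succ n ih =>
        rw [Finset.sum_range_succ, ih]
        simp only [T, Finset.sum_range_succ, Nat.cast_succ, add_smul, one_smul, smul_add]
        abel
    have hp' : p - 1 + 1 = p := by
      have : 0 < p := Nat.pos_of_ne_zero fun e => h.ne (by simp [e])
      omega
    have hTD' := hTD (p - 1)
    rw [hp', Finset.sum_add_distrib, ← hD] at hTD'
    have hp0 : red (p : R) = 0 := (h.ker _).mpr dvd_rfl
    have key : red (∑ i ∈ Finset.range p, f (T i w)) + red (f (D w)) = 0 := by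
      rw [← map_add, ← map_sum, ← LinearMap.sum_apply, ← map_add, ← LinearMap.add_apply, hTD',
        LinearMap.smul_apply, map_smul, smul_eq_mul, map_mul, hp0, zero_mul]
    rw [htr, show ∑ i ∈ Finset.range p, f ((y ^ i) (S i w)) = ∑ i ∈ Finset.range p, f (T i w) from
      Finset.sum_congr rfl fun i _ => by rw [← hST]; rfl, eq_neg_of_add_eq_zero_left key,
      hfD ⟨w, hv'⟩, neg_one_mul]

/-- The action on `K / I` of an endomorphism of the lattice which preserves `I`. -/
theorem exists_descend (h : IsRed p red) (f : L →ₗ[R] L) (hfK : ∀ u ∈ K, f u ∈ K)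
    (hfI : ∀ u ∈ I, f u ∈ I) :
    ∃ F : tateSpace red K I hpK bI →ₗ[k] tateSpace red K I hpK bI,
      ∀ u : K, clsT red K I hpK bI ⟨f u, hfK u u.2⟩ = F (clsT red K I hpK bI u) := by
  classical
  let fI : I →ₗ[R] I := f.restrict hfI
  let A : (ι → k) →ₗ[k] (ι → k) := Matrix.toLin' ((LinearMap.toMatrix bI bI fI).map red)
  have hA : ∀ u : K, cls red K I hpK bI ⟨f u, hfK u u.2⟩ = A (cls red K I hpK bI u) := by
    intro u
    funext i
    have e : (⟨(p : R) • f u, hpK _ (hfK u u.2)⟩ : I) = fI ⟨(p : R) • (u : L), hpK u u.2⟩ :=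
      Subtype.ext (map_smul f _ _).symm
    simp only [A, Matrix.toLin'_apply, Matrix.mulVec, dotProduct, cls, Matrix.map_apply, e]
    rw [← LinearMap.toMatrix_mulVec_repr bI bI fI, Matrix.mulVec, dotProduct, map_sum]
    exact Finset.sum_congr rfl fun j _ => map_mul _ _ _
  have hmem : ∀ z ∈ tateSpace red K I hpK bI, A z ∈ tateSpace red K I hpK bI := by
    intro z hz
    obtain ⟨u, rfl⟩ := exists_of_mem red K I hpK bI h hz
    rw [← hA]
    exact cls_mem red K I hpK bI ⟨f u, hfK u u.2⟩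
  exact ⟨A.restrict hmem, fun u => Subtype.ext (hA u)⟩

end Cfsg.Agent.Blocks.Tate
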