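import Cfsg.Agent.Lib.Blocks.Regular
import Cfsg.Agent.Lib.Blocks.LatticeTate
import Mathlib.RingTheory.DiscreteValuationRing.Basic
import Mathlib.RingTheory.RootsOfUnity.Complex
import Mathlib.FieldTheory.IsAlgClosed.Basic
import Mathlib.FieldTheory.KummerExtension
import Mathlib.Algebra.CharP.Quotient
import Mathlib.Algebra.Algebra.ZMod

/-!
# The unramified coefficient ring

`W p` is generated by the roots of unity of order prime to `p`; `R0 M p` is its localization at
`M`, a discrete valuation ring with uniformizer `p` and residue field `Res M`.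
-/

set_option linter.unusedSectionVars false

namespace Cfsg.Agent.Blocks

open Polynomial

universe u

variable {p : ℕ} {M : Ideal AlgInt} [hP : M.IsPrime]

/-- The roots of unity of order prime to `p`. -/
def pRoots (p : ℕ) : Set ℂ := {z | ∃ n : ℕ, ¬ p ∣ n ∧ z ^ n = 1}

/-- The ring generated by the roots of unity of order prime to `p`. -/
def wRing (p : ℕ) : Subring ℂ := Subring.closure (pRoots p)

theorem isIntegral_wRing {a : ℂ} (ha : a ∈ wRing p) : IsIntegral ℤ a := by
  refine (Subring.closure_le (t := (integralClosure ℤ ℂ).toSubring)).mpr ?_ ha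
  rintro z ⟨n, hn, hz⟩
  exact IsIntegral.of_pow (n := n) (Nat.pos_of_ne_zero fun e => hn (by rw [e]; exact dvd_zero p))
    (by rw [hz]; exact isIntegral_one)

theorem wRing_le_loc {a : ℂ} (ha : a ∈ wRing p) : a ∈ Loc M := integral_mem_loc (isIntegral_wRing ha)

theorem root_mem_wRing {z : ℂ} {n : ℕ} (hn : ¬ p ∣ n) (hz : z ^ n = 1) : z ∈ wRing p :=
  Subring.subset_closure ⟨n, hn, hz⟩

/-- The elements of `wRing p` are periodic modulo `p` under the Frobenius map. -/
theorem exists_frobenius_periodic [hp : Fact p.Prime] (hM : IsPModular p M) {a : ℂ}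
    (ha : a ∈ wRing p) : ∃ k : ℕ, 0 < k ∧ ∃ w ∈ wRing p, a ^ p ^ k = a + (p : ℂ) * w := by
  let I : Ideal (wRing p) := Ideal.span {((p : ℕ) : wRing p)}
  haveI : CharP (wRing p ⧸ I) p := by
    refine CharP.quotient (wRing p) p ?_
    rintro hu
    obtain ⟨w, hw⟩ := hu.exists_left_inv
    have h1 : (⟨(w : ℂ), wRing_le_loc w.2⟩ : Loc M) * (p : Loc M) = 1 :=
      Subtype.ext (by simpa using congrArg (fun t : wRing p => (t : ℂ)) hw)
    haveI := charP_res hM
    have h2 := congrArg (red M) h1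
    rw [map_mul, map_natCast, CharP.cast_eq_zero, mul_zero, map_one] at h2
    exact zero_ne_one h2
  have hit : ∀ (x : wRing p ⧸ I) (k m : ℕ), x ^ p ^ k = x → x ^ p ^ (k * m) = x := by
    intro x k m h
    induction m with
    | zero => simp
    | succ m ih => rw [Nat.mul_succ, pow_add, pow_mul, ih, h]
  suffices ∃ k : ℕ, 0 < k ∧
      Ideal.Quotient.mk I ⟨a, ha⟩ ^ p ^ k = Ideal.Quotient.mk I ⟨a, ha⟩ by
    obtain ⟨k, hk, e⟩ := this
    rw [← map_pow, Ideal.Quotient.eq, Ideal.mem_span_singleton] at e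
    obtain ⟨w, hw⟩ := e
    refine ⟨k, hk, w, w.2, ?_⟩
    have e' := congrArg (fun t : wRing p => (t : ℂ)) hw
    simp only [AddSubgroupClass.coe_sub, SubmonoidClass.coe_pow, Subring.coe_mul, SubringClass.coe_natCast] at e'
    linear_combination e'
  induction ha using Subring.closure_induction with
  | mem z hz =>
    obtain ⟨n, hn, hzn⟩ := hz
    have hco : p.Coprime n := (hp.out.coprime_iff_not_dvd).mpr hn
    have hn0 : n ≠ 0 := fun e => hn (e ▸ dvd_zero p)
    refine ⟨n.totient, Nat.totient_pos.mpr (Nat.pos_of_ne_zero hn0), ?_⟩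
    rw [← map_pow]
    congr 1
    suffices e : z ^ p ^ n.totient = z from Subtype.ext e
    have hmod := Nat.ModEq.pow_totient hco
    have h1 : 1 ≤ p ^ n.totient := Nat.one_le_pow _ _ hp.out.pos
    obtain ⟨c, hc⟩ := (Nat.modEq_iff_dvd' h1).mp hmod.symm
    rw [show p ^ n.totient = n * c + 1 by omega, pow_succ, pow_mul, hzn, one_pow, one_mul]
  | zero => exact ⟨1, one_pos, by
      rw [show (⟨0, zero_mem _⟩ : wRing p) = 0 from rfl, map_zero, zero_pow (pow_ne_zero _ hp.out.ne_zero)]⟩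
  | one => exact ⟨1, one_pos, by
      rw [show (⟨1, one_mem _⟩ : wRing p) = 1 from rfl, map_one, one_pow]⟩
  | add x y hx hy ihx ihy =>
    obtain ⟨k, hk, ex⟩ := ihx
    obtain ⟨l, hl, ey⟩ := ihy
    refine ⟨k * l, Nat.mul_pos hk hl, ?_⟩
    rw [show (⟨x + y, add_mem hx hy⟩ : wRing p) = ⟨x, hx⟩ + ⟨y, hy⟩ from rfl, map_add,
      add_pow_char_pow, hit _ k l ex, Nat.mul_comm k l, hit _ l k ey]
  | neg x hx ihx =>
    obtain ⟨k, hk, ex⟩ := ihx
    refine ⟨k, hk, ?_⟩
    rw [show (⟨-x, neg_mem hx⟩ : wRing p) = -⟨x, hx⟩ from rfl, map_neg, ← zero_sub,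
      sub_pow_char_pow, zero_pow (pow_ne_zero _ hp.out.ne_zero), ex]
  | mul x y hx hy ihx ihy =>
    obtain ⟨k, hk, ex⟩ := ihx
    obtain ⟨l, hl, ey⟩ := ihy
    refine ⟨k * l, Nat.mul_pos hk hl, ?_⟩
    rw [show (⟨x * y, mul_mem hx hy⟩ : wRing p) = ⟨x, hx⟩ * ⟨y, hy⟩ from rfl, map_mul, mul_pow,
      hit _ k l ex, Nat.mul_comm k l, hit _ l k ey]

/-- The localization of `wRing p` at `M`. -/
def R0 (M : Ideal AlgInt) [M.IsPrime] (p : ℕ) : Subring ℂ where
  carrier := {z | ∃ a ∈ wRing p, ∃ b ∈ wRing p, ¬ MemLocalIdeal M b ∧ z = a / b}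
  one_mem' := ⟨1, one_mem _, 1, one_mem _, not_memLocalIdeal_one, by simp⟩
  zero_mem' := ⟨0, zero_mem _, 1, one_mem _, not_memLocalIdeal_one, by simp⟩
  mul_mem' := by
    rintro x y ⟨a, ha, b, hb, hbI, rfl⟩ ⟨c, hc, d, hd, hdI, rfl⟩
    exact ⟨a * c, mul_mem ha hc, b * d, mul_mem hb hd,
      fun h => hdI (memLocalIdeal_of_mul (wRing_le_loc hd) (wRing_le_loc hb) hbI h),
      by rw [div_mul_div_comm]⟩
  add_mem' := by
    rintro x y ⟨a, ha, b, hb, hbI, rfl⟩ ⟨c, hc, d, hd, hdI, rfl⟩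
    have hb0 : b ≠ 0 := fun e => hbI (e ▸ memLocalIdeal_zero)
    have hd0 : d ≠ 0 := fun e => hdI (e ▸ memLocalIdeal_zero)
    exact ⟨a * d + b * c, add_mem (mul_mem ha hd) (mul_mem hb hc), b * d, mul_mem hb hd,
      fun h => hdI (memLocalIdeal_of_mul (wRing_le_loc hd) (wRing_le_loc hb) hbI h),
      by rw [div_add_div _ _ hb0 hd0]⟩
  neg_mem' := by
    rintro x ⟨a, ha, b, hb, hbI, rfl⟩
    exact ⟨-a, neg_mem ha, b, hb, hbI, by rw [neg_div]⟩

theorem wRing_le_R0 {a : ℂ} (ha : a ∈ wRing p) : a ∈ R0 M p :=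
  ⟨a, ha, 1, one_mem _, not_memLocalIdeal_one, by simp⟩

theorem R0_le_loc {z : ℂ} (hz : z ∈ R0 M p) : z ∈ Loc M := by
  obtain ⟨a, ha, b, hb, hbI, rfl⟩ := hz
  rw [div_eq_mul_inv]
  exact mul_mem (wRing_le_loc ha) (inv_mem_loc (wRing_le_loc hb) hbI)

/-- The inclusion in the local ring. -/
def R0.toLoc (M : Ideal AlgInt) [M.IsPrime] (p : ℕ) : R0 M p →+* Loc M :=
  Subring.inclusion fun _ h => R0_le_loc h

/-- Reduction modulo `p`. -/
noncomputable def red0 (M : Ideal AlgInt) [M.IsPrime] (p : ℕ) : R0 M p →+* Res M :=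
  (red M).comp (R0.toLoc M p)

theorem red0_eq_zero_iff' {z : R0 M p} : red0 M p z = 0 ↔ MemLocalIdeal M (z : ℂ) :=
  red_eq_zero_iff

theorem inv_mem_R0 {b : ℂ} (hb : b ∈ R0 M p) (hbI : ¬ MemLocalIdeal M b) : b⁻¹ ∈ R0 M p := by
  obtain ⟨a, ha, c, hc, hcI, rfl⟩ := hb
  refine ⟨c, hc, a, ha, fun h => hbI ?_, by rw [inv_div]⟩
  rw [div_eq_inv_mul]
  exact memLocalIdeal_mul_left (inv_mem_loc (wRing_le_loc hc) hcI) h

variable [hp : Fact p.Prime]

/-- The maximal ideal of `R0` is generated by `p`. -/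
theorem p_dvd_of_memLocalIdeal (hM : IsPModular p M) {z : R0 M p}
    (hz : MemLocalIdeal M (z : ℂ)) : (p : R0 M p) ∣ z := by
  obtain ⟨a, ha, b, hb, hbI, e⟩ := z.2
  have hb0 : b ≠ 0 := fun h => hbI (h ▸ memLocalIdeal_zero)
  have haI : MemLocalIdeal M a := by
    have : a = b * (z : ℂ) := by rw [e]; field_simp
    rw [this]
    exact memLocalIdeal_mul_left (wRing_le_loc hb) hz
  obtain ⟨k, hk, w, hw, hfr⟩ := exists_frobenius_periodic hM ha
  have hq : p ^ k - 1 ≠ 0 := by
    have := Nat.one_lt_pow hk.ne' hp.out.one_lt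
    omega
  set u := 1 - a ^ (p ^ k - 1)
  have hu : ¬ MemLocalIdeal M u := by
    intro h
    refine not_memLocalIdeal_one (M := M) ?_
    have h2 : MemLocalIdeal M (a ^ (p ^ k - 1)) := by
      obtain ⟨j, hj⟩ := Nat.exists_eq_succ_of_ne_zero hq
      rw [hj, pow_succ]
      exact memLocalIdeal_mul_left (pow_mem (wRing_le_loc ha) j) haI
    simpa [u] using memLocalIdeal_add h h2
  have hu0 : u ≠ 0 := fun h => hu (h ▸ memLocalIdeal_zero)
  have huW : u ∈ wRing p := sub_mem (one_mem _) (pow_mem ha _)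
  have key : u * a = -((p : ℂ) * w) := by
    have : a ^ (p ^ k - 1) * a = a ^ p ^ k := by
      rw [← pow_succ, Nat.sub_add_cancel (Nat.one_le_pow _ _ hp.out.pos)]
    rw [sub_mul, one_mul, this, hfr]; ring
  refine ⟨⟨-w / (u * b), -w, neg_mem hw, u * b, mul_mem huW hb,
    fun h => hbI (memLocalIdeal_of_mul (wRing_le_loc hb) (wRing_le_loc huW) hu h), rfl⟩, Subtype.ext ?_⟩
  rw [e]
  push_cast
  field_simp
  linear_combination key

theorem exists_root_lift (hM : IsPModular p M) (r : Res M) :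
    ∃ z : R0 M p, red0 M p z = r := by
  haveI := charP_res hM
  rcases eq_or_ne r 0 with rfl | hr
  · exact ⟨0, map_zero _⟩
  -- `r` is algebraic over the prime field, so it is a root of unity
  letI : Algebra (ZMod p) (Res M) := ZMod.algebra _ p
  obtain ⟨x, hx⟩ := red_surjective r
  obtain ⟨a, b, hb, hab⟩ := x.2
  have hint : ∀ c : AlgInt, IsIntegral (ZMod p) (red M (toLoc M c)) := by
    intro c
    obtain ⟨P, hPm, hPe⟩ := (integralClosure.AlgebraIsIntegral (R := ℤ) (A := ℂ)).isIntegral c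
    refine ⟨P.map (Int.castRingHom (ZMod p)), hPm.map _, ?_⟩
    rw [eval₂_map, RingHom.ext_int ((algebraMap (ZMod p) (Res M)).comp (Int.castRingHom (ZMod p)))
      (((red M).comp (toLoc M)).comp (algebraMap ℤ AlgInt))]
    show eval₂ (((red M).comp (toLoc M)).comp (algebraMap ℤ AlgInt)) (((red M).comp (toLoc M)) c) P = 0
    rw [← hom_eval₂, hPe, map_zero]
  have hr' : IsIntegral (ZMod p) r := by
    have e : r * red M (toLoc M b) = red M (toLoc M a) := by
      rw [← hx, ← map_mul]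
      congr 1
      refine Subtype.ext ?_
      push_cast
      rw [← hab, coe_toLoc, coe_toLoc, div_mul_cancel₀ _ (coe_ne_zero_of_notMem hb)]
    have hb' : red M (toLoc M b) ≠ 0 := by
      rw [Ne, red_eq_zero_iff, coe_toLoc, memLocalIdeal_coe_iff]; exact hb
    rw [show r = red M (toLoc M a) * (red M (toLoc M b))⁻¹ by rw [← e, mul_inv_cancel_right₀ hb']]
    exact (hint a).mul (hint b).inv
  haveI : Module.Finite (ZMod p) (Algebra.adjoin (ZMod p) {r}) :=
    Module.Finite.iff_fg.mpr hr'.fg_adjoin_singleton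
  haveI : Finite (Algebra.adjoin (ZMod p) {r}) := Module.finite_of_finite (ZMod p)
  obtain ⟨i, j, hij, e⟩ : ∃ i j : ℕ, i < j ∧ r ^ i = r ^ j := by
    obtain ⟨i, j, hne, e⟩ := Finite.exists_ne_map_eq_of_infinite
      fun n : ℕ => (⟨r ^ n, pow_mem (Algebra.self_mem_adjoin_singleton _ r) n⟩ :
        Algebra.adjoin (ZMod p) {r})
    rcases hne.lt_or_gt with h | h
    · exact ⟨i, j, h, congrArg Subtype.val e⟩
    · exact ⟨j, i, h, (congrArg Subtype.val e).symm⟩
  have hrn : r ^ (j - i) = 1 := by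
    refine mul_left_cancel₀ (pow_ne_zero i hr) ?_
    rw [← pow_add, Nat.add_sub_cancel' hij.le, mul_one, e]
  obtain ⟨c, n, hn, hcn⟩ := Nat.exists_eq_pow_mul_and_not_dvd (show j - i ≠ 0 by omega) p hp.out.ne_one
  have hrn' : r ^ n = 1 := by
    rw [hcn, mul_comm, pow_mul] at hrn
    have : (r ^ n - 1) ^ p ^ c = 0 := by rw [sub_pow_char_pow, hrn, one_pow, sub_self]
    exact sub_eq_zero.mp (eq_zero_of_pow_eq_zero this)
  have hn0 : n ≠ 0 := fun h => hn (h ▸ dvd_zero p)
  have hζ := Complex.isPrimitiveRoot_exp n hn0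
  set ζ := Complex.exp (2 * Real.pi * Complex.I / n)
  have hζW : ζ ∈ wRing p := root_mem_wRing hn hζ.pow_eq_one
  let z : Fin n → R0 M p := fun i => ⟨ζ ^ (i : ℕ), wRing_le_R0 (pow_mem hζW _)⟩
  by_contra hne
  push Not at hne
  have hprod : x ^ n - 1 = ∏ i : Fin n, (x - R0.toLoc M p (z i)) := by
    refine Subtype.ext ?_
    have := congrArg (Polynomial.eval (x : ℂ))
      (X_pow_sub_C_eq_prod hζ (Nat.pos_of_ne_zero hn0) (show (1 : ℂ) ^ n = 1 from one_pow n))
    simp only [map_one, eval_sub, eval_pow, eval_X, eval_one, eval_prod, eval_C, mul_one] at this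
    push_cast
    rw [this, ← Fin.prod_univ_eq_prod_range]
    rfl
  have h0 := congrArg (red M) hprod
  rw [map_sub, map_pow, hx, hrn', map_one, sub_self, map_prod] at h0
  obtain ⟨i, -, hi⟩ := Finset.prod_eq_zero_iff.mp h0.symm
  rw [map_sub, hx, sub_eq_zero] at hi
  exact hne (z i) hi.symm

theorem isRed_red0 (hM : IsPModular p M) : Tate.IsRed p (red0 M p) where
  surj := exists_root_lift hM
  ker z := ⟨fun h => p_dvd_of_memLocalIdeal hM (red0_eq_zero_iff'.mp h), fun ⟨w, hw⟩ => by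
    haveI := charP_res hM
    rw [hw, map_mul, map_natCast, CharP.cast_eq_zero, zero_mul]⟩
  unit z hz := by
    have hI : ¬ MemLocalIdeal M (z : ℂ) := fun h => hz (red0_eq_zero_iff'.mpr h)
    have h0 : (z : ℂ) ≠ 0 := fun h => hI (h ▸ memLocalIdeal_zero)
    exact IsUnit.of_mul_eq_one ⟨(z : ℂ)⁻¹, inv_mem_R0 z.2 hI⟩ (Subtype.ext (mul_inv_cancel₀ h0))
  ne h := by
    have := congrArg (fun t : R0 M p => (t : ℂ)) h
    exact hp.out.ne_zero (by simpa using this)

theorem isDVR_R0 (hM : IsPModular p M) : IsDiscreteValuationRing (R0 M p) := by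
  classical
  have h := isRed_red0 hM
  refine IsDiscreteValuationRing.ofHasUnitMulPowIrreducibleFactorization ⟨(p : R0 M p), ⟨?_, ?_⟩, ?_⟩
  · intro hu
    have := (hu.map (red0 M p)).ne_zero
    exact this ((h.ker _).mpr dvd_rfl)
  · intro a b e
    by_contra hab
    push Not at hab
    have ha : (p : R0 M p) ∣ a := (h.ker a).mp (by_contra fun h' => hab.1 (h.unit a h'))
    have hb : (p : R0 M p) ∣ b := (h.ker b).mp (by_contra fun h' => hab.2 (h.unit b h'))
    obtain ⟨a', rfl⟩ := ha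
    obtain ⟨b', rfl⟩ := hb
    refine hab.1 (isUnit_of_dvd_one ⟨b', ?_⟩)
    refine mul_left_cancel₀ h.ne ?_
    rw [mul_one]
    conv_lhs => rw [e]
    ring
  · intro z hz
    have hex : ∃ m, ¬ (p : R0 M p) ^ m ∣ z := by
      by_contra hall
      push Not at hall
      apply hz
      have h0 : R0.toLoc M p z = 0 := eq_zero_of_forall_pow_dvd hM fun m =>
        ⟨m, le_rfl, by simpa using map_dvd (R0.toLoc M p) (hall m)⟩
      exact Subtype.ext (congrArg (fun t : Loc M => (t : ℂ)) h0)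
    obtain ⟨m, hm⟩ : ∃ m, Nat.find hex = m + 1 :=
      Nat.exists_eq_succ_of_ne_zero fun e => Nat.find_spec hex (by rw [e, pow_zero]; exact one_dvd z)
    obtain ⟨u, rfl⟩ : (p : R0 M p) ^ m ∣ z :=
      not_not.mp (Nat.find_min hex (show m < Nat.find hex by omega))
    have hu : IsUnit u := h.unit u fun hu0 => Nat.find_spec hex (by
      obtain ⟨v, rfl⟩ := (h.ker u).mp hu0
      rw [hm, pow_succ, ← mul_assoc]
      exact dvd_mul_right _ _)
    exact ⟨m, ⟨hu.unit, rfl⟩⟩

theorem isPrincipalIdealRing_R0 (hM : IsPModular p M) : IsPrincipalIdealRing (R0 M p) :=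
  haveI := isDVR_R0 hM
  inferInstance

/-- The residue field is algebraically closed. -/
theorem isAlgClosed_res (hM : IsPModular p M) : IsAlgClosed (Res M) := by
  refine IsAlgClosed.of_exists_root _ fun P hPm hPi => ?_
  choose z hz using exists_root_lift hM (M := M) (p := p)
  choose a ha b hb hbI hab using fun r : Res M => (z r).2
  -- lift the coefficients
  let c : ℕ → Loc M := fun i => R0.toLoc M p (z (P.coeff i))
  set n := P.natDegree
  let Q : (Loc M)[X] := X ^ n + ∑ i ∈ Finset.range n, C (c i) * X ^ i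
  have hn : n ≠ 0 := hPi.natDegree_pos.ne'
  have hQm : Q.Monic := monic_X_pow_add ((degree_sum_le _ _).trans_lt
    ((Finset.sup_lt_iff (by exact_mod_cast (bot_lt_iff_ne_bot.mpr (by simp)))).mpr fun i hi =>
      lt_of_le_of_lt (degree_C_mul_X_pow_le i (c i)) (by exact_mod_cast Finset.mem_range.mp hi)))
  have hmap : Q.map (red M) = P := by
    conv_rhs => rw [hPm.as_sum]
    simp only [Q, c, Polynomial.map_add, Polynomial.map_pow, map_X, Polynomial.map_sum,
      Polynomial.map_mul, map_C]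
    congr 1
    refine Finset.sum_congr rfl fun i _ => ?_
    congr 2
    exact hz _
  obtain ⟨w, hw⟩ := IsAlgClosed.exists_root (Q.map (Loc M).subtype)
    (by rw [hQm.degree_map]; intro h; exact hn (natDegree_eq_of_degree_eq_some (by
      rw [← hmap, hQm.degree_map]; exact h)))
  have hwL : w ∈ Loc M := mem_loc_of_isRoot hQm hw
  refine ⟨red M ⟨w, hwL⟩, ?_⟩
  rw [← hmap, eval_map]
  have : eval₂ (RingHom.id (Loc M)) (⟨w, hwL⟩ : Loc M) Q = 0 := by
    refine Subtype.ext ?_
    show (Loc M).subtype _ = 0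
    rw [hom_eval₂, RingHom.comp_id]
    rw [IsRoot.def, eval_map] at hw
    exact hw
  have h2 := hom_eval₂ Q (RingHom.id (Loc M)) (red M) ⟨w, hwL⟩
  rw [this, map_zero, RingHom.comp_id] at h2
  exact h2.symm
where
  mem_loc_of_isRoot {Q : (Loc M)[X]} (hQ : Q.Monic) {w : ℂ}
      (hw : (Q.map (Loc M).subtype).IsRoot w) : w ∈ Loc M := by
    classical
    set n := Q.natDegree with hnQ
    choose a b hb hab using fun i : Fin n => (Q.coeff i).2
    set B : AlgInt := ∏ i, b i
    have hB : B ∉ M := fun h => by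
      obtain ⟨i, -, hi⟩ := (Ideal.IsPrime.prod_mem_iff).mp h
      exact hb i hi
    have hint : IsIntegral ℤ ((B : ℂ) * w) := by
      refine isIntegral_trans (A := integralClosure ℤ ℂ) _ ?_
      let c : Fin n → AlgInt := fun i => B ^ (n - 1 - (i : ℕ)) * a i * ∏ j ∈ Finset.univ.erase i, b j
      refine ⟨X ^ n + ∑ i : Fin n, C (c i) * X ^ (i : ℕ), monic_X_pow_add (degree_sum_fin_lt c), ?_⟩
      rw [eval₂_add, eval₂_X_pow, eval₂_finsetSum]
      simp only [eval₂_mul, eval₂_C, eval₂_X_pow]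
      have e : (w : ℂ) ^ n + ∑ i : Fin n, ((Q.coeff i : Loc M) : ℂ) * w ^ (i : ℕ) = 0 := by
        have h' : eval₂ (Loc M).subtype w Q = 0 := by rwa [IsRoot.def, eval_map] at hw
        conv at h' => lhs; rw [hQ.as_sum]
        rw [eval₂_add, eval₂_X_pow, eval₂_finsetSum, ← Fin.sum_univ_eq_sum_range] at h'
        simpa using h'
      calc ((B : ℂ) * w) ^ n + ∑ i : Fin n, algebraMap AlgInt ℂ (c i) * ((B : ℂ) * w) ^ (i : ℕ)
          = (B : ℂ) ^ n * (w ^ n + ∑ i : Fin n, ((Q.coeff i : Loc M) : ℂ) * w ^ (i : ℕ)) := by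
            rw [mul_add, mul_pow, Finset.mul_sum]
            congr 1
            refine Finset.sum_congr rfl fun i _ => ?_
            show ((c i : AlgInt) : ℂ) * _ = _
            have hsplit : (B : ℂ) = (b i : ℂ) * ((∏ j ∈ Finset.univ.erase i, b j : AlgInt) : ℂ) := by
              rw [← Subalgebra.coe_mul, Finset.mul_prod_erase _ _ (Finset.mem_univ i)]
            have hbi := coe_ne_zero_of_notMem (hb i)
            rw [← hab i, mul_pow, show (B : ℂ) ^ n = (B : ℂ) ^ (n - 1 - (i : ℕ)) * B * (B : ℂ) ^ (i : ℕ) by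
              rw [← pow_succ, ← pow_add]; congr 1; omega]
            simp only [c, Subalgebra.coe_mul, SubmonoidClass.coe_pow]
            rw [hsplit]
            field_simp
        _ = 0 := by rw [e, mul_zero]
    exact ⟨aint hint, B, hB, by
      rw [coe_aint, mul_comm, mul_div_assoc, div_self (coe_ne_zero_of_notMem hB), mul_one]⟩

/-- Character values at `p`-regular elements lie in `wRing p`. -/
theorem irr_apply_mem_wRing {G : Type u} [Group G] [Finite G] {χ : G → ℂ}
    (hχ : IsIrrCharacter G χ) {g : G} (hg : ¬ p ∣ orderOf g) : χ g ∈ wRing p := by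
  obtain ⟨d, ρ, -, rfl⟩ := hχ
  obtain ⟨w, hw, e⟩ := CT.exists_eigenvalues_one ρ g
  rw [e]
  exact sum_mem fun i _ => root_mem_wRing hg (hw i)

end Cfsg.Agent.Blocks
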