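import Cfsg.Agent.Lib.Blocks.SplitAlg
import Cfsg.Agent.Lib.Blocks.BFMatrix
import Cfsg.Agent.Lib.Blocks.IdemLift
import Cfsg.Agent.Lib.Blocks.UnramRing
import Cfsg.Agent.Lib.Blocks.PPart
import Cfsg.Agent.Lib.Transfer.Hall
import Mathlib.GroupTheory.SchurZassenhaus
import Mathlib.GroupTheory.NoncommCoprod

/-!
# Irreducible Brauer characters and decomposition numbers

The simple components of the reduced group algebra, their Brauer characters, the decomposition
numbers, the linear independence of the Brauer characters and their extension to generalized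
characters.
-/

set_option autoImplicit false
set_option linter.unusedSectionVars false

namespace Cfsg.Agent.Blocks

open MonoidAlgebra SplitAlg
open scoped ComplexConjugate

universe u v

variable {G : Type u} [Group G] [Fintype G] {p : ℕ} {M : Ideal AlgInt} [M.IsPrime]

/-- Splittings of the reduced group algebra. -/
abbrev GSplit (M : Ideal AlgInt) [M.IsPrime] (G : Type u) [Group G] :=
  Split (Res M) (MonoidAlgebra (Res M) G)

theorem nonempty_gSplit (hM : IsPModular p M) : Nonempty (GSplit M G) := by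
  haveI := Fact.mk hM.1
  haveI := isAlgClosed_res hM
  haveI : FiniteDimensional (Res M) (MonoidAlgebra (Res M) G) :=
    Module.Finite.of_basis (MonoidAlgebra.basis G (Res M))
  exact nonempty_split

/-! ### Multiplicities -/

theorem ev_idem_nat (χ : IrrCharacter G) {a : MonoidAlgebra ℂ G} (ha : a * a = a) :
    ∃ n : ℕ, ev (fun u => (χ : G → ℂ) u) a = n := by
  obtain ⟨n, ρ, -, hρ⟩ := χ.2
  have key : ∀ b : MonoidAlgebra ℂ G,
      ev (fun u => (χ : G → ℂ) u) b = LinearMap.trace ℂ _ (ρ.asAlgebraHom b) := by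
    intro b
    induction b using MonoidAlgebra.induction_linear with
    | zero => simp [ev]
    | add x y hx hy => rw [ev_add, hx, hy, map_add, map_add]
    | single g r =>
      rw [ev_single, Representation.asAlgebraHom_single, map_smul, smul_eq_mul, ← hρ]
      rfl
  refine ⟨Module.finrank ℂ (LinearMap.range (ρ.asAlgebraHom a)), ?_⟩
  rw [key]
  exact (LinearMap.IsIdempotentElem.isProj_range _ (show IsIdempotentElem (ρ.asAlgebraHom a) by
    rw [IsIdempotentElem, ← map_mul, ha])).trace

theorem ev_idem_irr_congr (hM : IsPModular p M) (χ : IrrCharacter G)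
    {ε ε' : MonoidAlgebra (Loc M) G} (h : ε * ε = ε) (h' : ε' * ε' = ε')
    (hr : redG M G ε = redG M G ε') : ev (charL M χ) ε = ev (charL M χ) ε' := by
  haveI := Fact.mk hM.1
  have hp : ∀ n, 0 < p ^ n := fun n => pow_pos hM.1.pos n
  have e := ev_mul_single_congr hM (isClassFn_charL χ) (a := ε) (a' := ε') (z := 1)
    (by rw [← one_def]; exact Commute.one_right _) (by rw [← one_def]; exact Commute.one_right _)
    ⟨0, by simp⟩
    (fun n₀ => ⟨n₀, le_rfl, IsIdempotentElem.pow_eq h (hp _).ne',
      IsIdempotentElem.pow_eq h' (hp _).ne'⟩)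
    (fun u _ => by simpa using congrArg (fun x : MonoidAlgebra (Res M) G => x.coeff u) hr)
  rwa [← one_def, mul_one, mul_one] at e

theorem exists_mulN (hM : IsPModular p M) (χ : IrrCharacter G) (f : MonoidAlgebra (Res M) G) :
    ∃ n : ℕ, ∀ ε : MonoidAlgebra (Loc M) G, ε * ε = ε → redG M G ε = f →
      ((ev (charL M χ) ε : Loc M) : ℂ) = n := by
  by_cases h : ∃ ε : MonoidAlgebra (Loc M) G, ε * ε = ε ∧ redG M G ε = f
  · obtain ⟨ε, hε, rfl⟩ := h
    obtain ⟨n, hn⟩ := ev_idem_nat χ (a := toC M G ε) (by rw [← map_mul, hε])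
    refine ⟨n, fun ε' hε' hr => ?_⟩
    rw [ev_idem_irr_congr hM χ hε' hε hr, coe_ev]
    exact hn
  · exact ⟨0, fun ε hε hr => absurd ⟨ε, hε, hr⟩ h⟩

/-- The multiplicity of a reduced idempotent in a character. -/
noncomputable def mulN (χ : IrrCharacter G) (f : MonoidAlgebra (Res M) G) : ℕ := by
  classical
  exact if h : ∃ n : ℕ, ∀ ε : MonoidAlgebra (Loc M) G, ε * ε = ε → redG M G ε = f →
      ((ev (charL M χ) ε : Loc M) : ℂ) = n then h.choose else 0

theorem coe_ev_idem (hM : IsPModular p M) (χ : IrrCharacter G) {ε : MonoidAlgebra (Loc M) G}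
    (hε : ε * ε = ε) : ((ev (charL M χ) ε : Loc M) : ℂ) = (mulN χ (redG M G ε) : ℕ) := by
  classical
  rw [mulN, dif_pos (exists_mulN hM χ _)]
  exact (exists_mulN hM χ (redG M G ε)).choose_spec ε hε rfl

theorem exists_lift_idem (hM : IsPModular p M) {f : MonoidAlgebra (Res M) G} (hf : f * f = f) :
    ∃ ε : MonoidAlgebra (Loc M) G, ε * ε = ε ∧ redG M G ε = f := by
  haveI := Fact.mk hM.1
  obtain ⟨ε, h1, h2, -⟩ := exists_inv_idem_lift (⊥ : Subgroup G) hf
    (fun q hq u => by simp [Subgroup.mem_bot.mp hq])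
  exact ⟨ε, h1, h2⟩

theorem mulN_add (hM : IsPModular p M) (χ : IrrCharacter G) {f g : MonoidAlgebra (Res M) G}
    (hf : f * f = f) (hg : g * g = g) (hfg : f * g = 0) (hgf : g * f = 0) :
    mulN χ (f + g) = mulN χ f + mulN χ g := by
  haveI := Fact.mk hM.1
  obtain ⟨ε, hε, rfl⟩ := exists_lift_idem hM hf
  obtain ⟨ε', hε', rfl, -, h1, h2⟩ := exists_inv_idem_lift_orth (⊥ : Subgroup G) hε
    (fun q hq u => by simp [Subgroup.mem_bot.mp hq]) hg
    (fun q hq u => by simp [Subgroup.mem_bot.mp hq]) hfg hgf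
  have hs : (ε + ε') * (ε + ε') = ε + ε' := by
    rw [add_mul, mul_add, mul_add, hε, hε', h1, h2, add_zero, zero_add]
  have e := coe_ev_idem hM χ hs
  rw [ev_add, Subring.coe_add, coe_ev_idem hM χ hε, coe_ev_idem hM χ hε', map_add] at e
  exact_mod_cast e.symm

theorem mulN_conj (hM : IsPModular p M) (χ : IrrCharacter G) (f : MonoidAlgebra (Res M) G)
    (v : (MonoidAlgebra (Res M) G)ˣ) (hf : f * f = f) :
    mulN χ ((v : MonoidAlgebra (Res M) G) * f * (↑v⁻¹ : MonoidAlgebra (Res M) G)) = mulN χ f := by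
  haveI := Fact.mk hM.1
  obtain ⟨ε, hε, rfl⟩ := exists_lift_idem hM hf
  obtain ⟨c, hc⟩ := redG_surjective (M := M) (v : MonoidAlgebra (Res M) G)
  obtain ⟨V, hV⟩ := isUnit_of_redG (c := c) (by rw [hc]; exact v.isUnit)
  have hinv : redG M G (↑V⁻¹ : MonoidAlgebra (Loc M) G) = (↑v⁻¹ : MonoidAlgebra (Res M) G) := by
    refine (Units.inv_eq_of_mul_eq_one_left ?_).symm
    rw [← hc, ← hV, ← map_mul, Units.inv_mul, map_one]
  have hs : (↑V * ε * ↑V⁻¹ : MonoidAlgebra (Loc M) G) * (↑V * ε * ↑V⁻¹) = ↑V * ε * ↑V⁻¹ := by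
    calc (↑V * ε * ↑V⁻¹ : MonoidAlgebra (Loc M) G) * (↑V * ε * ↑V⁻¹)
        = ↑V * (ε * (↑V⁻¹ * ↑V) * ε) * ↑V⁻¹ := by simp only [mul_assoc]
      _ = _ := by rw [Units.inv_mul, mul_one, hε]
  have e := coe_ev_idem hM χ hs
  rw [ev_mul_comm (isClassFn_charL χ), Units.inv_mul_cancel_left, coe_ev_idem hM χ hε, map_mul,
    map_mul, hV, hc, hinv] at e
  exact_mod_cast e.symm

variable (Sp : GSplit M G)

/-- The decomposition numbers. -/
noncomputable def dec (χ : IrrCharacter G) (i : Fin Sp.r) : ℕ := mulN χ (Sp.prim i)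

theorem coe_ev_idem_eq_sum (hM : IsPModular p M) (χ : IrrCharacter G)
    {ε : MonoidAlgebra (Loc M) G} (hε : ε * ε = ε) :
    ((ev (charL M χ) ε : Loc M) : ℂ) =
      ∑ i, (Sp.rk (redG M G ε) i : ℂ) * (dec Sp χ i : ℂ) := by
  rw [coe_ev_idem hM χ hε, Sp.additive_eq (mulN χ) (fun f g => mulN_add hM χ)
    (fun f v => mulN_conj hM χ f v) (by rw [← map_mul, hε])]
  simp [dec]

/-- The degrees. -/
theorem deg_eq_sum (hM : IsPModular p M) (χ : IrrCharacter G) :
    (χ : G → ℂ) 1 = ∑ i, (dec Sp χ i : ℂ) * (Sp.d i : ℂ) := by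
  have h := coe_ev_idem_eq_sum Sp hM χ (ε := 1) (mul_one 1)
  rw [map_one] at h
  simp only [Split.rk_one] at h
  rw [one_def, ev_single, one_mul, coe_charL] at h
  rw [h]
  exact Finset.sum_congr rfl fun i _ => mul_comm _ _

/-! ### Idempotents of cyclic subgroups -/

theorem isIntegral_root (n : ℕ) : IsIntegral ℤ (Complex.exp (2 * Real.pi * Complex.I / n)) := by
  rcases Nat.eq_zero_or_pos n with rfl | hn
  · simpa using isIntegral_one
  · exact IsIntegral.of_pow hn (by
      rw [(Complex.isPrimitiveRoot_exp n hn.ne').pow_eq_one]; exact isIntegral_one)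

/-- A primitive root of unity in the local ring. -/
noncomputable def zetaL (M : Ideal AlgInt) [M.IsPrime] (n : ℕ) : Loc M := locInt (isIntegral_root n)

/-- The inverse of a natural number in the local ring, when there is one. -/
noncomputable def invL (M : Ideal AlgInt) [M.IsPrime] (n : ℕ) : Loc M := by
  classical
  exact if h : (n : ℂ)⁻¹ ∈ Loc M then ⟨_, h⟩ else 0

theorem invL_mul (hM : IsPModular p M) {n : ℕ} (hn : ¬ p ∣ n) : invL M n * (n : Loc M) = 1 := by
  have h0 : (n : ℂ) ≠ 0 := Nat.cast_ne_zero.mpr fun h => hn (h ▸ dvd_zero p)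
  rw [invL, dif_pos (inv_mem_loc (natCast_mem _ n) (mt (memLocalIdeal_natCast hM n).mp hn))]
  exact Subtype.ext (by push_cast; exact inv_mul_cancel₀ h0)

theorem zetaL_pow {n : ℕ} (hn : n ≠ 0) : zetaL M n ^ n = 1 :=
  Subtype.ext (by simp [zetaL, (Complex.isPrimitiveRoot_exp n hn).pow_eq_one])

theorem zetaL_pow_ne {n : ℕ} (hn : n ≠ 0) {k : ℕ} (hk : ¬ n ∣ k) : zetaL M n ^ k ≠ 1 := fun h =>
  hk ((Complex.isPrimitiveRoot_exp n hn).dvd_of_pow_eq_one k
    (by simpa [zetaL] using congrArg Subtype.val h))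

theorem geom_eq_ite {n : ℕ} {x : Loc M} [Decidable (x = 1)] (hx : x ^ n = 1) :
    ∑ t ∈ Finset.range n, x ^ t = if x = 1 then (n : Loc M) else 0 := by
  split_ifs with h
  · subst h; simp
  · have := geom_sum_mul x n
    rw [hx, sub_self, mul_eq_zero] at this
    exact this.resolve_right (sub_ne_zero.mpr h)

/-- The idempotent of an eigenvalue of an element. -/
noncomputable def cycIdem (M : Ideal AlgInt) [M.IsPrime] {G : Type u} [Group G] (g : G) (l : ℕ) :
    MonoidAlgebra (Loc M) G :=
  invL M (orderOf g) • ∑ s ∈ Finset.range (orderOf g),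
    single (g ^ s) ((zetaL M (orderOf g) ^ (orderOf g - 1)) ^ (l * s))

variable {g : G}

theorem zetaL_inv (n : ℕ) (hn : n ≠ 0) :
    zetaL M n ^ (n - 1) * zetaL M n = 1 ∧ (zetaL M n ^ (n - 1)) ^ n = 1 := by
  refine ⟨?_, ?_⟩
  · rw [← pow_succ, Nat.sub_add_cancel (Nat.one_le_iff_ne_zero.mpr hn), zetaL_pow hn]
  · rw [← pow_mul, mul_comm, pow_mul, zetaL_pow hn, one_pow]

theorem single_mul_cycIdem (g : G) (l : ℕ) :
    single g (1 : Loc M) * cycIdem M g l = zetaL M (orderOf g) ^ l • cycIdem M g l := by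
  obtain ⟨n, hn⟩ : ∃ n, orderOf g = n := ⟨_, rfl⟩
  have hn0 : n ≠ 0 := hn ▸ (orderOf_pos g).ne'
  obtain ⟨η, hη⟩ : ∃ η, zetaL M n ^ (n - 1) = η := ⟨_, rfl⟩
  obtain ⟨h1, h2⟩ := zetaL_inv (M := M) n hn0
  rw [hη] at h1 h2
  simp only [cycIdem, hn, hη, Finset.mul_sum, mul_smul_comm, smul_comm (zetaL M n ^ l)]
  congr 1
  rw [Finset.smul_sum]
  obtain ⟨H, hH⟩ : ∃ H : ℕ → MonoidAlgebra (Loc M) G,
      H = fun s => zetaL M n ^ l • single (g ^ s) (η ^ (l * s)) := ⟨_, rfl⟩
  have hstep : ∀ s, single g (1 : Loc M) * single (g ^ s) (η ^ (l * s)) = H (s + 1) := fun s => by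
    simp only [hH, single_mul_single, one_mul, smul_single', ← pow_succ']
    congr 1
    rw [Nat.mul_succ, pow_add, mul_left_comm, ← mul_pow, mul_comm (zetaL M n), h1, one_pow, mul_one]
  have hper : H n = H 0 := by
    simp only [hH, pow_zero, mul_zero]
    rw [← hn, pow_orderOf_eq_one, hn, mul_comm l, pow_mul, h2, one_pow]
  rw [Finset.sum_congr rfl fun s _ => hstep s]
  have e1 := Finset.sum_range_succ H n
  rw [Finset.sum_range_succ', hper] at e1
  rw [add_right_cancel e1, hH]

theorem single_pow_mul_cycIdem (g : G) (l t : ℕ) :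
    single (g ^ t) (1 : Loc M) * cycIdem M g l = zetaL M (orderOf g) ^ (l * t) • cycIdem M g l := by
  induction t with
  | zero => simp [← one_def]
  | succ t ih =>
    rw [pow_succ', show single (g * g ^ t) (1 : Loc M) = single g 1 * single (g ^ t) 1 by simp,
      mul_assoc, ih, mul_smul_comm, single_mul_cycIdem, smul_smul, ← pow_add]
    congr 2

theorem cycIdem_mul_self (hM : IsPModular p M) (hg : ¬ p ∣ orderOf g) (l : ℕ) :
    cycIdem M g l * cycIdem M g l = cycIdem M g l := by
  classical
  obtain ⟨n, hn⟩ : ∃ n, orderOf g = n := ⟨_, rfl⟩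
  have hn0 : n ≠ 0 := hn ▸ (orderOf_pos g).ne'
  obtain ⟨h1, h2⟩ := zetaL_inv (M := M) n hn0
  conv_lhs => arg 1; rw [cycIdem]
  rw [smul_mul_assoc, Finset.sum_mul, hn, Finset.sum_congr rfl fun t _ => show
      single (g ^ t) ((zetaL M n ^ (n - 1)) ^ (l * t)) * cycIdem M g l = cycIdem M g l by
    rw [← mul_one ((zetaL M n ^ (n - 1)) ^ (l * t)), ← smul_single', smul_mul_assoc,
      single_pow_mul_cycIdem, smul_smul, hn, ← mul_pow, h1, one_pow, one_smul],
    Finset.sum_const, Finset.card_range, ← Nat.cast_smul_eq_nsmul (Loc M), smul_smul,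
    invL_mul hM (hn ▸ hg), one_smul]

theorem sum_cycIdem (hM : IsPModular p M) (hg : ¬ p ∣ orderOf g) :
    ∑ l ∈ Finset.range (orderOf g), cycIdem M g l = 1 := by
  classical
  obtain ⟨n, hn⟩ : ∃ n, orderOf g = n := ⟨_, rfl⟩
  have hn0 : n ≠ 0 := hn ▸ (orderOf_pos g).ne'
  obtain ⟨h1, h2⟩ := zetaL_inv (M := M) n hn0
  simp only [cycIdem, hn, ← Finset.smul_sum]
  rw [Finset.sum_comm, Finset.sum_eq_single 0]
  · simp only [pow_zero, mul_zero, Finset.sum_const, Finset.card_range, ← one_def]
    rw [← Nat.cast_smul_eq_nsmul (Loc M), smul_smul, invL_mul hM (hn ▸ hg), one_smul]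
  · intro s hs hs0
    have hne : (zetaL M n ^ (n - 1)) ^ s ≠ 1 := fun h => by
      have : zetaL M n ^ s = 1 := by
        calc zetaL M n ^ s = ((zetaL M n ^ (n - 1)) ^ s) * zetaL M n ^ s := by rw [h, one_mul]
          _ = 1 := by rw [← mul_pow, h1, one_pow]
      exact zetaL_pow_ne hn0
        (Nat.not_dvd_of_pos_of_lt (Nat.pos_of_ne_zero hs0) (Finset.mem_range.mp hs)) this
    have hpow : ∀ l, (zetaL M n ^ (n - 1)) ^ (l * s) = ((zetaL M n ^ (n - 1)) ^ s) ^ l :=
      fun l => by rw [mul_comm l s, pow_mul]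
    simp only [hpow]
    ext u
    rw [coeff_sum, Finset.sum_apply']
    simp only [coeff_single, Finsupp.single_apply, coeff_zero, Finsupp.coe_zero, Pi.zero_apply]
    split_ifs
    · rw [geom_eq_ite (by rw [← pow_mul, mul_comm, pow_mul, h2, one_pow]), if_neg hne]
    · simp
  · intro h
    exact absurd (Finset.mem_range.mpr (Nat.pos_of_ne_zero hn0)) h

/-- An element is the sum of its eigenvalues times the idempotents. -/
theorem single_eq_sum_cycIdem (hM : IsPModular p M) (hg : ¬ p ∣ orderOf g) :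
    single g (1 : Loc M) =
      ∑ l ∈ Finset.range (orderOf g), zetaL M (orderOf g) ^ l • cycIdem M g l := by
  conv_lhs => rw [← mul_one (single g (1 : Loc M)), ← sum_cycIdem hM hg, Finset.mul_sum]
  exact Finset.sum_congr rfl fun l _ => single_mul_cycIdem g l

theorem cycIdem_map {H : Type v} [Group H] (ι : H →* G) (hι : Function.Injective ι) (h : H) (l : ℕ) :
    cycIdem M (ι h) l = MonoidAlgebra.mapDomainRingHom (Loc M) ι (cycIdem M h l) := by
  have hsm : ∀ (c : Loc M) (a : MonoidAlgebra (Loc M) H),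
      MonoidAlgebra.mapDomainRingHom (Loc M) ι (c • a) =
        c • MonoidAlgebra.mapDomainRingHom (Loc M) ι a := fun c a => by
    induction a using MonoidAlgebra.induction_linear with
    | zero => simp
    | add x y hx hy => simp only [smul_add, map_add, hx, hy]
    | single m r => simp
  simp only [cycIdem, orderOf_injective ι hι, hsm, map_sum]
  congr 1
  refine Finset.sum_congr rfl fun s _ => ?_
  simp

theorem cycIdem_conj (c g : G) (l : ℕ) :
    cycIdem M (c * g * c⁻¹) l = single c 1 * cycIdem M g l * single c⁻¹ 1 := by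
  have ho : orderOf (c * g * c⁻¹) = orderOf g := by rw [← MulAut.conj_apply, MulEquiv.orderOf_eq]
  simp only [cycIdem, ho, conj_pow, mul_smul_comm, smul_mul_assoc, Finset.mul_sum, Finset.sum_mul,
    single_mul_single, one_mul, mul_one]

/-! ### Brauer characters -/

/-- The Brauer character of a simple component, with values in the local ring. -/
noncomputable def phiL (g : G) (i : Fin Sp.r) : Loc M :=
  ∑ l ∈ Finset.range (orderOf g),
    (Sp.rk (redG M G (cycIdem M g l)) i : Loc M) * zetaL M (orderOf g) ^ l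

/-- The irreducible Brauer character of a simple component. -/
noncomputable def phiB (g : G) (i : Fin Sp.r) : ℂ := (phiL Sp g i : ℂ)

theorem phiL_conj (c g : G) (i : Fin Sp.r) : phiL Sp (c * g * c⁻¹) i = phiL Sp g i := by
  have ho : orderOf (c * g * c⁻¹) = orderOf g := by rw [← MulAut.conj_apply, MulEquiv.orderOf_eq]
  simp only [phiL, ho, cycIdem_conj, map_mul]
  refine Finset.sum_congr rfl fun l _ => ?_
  congr 2
  let v : (MonoidAlgebra (Res M) G)ˣ :=
    ⟨single c 1, single c⁻¹ 1, by simp [one_def], by simp [one_def]⟩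
  have hv : ∀ x : G, redG M G (single x 1) = single x 1 := fun x => by
    ext u; simp [Finsupp.single_apply]
  rw [hv, hv]
  exact Sp.rk_conj v _ i

theorem phiB_one (hM : IsPModular p M) (i : Fin Sp.r) : phiB Sp (1 : G) i = (Sp.d i : ℂ) := by
  have h := sum_cycIdem (M := M) (g := (1 : G)) hM (by rw [orderOf_one]; exact hM.1.not_dvd_one)
  rw [orderOf_one, Finset.sum_range_one] at h
  simp only [phiB, phiL, orderOf_one, Finset.sum_range_one, h, map_one, Split.rk_one, pow_zero,
    mul_one, SubringClass.coe_natCast]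

/-- Characters on regular elements through decomposition numbers. -/
theorem irr_eq_sum_phi (hM : IsPModular p M) (χ : IrrCharacter G) (hg : ¬ p ∣ orderOf g) :
    (χ : G → ℂ) g = ∑ i, (dec Sp χ i : ℂ) * phiB Sp g i := by
  have h := congrArg (fun a => ((ev (charL M χ) a : Loc M) : ℂ)) (single_eq_sum_cycIdem hM hg)
  simp only [ev_single, one_mul, coe_charL, ev_sum, ev_smul, AddSubmonoidClass.coe_finset_sum,
    Subring.coe_mul, coe_ev_idem_eq_sum Sp hM χ (cycIdem_mul_self hM hg _)] at h
  rw [h]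
  simp only [phiB, phiL, AddSubmonoidClass.coe_finset_sum, Subring.coe_mul, SubringClass.coe_natCast,
    Finset.mul_sum]
  rw [Finset.sum_comm]
  exact Finset.sum_congr rfl fun i _ => Finset.sum_congr rfl fun l _ => by ring

theorem tra_sum {ι : Type*} (s : Finset ι) (x : ι → MonoidAlgebra (Res M) G) (i : Fin Sp.r) :
    Sp.tra (∑ l ∈ s, x l) i = ∑ l ∈ s, Sp.tra (x l) i := by
  simp [Split.tra, Matrix.trace_sum]

theorem red_phiL (hM : IsPModular p M) (hg : ¬ p ∣ orderOf g) (i : Fin Sp.r) :
    red M (phiL Sp g i) = Sp.tra (single g 1) i := by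
  have h := congrArg (redG M G) (single_eq_sum_cycIdem hM hg)
  have hv : redG M G (single g 1) = single g 1 := by ext u; simp [Finsupp.single_apply]
  have hs : ∀ (c : Loc M) (a : MonoidAlgebra (Loc M) G),
      redG M G (c • a) = red M c • redG M G a := fun c a => by ext u; simp
  rw [hv, map_sum] at h
  simp only [hs] at h
  rw [h, tra_sum, phiL, map_sum]
  refine Finset.sum_congr rfl fun l _ => ?_
  rw [Split.tra_smul, Sp.tra_idem (by rw [← map_mul, cycIdem_mul_self hM hg]), map_mul,
    map_natCast, map_pow, mul_comm]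

/-- The regular part of an element. -/
noncomputable def regPart (p : ℕ) [Fact p.Prime] (g : G) : G :=
  (exists_isPPart (p := p) g).choose⁻¹ * g

theorem regPart_eq [Fact p.Prime] {g x y : G} (hxy : x * y = g) (hcom : Commute x y)
    (hx : ∃ k : ℕ, x ^ p ^ k = 1) (hy : ¬ p ∣ orderOf y) : regPart p g = y := by
  have h := isPPart_mk (p := p) hcom hx hy
  rw [hxy] at h
  rw [regPart, ppart_unique (exists_isPPart (p := p) g).choose_spec.1 h, ← hxy, inv_mul_cancel_left]

theorem regPart_spec [Fact p.Prime] (g : G) :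
    ∃ x : G, x * regPart p g = g ∧ Commute x (regPart p g) ∧ (∃ k : ℕ, x ^ p ^ k = 1) ∧
      ¬ p ∣ orderOf (regPart p g) := by
  obtain ⟨x, hx, -⟩ := exists_isPPart (p := p) g
  obtain ⟨y, hxy, hcom, ⟨k, hk⟩, hy⟩ := id hx
  have hk' : ∃ k : ℕ, x ^ p ^ k = 1 := ⟨k, by rw [← hk, pow_orderOf_eq_one]⟩
  rw [regPart_eq hxy hcom hk' hy]
  exact ⟨x, hxy, hcom, hk', hy⟩

theorem regPart_of_regular [Fact p.Prime] {g : G} (hg : ¬ p ∣ orderOf g) : regPart p g = g :=
  regPart_eq (one_mul g) (Commute.one_left g) ⟨0, by simp⟩ hg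

theorem regPart_conj [Fact p.Prime] (c g : G) :
    regPart p (c * g * c⁻¹) = c * regPart p g * c⁻¹ := by
  obtain ⟨x, hxy, hcom, ⟨k, hk⟩, hy⟩ := regPart_spec (p := p) g
  refine regPart_eq (x := c * x * c⁻¹) ?_ ?_ ⟨k, by rw [conj_pow, hk, mul_one, mul_inv_cancel]⟩ ?_
  · conv_rhs => rw [← hxy]
    group
  · exact (SemiconjBy.conj_iff.mpr hcom : _)
  · rwa [← MulAut.conj_apply, MulEquiv.orderOf_eq]

theorem tra_regPart (hM : IsPModular p M) [Fact p.Prime] (g : G) (i : Fin Sp.r) :
    Sp.tra (single g 1) i = Sp.tra (single (regPart p g) 1) i := by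
  haveI := charP_res hM
  obtain ⟨x, hxy, hcom, ⟨k, hk⟩, -⟩ := regPart_spec (p := p) g
  generalize regPart p g = y at hxy hcom ⊢
  haveI : CharP (MonoidAlgebra (Res M) G) p :=
    charP_of_injective_algebraMap (algebraMap (Res M) _).injective p
  have hnil : IsNilpotent (single y (1 : Res M) * (single x 1 - 1)) := by
    refine ((Commute.sub_right ?_ (Commute.one_right _))).isNilpotent_mul_left ⟨p ^ k, ?_⟩
    · show single y (1 : Res M) * single x 1 = single x 1 * single y 1
      rw [single_mul_single, single_mul_single, hcom.eq]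
    · rw [sub_pow_char_pow_of_commute p k (Commute.one_right _), one_pow, single_pow, one_pow, hk,
        ← one_def, sub_self]
  have e : single g (1 : Res M) = single y 1 + single y 1 * (single x 1 - 1) := by
    rw [mul_sub, mul_one, add_sub_cancel, single_mul_single, one_mul, ← hcom.eq, hxy]
  have h0 := (Matrix.isNilpotent_trace_of_isNilpotent
    ((hnil.map Sp.π).map (Pi.evalRingHom (fun i => Matrix (Fin (Sp.d i)) (Fin (Sp.d i)) (Res M)) i))
      ).eq_zero
  rw [e, Split.tra_add, show Sp.tra (single y 1 * (single x 1 - 1)) i = 0 from h0, add_zero]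

/-- The Brauer character extended through the regular parts. -/
noncomputable def theta (p : ℕ) [Fact p.Prime] (i : Fin Sp.r) : G → ℂ :=
  fun g => phiB Sp (regPart p g) i

theorem theta_of_regular [Fact p.Prime] (hg : ¬ p ∣ orderOf g) (i : Fin Sp.r) :
    theta Sp p i g = phiB Sp g i := by rw [theta, regPart_of_regular hg]

theorem theta_class [Fact p.Prime] (i : Fin Sp.r) : IsClassFunction G (theta Sp p i) := fun g c => by
  simp only [theta, phiB, regPart_conj, phiL_conj]

/-- The Brauer characters are linearly independent. -/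
theorem phi_independent (hM : IsPModular p M) {c : Fin Sp.r → ℂ}
    (h : ∀ g : G, ¬ p ∣ orderOf g → ∑ i, c i * phiB Sp g i = 0) : c = 0 := by
  classical
  haveI := Fact.mk hM.1
  let A : Matrix G (Fin Sp.r) (Loc M) := Matrix.of fun g i => phiL Sp (regPart p g) i
  let Ab : Matrix G (Fin Sp.r) (Res M) := A.map (red M)
  have hAb : ∀ g i, Ab g i = Sp.tra (single g 1) i := fun g i => by
    obtain ⟨-, -, -, -, hr⟩ := regPart_spec (p := p) g
    rw [tra_regPart Sp hM, ← red_phiL Sp hM hr]
    rfl
  have hinj : LinearMap.ker Ab.mulVecLin = ⊥ := by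
    rw [LinearMap.ker_eq_bot']
    intro a ha
    have hall : ∀ x : MonoidAlgebra (Res M) G, ∑ i, Sp.tra x i * a i = 0 := by
      intro x
      induction x using MonoidAlgebra.induction_linear with
      | zero => simp [Split.tra]
      | add x y hx hy => simp [Split.tra_add, add_mul, Finset.sum_add_distrib, hx, hy]
      | single g r =>
        rw [show single g r = r • single g (1 : Res M) by simp]
        simp only [Split.tra_smul, mul_assoc, ← Finset.mul_sum]
        have h2 := congrFun ha g
        simp only [Matrix.mulVecLin_apply, Matrix.mulVec, dotProduct, hAb, Pi.zero_apply] at h2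
        rw [h2, mul_zero]
    funext k
    have h2 := hall (Sp.prim k)
    simp only [Sp.tra_idem (Sp.prim_idem k), Split.rk_prim] at h2
    simpa using h2
  obtain ⟨L, hL⟩ := Ab.mulVecLin.exists_leftInverse_of_injective hinj
  choose s hs using red_surjective (M := M)
  let L' : Matrix (Fin Sp.r) G (Loc M) := (LinearMap.toMatrix' L).map s
  have hone : (L' * A).map (red M) = 1 := by
    rw [Matrix.map_mul]
    have : L'.map (red M) = LinearMap.toMatrix' L := by ext i j; simp [L', hs]
    rw [this]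
    have h2 := congrArg LinearMap.toMatrix' hL
    rwa [LinearMap.toMatrix'_comp, ← Matrix.toLin'_apply', LinearMap.toMatrix'_toLin',
      LinearMap.toMatrix'_id] at h2
  have hdet : IsUnit (L' * A).det := by
    rw [← isUnit_map_iff (red M), RingHom.map_det, RingHom.mapMatrix_apply, hone, Matrix.det_one]
    exact isUnit_one
  obtain ⟨W, hW⟩ := (Matrix.isUnit_iff_isUnit_det _).mpr hdet
  let toCm : ∀ {a b : Type u}, Matrix a b (Loc M) → Matrix a b ℂ := fun X => X.map (Loc M).subtype
  have hz : (A.map (Loc M).subtype).mulVec c = 0 := by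
    funext g
    obtain ⟨-, -, -, -, hr⟩ := regPart_spec (p := p) g
    rw [Pi.zero_apply, ← h _ hr, Matrix.mulVec, dotProduct]
    exact Finset.sum_congr rfl fun i _ => mul_comm _ _
  have e : ((((↑W⁻¹ : Matrix (Fin Sp.r) (Fin Sp.r) (Loc M)) * L') * A).map (Loc M).subtype) = 1 := by
    rw [Matrix.mul_assoc, ← hW, Units.inv_mul]
    exact Matrix.map_one _ (map_zero _) (map_one _)
  rw [Matrix.map_mul] at e
  have := congrArg (fun X : Matrix (Fin Sp.r) (Fin Sp.r) ℂ => X.mulVec c) e
  simp only [← Matrix.mulVec_mulVec, hz, Matrix.mulVec_zero, Matrix.one_mulVec] at this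
  exact this.symm

/-- The Brauer characters against the decomposition numbers. -/
theorem sum_theta_dec (hM : IsPModular p M) [Fact p.Prime] (i k : Fin Sp.r) :
    ∑ χ : IrrCharacter G, classInner (theta Sp p i) (χ : G → ℂ) * (dec Sp χ k : ℂ) =
      if k = i then 1 else 0 := by
  classical
  have key : (fun k => ∑ χ : IrrCharacter G, classInner (theta Sp p i) (χ : G → ℂ) *
      (dec Sp χ k : ℂ) - if k = i then 1 else 0) = 0 := by
    refine phi_independent Sp hM fun g hg => ?_
    have h := congrFun (CT.classFunction_eq_sum (theta_class (p := p) Sp i)) g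
    simp only [Finset.sum_apply, Pi.smul_apply, smul_eq_mul, irr_eq_sum_phi Sp hM _ hg,
      theta_of_regular Sp hg, Finset.mul_sum] at h
    rw [Finset.sum_comm] at h
    simp only [sub_mul, Finset.sum_sub_distrib, Finset.sum_mul, ite_mul, one_mul, zero_mul,
      Finset.sum_ite_eq', Finset.mem_univ, if_true, mul_assoc]
    rw [← h, sub_self]
  exact sub_eq_zero.mp (congrFun key k)

theorem exists_dec_ne_zero (hM : IsPModular p M) (i : Fin Sp.r) :
    ∃ χ : IrrCharacter G, dec Sp χ i ≠ 0 := by
  classical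
  haveI := Fact.mk hM.1
  by_contra hc
  push Not at hc
  have := sum_theta_dec Sp hM i i
  simp [hc] at this

/-! ### Groups of order prime to `p` -/

theorem injective_of_coprime (hM : IsPModular p M) (hG : ¬ p ∣ Nat.card G) :
    Function.Injective Sp.π := by
  classical
  haveI := charP_res hM
  rw [injective_iff_map_eq_zero]
  intro x hx
  ext u
  have hnil : IsNilpotent (LinearMap.mulLeft (Res M) (x * single u⁻¹ 1)) :=
    (Sp.nil (x * single u⁻¹ 1) (by rw [map_mul, hx, zero_mul])).map
      (Algebra.lmul (Res M) (MonoidAlgebra (Res M) G))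
  haveI : FiniteDimensional (Res M) (MonoidAlgebra (Res M) G) :=
    Module.Finite.of_basis (MonoidAlgebra.basis G (Res M))
  have htr := (LinearMap.isNilpotent_trace_of_isNilpotent hnil).eq_zero
  have hc : LinearMap.trace (Res M) _ (LinearMap.mulLeft (Res M) (x * single u⁻¹ 1)) =
      (Fintype.card G : Res M) * x.coeff u := by
    rw [LinearMap.trace_eq_matrix_trace (Res M) (MonoidAlgebra.basis G (Res M)), Matrix.trace]
    rw [Finset.sum_eq_card_nsmul (b := x.coeff u) fun g _ => ?_]
    · simp [nsmul_eq_mul]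
    · have hb : MonoidAlgebra.basis G (Res M) g = single g 1 := by simp
      rw [Matrix.diag_apply, LinearMap.toMatrix_apply, LinearMap.mulLeft_apply, hb]
      show (x * single u⁻¹ (1 : Res M) * single g 1).coeff g = x.coeff u
      rw [coeff_mul_single', mul_inv_cancel, mul_one, coeff_mul_single', one_mul, inv_inv, mul_one]
  rw [hc] at htr
  refine (mul_eq_zero.mp htr).resolve_left fun h => hG ?_
  rw [Nat.card_eq_fintype_card]
  exact (CharP.cast_eq_zero_iff (Res M) p _).mp h

theorem sum_sq_of_coprime (hM : IsPModular p M) (hG : ¬ p ∣ Nat.card G) :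
    ∑ i, Sp.d i * Sp.d i = Nat.card G := by
  classical
  let e := LinearEquiv.ofBijective Sp.π.toLinearMap ⟨injective_of_coprime Sp hM hG, Sp.surj⟩
  have h := e.finrank_eq
  rw [Module.finrank_eq_card_basis (MonoidAlgebra.basis G (Res M)), Module.finrank_pi_fintype] at h
  simp only [Module.finrank_matrix, Fintype.card_fin, Module.finrank_self, mul_one] at h
  rw [Nat.card_eq_fintype_card, h]

/-- For groups of order prime to `p` the Brauer characters are the irreducible characters. -/
theorem theta_irr_of_coprime (hM : IsPModular p M) [Fact p.Prime] (hG : ¬ p ∣ Nat.card G)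
    (k : Fin Sp.r) : IsIrrCharacter G (theta Sp p k) := by
  classical
  have hreg : ∀ g : G, ¬ p ∣ orderOf g := fun g h => hG (h.trans (orderOf_dvd_natCard g))
  have hA : ∀ (η : IrrCharacter G) (u : G), blockCoeff ({η} : Set (IrrCharacter G)) u ∈ Loc M := by
    intro η u
    rw [blockCoeff, finsum_mem_singleton]
    refine mul_mem (inv_mem_loc (natCast_mem _ _) (mt (memLocalIdeal_natCast hM _).mp hG))
      (mul_mem (integral_mem_loc (isIntegral_irr η.2 1)) ?_)
    rw [← CT.char_inv_eq_conj (CT.isCharacter_of_isIrr η.2)]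
    exact integral_mem_loc (isIntegral_irr η.2 _)
  -- one non-zero decomposition number in each column
  have hone : ∀ (η η' : IrrCharacter G) (i : Fin Sp.r), dec Sp η i ≠ 0 → dec Sp η' i ≠ 0 → η = η' := by
    intro η η' i h h'
    by_contra hne
    obtain ⟨ε, hε, hεr⟩ := exists_lift_idem hM (Sp.prim_idem i)
    set F : MonoidAlgebra (Loc M) G := (bIdem M {η} : MonoidAlgebra (Loc M) G) with hF
    have hFF : F * F = F := congrArg Subtype.val (bIdem_mul_self (hA η))
    have hFc : ∀ a, F * a = a * F := fun a => (Subring.mem_center_iff.mp (bIdem M {η}).2 a).symm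
    have hFε : (F * ε) * (F * ε) = F * ε := by
      rw [hFc ε, mul_assoc, ← mul_assoc F ε F, hFc ε, mul_assoc ε F F, hFF, ← mul_assoc, hε]
    have hval : ∀ ζ : IrrCharacter G, ((ev (charL M ζ) (F * ε) : Loc M) : ℂ) =
        if ζ = η then ((ev (charL M ζ) ε : Loc M) : ℂ) else 0 := fun ζ => by
      rw [coe_ev, coe_ev, map_mul, hF, toC_bIdem (hA η)]
      simp only [coe_charL]
      rw [ev_idemC_mul]
      by_cases hz : ζ = η <;> simp [hz]
    have h2 : redG M G (F * ε) = 0 ∨ redG M G (F * ε) = Sp.prim i := by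
      refine Sp.eq_prim_or_zero ?_ ?_ ?_
      · rw [← map_mul, hFε]
      · rw [← hεr, ← map_mul, mul_assoc, hε]
      · rw [← hεr, ← map_mul, hFc ε, ← mul_assoc, hε]
    have hdec : ∀ ζ, (dec Sp ζ i : ℂ) = ((ev (charL M ζ) ε : Loc M) : ℂ) := fun ζ => by
      rw [coe_ev_idem hM ζ hε, hεr, dec]
    rcases h2 with h2 | h2
    · refine h ?_
      have e1 := coe_ev_idem hM η hFε
      rw [hval, if_pos rfl, h2, ← hdec, ← map_zero (redG M G),
        ← coe_ev_idem hM η (zero_mul 0)] at e1
      simpa [ev] using e1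
    · refine h' ?_
      have e1 := coe_ev_idem hM η' hFε
      rw [hval, if_neg (Ne.symm hne), h2] at e1
      exact_mod_cast e1.symm
  choose η hη using exists_dec_ne_zero Sp hM
  have hdelta : ∀ i j, classInner (theta Sp p i) (η j : G → ℂ) * (dec Sp (η j) j : ℂ) =
      if j = i then 1 else 0 := by
    intro i j
    rw [← sum_theta_dec Sp hM i j, Finset.sum_eq_single (η j)]
    · intro ζ _ hζ
      rw [show dec Sp ζ j = 0 from by_contra fun h0 => hζ (hone ζ (η j) j h0 (hη j))]
      simp
    · simp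
  have hinj : Function.Injective η := by
    intro i j hij
    by_contra hne
    have h1 := hdelta i i
    have h2 := hdelta i j
    rw [if_pos rfl, hij] at h1
    rw [if_neg (Ne.symm hne), mul_eq_zero] at h2
    rcases h2 with h2 | h2
    · rw [h2, zero_mul] at h1; exact zero_ne_one h1
    · exact hη j (Nat.cast_eq_zero.mp h2)
  have hsum : ∀ ζ : IrrCharacter G, ∀ g : G,
      (ζ : G → ℂ) g = ∑ i, (dec Sp ζ i : ℂ) * theta Sp p i g := fun ζ g => by
    rw [irr_eq_sum_phi Sp hM ζ (hreg g)]
    simp only [theta_of_regular Sp (hreg g)]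
  have hsurj : Function.Surjective η := fun ζ => by
    by_contra hno
    push Not at hno
    refine CT.irr_one_ne_zero ζ.2 ((hsum ζ 1).trans (Finset.sum_eq_zero fun i _ => ?_))
    rw [show dec Sp ζ i = 0 from by_contra fun h0 => hno i (hone ζ (η i) i h0 (hη i)).symm]
    simp
  have heq : ∀ i g, (η i : G → ℂ) g = (dec Sp (η i) i : ℂ) * theta Sp p i g := fun i g => by
    rw [hsum (η i) g, Finset.sum_eq_single i]
    · intro j _ hj
      rw [show dec Sp (η i) j = 0 from
        by_contra fun h0 => hj (hinj (hone (η i) (η j) j h0 (hη j))).symm]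
      simp
    · simp
  have hth1 : ∀ i, theta Sp p i (1 : G) = (Sp.d i : ℂ) := fun i => by
    rw [theta_of_regular Sp (hreg 1), phiB_one Sp hM]
  have h1 : ∑ i, (dec Sp (η i) i * Sp.d i) ^ 2 = Nat.card G := by
    have h := CT.sum_degree_sq (G := G)
    rw [← (Fintype.sum_bijective η ⟨hinj, hsurj⟩ _ (fun ζ : IrrCharacter G => (ζ : G → ℂ) 1 ^ 2)
      fun i => rfl)] at h
    simp only [heq, hth1] at h
    exact_mod_cast h
  have h2 : dec Sp (η k) k = 1 := by
    rw [← sum_sq_of_coprime Sp hM hG] at h1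
    by_contra hne
    have hlt : ∑ i, Sp.d i * Sp.d i < ∑ i, (dec Sp (η i) i * Sp.d i) ^ 2 := by
      refine Finset.sum_lt_sum (fun i _ => ?_) ⟨k, Finset.mem_univ _, ?_⟩
      · rw [← pow_two]
        exact Nat.pow_le_pow_left (Nat.le_mul_of_pos_left _ (Nat.pos_of_ne_zero (hη i))) 2
      · rw [← pow_two]
        refine Nat.pow_lt_pow_left (lt_mul_of_one_lt_left (Sp.pos k) ?_) two_ne_zero
        have := hη k
        omega
    omega
  have h3 : theta Sp p k = (η k : G → ℂ) := funext fun g => by
    rw [heq k g, h2, Nat.cast_one, one_mul]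
  exact h3 ▸ (η k).2

/-! ### The extended Brauer characters are generalized characters -/

theorem theta_comp_isCharacter (hM : IsPModular p M) [Fact p.Prime] {Q : Type u} [Group Q]
    [Fintype Q] (hQ : ¬ p ∣ Nat.card Q) (ι : Q →* G) (hι : Function.Injective ι) (i : Fin Sp.r) :
    IsCharacter Q (fun q => theta Sp p i (ι q)) := by
  classical
  obtain ⟨T⟩ := nonempty_gSplit (G := Q) hM
  let F := MonoidAlgebra.mapDomainRingHom (Res M) ι
  let N : MonoidAlgebra (Res M) Q → ℕ := fun f => Sp.rk (F f) i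
  have hN : ∀ f : MonoidAlgebra (Res M) Q, f * f = f →
      N f = ∑ k, T.rk f k • N (T.prim k) := fun f hf =>
    T.additive_eq N (fun a b ha hb hab hba => by
      simp only [N, map_add]
      refine Sp.rk_add ?_ ?_ ?_ ?_ i <;> rw [← map_mul]
      · rw [ha]
      · rw [hb]
      · rw [hab, map_zero]
      · rw [hba, map_zero])
      (fun a v ha => by
        simp only [N, map_mul]
        exact Sp.rk_conj (Units.map F.toMonoidHom v) _ i) hf
  have hreg : ∀ q : Q, ¬ p ∣ orderOf q := fun q h => hQ (h.trans (orderOf_dvd_natCard q))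
  have he : (fun q => theta Sp p i (ι q)) = ∑ k, ((N (T.prim k) : ℕ) : ℂ) • theta T p k := by
    funext q
    have hq : ¬ p ∣ orderOf (ι q) := by rw [orderOf_injective ι hι]; exact hreg q
    have hF : ∀ a : MonoidAlgebra (Loc M) Q,
        redG M G (MonoidAlgebra.mapDomainRingHom (Loc M) ι a) = F (redG M Q a) := fun a => by
      induction a using MonoidAlgebra.induction_linear with
      | zero => simp
      | add x y hx hy => simp only [map_add, hx, hy]
      | single g r => ext u; simp [F, Finsupp.single_apply]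
    simp only [Finset.sum_apply, Pi.smul_apply, smul_eq_mul, theta_of_regular T (hreg q),
      theta_of_regular Sp hq, phiB, phiL, orderOf_injective ι hι, cycIdem_map ι hι, hF,
      AddSubmonoidClass.coe_finset_sum, Subring.coe_mul, SubringClass.coe_natCast, Finset.mul_sum]
    rw [Finset.sum_comm]
    refine Finset.sum_congr rfl fun l _ => ?_
    rw [show Sp.rk (F (redG M Q (cycIdem M q l))) i = N (redG M Q (cycIdem M q l)) from rfl,
      hN _ (by rw [← map_mul, cycIdem_mul_self hM (hreg q)]), Nat.cast_sum, Finset.sum_mul]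
    exact Finset.sum_congr rfl fun k _ => by rw [nsmul_eq_mul]; push_cast; ring
  rw [he]
  exact CT.isCharacter_sum _ fun k _ =>
    CT.isCharacter_nsmul _ (CT.isCharacter_of_isIrr (theta_irr_of_coprime T hM hQ k))

theorem isGen_theta (hM : IsPModular p M) [hp : Fact p.Prime] (i : Fin Sp.r) :
    IsGeneralizedCharacter G (theta Sp p i) := by
  classical
  refine CT.isGen_of_restrict_elementary (theta_class Sp i) fun E q hq hE => ?_
  haveI := CT.isNilpotent_of_isElementary hq hE
  obtain ⟨P⟩ : Nonempty (Sylow p E) := inferInstance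
  haveI hPn : (P : Subgroup E).Normal :=
    P.normal_of_normalizerCondition normalizerCondition_of_isNilpotent
  have hcop : (Nat.card (P : Subgroup E)).Coprime (P : Subgroup E).index := by
    rw [P.card_eq_multiplicity]
    exact (hp.out.coprime_iff_not_dvd.mpr P.not_dvd_index).pow_left _
  obtain ⟨Q, hQ⟩ := Subgroup.exists_right_complement'_of_coprime hcop
  have hQc : ¬ p ∣ Nat.card Q := by rw [← hQ.symm.index_eq_card]; exact P.not_dvd_index
  have hcomm : ∀ (z : (P : Subgroup E)) (h : Q),
      Commute ((P : Subgroup E).subtype z) (Q.subtype h) := fun z h => by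
    refine Transfer.commute_of_coprime_of_nilpotent ?_
    exact (hcop.coprime_dvd_left (Subgroup.orderOf_dvd_natCard _ z.2)).coprime_dvd_right
      (by rw [hQ.symm.index_eq_card]; exact Subgroup.orderOf_dvd_natCard _ h.2)
  let e : (↥(P : Subgroup E) × ↥Q) ≃* E := MulEquiv.ofBijective
    (MonoidHom.noncommCoprod (P : Subgroup E).subtype Q.subtype hcomm) hQ
  let ι : Q →* G := E.subtype.comp Q.subtype
  have hι : Function.Injective ι := fun a b h => Subtype.ext (Subtype.ext h)
  have hch := CT.isCharacter_comp ((MonoidHom.snd _ _).comp e.symm.toMonoidHom)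
    (theta_comp_isCharacter Sp hM hQc ι hι i)
  convert CT.isGen_of_isCharacter hch using 1
  funext x
  obtain ⟨⟨z, h⟩, rfl⟩ := e.surjective x
  simp only [Function.comp_apply, MonoidHom.coe_comp, MulEquiv.coe_toMonoidHom,
    MulEquiv.symm_apply_apply, MonoidHom.coe_snd, theta]
  have hreg : ¬ p ∣ orderOf (ι h) := by
    rw [orderOf_injective ι hι]
    exact fun hd => hQc (hd.trans (orderOf_dvd_natCard h))
  obtain ⟨k, hk⟩ := P.2 z
  rw [regPart_of_regular hreg, regPart_eq (x := (((z : (P : Subgroup E)) : E) : G)) (y := ι h)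
    (by rfl) ((hcomm z h).map E.subtype)
    ⟨k, by simpa using congrArg (fun w : (P : Subgroup E) => ((w : E) : G)) hk⟩ hreg]

theorem exists_int_theta_inner (hM : IsPModular p M) [Fact p.Prime] (i : Fin Sp.r)
    (χ : IrrCharacter G) : ∃ m : ℤ, classInner (theta Sp p i) (χ : G → ℂ) = m :=
  (CT.isGen_iff.mp (isGen_theta Sp hM i)).2 χ

end Cfsg.Agent.Blocks
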