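import Cfsg.Agent.Lib.Blocks.Brauer
import Mathlib.GroupTheory.Nilpotent

/-!
# Sylow subgroups of centralizers and normalizers
-/

namespace Cfsg.Agent.Blocks

universe u

variable {G : Type u} [Group G] [Finite G] {p : ℕ} [hp : Fact p.Prime]

/-- If the `p`-group `P ≤ C` has Sylow order in `C ⊓ N(P)`, it has Sylow order in `C`. -/
theorem card_eq_of_inf_normalizer {P C : Subgroup G} (hP : IsPGroup p P) (hle : P ≤ C)
    (hcard : Nat.card P =
      p ^ (Nat.card (C ⊓ Subgroup.normalizer (P : Set G) : Subgroup G)).factorization p) :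
    Nat.card P = p ^ (Nat.card C).factorization p := by
  obtain ⟨S, hS⟩ := exists_sylow_ge hle hP
  set T := (S : Subgroup C).map C.subtype with hT
  have hTp : IsPGroup p T := S.isPGroup'.map _
  have hPT : P = T := by
    by_contra hne
    have hlt : P < T := lt_of_le_of_ne hS hne
    haveI : Group.IsNilpotent T := hTp.isNilpotent
    have hlt' : P.subgroupOf T < ⊤ := by
      rw [lt_top_iff_ne_top]
      intro h
      exact hlt.not_ge (Subgroup.subgroupOf_eq_top.mp h)
    have h1 := Group.normalizerCondition_of_isNilpotent (G := T) _ hlt'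
    obtain ⟨t, ht, htn⟩ := SetLike.exists_of_lt h1
    have htN : (t : G) ∈ Subgroup.normalizer (P : Set G) := by
      rw [Subgroup.mem_normalizer_iff]
      intro q
      rw [Subgroup.mem_normalizer_iff] at ht
      constructor
      · intro hq
        simpa [Subgroup.mem_subgroupOf] using (ht ⟨q, hS hq⟩).mp (Subgroup.mem_subgroupOf.mpr hq)
      · intro hq
        have hqT : q ∈ T := by
          have := T.mul_mem (T.mul_mem (T.inv_mem t.2) (hS hq)) t.2
          simpa [mul_assoc] using this
        simpa [Subgroup.mem_subgroupOf] using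
          (ht ⟨q, hqT⟩).mpr (Subgroup.mem_subgroupOf.mpr (by simpa using hq))
    have hle' : P ⊔ Subgroup.zpowers (t : G) ≤ C ⊓ Subgroup.normalizer (P : Set G) :=
      sup_le (le_inf hle Subgroup.le_normalizer)
        (Subgroup.zpowers_le.mpr ⟨Subgroup.map_subtype_le _ t.2, htN⟩)
    have hle2 : P ⊔ Subgroup.zpowers (t : G) ≤ T := sup_le hS (Subgroup.zpowers_le.mpr t.2)
    have h2 := card_le_of_isPGroup_le hle' (hTp.to_le hle2)
    rw [← hcard] at h2
    have := Subgroup.eq_of_le_of_card_ge (le_sup_left : P ≤ P ⊔ Subgroup.zpowers (t : G)) h2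
    exact htn (Subgroup.mem_subgroupOf.mpr (by
      rw [this]; exact Subgroup.mem_sup_right (Subgroup.mem_zpowers _)))
  rw [hPT]
  exact card_sylow_map S

/-- Conjugate elements centralizing `P`, with `P` of Sylow order in both centralizers, are
conjugate in the normalizer of `P`. -/
theorem exists_normalizer_conj {P : Subgroup G} {c₁ c₂ : G} (hc : IsConj c₁ c₂)
    (h₁ : P ≤ Subgroup.centralizer ({c₁} : Set G)) (h₂ : P ≤ Subgroup.centralizer ({c₂} : Set G))
    (hcard : Nat.card P = p ^ (Nat.card (Subgroup.centralizer ({c₂} : Set G))).factorization p) :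
    ∃ n ∈ Subgroup.normalizer (P : Set G), n * c₁ * n⁻¹ = c₂ := by
  obtain ⟨x, rfl⟩ := isConj_iff.mp hc
  set C := Subgroup.centralizer ({x * c₁ * x⁻¹} : Set G)
  have hle : P.map (MulAut.conj x).toMonoidHom ≤ C := by
    intro y hy
    rw [mem_map_conj] at hy
    have e := Subgroup.mem_centralizer_singleton_iff.mp (h₁ hy)
    refine Subgroup.mem_centralizer_singleton_iff.mpr ?_
    calc y * (x * c₁ * x⁻¹) = x * ((x⁻¹ * y * x) * c₁) * x⁻¹ := by group
      _ = x * (c₁ * (x⁻¹ * y * x)) * x⁻¹ := by rw [e]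
      _ = x * c₁ * x⁻¹ * y := by group
  obtain ⟨S, hS⟩ := exists_sylow_map_eq hle (by rw [card_map_conj]; exact hcard)
  obtain ⟨T, hT⟩ := exists_sylow_map_eq h₂ hcard
  obtain ⟨y, hy⟩ := MulAction.exists_smul_eq C S T
  have hyc : (y : G) * (x * c₁ * x⁻¹) * (y : G)⁻¹ = x * c₁ * x⁻¹ := by
    rw [Subgroup.mem_centralizer_singleton_iff.mp y.2]; group
  refine ⟨y * x, ?_, ?_⟩
  · have hmap : P.map (MulAut.conj ((y : G) * x)).toMonoidHom ≤ P := by
      intro z hz
      rw [← map_conj_map_conj, mem_map_conj, ← hS] at hz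
      obtain ⟨s, hs, hse⟩ := hz
      rw [← hT]
      refine ⟨y * s * y⁻¹, ?_, ?_⟩
      · show y * s * y⁻¹ ∈ (T : Subgroup _)
        rw [← hy, Sylow.coe_subgroup_smul]
        exact Subgroup.smul_mem_pointwise_smul _ (MulAut.conj y) _ hs
      · simp only [Subgroup.coe_subtype, Subgroup.coe_mul, Subgroup.coe_inv] at hse ⊢
        rw [hse]
        group
    have heq := Subgroup.eq_of_le_of_card_ge hmap (by rw [card_map_conj])
    rw [Subgroup.mem_normalizer_iff]
    intro h
    conv_rhs => rw [← heq, mem_map_conj]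
    rw [show ∀ w : G, w⁻¹ * (w * h * w⁻¹) * w = h from fun w => by group]
  · calc (y : G) * x * c₁ * ((y : G) * x)⁻¹ = (y : G) * (x * c₁ * x⁻¹) * (y : G)⁻¹ := by group
      _ = _ := hyc

end Cfsg.Agent.Blocks
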