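import Cfsg.Agent.Lib.Blocks.Subgroup
import Cfsg.Agent.Lib.Blocks.SylowCentralizer

/-!
# Brauer's first main theorem
-/

namespace Cfsg.Agent.Blocks

open MonoidAlgebra
open scoped ComplexConjugate

universe u v

variable {G : Type u} [Group G] [Finite G] {p : ℕ} {M : Ideal AlgInt} [M.IsPrime]

set_option linter.unusedSectionVars false

theorem card_centralizer_subgroup (H : Subgroup G) (g : H) :
    Nat.card (Subgroup.centralizer ({g} : Set H)) =
      Nat.card (Subgroup.centralizer ({(g : G)} : Set G) ⊓ H : Subgroup G) := by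
  refine Nat.card_congr
    { toFun := fun c => ⟨((c : H) : G), Subgroup.mem_centralizer_singleton_iff.mpr
        (congrArg Subtype.val (Subgroup.mem_centralizer_singleton_iff.mp c.2)), (c : H).2⟩
      invFun := fun c => ⟨⟨(c : G), c.2.2⟩, Subgroup.mem_centralizer_singleton_iff.mpr
        (Subtype.ext (Subgroup.mem_centralizer_singleton_iff.mp c.2.1))⟩
      left_inv := fun c => rfl
      right_inv := fun c => rfl }

theorem card_subgroupOf {Q H : Subgroup G} (h : Q ≤ H) : Nat.card (Q.subgroupOf H) = Nat.card Q :=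
  Nat.card_congr (Subgroup.subgroupOfEquivOfLe h).toEquiv

theorem mem_centralizer_subgroupOf {Q H : Subgroup G} (hQH : Q ≤ H) {u : H} :
    u ∈ Subgroup.centralizer ((Q.subgroupOf H : Subgroup H) : Set H) ↔
      (u : G) ∈ Subgroup.centralizer (Q : Set G) := by
  simp only [Subgroup.mem_centralizer_iff, SetLike.mem_coe, Subgroup.mem_subgroupOf]
  constructor
  · intro h q hq
    exact congrArg Subtype.val (h ⟨q, hQH hq⟩ hq)
  · intro h q hq
    exact Subtype.ext (h q hq)

theorem le_centralizer_subgroup_iff {Q H : Subgroup G} (hQH : Q ≤ H) {g : H} :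
    Q.subgroupOf H ≤ Subgroup.centralizer ({g} : Set H) ↔
      Q ≤ Subgroup.centralizer ({(g : G)} : Set G) := by
  rw [le_centralizer_singleton, le_centralizer_singleton, mem_centralizer_subgroupOf hQH]

/-- A normal `p`-subgroup lies in every defect group. -/
theorem normal_le_defect (hM : IsPModular p M) {B : Set (IrrCharacter G)} (hB : IsPBlock M B)
    {Q : Subgroup G} [hn : Q.Normal] (hQ : IsPGroup p Q) {D : Subgroup G}
    (hD : IsDefectGroup p M B D) : Q ≤ D := by
  haveI : Fact p.Prime := ⟨hM.1⟩
  haveI := charP_res hM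
  obtain ⟨x, hx⟩ := (br_bBar_ne_zero_iff hM hB hD hQ).mp
    (br_ne_zero_of_normal hQ (bBar_ne_zero hB) (bBar_mul_self (blockCoeff_mem_loc hB)))
  intro q hq
  exact hx (mem_map_conj.mpr (by simpa [mul_assoc] using hn.conj_mem q hq x⁻¹))

variable {Q H : Subgroup G}

/-- If the Brauer image of the idempotent of `B` is nonzero, some block of `H` induces `B`. -/
theorem exists_block_inducing (hM : IsPModular p M) [Fact p.Prime] [CharP (Res M) p]
    (hQ : IsPGroup p Q) (hQH : Q ≤ H) (hCH : Subgroup.centralizer (Q : Set G) ≤ H)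
    (hHN : H ≤ Subgroup.normalizer (Q : Set G)) {B : Set (IrrCharacter G)} (hB : IsPBlock M B)
    (hne : br Q hQ (bBar M B) ≠ 0) :
    ∃ ξ : IrrCharacter H, IsInducedBlock M H (blockOf M (ξ : H → ℂ)) B := by
  have hA := blockCoeff_mem_loc hB
  have hne' : brH Q H hQ hCH hHN (bBar M B) ≠ 0 := fun h0 => hne (by
    have h1 := congrArg (fun a : ZG (Res M) H => embH H (a : MonoidAlgebra (Res M) H)) h0
    simp only [coe_brH, embH_resH_trunc hCH, ZeroMemClass.coe_zero, map_zero] at h1
    rw [br_apply]; exact h1)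
  obtain ⟨ξ, hξ⟩ : ∃ ξ : IrrCharacter H,
      omegaBar M ξ (brH Q H hQ hCH hHN (bBar M B)) ≠ 0 := by
    by_contra h
    push Not at h
    exact hne' (eq_zero_of_omegaBar hM _ (by rw [← map_mul, bBar_mul_self hA]) h)
  obtain ⟨B', hB'⟩ := exists_inducedBlock hM hQ hQH hCH hHN (isPBlock_blockOf (M := M) ξ)
  obtain ⟨χ', hχ'⟩ := block_nonempty hB'.2.1
  rw [← indBar_eq_brH hM hQ hQH hCH hHN, indBar_eq_of_isInducedBlock hB' (self_mem_blockOf ξ) hχ',
    omegaBar_bBar hA] at hξ
  have hmem : χ' ∈ B := by
    by_contra h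
    exact hξ (if_neg h)
  exact ⟨ξ, block_eq_of_mem hB'.2.1 hB hχ' hmem ▸ hB'⟩

theorem omegaBar_brH_bBar (hM : IsPModular p M) [Fact p.Prime] [CharP (Res M) p]
    (hQ : IsPGroup p Q) (hQH : Q ≤ H) (hCH : Subgroup.centralizer (Q : Set G) ≤ H)
    (hHN : H ≤ Subgroup.normalizer (Q : Set G)) {b : Set (IrrCharacter H)}
    {B : Set (IrrCharacter G)} (hind : IsInducedBlock M H b B) {ξ : IrrCharacter H} (hξ : ξ ∈ b) :
    omegaBar M ξ (brH Q H hQ hCH hHN (bBar M B)) = 1 := by
  obtain ⟨χ, hχ⟩ := block_nonempty hind.2.1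
  rw [← indBar_eq_brH hM hQ hQH hCH hHN, indBar_eq_of_isInducedBlock hind hξ hχ,
    omegaBar_bBar_eq_one hind.2.1 hχ]

/-- A block of `H` inducing `B` sees an element of `C(Q)` supporting `B`. -/
theorem exists_support_of_induced (hM : IsPModular p M) [Fact p.Prime]
    (hQ : IsPGroup p Q) (hQH : Q ≤ H) (hCH : Subgroup.centralizer (Q : Set G) ≤ H)
    (hHN : H ≤ Subgroup.normalizer (Q : Set G)) {b : Set (IrrCharacter H)}
    {B : Set (IrrCharacter G)} (hind : IsInducedBlock M H b B) {ξ : IrrCharacter H} (hξ : ξ ∈ b) :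
    ∃ u : H, (u : G) ∈ Subgroup.centralizer (Q : Set G) ∧
      ¬ MemLocalIdeal M (blockCoeff B (u : G)) ∧
      ¬ MemLocalIdeal M (centralChar (ξ : H → ℂ) u) := by
  haveI := charP_res hM
  obtain ⟨u, hu, hu'⟩ := exists_class_of_omegaBar_ne_zero ξ
    ((omegaBar_brH_bBar hM hQ hQH hCH hHN hind hξ).trans_ne one_ne_zero)
  rw [coe_brH, coeff_resH] at hu
  have huC : (u : G) ∈ (Subgroup.centralizer (Q : Set G) : Set G) := by
    by_contra h
    exact hu (coeff_trunc_of_notMem _ h)
  rw [coeff_trunc_of_mem _ huC] at hu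
  exact ⟨u, huC, (coeff_bBar_ne_zero_iff (blockCoeff_mem_loc hind.2.1) _).mp hu, hu'⟩

variable {D : Subgroup G}

/-- A block of `H`, `D C(D) ≤ H ≤ N(D)`, inducing a block with defect group `D` has defect group `D`. -/
theorem defect_of_induced (hM : IsPModular p M) [Fact p.Prime] {K : Subgroup G} (hDK : D ≤ K)
    (hCK : Subgroup.centralizer (D : Set G) ≤ K) (hKN : K ≤ Subgroup.normalizer (D : Set G))
    {b : Set (IrrCharacter K)} {B : Set (IrrCharacter G)}
    (hind : IsInducedBlock M K b B)
    (hD : IsDefectGroup p M B D) :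
    IsDefectGroup p M b (D.subgroupOf K) := by
  obtain ⟨g, -, -, hDp, -⟩ := defectGroup_spec hD
  have hDN : D ≤ K := hDK
  obtain ⟨ξ, hξ⟩ := block_nonempty hind.1
  obtain ⟨u, huC, huB, huξ⟩ := exists_support_of_induced hM hDp hDN
    hCK hKN hind hξ
  obtain ⟨E, hE⟩ := exists_defectGroup (p := p) hind.1
  have hsub : D.subgroupOf K ≤ E :=
    haveI : (D.subgroupOf K).Normal := (Subgroup.normal_subgroupOf_iff_le_normalizer hDN).mpr hKN
    normal_le_defect hM hind.1 (hDp.of_equiv (Subgroup.subgroupOfEquivOfLe hDN).symm) hE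
  obtain ⟨-, -, -, hEp, -⟩ := defectGroup_spec hE
  obtain ⟨x, hx⟩ := defect_conj_le_centralizer hM hind.1 hE hξ huξ
  set E' : Subgroup G := (E.map (MulAut.conj x).toMonoidHom).map K.subtype
  have hE'p : IsPGroup p E' := (isPGroup_map_conj hEp x).map _
  have hE'u : E' ≤ Subgroup.centralizer ({(u : G)} : Set G) := by
    rintro _ ⟨w, hw, rfl⟩
    exact Subgroup.mem_centralizer_singleton_iff.mpr
      (congrArg Subtype.val (Subgroup.mem_centralizer_singleton_iff.mp (hx hw)))
  obtain ⟨y, hy⟩ := conj_le_defect hM hind.2.1 hD hE'p huB hE'u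
  have hcard : Nat.card E ≤ Nat.card (D.subgroupOf K) := by
    have h1 := Subgroup.card_le_of_le hy
    rw [card_map_conj, Subgroup.card_map_of_injective K.subtype_injective, card_map_conj] at h1
    rwa [card_subgroupOf hDN]
  exact Subgroup.eq_of_le_of_card_ge hsub hcard ▸ hE

/-- A block of `N(D)` inducing a block with defect group `D` has defect group `D`. -/
theorem defect_of_induced_normalizer (hM : IsPModular p M) [Fact p.Prime]
    {b : Set (IrrCharacter (Subgroup.normalizer (D : Set G)))} {B : Set (IrrCharacter G)}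
    (hind : IsInducedBlock M (Subgroup.normalizer (D : Set G)) b B)
    (hD : IsDefectGroup p M B D) :
    IsDefectGroup p M b (D.subgroupOf (Subgroup.normalizer (D : Set G))) :=
  defect_of_induced hM Subgroup.le_normalizer (Subgroup.centralizer_le_normalizer _) le_rfl hind hD

/-- The Brauer map sends a class sum with defect group `D` to a class sum of `N(D)`. -/
theorem brH_classSumZ [Fact p.Prime] {R : Type v} [CommRing R] [CharP R p] (hDp : IsPGroup p D)
    {g : Subgroup.normalizer (D : Set G)} (hg : (g : G) ∈ Subgroup.centralizer (D : Set G))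
    (hcard : Nat.card D = p ^ (Nat.card (Subgroup.centralizer ({(g : G)} : Set G))).factorization p) :
    brH D (Subgroup.normalizer (D : Set G)) hDp (Subgroup.centralizer_le_normalizer _) le_rfl
      (classSumZ R (g : G)) = classSumZ R g := by
  refine Subtype.ext ?_
  ext u
  rw [coe_brH, coeff_resH]
  simp only [coe_classSumZ]
  by_cases hu : (u : G) ∈ (Subgroup.centralizer (D : Set G) : Set G)
  · rw [coeff_trunc_of_mem _ hu]
    simp only [classSum, coeff_ofFun]
    by_cases hc : IsConj (g : G) (u : G)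
    · obtain ⟨n, hn, hnc⟩ := exists_normalizer_conj (p := p) hc
        (le_centralizer_singleton.mpr hg) (le_centralizer_singleton.mpr hu) (by
          obtain ⟨x, hx⟩ := isConj_iff.mp hc
          rw [hcard, ← hx, card_centralizer_conj])
      rw [classInd_pos hc, classInd_pos (isConj_iff.mpr ⟨⟨n, hn⟩, Subtype.ext hnc⟩)]
    · rw [classInd_neg hc, classInd_neg]
      intro h
      obtain ⟨n, hn⟩ := isConj_iff.mp h
      exact hc (isConj_iff.mpr ⟨n, congrArg Subtype.val hn⟩)
  · rw [coeff_trunc_of_notMem _ hu]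
    simp only [classSum, coeff_ofFun]
    rw [classInd_neg]
    intro h
    obtain ⟨n, hn⟩ := isConj_iff.mp h
    refine hu ?_
    rw [← congrArg Subtype.val hn, SetLike.mem_coe]
    exact (centralizer_conj_mem n.2).mpr hg

/-- Data of a block of `N(D)` with defect group `D`: a defect class with full defect in `G`. -/
theorem exists_defectClass_normalizer [Fact p.Prime] (hDp : IsPGroup p D)
    {b : Set (IrrCharacter (Subgroup.normalizer (D : Set G)))}
    (hb : IsDefectGroup p M b (D.subgroupOf (Subgroup.normalizer (D : Set G)))) :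
    ∃ g : Subgroup.normalizer (D : Set G), IsDefectClass M b g ∧
      (g : G) ∈ Subgroup.centralizer (D : Set G) ∧
      Nat.card D = p ^ (Nat.card (Subgroup.centralizer ({(g : G)} : Set G))).factorization p := by
  obtain ⟨g, hg, hle, -, hcard⟩ := defectGroup_spec hb
  have hDN : D ≤ Subgroup.normalizer (D : Set G) := Subgroup.le_normalizer
  have hDg := (le_centralizer_subgroup_iff hDN).mp hle
  refine ⟨g, hg, le_centralizer_singleton.mp hDg, card_eq_of_inf_normalizer hDp hDg ?_⟩
  rwa [card_subgroupOf hDN, card_centralizer_subgroup] at hcard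

/-- A block of `N(D)` with defect group `D` induces a block with defect group `D`. -/
theorem defect_of_induced_from_normalizer (hM : IsPModular p M) [Fact p.Prime]
    (hDp : IsPGroup p D) {b : Set (IrrCharacter (Subgroup.normalizer (D : Set G)))}
    (hb : IsDefectGroup p M b (D.subgroupOf (Subgroup.normalizer (D : Set G))))
    {B : Set (IrrCharacter G)}
    (hind : IsInducedBlock M (Subgroup.normalizer (D : Set G)) b B) :
    IsDefectGroup p M B D := by
  haveI := charP_res hM
  obtain ⟨g, hg, hgC, hcard⟩ := exists_defectClass_normalizer hDp hb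
  obtain ⟨ξ, hξ⟩ := block_nonempty hind.1
  obtain ⟨χ, hχ⟩ := block_nonempty hind.2.1
  have hDN : D ≤ Subgroup.normalizer (D : Set G) := Subgroup.le_normalizer
  have hω : ¬ MemLocalIdeal M (centralChar (χ : G → ℂ) g) := by
    rw [← red_centralCharL_ne_zero_iff, ← omegaBar_classSumZ,
      ← indBar_eq_of_isInducedBlock hind hξ hχ,
      indBar_eq_brH hM hDp hDN (Subgroup.centralizer_le_normalizer _) le_rfl,
      brH_classSumZ hDp hgC hcard, omegaBar_classSumZ, red_centralCharL_ne_zero_iff]
    exact hg.2.2 ξ hξ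
  obtain ⟨E, hE⟩ := exists_defectGroup (p := p) hind.2.1
  obtain ⟨x, hx⟩ := defect_conj_le_centralizer hM hind.2.1 hE hχ hω
  obtain ⟨-, -, -, hEp, -⟩ := defectGroup_spec hE
  have h1 := card_le_of_isPGroup_le hx (isPGroup_map_conj hEp x)
  rw [card_map_conj, ← hcard] at h1
  obtain ⟨u, huC, huB, -⟩ := exists_support_of_induced hM hDp hDN
    (Subgroup.centralizer_le_normalizer _) le_rfl hind hξ
  obtain ⟨y, hy⟩ := conj_le_defect hM hind.2.1 hE hDp huB (le_centralizer_singleton.mpr huC)
  have heq := Subgroup.eq_of_le_of_card_ge hy (by rwa [card_map_conj])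
  have := isDefectGroup_conj hE y⁻¹
  rwa [← heq, map_conj_map_conj, inv_mul_cancel, map_conj_one] at this

/-- Only one block of `N(D)` with defect group `D` induces a given block. -/
theorem induced_normalizer_unique (hM : IsPModular p M) [Fact p.Prime] (hDp : IsPGroup p D)
    {b b' : Set (IrrCharacter (Subgroup.normalizer (D : Set G)))} {B : Set (IrrCharacter G)}
    (hb : IsDefectGroup p M b (D.subgroupOf (Subgroup.normalizer (D : Set G))))
    (hind : IsInducedBlock M (Subgroup.normalizer (D : Set G)) b B)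
    (hind' : IsInducedBlock M (Subgroup.normalizer (D : Set G)) b' B) : b = b' := by
  classical
  haveI := charP_res hM
  have hDN : D ≤ (Subgroup.normalizer (D : Set G)) := Subgroup.le_normalizer
  obtain ⟨ξ, hξ⟩ := block_nonempty hind.1
  obtain ⟨ξ', hξ'⟩ := block_nonempty hind'.1
  obtain ⟨χ, hχ⟩ := block_nonempty hind.2.1
  have key : ∀ c : ZG (Res M) G, omegaBar M ξ (brH D (Subgroup.normalizer (D : Set G)) hDp (Subgroup.centralizer_le_normalizer _) le_rfl c) =
      omegaBar M ξ' (brH D (Subgroup.normalizer (D : Set G)) hDp (Subgroup.centralizer_le_normalizer _) le_rfl c) := fun c => by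
    rw [← indBar_eq_brH hM hDp hDN, ← indBar_eq_brH hM hDp hDN,
      indBar_eq_of_isInducedBlock hind hξ hχ, indBar_eq_of_isInducedBlock hind' hξ' hχ]
  have hA := blockCoeff_mem_loc hind.1
  have hterm : omegaBar M ξ' (bBar M b) = omegaBar M ξ (bBar M b) := by
    rw [omegaBar_apply, omegaBar_apply]
    refine Finset.sum_congr rfl fun K _ => ?_
    by_cases h0 : (bBar M b : MonoidAlgebra (Res M) (Subgroup.normalizer (D : Set G))).coeff (rep K) = 0
    · rw [h0, zero_mul, zero_mul]
    by_cases hC : ((rep K : (Subgroup.normalizer (D : Set G))) : G) ∈ Subgroup.centralizer (D : Set G)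
    · congr 1
      have hle := (le_centralizer_subgroup_iff hDN).mpr (le_centralizer_singleton.mpr hC)
      obtain ⟨S, hS⟩ := exists_sylow_ge hle
        (hDp.of_equiv (Subgroup.subgroupOfEquivOfLe hDN).symm)
      obtain ⟨z, hz⟩ := conj_le_defect hM hind.1 hb (S.isPGroup'.map _)
        ((coeff_bBar_ne_zero_iff hA _).mp h0) (Subgroup.map_subtype_le _)
      have h1 := Subgroup.card_le_of_le hz
      rw [card_map_conj, card_sylow_map, card_subgroupOf hDN, card_centralizer_subgroup] at h1
      have h2 := card_le_of_isPGroup_le (H := Subgroup.centralizer ({((rep K : (Subgroup.normalizer (D : Set G))) : G)} : Set G) ⊓ (Subgroup.normalizer (D : Set G)))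
        (le_inf (le_centralizer_singleton.mpr hC) hDN) hDp
      have hcard := card_eq_of_inf_normalizer hDp (le_centralizer_singleton.mpr hC)
        (le_antisymm h2 h1)
      have h3 := key (classSumZ (Res M) ((rep K : (Subgroup.normalizer (D : Set G))) : G))
      rw [brH_classSumZ hDp hC hcard, omegaBar_classSumZ, omegaBar_classSumZ] at h3
      exact h3.symm
    · have hz : ∀ η : IrrCharacter (Subgroup.normalizer (D : Set G)), red M (centralCharL M η (rep K)) = 0 := by
        intro η
        rw [← omegaBar_classSumZ]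
        refine omegaBar_eq_zero_of_br (Q := D.subgroupOf (Subgroup.normalizer (D : Set G))) hM
          (hDp.of_equiv (Subgroup.subgroupOfEquivOfLe hDN).symm) η ?_
        rw [br_apply, trunc_eq_zero_iff]
        intro w hw
        simp only [coe_classSumZ, classSum, coeff_ofFun]
        rw [classInd_neg]
        intro h
        obtain ⟨n, hn⟩ := isConj_iff.mp h
        rw [SetLike.mem_coe, mem_centralizer_subgroupOf hDN, ← congrArg Subtype.val hn] at hw
        exact hC ((centralizer_conj_mem n.2).mp hw)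
      rw [hz, hz]
  rw [omegaBar_bBar hA, omegaBar_bBar hA, if_pos hξ] at hterm
  have hmem : ξ' ∈ b := by
    by_contra h
    rw [if_neg h] at hterm
    exact zero_ne_one hterm
  exact block_eq_of_mem hind.1 hind'.1 hmem hξ'

/-- Brauer's first main theorem, existence. -/
theorem exists_normalizer_block (hM : IsPModular p M) [Fact p.Prime] {B : Set (IrrCharacter G)}
    (hB : IsPBlock M B) (hD : IsDefectGroup p M B D) :
    ∃ b : Set (IrrCharacter (Subgroup.normalizer (D : Set G))), IsPBlock M b ∧
      IsDefectGroup p M b (D.subgroupOf (Subgroup.normalizer (D : Set G))) ∧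
      IsInducedBlock M (Subgroup.normalizer (D : Set G)) b B := by
  haveI := charP_res hM
  obtain ⟨g, -, -, hDp, -⟩ := defectGroup_spec hD
  obtain ⟨ξ, hξ⟩ := exists_block_inducing hM hDp Subgroup.le_normalizer
    (Subgroup.centralizer_le_normalizer _) le_rfl hB
    ((br_bBar_ne_zero_iff hM hB hD hDp).mpr ⟨1, by rw [map_conj_one]⟩)
  exact ⟨_, hξ.1, defect_of_induced_normalizer hM hξ hD, hξ⟩

end Cfsg.Agent.Blocks
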