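import Cfsg.Agent.Lib.Blocks.Subgroup
import Cfsg.Agent.Lib.Blocks.PGroupSum
import Cfsg.Agent.Lib.Blocks.Defect
import Mathlib.NumberTheory.Basic

/-!
# Block idempotents are supported on the centralizer of a normal `p`-subgroup
-/

set_option linter.unusedSectionVars false

namespace Cfsg.Agent.Blocks

open MonoidAlgebra

universe u v

variable {G : Type u} [Group G] [Finite G] {p : ℕ} {M : Ideal AlgInt} [M.IsPrime]

theorem scalarZ_mul {R : Type v} [CommRing R] (c d : R) :
    (scalarZ (c * d) : ZG R G) = scalarZ c * scalarZ d :=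
  Subtype.ext (by simp [scalarZ, single_mul_single])

theorem scalarZ_one {R : Type v} [CommRing R] : (scalarZ (1 : R) : ZG R G) = 1 :=
  Subtype.ext (by simp [scalarZ, one_def])

theorem scalarZ_pow {R : Type v} [CommRing R] (c : R) (n : ℕ) :
    (scalarZ (c ^ n) : ZG R G) = scalarZ c ^ n := by
  induction n with
  | zero => simp [scalarZ_one]
  | succ n ih => rw [pow_succ, pow_succ, scalarZ_mul, ih]

theorem scalarZ_natCast {R : Type v} [CommRing R] (n : ℕ) :
    (scalarZ (n : R) : ZG R G) = n :=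
  Subtype.ext (by simp [scalarZ, MonoidAlgebra.natCast_def])

theorem mul_coeff_eq_zero_of_supp {R : Type v} [CommRing R] (C : Subgroup G)
    (a b : MonoidAlgebra R G) (ha : ∀ u ∉ C, a.coeff u = 0) (hb : ∀ u ∉ C, b.coeff u = 0) :
    ∀ u ∉ C, (a * b).coeff u = 0 := by
  classical
  haveI := Fintype.ofFinite G
  intro u hu
  rw [coeff_mul_sum]
  refine Finset.sum_eq_zero fun x _ => ?_
  by_cases hx : x ∈ C
  · rw [hb, mul_zero]
    intro h
    exact hu (by simpa using C.mul_mem hx h)
  · rw [ha x hx, zero_mul]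

theorem pow_coeff_eq_zero_of_supp {R : Type v} [CommRing R] (C : Subgroup G)
    (a : MonoidAlgebra R G) (ha : ∀ u ∉ C, a.coeff u = 0) (n : ℕ) :
    ∀ u ∉ C, (a ^ n).coeff u = 0 := by
  induction n with
  | zero =>
    intro u hu
    have h1 : u ≠ 1 := fun h => hu (h ▸ C.one_mem)
    simp [one_def, Finsupp.single_eq_of_ne h1]
  | succ n ih => rw [pow_succ]; exact mul_coeff_eq_zero_of_supp C _ _ ih ha

/-- The reduced idempotent of a block is supported on the centralizer of a normal `p`-subgroup. -/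
theorem coeff_bBar_eq_zero_of_notMem [Fact p.Prime] [CharP (Res M) p]
    {P : Subgroup G} [hn : P.Normal] (hP : IsPGroup p P) {B : Set (IrrCharacter G)}
    (hB : IsPBlock M B) {u : G} (hu : u ∉ Subgroup.centralizer (P : Set G)) :
    (bBar M B : MonoidAlgebra (Res M) G).coeff u = 0 := by
  classical
  set e := bBar M B with he
  have hee : e * e = e := bBar_mul_self (blockCoeff_mem_loc hB)
  have hC : ∀ g c : G, c * g * c⁻¹ ∈ Subgroup.centralizer (P : Set G) ↔
      g ∈ Subgroup.centralizer (P : Set G) := fun g c => by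
    haveI : (Subgroup.centralizer (P : Set G)).Normal := inferInstance
    refine ⟨fun h => ?_, fun h => Subgroup.Normal.conj_mem inferInstance g h c⟩
    have := Subgroup.Normal.conj_mem (H := Subgroup.centralizer (P : Set G)) inferInstance _ h c⁻¹
    simpa [mul_assoc] using this
  have hmem : trunc (Subgroup.centralizer (P : Set G) : Set G) (e : MonoidAlgebra (Res M) G) ∈
      Subring.center (MonoidAlgebra (Res M) G) := by
    rw [mem_center_iff_isClassFn]
    intro g c
    have hcl : (e : MonoidAlgebra (Res M) G).coeff (c * g * c⁻¹) =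
        (e : MonoidAlgebra (Res M) G).coeff g :=
      (mem_center_iff_isClassFn (e : MonoidAlgebra (Res M) G)).mp e.2 g c
    dsimp only
    by_cases hg : g ∈ Subgroup.centralizer (P : Set G)
    · rw [coeff_trunc_of_mem _ (SetLike.mem_coe.mpr ((hC g c).mpr hg)),
        coeff_trunc_of_mem _ (SetLike.mem_coe.mpr hg), hcl]
    · rw [coeff_trunc_of_notMem _ (fun h => hg ((hC g c).mp (SetLike.mem_coe.mp h))),
        coeff_trunc_of_notMem _ (fun h => hg (SetLike.mem_coe.mp h))]
  let a : ZG (Res M) G := ⟨_, hmem⟩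
  have hbra : br P hP a = (a : MonoidAlgebra (Res M) G) := by
    rw [br_apply]
    ext w
    by_cases hw : w ∈ (Subgroup.centralizer (P : Set G) : Set G)
    · rw [coeff_trunc_of_mem _ hw]
    · rw [coeff_trunc_of_notMem _ hw]
      exact (coeff_trunc_of_notMem _ hw).symm
  have hbre : br P hP e = (a : MonoidAlgebra (Res M) G) := br_apply P hP e
  have haa : a * a = a := Subtype.ext (by
    rw [Subring.coe_mul, ← hbre, ← map_mul, hee])
  have h1 : e * (1 - a) = 0 := by
    by_contra hne
    refine br_ne_zero_of_normal hP hne ?_ ?_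
    · have : (1 - a) * (1 - a) = 1 - a := by linear_combination haa
      linear_combination (1 - a) ^ 2 * hee + e * this
    · rw [map_mul, map_sub, map_one, hbre, hbra, mul_sub, mul_one, ← Subring.coe_mul, haa,
        sub_self]
  have h2 : a * (1 - e) = 0 := by
    by_contra hne
    refine br_ne_zero_of_normal hP hne ?_ ?_
    · have : (1 - e) * (1 - e) = 1 - e := by linear_combination hee
      linear_combination (1 - e) ^ 2 * haa + a * this
    · rw [map_mul, map_sub, map_one, hbre, hbra, mul_sub, mul_one, ← Subring.coe_mul, haa,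
        sub_self]
  have hea : e = a := by linear_combination h1 - h2
  rw [hea]
  exact coeff_trunc_of_notMem _ fun h => hu (SetLike.mem_coe.mp h)

/-- The block idempotent itself is supported on the centralizer of a normal `p`-subgroup. -/
theorem blockCoeff_eq_zero_of_notMem (hM : IsPModular p M)
    {P : Subgroup G} [hn : P.Normal] (hP : IsPGroup p P) {B : Set (IrrCharacter G)}
    (hB : IsPBlock M B) {g : G} (hg : g ∉ Subgroup.centralizer (P : Set G)) :
    blockCoeff B g = 0 := by
  classical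
  haveI : Fact p.Prime := ⟨hM.1⟩
  haveI := charP_res hM
  haveI := Fintype.ofFinite G
  have hA := blockCoeff_mem_loc hB
  set C := Subgroup.centralizer (P : Set G) with hCdef
  set E := bIdem M B with hE
  have hcl := (mem_center_iff_isClassFn (E : MonoidAlgebra (Loc M) G)).mp E.2
  have hCconj : ∀ g c : G, c * g * c⁻¹ ∈ C ↔ g ∈ C := fun g c => by
    refine ⟨fun h => ?_, fun h => Subgroup.Normal.conj_mem inferInstance g h c⟩
    have := Subgroup.Normal.conj_mem (H := C) inferInstance _ h c⁻¹
    simpa [mul_assoc] using this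
  have hmemA : ofFun (fun u => if u ∈ C then (E : MonoidAlgebra (Loc M) G).coeff u else 0) ∈
      Subring.center (MonoidAlgebra (Loc M) G) := by
    rw [mem_center_iff_isClassFn]
    intro g c
    simp only [coeff_ofFun, hCconj g c, hcl g c]
  let A : ZG (Loc M) G := ⟨_, hmemA⟩
  have hAsupp : ∀ u ∉ C, (A : MonoidAlgebra (Loc M) G).coeff u = 0 := fun u hu => by
    show (ofFun _).coeff u = 0
    rw [coeff_ofFun, if_neg hu]
  -- the difference is nilpotent modulo `p`
  set D := E - A with hD
  have hred : ∀ u, MemLocalIdeal M (((D : MonoidAlgebra (Loc M) G).coeff u : Loc M) : ℂ) := by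
    intro u
    rw [← red_eq_zero_iff, hD]
    by_cases hu : u ∈ C
    · simp [A, hu]
    · have h0 := coeff_bBar_eq_zero_of_notMem hP hB hu
      rw [bBar, coe_redZ, coeff_map'] at h0
      simp [A, hu, h0, E]
  obtain ⟨N, hN⟩ := exists_pow_dvd_pow_family hM
    (fun K : ConjClasses G => (D : MonoidAlgebra (Loc M) G).coeff (rep K)) (fun K => hred _) 1
  set I : Ideal (ZG (Loc M) G) := Ideal.span {(p : ZG (Loc M) G)}
  have hDrad : D ∈ I.radical := by
    rw [zg_eq_sum D]
    refine Ideal.sum_mem _ fun K _ => Ideal.mul_mem_right _ _ ⟨N, ?_⟩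
    obtain ⟨w, hw⟩ := hN K N le_rfl
    rw [pow_one] at hw
    rw [← scalarZ_pow, hw, scalarZ_mul, scalarZ_natCast]
    exact Ideal.mem_span_singleton'.mpr ⟨_, mul_comm _ _⟩
  obtain ⟨r, hr⟩ := hDrad
  obtain ⟨n, hn'⟩ : ∃ n, r ≤ p ^ n := ⟨r, (Nat.lt_pow_self hM.1.one_lt).le⟩
  -- binomial expansion modulo `p`
  have hdvd : (p : ZG (Loc M) G) ∣ E - A ^ p ^ n := by
    obtain ⟨c, hc⟩ : ∃ c, (A + D) ^ p ^ n =
        A ^ p ^ n + D ^ p ^ n + (p : ZG (Loc M) G) * A * D * c :=
      ⟨_, add_pow_prime_pow_eq hM.1 A D n⟩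
    have hEpow : E ^ p ^ n = E := bIdem_pow hA (pow_ne_zero n hM.1.ne_zero)
    have hED : A + D = E := by rw [hD]; ring
    rw [hED, hEpow] at hc
    have hDn : (p : ZG (Loc M) G) ∣ D ^ p ^ n :=
      dvd_trans (Ideal.mem_span_singleton.mp hr) (pow_dvd_pow D hn')
    obtain ⟨w, hw⟩ := hDn
    exact ⟨w + A * D * c, by linear_combination hc + hw⟩
  have hlift : ∀ k : ℕ, (p : ZG (Loc M) G) ^ (k + 1) ∣ E - A ^ p ^ (n + k) := fun k => by
    have h := dvd_sub_pow_of_dvd_sub hdvd k
    rwa [bIdem_pow hA (pow_ne_zero k hM.1.ne_zero), ← pow_mul, ← pow_add] at h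
  have hzero : (E : MonoidAlgebra (Loc M) G).coeff g = 0 := by
    refine eq_zero_of_forall_pow_dvd hM fun k => ⟨k + 1, by omega, ?_⟩
    obtain ⟨w, hw⟩ := hlift k
    have h0 := pow_coeff_eq_zero_of_supp C _ hAsupp (p ^ (n + k)) g hg
    have hc := congrArg (fun x : ZG (Loc M) G => (x : MonoidAlgebra (Loc M) G).coeff g) hw
    rw [← scalarZ_natCast, ← scalarZ_pow] at hc
    simp only [AddSubgroupClass.coe_sub, SubmonoidClass.coe_pow, coeff_sub, Finsupp.coe_sub, Pi.sub_apply,
      Subring.coe_mul, scalarZ, coeff_single_one_mul, h0, sub_zero] at hc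
    exact ⟨_, hc⟩
  rw [← coe_coeff_bIdem hA g, ← hE, hzero]
  rfl

end Cfsg.Agent.Blocks
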