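import Cfsg.Agent.Lib.BrauerPairs.Pairs
import Cfsg.Agent.Lib.Blocks.FirstMain
import Cfsg.Agent.Lib.Blocks.NormalPSupport

/-!
# Brauer correspondence through congruences on the centralizer
-/

namespace Cfsg.Agent.Blocks

open MonoidAlgebra

universe u

variable {G : Type u} [Group G] [Finite G] {p : ℕ} {M : Ideal AlgInt} [M.IsPrime]

set_option linter.unusedSectionVars false

/-- Coefficients of a block of `G` and of a block of a subgroup agree on the centralizer of `D`. -/
def CongrOn (M : Ideal AlgInt) (D : Subgroup G) (H : Subgroup G) (B : Set (IrrCharacter G))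
    (c : Set (IrrCharacter H)) : Prop :=
  ∀ x : G, x ∈ Subgroup.centralizer (D : Set G) →
    MemLocalIdeal M (blockCoeff B x - subgroupBlockCoeff H c x)

theorem subgroupBlockCoeff_coe (H : Subgroup G) (c : Set (IrrCharacter H)) (h : H) :
    subgroupBlockCoeff H c (h : G) = blockCoeff c h := by
  simp [subgroupBlockCoeff, h.2]

theorem coeff_bBar_eq_iff {H : Type u} [Group H] [Finite H] {A : Set (IrrCharacter G)}
    {A' : Set (IrrCharacter H)} (hA : ∀ u, blockCoeff A u ∈ Loc M)
    (hA' : ∀ u, blockCoeff A' u ∈ Loc M) (u : G) (v : H) :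
    (bBar M A : MonoidAlgebra (Res M) G).coeff u = (bBar M A' : MonoidAlgebra (Res M) H).coeff v ↔
      MemLocalIdeal M (blockCoeff A u - blockCoeff A' v) := by
  simp only [bBar, coe_redZ, coeff_map', coeff_bIdem hA, coeff_bIdem hA']
  exact red_eq_iff

variable {D : Subgroup G}

/-- The Brauer image of the idempotent of a block with defect group `D` is that of its
correspondent. -/
theorem brH_bBar_eq (hM : IsPModular p M) [Fact p.Prime] [CharP (Res M) p] (hDp : IsPGroup p D)
    {B : Set (IrrCharacter G)} (hB : IsDefectGroup p M B D)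
    {b : Set (IrrCharacter (Subgroup.normalizer (D : Set G)))}
    (hb : IsDefectGroup p M b (D.subgroupOf (Subgroup.normalizer (D : Set G))))
    (hind : IsInducedBlock M (Subgroup.normalizer (D : Set G)) b B) :
    brH D (Subgroup.normalizer (D : Set G)) hDp (Subgroup.centralizer_le_normalizer _) le_rfl
      (bBar M B) = bBar M b := by
  classical
  have hA := blockCoeff_mem_loc hind.2.1
  refine idem_ext hM (by rw [← map_mul, bBar_mul_self hA])
    (bBar_mul_self (blockCoeff_mem_loc hind.1)) fun η => ?_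
  obtain ⟨B', hB'⟩ := exists_inducedBlock hM hDp Subgroup.le_normalizer
    (Subgroup.centralizer_le_normalizer _) le_rfl (isPBlock_blockOf (M := M) η)
  obtain ⟨χ', hχ'⟩ := block_nonempty hB'.2.1
  rw [← indBar_eq_brH hM hDp Subgroup.le_normalizer (Subgroup.centralizer_le_normalizer _) le_rfl,
    indBar_eq_of_isInducedBlock hB' (self_mem_blockOf η) hχ', omegaBar_bBar hA,
    omegaBar_bBar (blockCoeff_mem_loc hind.1)]
  by_cases hη : η ∈ b
  · rw [if_pos hη, if_pos]
    have e : blockOf M (η : Subgroup.normalizer (D : Set G) → ℂ) = b :=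
      (block_eq_blockOf hind.1 hη).symm
    rw [e] at hB'
    obtain ⟨χ, hχ⟩ := block_nonempty hind.2.1
    have h1 := indBar_eq_of_isInducedBlock hB' hη hχ' (a := bBar M B)
    rw [indBar_eq_of_isInducedBlock hind hη hχ, omegaBar_bBar_eq_one hind.2.1 hχ,
      omegaBar_bBar hA] at h1
    by_contra h
    rw [if_neg h] at h1
    exact one_ne_zero h1
  · rw [if_neg hη, if_neg]
    intro h
    refine hη ?_
    have e := block_eq_of_mem hB'.2.1 hind.2.1 hχ' h
    rw [e] at hB'
    rw [induced_normalizer_unique hM hDp hb hind hB']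
    exact self_mem_blockOf η

theorem congrOn_of_brH (hM : IsPModular p M) [Fact p.Prime] [CharP (Res M) p]
    (hDp : IsPGroup p D) {B : Set (IrrCharacter G)} (hBb : IsPBlock M B)
    {b : Set (IrrCharacter (Subgroup.normalizer (D : Set G)))} (hb : IsPBlock M b)
    (h : brH D (Subgroup.normalizer (D : Set G)) hDp (Subgroup.centralizer_le_normalizer _) le_rfl
      (bBar M B) = bBar M b) :
    CongrOn M D (Subgroup.normalizer (D : Set G)) B b := by
  intro x hx
  have hxN := Subgroup.centralizer_le_normalizer (D : Set G) hx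
  have h1 := congrArg (fun a : ZG (Res M) (Subgroup.normalizer (D : Set G)) =>
    (a : MonoidAlgebra (Res M) (Subgroup.normalizer (D : Set G))).coeff ⟨x, hxN⟩) h
  simp only [coe_brH, coeff_resH] at h1
  rw [coeff_trunc_of_mem _ hx,
    coeff_bBar_eq_iff (blockCoeff_mem_loc hBb) (blockCoeff_mem_loc hb)] at h1
  rwa [← subgroupBlockCoeff_coe _ b ⟨x, hxN⟩] at h1

theorem brH_of_congrOn (hM : IsPModular p M) [Fact p.Prime] [CharP (Res M) p]
    (hDp : IsPGroup p D) {B : Set (IrrCharacter G)} (hBb : IsPBlock M B)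
    {b : Set (IrrCharacter (Subgroup.normalizer (D : Set G)))} (hb : IsPBlock M b)
    (h : CongrOn M D (Subgroup.normalizer (D : Set G)) B b) :
    brH D (Subgroup.normalizer (D : Set G)) hDp (Subgroup.centralizer_le_normalizer _) le_rfl
      (bBar M B) = bBar M b := by
  refine Subtype.ext (MonoidAlgebra.ext (Finsupp.ext fun u => ?_))
  rw [coe_brH, coeff_resH]
  by_cases hu : (u : G) ∈ Subgroup.centralizer (D : Set G)
  · rw [coeff_trunc_of_mem _ hu, coeff_bBar_eq_iff (blockCoeff_mem_loc hBb) (blockCoeff_mem_loc hb),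
      ← subgroupBlockCoeff_coe]
    exact h _ hu
  · rw [coeff_trunc_of_notMem _ (show (u : G) ∉ (Subgroup.centralizer (D : Set G) : Set G) from hu)]
    haveI : (D.subgroupOf (Subgroup.normalizer (D : Set G))).Normal :=
      (Subgroup.normal_subgroupOf_iff_le_normalizer Subgroup.le_normalizer).mpr le_rfl
    exact (coeff_bBar_eq_zero_of_notMem (P := D.subgroupOf (Subgroup.normalizer (D : Set G)))
      (hDp.of_equiv (Subgroup.subgroupOfEquivOfLe Subgroup.le_normalizer).symm) hb
      fun h' => hu ((mem_centralizer_subgroupOf Subgroup.le_normalizer).mp h')).symm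

/-- Every block with defect group `D` has exactly one correspondent. -/
theorem existsUnique_corr (hM : IsPModular p M) {B : Set (IrrCharacter G)} (hBb : IsPBlock M B)
    (hB : IsDefectGroup p M B D) :
    ∃! b : Set (IrrCharacter (Subgroup.normalizer (D : Set G))), IsPBlock M b ∧
      IsDefectGroup p M b (D.subgroupOf (Subgroup.normalizer (D : Set G))) ∧
      CongrOn M D (Subgroup.normalizer (D : Set G)) B b := by
  classical
  haveI : Fact p.Prime := ⟨hM.1⟩
  haveI := charP_res hM
  obtain ⟨-, -, -, hDp, -⟩ := defectGroup_spec hB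
  obtain ⟨b, hb, hbD, hind⟩ := exists_normalizer_block hM hBb hB
  refine ⟨b, ⟨hb, hbD, congrOn_of_brH hM hDp hBb hb (brH_bBar_eq hM hDp hB hbD hind)⟩,
    fun b' ⟨hb', _, hc⟩ => ?_⟩
  have e := (brH_of_congrOn hM hDp hBb hb' hc).symm.trans (brH_bBar_eq hM hDp hB hbD hind)
  obtain ⟨ξ, hξ⟩ := block_nonempty hb'
  have h1 := omegaBar_bBar_eq_one hb' hξ
  rw [e, omegaBar_bBar (blockCoeff_mem_loc hb)] at h1
  refine block_eq_of_mem hb' hb hξ ?_
  by_contra h
  rw [if_neg h] at h1
  exact zero_ne_one h1

/-- Every block of the normalizer with defect group `D` is the correspondent of exactly one. -/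
theorem existsUnique_corr_inv (hM : IsPModular p M) (hDp : IsPGroup p D)
    {b : Set (IrrCharacter (Subgroup.normalizer (D : Set G)))} (hbb : IsPBlock M b)
    (hb : IsDefectGroup p M b (D.subgroupOf (Subgroup.normalizer (D : Set G)))) :
    ∃! B : Set (IrrCharacter G), IsPBlock M B ∧ IsDefectGroup p M B D ∧
      CongrOn M D (Subgroup.normalizer (D : Set G)) B b := by
  classical
  haveI : Fact p.Prime := ⟨hM.1⟩
  haveI := charP_res hM
  obtain ⟨B, hind⟩ := exists_inducedBlock hM hDp Subgroup.le_normalizer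
    (Subgroup.centralizer_le_normalizer _) le_rfl hbb
  have hBD := defect_of_induced_from_normalizer hM hDp hb hind
  refine ⟨B, ⟨hind.2.1, hBD, congrOn_of_brH hM hDp hind.2.1 hbb
    (brH_bBar_eq hM hDp hBD hb hind)⟩, fun B' ⟨hB', _, hc⟩ => ?_⟩
  obtain ⟨ξ, hξ⟩ := block_nonempty hbb
  obtain ⟨χ, hχ⟩ := block_nonempty hind.2.1
  have h1 := omegaBar_bBar_eq_one hbb hξ
  rw [← brH_of_congrOn hM hDp hB' hbb hc,
    ← indBar_eq_brH hM hDp Subgroup.le_normalizer (Subgroup.centralizer_le_normalizer _) le_rfl,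
    indBar_eq_of_isInducedBlock hind hξ hχ, omegaBar_bBar (blockCoeff_mem_loc hB')] at h1
  refine block_eq_of_mem hB' hind.2.1 (χ := χ) ?_ hχ
  by_contra h
  rw [if_neg h] at h1
  exact zero_ne_one h1

theorem isDefectGroup_pullSet [Fact p.Prime] {H : Type u} [Group H] [Finite H] (e : H ≃* G)
    {B : Set (IrrCharacter G)} {P : Subgroup G} (hP : IsDefectGroup p M B P) :
    IsDefectGroup p M (BPairs.pullSet e B) (P.map e.symm.toMonoidHom) := by
  obtain ⟨g, hg, hle, -, hcard⟩ := defectGroup_spec hP
  have hc : (Subgroup.centralizer ({e.symm g} : Set H)) =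
      (Subgroup.centralizer ({g} : Set G)).map e.symm.toMonoidHom := by
    ext x
    rw [Subgroup.mem_map_equiv]
    simp only [MulEquiv.symm_symm, Subgroup.mem_centralizer_singleton_iff]
    rw [← e.injective.eq_iff, map_mul, map_mul, e.apply_symm_apply]
  refine isDefectGroup_of_card (g := e.symm g) ⟨?_, ?_, fun χ hχ => ?_⟩
    (hc ▸ Subgroup.map_mono hle) ?_
  · rw [BPairs.blockCoeff_pullSet, e.apply_symm_apply]; exact hg.1
  · rw [BPairs.blockCoeff_pullSet, e.apply_symm_apply]; exact hg.2.1
  · have h := hg.2.2 (Glauberman.compIrr e.symm χ) hχ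
    convert h using 2
    rw [show (χ : H → ℂ) = fun x => (Glauberman.compIrr e.symm χ : G → ℂ) (e x) from
      funext fun x => by simp [Glauberman.compIrr_apply], BPairs.centralChar_comp,
      e.apply_symm_apply]
  · rw [hc, Subgroup.card_map_of_injective e.symm.injective,
      Subgroup.card_map_of_injective e.symm.injective, hcard]

/-- The normalizer inside a subgroup containing it. -/
noncomputable def normEquiv {H : Subgroup G} (P : Subgroup G) (hPH : P ≤ H)
    (hNH : Subgroup.normalizer (P : Set G) ≤ H) :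
    Subgroup.normalizer ((P.subgroupOf H : Subgroup H) : Set H) ≃*
      Subgroup.normalizer (P : Set G) :=
  have h : ∀ x : H, x ∈ Subgroup.normalizer ((P.subgroupOf H : Subgroup H) : Set H) ↔
      (x : G) ∈ Subgroup.normalizer (P : Set G) := by
    intro x
    rw [Subgroup.mem_normalizer_iff, Subgroup.mem_normalizer_iff]
    constructor
    · intro hx u
      refine ⟨fun hu => (hx ⟨u, hPH hu⟩).mp hu, fun hu => ?_⟩
      have hu' : u ∈ H := by
        have := mul_mem (mul_mem (inv_mem x.2) (hPH hu)) x.2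
        simpa [mul_assoc] using this
      exact (hx ⟨u, hu'⟩).mpr hu
    · exact fun hx u => hx u
  { toFun := fun x => ⟨((x : H) : G), (h _).mp x.2⟩
    invFun := fun x => ⟨⟨(x : G), hNH x.2⟩, (h _).mpr x.2⟩
    left_inv := fun _ => rfl
    right_inv := fun _ => rfl
    map_mul' := fun _ _ => rfl }

theorem normEquiv_map {H : Subgroup G} {P : Subgroup G} (hPH : P ≤ H)
    (hNH : Subgroup.normalizer (P : Set G) ≤ H) :
    ((P.subgroupOf H).subgroupOf
        (Subgroup.normalizer ((P.subgroupOf H : Subgroup H) : Set H))).map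
      (normEquiv P hPH hNH).toMonoidHom = P.subgroupOf (Subgroup.normalizer (P : Set G)) := by
  ext x
  rw [Subgroup.mem_map_equiv]
  rfl

/-- The Brauer correspondence with a subgroup containing the normalizer. -/
theorem brauer_correspondence (hM : IsPModular p M) {P H : Subgroup G} (hP : IsPGroup p P)
    (hH : Subgroup.normalizer (P : Set G) ≤ H) :
    (∀ B : Set (IrrCharacter G), IsPBlock M B → IsDefectGroup p M B P →
      ∃! c : Set (IrrCharacter H), IsPBlock M c ∧ IsDefectGroup p M c (P.subgroupOf H) ∧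
        CongrOn M P H B c) ∧
    (∀ c : Set (IrrCharacter H), IsPBlock M c → IsDefectGroup p M c (P.subgroupOf H) →
      ∃! B : Set (IrrCharacter G), IsPBlock M B ∧ IsDefectGroup p M B P ∧ CongrOn M P H B c) := by
  haveI : Fact p.Prime := ⟨hM.1⟩
  have hPH : P ≤ H := Subgroup.le_normalizer.trans hH
  have hCH : Subgroup.centralizer (P : Set G) ≤ H :=
    (Subgroup.centralizer_le_normalizer _).trans hH
  have hP' : IsPGroup p (P.subgroupOf H) := hP.of_equiv (Subgroup.subgroupOfEquivOfLe hPH).symm
  set e := normEquiv P hPH hH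
  -- relation through the normalizer
  have rel : ∀ (c : Set (IrrCharacter H)) (b : Set (IrrCharacter (Subgroup.normalizer (P : Set G)))),
      CongrOn M (P.subgroupOf H) (Subgroup.normalizer ((P.subgroupOf H : Subgroup H) : Set H)) c
          (BPairs.pullSet e b) ↔
        ∀ x : G, x ∈ Subgroup.centralizer (P : Set G) → MemLocalIdeal M
          (subgroupBlockCoeff H c x - subgroupBlockCoeff (Subgroup.normalizer (P : Set G)) b x) := by
    intro c b
    have key : ∀ x : G, ∀ hx : x ∈ Subgroup.centralizer (P : Set G),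
        (⟨x, hCH hx⟩ : H) ∈ Subgroup.centralizer ((P.subgroupOf H : Subgroup H) : Set H) ∧
        blockCoeff c (⟨x, hCH hx⟩ : H) - subgroupBlockCoeff
            (Subgroup.normalizer ((P.subgroupOf H : Subgroup H) : Set H)) (BPairs.pullSet e b)
            (⟨x, hCH hx⟩ : H) =
          subgroupBlockCoeff H c x - subgroupBlockCoeff (Subgroup.normalizer (P : Set G)) b x := by
      intro x hx
      have hxC := (mem_centralizer_subgroupOf hPH (u := ⟨x, hCH hx⟩)).mpr hx
      have hxN := Subgroup.centralizer_le_normalizer _ hxC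
      refine ⟨hxC, ?_⟩
      rw [← subgroupBlockCoeff_coe H c ⟨x, hCH hx⟩,
        show ((⟨x, hCH hx⟩ : H)) = ((⟨⟨x, hCH hx⟩, hxN⟩ :
          Subgroup.normalizer ((P.subgroupOf H : Subgroup H) : Set H)) : H) from rfl,
        subgroupBlockCoeff_coe (Subgroup.normalizer ((P.subgroupOf H : Subgroup H) : Set H)),
        BPairs.blockCoeff_pullSet, ← subgroupBlockCoeff_coe (Subgroup.normalizer (P : Set G))]
      rfl
    constructor
    · intro h x hx
      rw [← (key x hx).2]
      exact h _ (key x hx).1
    · intro h x hx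
      have hxG := (mem_centralizer_subgroupOf hPH).mp hx
      have e1 := (key (x : G) hxG).2
      rw [show (⟨(x : G), hCH hxG⟩ : H) = x from rfl] at e1
      rw [e1]
      exact h _ hxG
  have hpush : ∀ b : Set (IrrCharacter (Subgroup.normalizer (P : Set G))),
      IsDefectGroup p M b (P.subgroupOf (Subgroup.normalizer (P : Set G))) →
      IsDefectGroup p M (BPairs.pullSet e b) ((P.subgroupOf H).subgroupOf
        (Subgroup.normalizer ((P.subgroupOf H : Subgroup H) : Set H))) := by
    intro b hb
    have h := isDefectGroup_pullSet e hb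
    rw [← normEquiv_map hPH hH, Subgroup.map_map] at h
    convert h
    ext x
    simp [e]
  have hpull : ∀ b' : Set (IrrCharacter
      (Subgroup.normalizer ((P.subgroupOf H : Subgroup H) : Set H))), IsPBlock M b' →
      IsDefectGroup p M b' ((P.subgroupOf H).subgroupOf
        (Subgroup.normalizer ((P.subgroupOf H : Subgroup H) : Set H))) →
      ∃ b, IsPBlock M b ∧ IsDefectGroup p M b (P.subgroupOf (Subgroup.normalizer (P : Set G))) ∧
        BPairs.pullSet e b = b' := by
    intro b' hb' hd
    refine ⟨BPairs.pullSet e.symm b', BPairs.isPBlock_pullSet _ hb', ?_, ?_⟩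
    · have h := isDefectGroup_pullSet e.symm hd
      rwa [MulEquiv.symm_symm, normEquiv_map hPH hH] at h
    · ext ξ
      show Glauberman.compIrr e.symm.symm (Glauberman.compIrr e.symm ξ) ∈ b' ↔ ξ ∈ b'
      have : Glauberman.compIrr e.symm.symm (Glauberman.compIrr e.symm ξ) = ξ :=
        Subtype.ext (funext fun x => by simp [Glauberman.compIrr_apply])
      rw [this]
  refine ⟨fun B hBb hB => ?_, fun c hcb hc => ?_⟩
  · obtain ⟨b, ⟨hb, hbD, hBcb⟩, huniq⟩ := existsUnique_corr hM hBb hB
    obtain ⟨c, ⟨hc, hcD, hcc⟩, hcuniq⟩ :=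
      existsUnique_corr_inv hM hP' (BPairs.isPBlock_pullSet e hb) (hpush b hbD)
    refine ⟨c, ⟨hc, hcD, fun x hx => ?_⟩, fun c' ⟨hc', hc'D, hc'c⟩ => hcuniq c'
      ⟨hc', hc'D, (rel c' b).mpr fun x hx => ?_⟩⟩
    · have h := memLocalIdeal_sub (hBcb x hx) ((rel c b).mp hcc x hx)
      simpa using h
    · have h := memLocalIdeal_sub (hBcb x hx) (hc'c x hx)
      simpa using h
  · obtain ⟨b', ⟨hb', hb'D, hcb'⟩, -⟩ := existsUnique_corr hM hcb hc
    obtain ⟨b, hb, hbD, rfl⟩ := hpull b' hb' hb'D
    obtain ⟨B, ⟨hB, hBD, hBb⟩, huniq⟩ := existsUnique_corr_inv hM hP hb hbD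
    refine ⟨B, ⟨hB, hBD, fun x hx => ?_⟩, fun B' ⟨hB', hB'D, hB'c⟩ => huniq B'
      ⟨hB', hB'D, fun x hx => ?_⟩⟩
    · have h := memLocalIdeal_sub (hBb x hx) ((rel c b).mp hcb' x hx)
      simpa using h
    · have h := memLocalIdeal_add (hB'c x hx) ((rel c b).mp hcb' x hx)
      simpa using h

end Cfsg.Agent.Blocks
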