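import Cfsg.Agent.Lib.Blocks.Height
import Cfsg.Agent.Lib.CT.Brauer
import Cfsg.Agent.Lib.ClassSum.Basic
import Mathlib.GroupTheory.SchurZassenhaus

/-!
# The Brauer–Feit matrix of a block

For characters of a block of defect `d` the numbers `p^d ⟨χ·1_reg, ψ⟩` are integers forming a
symmetric matrix `M` with `M² = p^d M`; the Brauer–Feit bound on the number of characters follows.
-/

namespace Cfsg.Agent.Blocks

open scoped ComplexConjugate
open MonoidAlgebra

universe u

variable {G : Type u} [Group G] [Fintype G] {p : ℕ} {M : Ideal AlgInt}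

open Classical in
/-- The restriction of a character to the p-regular elements, extended by zero. -/
noncomputable def regFun (p : ℕ) (χ : IrrCharacter G) : G → ℂ :=
  fun x => if p ∣ orderOf x then 0 else (χ : G → ℂ) x

/-- The Brauer–Feit pairing `⟨χ·1_reg, ψ⟩`. -/
noncomputable def bfPair (p : ℕ) (χ ψ : IrrCharacter G) : ℂ :=
  classInner (regFun p χ) (ψ : G → ℂ)

theorem bfPair_eq (χ ψ : IrrCharacter G) :
    bfPair p χ ψ = (Nat.card G : ℂ)⁻¹ * regPair p χ ψ := by
  classical
  rw [bfPair, classInner, regPair]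
  congr 1
  refine Finset.sum_congr rfl fun x _ => ?_
  rw [regFun]
  split_ifs <;> simp

theorem bfPair_symm (χ ψ : IrrCharacter G) : bfPair p χ ψ = bfPair p ψ χ := by
  rw [bfPair_eq, bfPair_eq, regPair_symm]

theorem regFun_class (χ : IrrCharacter G) : IsClassFunction G (regFun p χ) := by
  classical
  intro g h
  simp only [regFun]
  have ho : orderOf (h * g * h⁻¹) = orderOf g := by rw [← MulAut.conj_apply, MulEquiv.orderOf_eq]
  simp_rw [ho, isClassFn_irr χ g h]

open Classical in
theorem isGen_regInd (p : ℕ) [hp : Fact p.Prime] :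
    IsGeneralizedCharacter G (fun g : G =>
      if p ∣ orderOf g then (0 : ℂ) else ((p ^ (Nat.card G).factorization p : ℕ) : ℂ)) := by
  classical
  refine CT.isGen_of_restrict_elementary (fun g h => ?_) fun E q hq hE => ?_
  · have ho : orderOf (h * g * h⁻¹) = orderOf g := by rw [← MulAut.conj_apply, MulEquiv.orderOf_eq]
    simp_rw [ho]
  haveI := CT.isNilpotent_of_isElementary hq hE
  obtain ⟨P⟩ : Nonempty (Sylow p E) := inferInstance
  have hnorm : (P : Subgroup E).Normal :=
    P.normal_of_normalizerCondition normalizerCondition_of_isNilpotent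
  haveI := hnorm
  have hcop : (Nat.card (P : Subgroup E)).Coprime (P : Subgroup E).index := by
    rw [P.card_eq_multiplicity]
    exact (hp.out.coprime_iff_not_dvd.mpr P.not_dvd_index).pow_left _
  obtain ⟨Q, hQ⟩ := Subgroup.exists_right_complement'_of_coprime hcop
  have hQcard : Nat.card Q = (P : Subgroup E).index := hQ.symm.index_eq_card.symm
  have hQidx : Q.index = Nat.card (P : Subgroup E) := by
    have h1 := Q.index_mul_card
    rw [hQcard] at h1
    have h2 := (P : Subgroup E).card_mul_index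
    exact Nat.eq_of_mul_eq_mul_right (Nat.pos_of_ne_zero Subgroup.index_ne_zero_of_finite)
      (h1.trans h2.symm)
  -- the p'-elements are exactly the members of the complement
  have hiff : ∀ e : E, e ∈ Q ↔ ¬ p ∣ orderOf (e : G) := by
    intro e
    rw [Subgroup.orderOf_coe]
    constructor
    · exact fun he h => P.not_dvd_index (hQcard ▸ h.trans (Subgroup.orderOf_dvd_natCard Q he))
    · intro he
      obtain ⟨y, hy⟩ : ∃ y, e = y := ⟨e, rfl⟩
      obtain ⟨⟨⟨z, hz⟩, ⟨h, hh⟩⟩, hyz⟩ := (Subgroup.IsComplement.existsUnique hQ e).exists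
      simp only at hyz
      -- one of the two factors is central in an elementary group
      have hcomm : Commute z h := by
        obtain ⟨x, hx, -, l, hl⟩ := hE
        haveI : (Subgroup.zpowers x).Normal :=
          CT.normal_of_central _ (Subgroup.zpowers_le.mpr hx)
        have hcen : ∀ w : E, (orderOf w).Coprime q → w ∈ Subgroup.center E := by
          intro w hw
          refine Subgroup.zpowers_le.mpr hx ?_
          have h1 : (w : E ⧸ Subgroup.zpowers x) ^ q ^ l = 1 := by
            rw [← hl, Subgroup.index_eq_card]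
            exact pow_card_eq_one'
          have h2 : orderOf (w : E ⧸ Subgroup.zpowers x) ∣ orderOf w :=
            orderOf_map_dvd (QuotientGroup.mk' _) w
          rw [← QuotientGroup.eq_one_iff, ← orderOf_eq_one_iff]
          exact Nat.eq_one_of_dvd_coprimes (hw.pow_right l) h2 (orderOf_dvd_of_pow_eq_one h1)
        by_cases hqp : q = p
        · exact (Subgroup.mem_center_iff.mp (hcen h ((hqp ▸ hp.out.coprime_iff_not_dvd.mpr
            fun hd => P.not_dvd_index (hQcard ▸ hd.trans (Subgroup.orderOf_dvd_natCard Q hh))).symm)) z)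
        · refine ((Subgroup.mem_center_iff.mp (hcen z ?_) h)).symm
          obtain ⟨k, hk⟩ := IsPGroup.iff_orderOf.mp P.2 ⟨z, hz⟩
          rw [show orderOf z = p ^ k by simpa using hk]
          exact ((Nat.coprime_primes hp.out hq).mpr (Ne.symm hqp)).pow_left k
      have hzpow : ∃ k, orderOf z = p ^ k := by
        obtain ⟨k, hk⟩ := IsPGroup.iff_orderOf.mp P.2 ⟨z, hz⟩
        exact ⟨k, by simpa using hk⟩
      obtain ⟨k, hk⟩ := hzpow
      have hcop2 : (orderOf z).Coprime (orderOf h) := by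
        rw [hk]
        exact ((hp.out.coprime_iff_not_dvd.mpr P.not_dvd_index).coprime_dvd_right
          (hQcard ▸ Subgroup.orderOf_dvd_natCard Q hh)).pow_left k
      rcases Nat.eq_zero_or_pos k with rfl | hkpos
      · rw [pow_zero, orderOf_eq_one_iff] at hk
        rw [← hyz, hk, one_mul]
        exact hh
      · exfalso
        apply he
        rw [← hyz, hcomm.orderOf_mul_eq_mul_orderOf_of_coprime hcop2, hk]
        exact (dvd_pow_self p hkpos.ne').mul_right _
  haveI hQn : Q.Normal := ⟨fun x hx g => (hiff _).mpr (by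
    have := (hiff x).mp hx
    rwa [Subgroup.orderOf_coe, ← MulAut.conj_apply, MulEquiv.orderOf_eq,
      ← Subgroup.orderOf_coe])⟩
  obtain ⟨c, hc⟩ : Nat.card (P : Subgroup E) ∣ p ^ (Nat.card G).factorization p := by
    rw [P.card_eq_multiplicity]
    exact pow_dvd_pow p ((Nat.factorization_le_iff_dvd Nat.card_pos.ne' Nat.card_pos.ne').mpr
      (Subgroup.card_subgroup_dvd_card E) p)
  have := CT.isGen_zsmul (c : ℤ) (CT.isGen_indFun Q
    (CT.isGen_of_isCharacter (CT.isCharacter_one (G := Q))))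
  convert this using 1
  funext e
  simp only [Pi.smul_apply, smul_eq_mul]
  by_cases he : e ∈ Q
  · have h3 : ∀ x : E, extendByZero Q (fun _ : Q => (1 : ℂ)) (x⁻¹ * e * x) = 1 := fun x => by
      rw [CT.extendByZero_mem _ _ (by simpa [mul_assoc] using hQn.conj_mem e he x⁻¹)]
    have hQ0 : (Fintype.card Q : ℂ) ≠ 0 := Nat.cast_ne_zero.mpr Fintype.card_ne_zero
    simp only [indFun, h3, Finset.sum_const, Finset.card_univ, nsmul_eq_mul, mul_one]
    rw [if_neg ((hiff e).mp he), hc, ← hQidx, Nat.cast_mul, mul_comm]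
    push_cast
    have h4 : (Fintype.card E : ℂ) = (Fintype.card Q : ℂ) * (Q.index : ℂ) := by
      rw [← Nat.card_eq_fintype_card, ← Nat.card_eq_fintype_card]
      exact_mod_cast Q.card_mul_index.symm
    rw [h4, Nat.card_eq_fintype_card (α := Q)]
    field_simp
  · have h3 : ∀ x : E, extendByZero Q (fun _ : Q => (1 : ℂ)) (x⁻¹ * e * x) = 0 := fun x => by
      rw [CT.extendByZero_not_mem _ _ fun h => he (by simpa [mul_assoc] using hQn.conj_mem _ h x)]
    rw [if_pos (by_contra fun h => he ((hiff e).mpr h))]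
    simp [indFun, h3]

/-- `p^a ⟨χ·1_reg, ψ⟩` is an integer. -/
theorem exists_int_pow_mul_bfPair (p : ℕ) [Fact p.Prime] (χ ψ : IrrCharacter G) :
    ∃ z : ℤ, (p : ℂ) ^ (Nat.card G).factorization p * bfPair p χ ψ = (z : ℂ) := by
  classical
  obtain ⟨z, hz⟩ := CT.isGen_inner_int
    (CT.isGen_mul (isGen_regInd (G := G) p) (CT.isGen_of_isIrr χ.2)) (CT.isGen_of_isIrr ψ.2)
  refine ⟨z, ?_⟩
  rw [← hz, bfPair, classInner, classInner, mul_left_comm, Finset.mul_sum]
  congr 1
  refine Finset.sum_congr rfl fun x _ => ?_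
  simp only [Pi.mul_apply, regFun]
  split_ifs <;> push_cast <;> ring

/-- A local integer with an integral multiple by a power of `p` is an integer. -/
theorem exists_int_of_pow_mul [M.IsPrime] (hM : IsPModular p M) {x : ℂ} (hx : x ∈ Loc M) (m : ℕ) :
    ∀ z : ℤ, (p : ℂ) ^ m * x = (z : ℂ) → ∃ w : ℤ, x = (w : ℂ) := by
  induction m with
  | zero => exact fun z hz => ⟨z, by simpa using hz⟩
  | succ m ih =>
    intro z hz
    have hdvd : (p : ℤ) ∣ z := by
      have h1 : MemLocalIdeal M (z : ℂ) := by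
        rw [← hz, pow_succ, mul_right_comm]
        exact memLocalIdeal_mul_left (mul_mem (pow_mem (natCast_mem _ p) _) hx)
          ((memLocalIdeal_natCast hM p).mpr dvd_rfl)
      have h2 : MemLocalIdeal M ((z.natAbs : ℕ) : ℂ) := by
        rcases Int.natAbs_eq z with h | h
        · rw [h] at h1; simpa using h1
        · have := memLocalIdeal_neg h1
          rw [h] at this; simpa using this
      exact Int.natCast_dvd.mpr ((memLocalIdeal_natCast hM _).mp h2)
    obtain ⟨w, rfl⟩ := hdvd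
    refine ih w (mul_left_cancel₀ (Nat.cast_ne_zero.mpr hM.1.ne_zero : (p : ℂ) ≠ 0) ?_)
    rw [← mul_assoc, ← pow_succ', hz]
    push_cast
    ring

/-- The defect is at most the exponent of `p` in the group order. -/
theorem blockDefect_le (p : ℕ) (B : Set (IrrCharacter G)) :
    blockDefect p B ≤ (Nat.card G).factorization p := Nat.sub_le _ _

theorem le_blockDefect_add {B : Set (IrrCharacter G)} {χ : IrrCharacter G} (hχ : χ ∈ B) :
    (Nat.card G).factorization p ≤ blockDefect p B + (charDegree (χ : G → ℂ)).factorization p := by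
  have : sInf ((fun χ : IrrCharacter G => (charDegree (χ : G → ℂ)).factorization p) '' B) ≤
      (charDegree (χ : G → ℂ)).factorization p := Nat.sInf_le ⟨χ, hχ, rfl⟩
  rw [blockDefect]
  omega

/-- The entries `p^d ⟨χ·1_reg, ψ⟩` of the Brauer–Feit matrix are integers. -/
theorem exists_int_bfPair [M.IsPrime] (hM : IsPModular p M) {B : Set (IrrCharacter G)}
    {χ : IrrCharacter G} (hχ : χ ∈ B) (ψ : IrrCharacter G) :
    ∃ z : ℤ, (p : ℂ) ^ blockDefect p B * bfPair p χ ψ = (z : ℂ) := by
  haveI := Fact.mk hM.1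
  obtain ⟨z, hz⟩ := exists_int_pow_mul_bfPair p χ ψ
  set a := (Nat.card G).factorization p
  set d := blockDefect p B
  have hda : d ≤ a := blockDefect_le p B
  refine exists_int_of_pow_mul hM ?_ (a - d) z ?_
  · set e := (charDegree (χ : G → ℂ)).factorization p
    set n1 := Nat.card G / p ^ a
    obtain ⟨t, ht⟩ : ∃ t, d + e = a + t := ⟨d + e - a, by have := le_blockDefect_add (p := p) hχ; omega⟩
    have hn1 : ¬ p ∣ n1 := Nat.not_dvd_ordCompl hM.1 Nat.card_pos.ne'
    have hn0 : (n1 : ℂ) ≠ 0 := Nat.cast_ne_zero.mpr fun h => hn1 (h ▸ dvd_zero p)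
    have hp0 : (p : ℂ) ≠ 0 := Nat.cast_ne_zero.mpr hM.1.ne_zero
    have e1 : (p : ℂ) ^ d * bfPair p χ ψ = (n1 : ℂ)⁻¹ *
        ((p : ℂ) ^ t * ((charDegree (χ : G → ℂ) / p ^ e : ℕ) : ℂ) * (regS M p χ ψ : ℂ)) := by
      have hdeg : (charDegree (χ : G → ℂ) : ℂ) =
          (p : ℂ) ^ e * ((charDegree (χ : G → ℂ) / p ^ e : ℕ) : ℂ) := by
        exact_mod_cast (Nat.ordProj_mul_ordCompl_eq_self (charDegree (χ : G → ℂ)) p).symm
      have hG : (Nat.card G : ℂ) = (p : ℂ) ^ a * (n1 : ℂ) := by
        exact_mod_cast (Nat.ordProj_mul_ordCompl_eq_self (Nat.card G) p).symm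
      rw [bfPair_eq, ← deg_mul_regS (M := M), charDegree_cast, hdeg, hG]
      have e2 : (p : ℂ) ^ d * (p : ℂ) ^ e = (p : ℂ) ^ a * (p : ℂ) ^ t := by
        rw [← pow_add, ← pow_add, ht]
      have hpa := pow_ne_zero a hp0
      field_simp
      linear_combination (((charDegree (χ : G → ℂ) / p ^ e : ℕ) : ℂ) * (regS M p χ ψ : ℂ)) * e2
    rw [e1]
    exact mul_mem (inv_mem_loc (natCast_mem _ _) (mt (memLocalIdeal_natCast hM n1).mp hn1))
      (mul_mem (mul_mem (pow_mem (natCast_mem _ p) t) (natCast_mem _ _)) (regS M p χ ψ).2)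
  · rw [← mul_assoc, ← pow_add, Nat.sub_add_cancel hda]
    exact hz

theorem bfPair_eq_zero [M.IsPrime] (hM : IsPModular p M) {χ ψ : IrrCharacter G}
    (h : ¬ SameBlock M (χ : G → ℂ) (ψ : G → ℂ)) : bfPair p χ ψ = 0 := by
  haveI := Fact.mk hM.1
  rw [bfPair_eq, ← deg_mul_regS (M := M), regS_eq_zero hM h]
  simp

theorem bfPair_ne_zero [M.IsPrime] (hM : IsPModular p M) {B : Set (IrrCharacter G)}
    (hB : IsPBlock M B) {χ ψ : IrrCharacter G} (hχ : χ ∈ B) (hψ : ψ ∈ B)
    (h0 : blockHeight p B (χ : G → ℂ) = 0) : bfPair p χ ψ ≠ 0 := by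
  intro h
  have h1 := (red_regS_ne_zero_iff hM hB hψ hχ).mpr h0
  apply h1
  rw [bfPair_symm, bfPair_eq, ← deg_mul_regS (M := M)] at h
  simp only [mul_eq_zero, inv_eq_zero, CT.card_ne_zero, CT.irr_one_ne_zero ψ.2, false_or] at h
  rw [show regS M p ψ χ = 0 from Subtype.ext (by simpa using h), map_zero]

/-- `M² = p^d M` on the diagonal. -/
theorem sum_bfPair_mul_conj (χ : IrrCharacter G) :
    ∑ ψ : IrrCharacter G, bfPair p χ ψ * conj (bfPair p χ ψ) = bfPair p χ χ := by
  classical
  have hf := CT.classFunction_eq_sum (regFun_class (p := p) χ)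
  have h1 : classInner (regFun p χ) (regFun p χ) = bfPair p χ χ := by
    rw [bfPair, classInner, classInner]
    congr 1
    refine Finset.sum_congr rfl fun x _ => ?_
    simp only [regFun]
    split_ifs <;> simp
  rw [← h1]
  have e : ∀ x, regFun p χ x * conj (regFun p χ x) =
      ∑ ψ : IrrCharacter G, bfPair p χ ψ * ((ψ : G → ℂ) x * conj (regFun p χ x)) := fun x => by
    conv_lhs => arg 1; rw [congrFun hf x]
    simp only [Finset.sum_apply, Pi.smul_apply, smul_eq_mul, Finset.sum_mul, mul_assoc, bfPair]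
  conv_rhs => rw [classInner]
  rw [Finset.sum_congr rfl fun x _ => e x, Finset.sum_comm, Finset.mul_sum]
  refine Finset.sum_congr rfl fun ψ _ => ?_
  rw [← Finset.mul_sum, mul_left_comm]
  congr 1
  rw [bfPair, classInner, map_mul, map_inv₀, map_natCast, map_sum]
  congr 1
  refine Finset.sum_congr rfl fun x _ => ?_
  rw [map_mul, Complex.conj_conj, mul_comm]

/-- The Brauer–Feit bound. -/
theorem brauer_feit [M.IsPrime] (hM : IsPModular p M) {B : Set (IrrCharacter G)}
    (hB : IsPBlock M B) : 4 * Nat.card B ≤ p ^ (2 * blockDefect p B) + 4 := by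
  classical
  haveI := Fact.mk hM.1
  obtain ⟨χ, hχ, h0⟩ := exists_height_zero (p := p) hB
  set d := blockDefect p B
  choose X hX using fun ψ => exists_int_bfPair hM hχ ψ
  have hp0 : (p : ℂ) ^ d ≠ 0 := pow_ne_zero _ (Nat.cast_ne_zero.mpr hM.1.ne_zero)
  have hsq : ∑ ψ, X ψ ^ 2 = (p : ℤ) ^ d * X χ := by
    have h1 : ((∑ ψ, X ψ ^ 2 : ℤ) : ℂ) = (((p : ℤ) ^ d * X χ : ℤ) : ℂ) := by
      push_cast
      rw [← hX χ, ← sum_bfPair_mul_conj, Finset.mul_sum, Finset.mul_sum]
      refine Finset.sum_congr rfl fun ψ _ => ?_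
      have hr : (starRingEnd ℂ) ((X ψ : ℂ)) = (X ψ : ℂ) := by simp
      rw [pow_two]
      nth_rewrite 2 [← hr]
      rw [← hX ψ, map_mul, map_pow, map_natCast]
      ring
    exact_mod_cast h1
  set S := (Finset.univ.filter fun ψ : IrrCharacter G => ψ ∈ B)
  have hcard : Nat.card B = S.card := by
    rw [Nat.card_eq_fintype_card, ← Set.toFinset_card]
    congr 1
    ext; simp [S]
  have hne : ∀ ψ ∈ S, 1 ≤ X ψ ^ 2 := fun ψ hψ => by
    have : X ψ ≠ 0 := fun h => by
      have := hX ψ
      rw [h, Int.cast_zero] at this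
      exact bfPair_ne_zero hM hB hχ (Finset.mem_filter.mp hψ).2 h0 ((mul_eq_zero.mp this).resolve_left hp0)
    exact Int.one_le_abs (pow_ne_zero 2 this) |>.trans_eq (abs_of_nonneg (sq_nonneg _))
  have hle : ∑ ψ ∈ S, X ψ ^ 2 ≤ (p : ℤ) ^ d * X χ :=
    hsq ▸ Finset.sum_le_sum_of_subset_of_nonneg (Finset.subset_univ _) fun ψ _ _ => sq_nonneg _
  have hχS : χ ∈ S := Finset.mem_filter.mpr ⟨Finset.mem_univ _, hχ⟩
  rw [← Finset.add_sum_erase _ _ hχS] at hle
  have h2 : ((S.erase χ).card : ℤ) ≤ ∑ ψ ∈ S.erase χ, X ψ ^ 2 := by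
    rw [Finset.cast_card]
    exact Finset.sum_le_sum fun ψ hψ => hne ψ (Finset.mem_of_mem_erase hψ)
  rw [Finset.card_erase_of_mem hχS, Nat.cast_sub (Finset.card_pos.mpr ⟨χ, hχS⟩), Nat.cast_one] at h2
  have h3 : (4 * S.card : ℤ) ≤ ((p : ℤ) ^ d) ^ 2 + 4 := by
    nlinarith [sq_nonneg (2 * X χ - (p : ℤ) ^ d)]
  rw [hcard, mul_comm 2 d, pow_mul]
  exact_mod_cast h3

end Cfsg.Agent.Blocks
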