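import Cfsg.Agent.Lib.Blocks.GroupAlg
import Cfsg.Agent.Lib.CT.Orthogonality
import Cfsg.Agent.Lib.CT.Integral
import Mathlib.RepresentationTheory.Basic

/-!
# Central characters on the complex group algebra
-/

namespace Cfsg.Agent.Blocks

open MonoidAlgebra
open scoped ComplexConjugate

universe u v w

section General

variable {G : Type u} [Group G] {R : Type v} [CommRing R] {S : Type w} [CommRing S]

theorem map_ev (f : R →+* S) (T : G → R) (a : MonoidAlgebra R G) :
    f (ev T a) = ev (fun u => f (T u)) (mapRingHom G f a) := by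
  induction a using MonoidAlgebra.induction_linear with
  | zero => simp
  | add x y hx hy => rw [ev_add, map_add, map_add, ev_add, hx, hy]
  | single m r => simp

theorem coeff_map' (f : R →+* S) (a : MonoidAlgebra R G) (u : G) :
    (mapRingHom G f a).coeff u = f (a.coeff u) := by simp

theorem map_ofFun [Finite G] (f : R →+* S) (c : G → R) :
    mapRingHom G f (ofFun c) = ofFun (fun u => f (c u)) := by
  ext u
  simp

theorem mem_center_map (f : R →+* S) {a : MonoidAlgebra R G}
    (ha : a ∈ Subring.center (MonoidAlgebra R G)) :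
    mapRingHom G f a ∈ Subring.center (MonoidAlgebra S G) := by
  rw [mem_center_iff_isClassFn] at *
  intro g h
  simp only [coeff_map']
  exact congrArg f (ha g h)

open Classical in
/-- The indicator of the conjugacy class of `g`. -/
noncomputable def classInd (R : Type v) [CommRing R] (g : G) : G → R :=
  fun u => if IsConj g u then 1 else 0

theorem isClassFn_classInd (g : G) : IsClassFn (classInd R g) :=
  isClassFn_of_isConj fun a b hab => by
    classical
    exact if_congr ⟨fun h => h.trans hab, fun h => h.trans hab.symm⟩ rfl rfl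

theorem classInd_pos {g u : G} (h : IsConj g u) : classInd R g u = 1 := by
  simp [classInd, -isConj_iff, h]

theorem classInd_neg {g u : G} (h : ¬ IsConj g u) : classInd R g u = 0 := by
  simp [classInd, -isConj_iff, h]

theorem classInd_self (g : G) : classInd R g g = 1 := classInd_pos (IsConj.refl g)

theorem map_classInd (f : R →+* S) (g : G) : (fun u => f (classInd R g u)) = classInd S g := by
  funext u
  by_cases h : IsConj g u
  · rw [classInd_pos h, classInd_pos h, map_one]
  · rw [classInd_neg h, classInd_neg h, map_zero]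

/-- The class sum of `g`. -/
noncomputable def classSum (R : Type v) [CommRing R] [Finite G] (g : G) : MonoidAlgebra R G :=
  ofFun (classInd R g)

theorem classSum_mem_center [Finite G] (g : G) :
    classSum R g ∈ Subring.center (MonoidAlgebra R G) := by
  rw [mem_center_iff_isClassFn]
  exact isClassFn_classInd g

theorem map_classSum [Finite G] (f : R →+* S) (g : G) :
    mapRingHom G f (classSum R g) = classSum S g := by
  rw [classSum, map_ofFun, map_classInd]; rfl

open Classical in
theorem classInd_sum_eq [Fintype G] (g : G) :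
    ∑ u, classInd R g u = (Nat.card {x : G // IsConj g x} : R) := by
  rw [Nat.card_eq_fintype_card, Fintype.card_subtype]
  simp [classInd]

/-- A representative of a conjugacy class. -/
noncomputable def rep (K : ConjClasses G) : G := Classical.choose (ConjClasses.mk_surjective K)

@[simp] theorem mk_rep (K : ConjClasses G) : ConjClasses.mk (rep K) = K :=
  Classical.choose_spec (ConjClasses.mk_surjective K)

theorem isConj_rep (g : G) : IsConj (rep (ConjClasses.mk g)) g :=
  ConjClasses.mk_eq_mk_iff_isConj.mp (mk_rep _)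

/-- A central element is a combination of class sums. -/
theorem eq_sum_classSum [Fintype G] [Fintype (ConjClasses G)] {a : MonoidAlgebra R G}
    (ha : a ∈ Subring.center (MonoidAlgebra R G)) :
    a = ∑ K : ConjClasses G, a.coeff (rep K) • classSum R (rep K) := by
  classical
  ext u
  rw [coeff_sum, Finset.sum_apply', Finset.sum_eq_single (ConjClasses.mk u)]
  · simp only [coeff_smul_apply, classSum, coeff_ofFun, smul_eq_mul, classInd,
      if_pos (isConj_rep u), mul_one]
    exact ((((mem_center_iff_isClassFn a).mp ha).eq_of_isConj (isConj_rep u))).symm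
  · intro K _ hK
    simp only [coeff_smul_apply, classSum, coeff_ofFun, smul_eq_mul, classInd]
    rw [if_neg, mul_zero]
    intro h
    exact hK (by rw [← mk_rep K]; exact ConjClasses.mk_eq_mk_iff_isConj.mpr h)
  · simp

end General

noncomputable instance conjClassesFintype {G : Type u} [Group G] [Finite G] :
    Fintype (ConjClasses G) :=
  haveI : Finite (ConjClasses G) := Finite.of_surjective _ ConjClasses.mk_surjective
  Fintype.ofFinite _

section Complex

variable {G : Type u} [Group G]

/-- The central character of `χ` on the group algebra: evaluation over the degree. -/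
noncomputable def omega (χ : G → ℂ) (a : MonoidAlgebra ℂ G) : ℂ := ev χ a / χ 1

theorem omega_add (χ : G → ℂ) (a b : MonoidAlgebra ℂ G) :
    omega χ (a + b) = omega χ a + omega χ b := by rw [omega, ev_add, add_div]; rfl

theorem omega_smul (χ : G → ℂ) (c : ℂ) (a : MonoidAlgebra ℂ G) :
    omega χ (c • a) = c * omega χ a := by rw [omega, ev_smul, mul_div_assoc]; rfl

theorem omega_zero (χ : G → ℂ) : omega χ (0 : MonoidAlgebra ℂ G) = 0 := by simp [omega]

theorem omega_sum {ι : Type v} (χ : G → ℂ) (s : Finset ι) (f : ι → MonoidAlgebra ℂ G) :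
    omega χ (∑ i ∈ s, f i) = ∑ i ∈ s, omega χ (f i) := by
  simp only [omega, ev_sum, Finset.sum_div]

theorem ev_one (χ : G → ℂ) : ev χ (1 : MonoidAlgebra ℂ G) = χ 1 := by simp [one_def]

theorem omega_one {χ : G → ℂ} (h : χ 1 ≠ 0) : omega χ (1 : MonoidAlgebra ℂ G) = 1 := by
  rw [omega, ev_one, div_self h]

theorem isClassFn_irr (χ : IrrCharacter G) : IsClassFn (χ : G → ℂ) :=
  CT.isClassFunction_of_isIrr χ.2

variable [Finite G]

/-- Schur's lemma: a central element acts on an irreducible character as a scalar. -/
theorem ev_central_mul {χ : G → ℂ} (hχ : IsIrrCharacter G χ) {a : MonoidAlgebra ℂ G}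
    (ha : a ∈ Subring.center (MonoidAlgebra ℂ G)) (b : MonoidAlgebra ℂ G) :
    ev χ (a * b) = omega χ a * ev χ b := by
  haveI := Fintype.ofFinite G
  obtain ⟨n, ρ, hρ, rfl⟩ := hχ
  haveI := hρ
  have htr : ∀ x : MonoidAlgebra ℂ G,
      LinearMap.trace ℂ _ (ρ.asAlgebraHom x) = ev ρ.character x := by
    intro x
    induction x using MonoidAlgebra.induction_linear with
    | zero => simp
    | add x y hx hy => rw [map_add, map_add, hx, hy, ev_add]
    | single m r => simp [Representation.character]
  have hscal := CT.eq_scalar_of_commute ρ (ρ.asAlgebraHom a) fun g => by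
    rw [← Representation.asAlgebraHom_single_one, ← map_mul, ← map_mul,
      Subring.mem_center_iff.mp ha]
  rw [← htr, map_mul, hscal, htr, omega, Representation.char_one, ← htr b]
  rw [show ∀ (c : ℂ) (T : Module.End ℂ (Fin n → ℂ)), (c • LinearMap.id) * T = c • T from
    fun c T => by ext v; simp]
  rw [map_smul, smul_eq_mul]

theorem omega_mul {χ : G → ℂ} (hχ : IsIrrCharacter G χ) {a : MonoidAlgebra ℂ G}
    (ha : a ∈ Subring.center (MonoidAlgebra ℂ G)) (b : MonoidAlgebra ℂ G) :
    omega χ (a * b) = omega χ a * omega χ b := by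
  simp only [omega, ev_central_mul hχ ha, mul_div_assoc]

theorem centralChar_eq_omega {χ : G → ℂ} (hχ : IsClassFn χ) (g : G) :
    centralChar χ g = omega χ (classSum ℂ g) := by
  classical
  haveI := Fintype.ofFinite G
  rw [centralChar, omega, classSum, ev_ofFun, ← CT.card_conj_class g]
  congr 1
  have h : ∀ u, classInd ℂ g u * χ u = classInd ℂ g u * χ g := fun u => by
    by_cases hu : IsConj g u
    · rw [hχ.eq_of_isConj hu]
    · simp [classInd_neg hu]
  rw [Finset.sum_congr rfl fun u _ => h u, ← Finset.sum_mul, classInd_sum_eq]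

theorem omega_central_eq_sum {χ : G → ℂ} (hχ : IsClassFn χ) {a : MonoidAlgebra ℂ G}
    (ha : a ∈ Subring.center (MonoidAlgebra ℂ G)) :
    omega χ a = ∑ K : ConjClasses G, a.coeff (rep K) * centralChar χ (rep K) := by
  haveI := Fintype.ofFinite G
  conv_lhs => rw [eq_sum_classSum ha]
  rw [omega_sum]
  exact Finset.sum_congr rfl fun K _ => by rw [omega_smul, centralChar_eq_omega hχ]

theorem isIntegral_centralChar {χ : G → ℂ} (hχ : IsIrrCharacter G χ) (g : G) :
    IsIntegral ℤ (centralChar χ g) := by
  haveI := Fintype.ofFinite G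
  obtain ⟨n, ρ, hρ, rfl⟩ := hχ
  haveI := hρ
  rw [centralChar, Representation.char_one]
  exact CT.isIntegral_omega ρ g

theorem isIntegral_irr {χ : G → ℂ} (hχ : IsIrrCharacter G χ) (g : G) : IsIntegral ℤ (χ g) :=
  CT.isIntegral_isCharacter (CT.isCharacter_of_isIrr hχ) g

theorem centralChar_congr (χ : IrrCharacter G) {g h : G} (hgh : IsConj g h) :
    centralChar (χ : G → ℂ) g = centralChar (χ : G → ℂ) h := by
  rw [centralChar_eq_omega (isClassFn_irr χ), centralChar_eq_omega (isClassFn_irr χ)]
  congr 1
  ext u
  simp only [classSum, coeff_ofFun, classInd]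
  by_cases hu : IsConj g u
  · rw [if_pos hu, if_pos (hgh.symm.trans hu)]
  · rw [if_neg hu, if_neg (fun c => hu (hgh.trans c))]

/-- Column orthogonality in group algebra form. -/
theorem sum_ev_mul_conj (a : MonoidAlgebra ℂ G) (h : G) :
    ∑ χ : IrrCharacter G, ev (χ : G → ℂ) a * conj ((χ : G → ℂ) h) =
      (Nat.card (Subgroup.centralizer ({h} : Set G)) : ℂ) * ev (classInd ℂ h) a := by
  classical
  haveI := Fintype.ofFinite G
  simp only [ev_eq_sum, Finset.sum_mul, Finset.mul_sum]
  rw [Finset.sum_comm]
  refine Finset.sum_congr rfl fun u _ => ?_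
  simp only [mul_assoc, ← Finset.mul_sum, CT.column_orthogonality]
  by_cases hu : IsConj h u
  · have hcard : Nat.card (Subgroup.centralizer ({u} : Set G)) =
        Nat.card (Subgroup.centralizer ({h} : Set G)) := by
      obtain ⟨c, rfl⟩ := isConj_iff.mp hu
      refine Nat.card_congr ((MulAut.conj c⁻¹).toEquiv.subtypeEquiv fun x => ?_)
      simp only [Subgroup.mem_centralizer_singleton_iff, MulEquiv.toEquiv_eq_coe,
        MulEquiv.coe_toEquiv, MulAut.conj_apply, inv_inv]
      constructor
      · intro e
        calc c⁻¹ * x * c * h = c⁻¹ * (x * (c * h * c⁻¹)) * c := by group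
          _ = c⁻¹ * ((c * h * c⁻¹) * x) * c := by rw [e]
          _ = h * (c⁻¹ * x * c) := by group
      · intro e
        calc x * (c * h * c⁻¹) = c * (c⁻¹ * x * c * h) * c⁻¹ := by group
          _ = c * (h * (c⁻¹ * x * c)) * c⁻¹ := by rw [e]
          _ = c * h * c⁻¹ * x := by group
    rw [if_pos hu.symm, hcard, classInd, if_pos hu]
    ring
  · rw [if_neg fun c => hu c.symm, classInd, if_neg hu]
    simp

theorem card_centralizer_mul_class (h : G) :
    (Nat.card (Subgroup.centralizer ({h} : Set G)) : ℂ) *
      ((Subgroup.centralizer ({h} : Set G)).index : ℂ) = (Nat.card G : ℂ) := by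
  rw [mul_comm]
  exact_mod_cast (Subgroup.centralizer ({h} : Set G)).index_mul_card

/-- Inversion formula for central elements. -/
theorem coeff_central_eq {a : MonoidAlgebra ℂ G}
    (ha : a ∈ Subring.center (MonoidAlgebra ℂ G)) (u : G) :
    a.coeff u = (Nat.card G : ℂ)⁻¹ *
      ∑ χ : IrrCharacter G, (χ : G → ℂ) 1 * omega (χ : G → ℂ) a * conj ((χ : G → ℂ) u) := by
  classical
  haveI := Fintype.ofFinite G
  have h1 : ∀ χ : IrrCharacter G, (χ : G → ℂ) 1 * omega (χ : G → ℂ) a = ev (χ : G → ℂ) a :=
    fun χ => by rw [omega]; field_simp [CT.irr_one_ne_zero χ.2]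
  simp only [h1, sum_ev_mul_conj]
  have h2 : ev (classInd ℂ u) a =
      ((Subgroup.centralizer ({u} : Set G)).index : ℂ) * a.coeff u := by
    rw [ev_eq_sum, ← CT.card_conj_class u, ← classInd_sum_eq, Finset.sum_mul]
    refine Finset.sum_congr rfl fun x _ => ?_
    by_cases hx : IsConj u x
    · rw [((mem_center_iff_isClassFn a).mp ha).eq_of_isConj hx, mul_comm]
    · simp [classInd_neg hx]
  rw [h2, ← mul_assoc _ _ (a.coeff u), card_centralizer_mul_class]
  field_simp [CT.card_ne_zero (G := G)]

/-- Central elements are determined by their central characters. -/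
theorem central_ext {a b : MonoidAlgebra ℂ G} (ha : a ∈ Subring.center (MonoidAlgebra ℂ G))
    (hb : b ∈ Subring.center (MonoidAlgebra ℂ G))
    (h : ∀ χ : IrrCharacter G, omega (χ : G → ℂ) a = omega (χ : G → ℂ) b) : a = b := by
  ext u
  simp only [coeff_central_eq ha, coeff_central_eq hb, h]

theorem finsum_mem_irr (B : Set (IrrCharacter G)) [DecidablePred (· ∈ B)]
    (f : IrrCharacter G → ℂ) :
    ∑ᶠ χ ∈ B, f χ = ∑ χ : IrrCharacter G, if χ ∈ B then f χ else 0 := by
  classical
  rw [finsum_mem_eq_toFinset_sum, ← Finset.sum_filter]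
  congr 1
  ext x
  simp

/-- The sum of the central idempotents of the members of `A`. -/
noncomputable def idemC (A : Set (IrrCharacter G)) : MonoidAlgebra ℂ G := ofFun (blockCoeff A)

theorem idemC_mem_center (A : Set (IrrCharacter G)) :
    idemC A ∈ Subring.center (MonoidAlgebra ℂ G) := by
  rw [mem_center_iff_isClassFn]
  intro g h
  simp only [idemC, coeff_ofFun, blockCoeff]
  congr 1
  exact finsum_congr fun χ => finsum_congr fun _ => by rw [isClassFn_irr χ g h]

open Classical in
theorem omega_idemC (A : Set (IrrCharacter G)) (χ : IrrCharacter G) :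
    omega (χ : G → ℂ) (idemC A) = if χ ∈ A then 1 else 0 := by
  haveI := Fintype.ofFinite G
  rw [omega, idemC, ev_ofFun]
  simp only [blockCoeff, finsum_mem_irr, mul_assoc, Finset.sum_mul, ← Finset.mul_sum]
  rw [Finset.sum_comm]
  have h : ∀ ψ : IrrCharacter G,
      ∑ u, (if ψ ∈ A then (ψ : G → ℂ) 1 * conj ((ψ : G → ℂ) u) else 0) * (χ : G → ℂ) u =
        if ψ ∈ A then (ψ : G → ℂ) 1 * ((Nat.card G : ℂ) * classInner (χ : G → ℂ) ψ) else 0 := by
    intro ψ
    by_cases hψ : ψ ∈ A
    · simp only [if_pos hψ, mul_assoc, ← Finset.mul_sum, classInner]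
      rw [mul_inv_cancel_left₀ (CT.card_ne_zero (G := G))]
      congr 1
      exact Finset.sum_congr rfl fun u _ => mul_comm _ _
    · simp [hψ]
  simp only [h, CT.irr_inner_subtype]
  rw [Finset.sum_eq_single χ (fun b _ hb => by simp [Ne.symm hb]) (by simp)]
  by_cases hA : χ ∈ A
  · simp only [if_pos hA, if_pos, mul_one]
    field_simp [CT.irr_one_ne_zero χ.2, CT.card_ne_zero (G := G)]
  · simp [hA]

open Classical in
theorem ev_idemC_mul (A : Set (IrrCharacter G)) (χ : IrrCharacter G) (b : MonoidAlgebra ℂ G) :
    ev (χ : G → ℂ) (idemC A * b) = if χ ∈ A then ev (χ : G → ℂ) b else 0 := by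
  rw [ev_central_mul χ.2 (idemC_mem_center A), omega_idemC]
  split_ifs <;> simp

end Complex

end Cfsg.Agent.Blocks
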