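import Cfsg.Agent.Lib.Blocks.FirstMain
import Cfsg.Agent.Lib.Blocks.Orthogonality
import Cfsg.Agent.Lib.CT.Kernel
import Cfsg.Agent.Lib.CT.Integral

/-!
# Characters of defect zero relative to a central `p`-subgroup
-/

set_option linter.unusedSectionVars false

namespace Cfsg.Agent.Blocks

open MonoidAlgebra
open scoped ComplexConjugate

universe u

variable {G : Type u} [Group G] [Finite G] {p : ℕ} {M : Ideal AlgInt} [M.IsPrime]

theorem ev_eq_zero_of_pow_stable [Fact p.Prime] {R : Type*} [CommRing R] {T : G → R}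
    (hT : IsClassFn T) (a : MonoidAlgebra R G) {z : G} (haz : Commute a (single z 1))
    (hz : ∃ r, z ^ p ^ r = 1)
    (ha : ∀ n₀, ∃ n ≥ n₀, ev T (a ^ p ^ n * single z 1) = ev T (a * single z 1))
    (hTz : ∀ g, IsPPart p g z → T g = 0)
    (hsep : ∀ x : R, (∀ k : ℕ, ∃ n ≥ k, (p : R) ^ n ∣ x) → x = 0) :
    ev T (a * single z 1) = 0 := by
  haveI := Fintype.ofFinite G
  refine hsep _ fun k => ⟨k, le_rfl, ?_⟩
  obtain ⟨n, hn, han⟩ := ha (k + (Nat.card G).factorization p)
  rw [← han]
  refine dvd_ev_pow_mul_single hT a haz hz (by omega) fun j hj v hv => ?_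
  set c := ((List.range (p ^ j)).map v).prod
  have hc : Commute c z := commute_list_prod _ fun x hx => by
    obtain ⟨t, ht, rfl⟩ := List.mem_map.mp hx
    exact hv t (List.mem_range.mp ht)
  have hreg : ¬ p ∣ orderOf (c ^ p ^ (n - j)) := isPRegular_pow_of_le c (by omega)
  have hpp := isPPart_mk (p := p) ((hc.pow_left _).symm) hz hreg
  rw [(hc.pow_left (p ^ (n - j))).eq, hTz _ hpp]
  simp

theorem char_mul_central {χ : G → ℂ} (hχ : IsIrrCharacter G χ) {d : G} (hd : d ∈ Subgroup.center G)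
    (u : G) : χ 1 * χ (u * d) = χ d * χ u := by
  haveI := Fintype.ofFinite G
  obtain ⟨n, ρ, hρ, rfl⟩ := hχ
  haveI := hρ
  obtain ⟨ω, hω, -⟩ := CT.central_scalar ρ hd
  have h1 : ρ.character (u * d) = ω * ρ.character u := by
    rw [Representation.character, map_mul, hω]
    simp [Representation.character, Module.End.mul_eq_comp]
  have h2 : ρ.character d = ω * ρ.character 1 := by
    simp [Representation.character, hω]
  rw [h1, h2]; ring

open Classical in
/-- The linear character by which a central element acts. -/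
noncomputable def centralLin (M : Ideal AlgInt) [M.IsPrime] (χ : IrrCharacter G) (d : G) : Loc M :=
  if h : d ∈ Subgroup.center G then ⟨(χ : G → ℂ) d / (χ : G → ℂ) 1, integral_mem_loc (by
      have := isIntegral_centralChar χ.2 d
      have hc : Subgroup.centralizer ({d} : Set G) = ⊤ := eq_top_iff.mpr fun x _ =>
        Subgroup.mem_centralizer_singleton_iff.mpr (Subgroup.mem_center_iff.mp h x)
      rwa [centralChar, hc, Subgroup.index_top, Nat.cast_one, one_mul] at this)⟩
    else 0

variable {χ : IrrCharacter G} {D : Subgroup G}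

theorem coe_centralLin {d : G} (h : d ∈ Subgroup.center G) :
    ((centralLin M χ d : Loc M) : ℂ) = (χ : G → ℂ) d / (χ : G → ℂ) 1 := by
  rw [centralLin, dif_pos h]

theorem char_mul_centralLin {d : G} (h : d ∈ Subgroup.center G) (u : G) :
    (χ : G → ℂ) (u * d) = ((centralLin M χ d : Loc M) : ℂ) * (χ : G → ℂ) u := by
  rw [coe_centralLin h, div_mul_eq_mul_div, eq_div_iff (CT.irr_one_ne_zero χ.2),
    ← char_mul_central χ.2 h u, mul_comm]

theorem centralLin_mul {d e : G} (hd : d ∈ Subgroup.center G) (he : e ∈ Subgroup.center G) :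
    centralLin M χ (d * e) = centralLin M χ d * centralLin M χ e := by
  refine Subtype.ext ?_
  rw [Subring.coe_mul, coe_centralLin (mul_mem hd he), char_mul_centralLin (M := M) he, coe_centralLin hd]
  ring

theorem centralLin_one : centralLin M χ (1 : G) = 1 :=
  Subtype.ext (by rw [coe_centralLin (one_mem _), div_self (CT.irr_one_ne_zero χ.2)]; rfl)

open Classical in
/-- The twisting sum of a central subgroup. -/
noncomputable def twistSum (M : Ideal AlgInt) [M.IsPrime] (χ : IrrCharacter G) (D : Subgroup G) :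
    MonoidAlgebra (Loc M) G :=
  ofFun fun d => if d ∈ D then centralLin M χ d⁻¹ else 0

theorem twistSum_mem_center (hDZ : D ≤ Subgroup.center G) :
    twistSum M χ D ∈ Subring.center (MonoidAlgebra (Loc M) G) := by
  classical
  rw [mem_center_iff_isClassFn]
  intro g c
  by_cases hg : g ∈ D
  · have : c * g * c⁻¹ = g := by
      rw [Subgroup.mem_center_iff.mp (hDZ hg) c, mul_inv_cancel_right]
    rw [this]
  · have : c * g * c⁻¹ ∉ D := fun h => hg (by
      have h2 := Subgroup.mem_center_iff.mp (hDZ h) c⁻¹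
      have e : g = c⁻¹ * (c * g * c⁻¹) * c := by group
      rw [e, h2, inv_mul_cancel_right]; exact h)
    simp only [twistSum, coeff_ofFun, if_neg hg, if_neg this]

open Classical in
theorem coeff_mul_twistSum [Fintype G] (a : MonoidAlgebra (Loc M) G) (u : G) :
    (a * twistSum M χ D).coeff u =
      ∑ d : G, if d ∈ D then centralLin M χ d * a.coeff (u * d) else 0 := by
  rw [coeff_mul_sum]
  refine Fintype.sum_equiv (Equiv.mulLeft u⁻¹) _ _ fun v => ?_
  simp only [twistSum, coeff_ofFun, Equiv.coe_mulLeft, mul_inv_cancel_left, mul_ite, mul_zero]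
  have e : v⁻¹ * u ∈ D ↔ u⁻¹ * v ∈ D := by
    rw [← D.inv_mem_iff, mul_inv_rev, inv_inv]
  refine if_congr e ?_ rfl
  rw [mul_comm, mul_inv_rev, inv_inv]

theorem ev_mul_twistSum (hDZ : D ≤ Subgroup.center G) {T : G → Loc M}
    (hT : ∀ u, ∀ d ∈ D, T (u * d) = centralLin M χ d * T u) (a : MonoidAlgebra (Loc M) G) :
    ev T (a * twistSum M χ D) = (Nat.card D : Loc M) * ev T a := by
  classical
  haveI := Fintype.ofFinite G
  haveI := Fintype.ofFinite D
  induction a using MonoidAlgebra.induction_linear with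
  | zero => simp
  | add x y hx hy => rw [add_mul, ev_add, ev_add, hx, hy, mul_add]
  | single g c =>
    rw [ev_single_mul, ev_single, ev_eq_sum]
    simp only [twistSum, coeff_ofFun, ite_mul, zero_mul]
    rw [← Finset.sum_filter, Finset.sum_congr rfl (g := fun _ => T g) fun d hd => by
      have hdD := (Finset.mem_filter.mp hd).2
      rw [hT g d hdD, ← mul_assoc, ← centralLin_mul (hDZ (D.inv_mem hdD)) (hDZ hdD),
        inv_mul_cancel, centralLin_one, one_mul],
      Finset.sum_const, nsmul_eq_mul, ← Fintype.card_subtype, ← Nat.card_eq_fintype_card]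
    ring

open Classical in
/-- The twisted indicator function of a central subgroup. -/
noncomputable def twistInd (M : Ideal AlgInt) [M.IsPrime] (χ : IrrCharacter G) (D : Subgroup G)
    (u : G) : Loc M :=
  if u ∈ D then centralLin M χ u else 0

theorem twistInd_mul (hDZ : D ≤ Subgroup.center G) (u : G) (d : G) (hd : d ∈ D) :
    twistInd M χ D (u * d) = centralLin M χ d * twistInd M χ D u := by
  classical
  by_cases hu : u ∈ D
  · rw [twistInd, twistInd, if_pos hu, if_pos (D.mul_mem hu hd),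
      centralLin_mul (hDZ hu) (hDZ hd), mul_comm]
  · rw [twistInd, twistInd, if_neg hu, if_neg (fun h => hu ((D.mul_mem_cancel_right hd).mp h)),
      mul_zero]

theorem isClassFn_twistInd (hDZ : D ≤ Subgroup.center G) : IsClassFn (twistInd M χ D) := by
  classical
  intro g c
  by_cases hg : g ∈ D
  · rw [Subgroup.mem_center_iff.mp (hDZ hg) c, mul_inv_cancel_right]
  · have : c * g * c⁻¹ ∉ D := fun h => hg (by
      have h2 := Subgroup.mem_center_iff.mp (hDZ h) c⁻¹
      have e : g = c⁻¹ * (c * g * c⁻¹) * c := by group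
      rw [e, h2, inv_mul_cancel_right]; exact h)
    rw [twistInd, twistInd, if_neg hg, if_neg this]

theorem exists_kappa (hM : IsPModular p M) (D : Subgroup G) (χ : IrrCharacter G)
    (hdeg : (charDegree (χ : G → ℂ)).factorization p = D.index.factorization p) :
    (χ : G → ℂ) 1 / (D.index : ℂ) ∈ Loc M ∧
      ¬ MemLocalIdeal M ((χ : G → ℂ) 1 / (D.index : ℂ)) := by
  set k := (charDegree (χ : G → ℂ)).factorization p
  set a := ordCompl[p] (charDegree (χ : G → ℂ))
  set b := ordCompl[p] D.index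
  have hb0 : D.index ≠ 0 := Subgroup.index_ne_zero_of_finite
  have ha : ¬ MemLocalIdeal M (a : ℂ) := fun h =>
    Nat.not_dvd_ordCompl hM.1 (charDegree_pos χ).ne' ((memLocalIdeal_natCast hM _).mp h)
  have hb : ¬ MemLocalIdeal M (b : ℂ) := fun h =>
    Nat.not_dvd_ordCompl hM.1 hb0 ((memLocalIdeal_natCast hM _).mp h)
  have e : (χ : G → ℂ) 1 / (D.index : ℂ) = (a : ℂ) * (b : ℂ)⁻¹ := by
    have h1 : charDegree (χ : G → ℂ) = p ^ k * a := (Nat.ordProj_mul_ordCompl_eq_self _ p).symm
    have h2 : D.index = p ^ k * b := by rw [hdeg]; exact (Nat.ordProj_mul_ordCompl_eq_self _ p).symm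
    rw [charDegree_cast, h1, h2]
    push_cast
    rw [mul_div_mul_left _ _ (pow_ne_zero k (Nat.cast_ne_zero.mpr hM.1.ne_zero)), div_eq_mul_inv]
  have hbi := inv_mem_loc (M := M) (natCast_mem _ b) hb
  refine ⟨e ▸ (Loc M).mul_mem (natCast_mem _ _) hbi, fun h => ha ?_⟩
  rw [e] at h
  have hb' : (b : ℂ) ≠ 0 := fun h0 => by
    apply hb; rw [h0]; exact memLocalIdeal_zero
  have h3 := memLocalIdeal_mul_left (natCast_mem (Loc M) b) h
  rwa [mul_comm, inv_mul_cancel_right₀ hb'] at h3

/-- A central element lifting the twisted idempotent of a character, when the central subgroup acts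
faithfully. -/
theorem exists_twist_lift (hM : IsPModular p M) (hDZ : D ≤ Subgroup.center G)
    (hdeg : (charDegree (χ : G → ℂ)).factorization p = D.index.factorization p)
    (hfaith : ∀ d ∈ D, (χ : G → ℂ) d = (χ : G → ℂ) 1 → d = 1) :
    ∃ f : MonoidAlgebra (Loc M) G, f ∈ Subring.center (MonoidAlgebra (Loc M) G) ∧
      f * f * twistSum M χ D = f * twistSum M χ D ∧
      (∀ u, (((f * twistSum M χ D).coeff u : Loc M) : ℂ) =
        (χ : G → ℂ) 1 / (D.index : ℂ) * conj ((χ : G → ℂ) u)) ∧
      omega (χ : G → ℂ) (toC M G f) = 1 ∧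
      ∀ u, f.coeff u = 0 ∨ ((f.coeff u : Loc M) : ℂ) =
        (χ : G → ℂ) 1 / (D.index : ℂ) * conj ((χ : G → ℂ) u) := by
  classical
  haveI := Fintype.ofFinite G
  obtain ⟨hκ, -⟩ := exists_kappa hM D χ hdeg
  let c : G → Loc M := fun u => ⟨(χ : G → ℂ) 1 / (D.index : ℂ) * conj ((χ : G → ℂ) u),
    (Loc M).mul_mem hκ (integral_mem_loc (CT.isIntegral_conj (isIntegral_irr χ.2 u)))⟩
  have hcl : ∀ u v, IsConj u v → c u = c v := fun u v h => Subtype.ext (by
    simp only [c]; rw [CT.isClassFunction_isConj (CT.isClassFunction_of_isIrr χ.2) h])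
  have hct : ∀ u, ∀ d ∈ D, centralLin M χ d * c (u * d) = c u := fun u d hd => Subtype.ext (by
    show ((centralLin M χ d : Loc M) : ℂ) * (_ * conj ((χ : G → ℂ) (u * d))) = _ * conj ((χ : G → ℂ) u)
    conv_rhs => rw [show u = u * d * d⁻¹ by group, char_mul_centralLin (M := M) (hDZ (D.inv_mem hd)), map_mul]
    have hlc : conj ((centralLin M χ d⁻¹ : Loc M) : ℂ) = ((centralLin M χ d : Loc M) : ℂ) := by
      rw [coe_centralLin (hDZ (D.inv_mem hd)), coe_centralLin (hDZ hd), map_div₀,
        CT.char_inv_eq_conj (CT.isCharacter_of_isIrr χ.2), Complex.conj_conj, charDegree_cast,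
        Complex.conj_natCast]
    rw [hlc]; ring)
  -- representatives, one in each coset of `D` up to conjugation
  haveI hDn : D.Normal := ⟨fun d hd g => by
    rw [Subgroup.mem_center_iff.mp (hDZ hd) g, mul_inv_cancel_right]; exact hd⟩
  let r : G → G := fun u => (rep (ConjClasses.mk (u : G ⧸ D))).out
  let h : G → Loc M := fun u => if IsConj u (r u) then c u else 0
  have hrc : ∀ u v : G, IsConj (u : G ⧸ D) (v : G ⧸ D) → r u = r v := fun u v huv => by
    simp only [r, ConjClasses.mk_eq_mk_iff_isConj.mpr huv]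
  have hcore : ∀ u, ∑ d : G, (if d ∈ D then centralLin M χ d * h (u * d) else 0) = c u := by
    intro u
    obtain ⟨d₀, hd₀, hconj⟩ : ∃ d₀ ∈ D, IsConj (u * d₀) (r u) := by
      have h1 : IsConj (u : G ⧸ D) ((r u : G) : G ⧸ D) := by
        simp only [r, QuotientGroup.out_eq']
        exact (isConj_rep _).symm
      obtain ⟨g', hg'⟩ := isConj_iff.mp h1
      obtain ⟨g, rfl⟩ := QuotientGroup.mk_surjective g'
      rw [← QuotientGroup.mk_inv, ← QuotientGroup.mk_mul, ← QuotientGroup.mk_mul,
        QuotientGroup.eq] at hg'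
      refine ⟨_, hg', isConj_iff.mpr ⟨g, ?_⟩⟩
      have hz := Subgroup.mem_center_iff.mp (hDZ hg') g⁻¹
      rw [mul_assoc, mul_assoc u, ← hz]
      group
    rw [← Finset.sum_filter, Finset.sum_eq_single d₀]
    · have hr : r (u * d₀) = r u := hrc _ _ (by
        rw [QuotientGroup.mk_mul, (QuotientGroup.eq_one_iff d₀).mpr hd₀, mul_one])
      simp only [h, hr, if_pos hconj, hct u d₀ hd₀]
    · intro d hd hne
      have hdD := (Finset.mem_filter.mp hd).2
      have hr : r (u * d) = r u := hrc _ _ (by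
        rw [QuotientGroup.mk_mul, (QuotientGroup.eq_one_iff d).mpr hdD, mul_one])
      simp only [h, hr]
      split_ifs with hd'
      · by_cases hc0 : c (u * d) = 0
        · rw [hc0, mul_zero]
        exfalso
        apply hne
        have e1 : (χ : G → ℂ) (u * d) = (χ : G → ℂ) (u * d₀) :=
          CT.isClassFunction_isConj (CT.isClassFunction_of_isIrr χ.2) (hd'.trans hconj.symm)
        have hu0 : (χ : G → ℂ) (u * d) ≠ 0 := fun h0 => hc0 (Subtype.ext (by simp [c, h0]))
        have e2 : (χ : G → ℂ) (u * d * (d⁻¹ * d₀)) = (χ : G → ℂ) (u * d₀) := by group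
        rw [char_mul_centralLin (M := M) (hDZ (D.mul_mem (D.inv_mem hdD) hd₀)), ← e1,
          coe_centralLin (hDZ (D.mul_mem (D.inv_mem hdD) hd₀))] at e2
        have h1 := (mul_eq_right₀ hu0).mp e2
        rw [div_eq_one_iff_eq (CT.irr_one_ne_zero χ.2)] at h1
        exact inv_mul_eq_one.mp (hfaith _ (D.mul_mem (D.inv_mem hdD) hd₀) h1)
      · rw [mul_zero]
    · exact fun hn => absurd (Finset.mem_filter.mpr ⟨Finset.mem_univ _, hd₀⟩) hn
  set f : MonoidAlgebra (Loc M) G := ofFun h with hf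
  have hfc : f ∈ Subring.center (MonoidAlgebra (Loc M) G) := by
    rw [mem_center_iff_isClassFn]
    intro g k
    have hk : IsConj g (k * g * k⁻¹) := isConj_iff.mpr ⟨k, rfl⟩
    have hr : r (k * g * k⁻¹) = r g := hrc _ _ ((QuotientGroup.mk' D).map_isConj hk).symm
    simp only [hf, coeff_ofFun, h, hr, hcl _ _ hk]
    exact if_congr ⟨hk.trans, hk.symm.trans⟩ rfl rfl
  have hfS : f * twistSum M χ D = ofFun c := by
    ext u
    rw [coeff_mul_twistSum, coeff_ofFun]
    simp only [hf, coeff_ofFun]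
    exact congrArg _ (hcore u)
  set S := twistSum M χ D with hS
  have hSc : ∀ a, a * S = S * a := Subring.mem_center_iff.mp (twistSum_mem_center hDZ)
  -- `ofFun c` is `|D|` times the idempotent of `χ`
  have hE : toC M G (ofFun c) = (Nat.card D : ℂ) • idemC ({χ} : Set (IrrCharacter G)) := by
    ext u
    simp only [toC, coeff_map', coeff_ofFun, coeff_smul_apply, idemC, smul_eq_mul, blockCoeff,
      finsum_mem_singleton]
    show (χ : G → ℂ) 1 / (D.index : ℂ) * conj ((χ : G → ℂ) u) = _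
    have hi : (D.index : ℂ) ≠ 0 := Nat.cast_ne_zero.mpr Subgroup.index_ne_zero_of_finite
    have hD' : (Nat.card D : ℂ) ≠ 0 := Nat.cast_ne_zero.mpr Nat.card_pos.ne'
    rw [← D.index_mul_card]; push_cast
    field_simp
  have hidem : idemC ({χ} : Set (IrrCharacter G)) * idemC ({χ} : Set (IrrCharacter G)) =
      idemC ({χ} : Set (IrrCharacter G)) := by
    refine central_ext (Subring.mul_mem _ (idemC_mem_center _) (idemC_mem_center _))
      (idemC_mem_center _) fun ψ => ?_
    rw [omega_mul ψ.2 (idemC_mem_center _), omega_idemC]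
    split_ifs <;> simp
  have hEE : ofFun c * ofFun c = (Nat.card D : MonoidAlgebra (Loc M) G) * ofFun c := by
    refine toC_injective ?_
    rw [map_mul, map_mul, hE, map_natCast, smul_mul_smul_comm, hidem, mul_smul, ← nsmul_eq_mul,
      Nat.cast_smul_eq_nsmul]
  have hSE : ofFun c * S = (Nat.card D : MonoidAlgebra (Loc M) G) * ofFun c := by
    ext u
    rw [coeff_mul_twistSum, ← nsmul_eq_mul, coeff_smul_apply, nsmul_eq_mul]
    simp only [coeff_ofFun]
    haveI := Fintype.ofFinite D
    rw [← Finset.sum_filter, Finset.sum_congr rfl fun d hd => hct u d (Finset.mem_filter.mp hd).2,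
      Finset.sum_const, nsmul_eq_mul, ← Fintype.card_subtype, ← Nat.card_eq_fintype_card]
  have hfE : f * ofFun c = ofFun c := by
    refine toC_injective ?_
    have h1 : (Nat.card D : MonoidAlgebra (Loc M) G) * (f * ofFun c) =
        (Nat.card D : MonoidAlgebra (Loc M) G) * ofFun c := by
      conv_rhs => rw [← hEE]; arg 1; rw [← hfS]
      rw [mul_assoc, ← hSc, hSE, ← mul_assoc, ← mul_assoc, (Nat.cast_commute _ f).eq]
    have h2 : (Nat.card D : ℂ) • toC M G (f * ofFun c) = (Nat.card D : ℂ) • toC M G (ofFun c) := by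
      rw [Nat.cast_smul_eq_nsmul, Nat.cast_smul_eq_nsmul, ← map_nsmul, ← map_nsmul, nsmul_eq_mul,
        nsmul_eq_mul, h1]
    exact (smul_right_injective _ (Nat.cast_ne_zero.mpr (Nat.card_pos (α := D)).ne')) h2
  refine ⟨f, hfc, by rw [mul_assoc, hfS, hfE], fun u => by rw [hfS]; rfl, ?_, fun u => ?_⟩
  rotate_left
  · simp only [hf, coeff_ofFun, h]
    split_ifs
    · exact Or.inr rfl
    · exact Or.inl rfl
  -- the central character
  let T : G → Loc M := fun u => ⟨(χ : G → ℂ) u, integral_mem_loc (isIntegral_irr χ.2 u)⟩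
  have hT := ev_mul_twistSum (χ := χ) hDZ (T := T)
    (fun u d hd => Subtype.ext (char_mul_centralLin (M := M) (hDZ hd) u)) f
  rw [← hS, hfS] at hT
  have hT' := congrArg (fun x : Loc M => (x : ℂ)) hT
  simp only [coe_ev, Subring.coe_mul, SubringClass.coe_natCast, hE, T] at hT'
  rw [ev_smul] at hT'
  have h3 := omega_idemC ({χ} : Set (IrrCharacter G)) χ
  rw [if_pos (Set.mem_singleton χ), omega, div_eq_one_iff_eq (CT.irr_one_ne_zero χ.2)] at h3
  rw [omega, div_eq_one_iff_eq (CT.irr_one_ne_zero χ.2)]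
  exact (mul_left_cancel₀ (Nat.cast_ne_zero.mpr (Nat.card_pos (α := D)).ne')
    ((congrArg _ h3.symm).trans hT')).symm

/-- Vanishing outside the sections of a faithful central subgroup. -/
theorem char_eq_zero_of_ppart_notMem (hM : IsPModular p M) (hDZ : D ≤ Subgroup.center G)
    (hdeg : (charDegree (χ : G → ℂ)).factorization p = D.index.factorization p)
    (hfaith : ∀ d ∈ D, (χ : G → ℂ) d = (χ : G → ℂ) 1 → d = 1) (hD : IsPGroup p D)
    {g x : G} (hgx : IsPPart p g x) (hx : x ∉ D) : (χ : G → ℂ) g = 0 := by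
  classical
  haveI : Fact p.Prime := ⟨hM.1⟩
  haveI := Fintype.ofFinite G
  obtain ⟨f, hfc, hff, hfS, -, -⟩ := exists_twist_lift hM hDZ hdeg hfaith
  obtain ⟨y, hxy, hcom, ⟨k, hk⟩, hy⟩ := hgx
  set S := twistSum M χ D
  have hSc : ∀ a, a * S = S * a := Subring.mem_center_iff.mp (twistSum_mem_center hDZ)
  have hfcomm : ∀ b, Commute f b := fun b => (Subring.mem_center_iff.mp hfc b).symm
  set T := twistInd M χ D
  have hpow : ∀ m : ℕ, f ^ (m + 1) * S = f * S := by
    intro m
    induction m with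
    | zero => rw [zero_add, pow_one]
    | succ m ih => rw [pow_succ', mul_assoc, ih, ← mul_assoc, hff]
  have hD0 : (Nat.card D : Loc M) ≠ 0 := fun h0 =>
    Nat.card_pos.ne' (Nat.cast_eq_zero.mp (congrArg (fun x : Loc M => (x : ℂ)) h0))
  have hev0 : ev T (f * single y 1 * single x 1) = 0 := by
    refine ev_eq_zero_of_pow_stable (isClassFn_twistInd hDZ) _
      ((hfcomm _).mul_left (commute_single_of_commute hcom.symm)) ⟨k, hk ▸ pow_orderOf_eq_one x⟩
      (fun n₀ => ?_) (fun u hu => ?_) (sep_loc hM)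
    · obtain ⟨n, hn, hyn⟩ := exists_pow_eq_self hy n₀
      refine ⟨n, hn, mul_left_cancel₀ hD0 ?_⟩
      rw [← ev_mul_twistSum hDZ (twistInd_mul hDZ), ← ev_mul_twistSum hDZ (twistInd_mul hDZ)]
      congr 1
      obtain ⟨m, hm⟩ := Nat.exists_eq_succ_of_ne_zero (pow_ne_zero n hM.1.ne_zero)
      have e : ∀ a, a * single y 1 * single x 1 * S = a * S * (single y 1 * single x 1) := fun a => by
        rw [mul_assoc a (single y 1), mul_assoc a, hSc, ← mul_assoc a S]
      rw [(hfcomm _).mul_pow, single_pow_of_eq hyn, hm, e, e, hpow]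
    · rw [twistInd, if_neg]
      intro huD
      obtain ⟨j, hj⟩ := exists_pow_eq_one_of_isPGroup hD huD
      exact hx ((ppart_unique hu (isPPart_self ⟨j, hj⟩)) ▸ huD)
  rw [mul_assoc, single_mul_single, one_mul, ← hcom.eq, hxy] at hev0
  have hg : ev T (f * single g 1) = (f * S).coeff g⁻¹ := by
    rw [ev_mul_single, one_mul, ev_eq_sum, coeff_mul_twistSum]
    refine (Fintype.sum_equiv (Equiv.mulLeft g⁻¹) _ _ fun d => ?_).symm
    simp only [Equiv.coe_mulLeft, T, twistInd]
    have e : g⁻¹ * d * g ∈ D ↔ d ∈ D :=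
      ⟨fun h => by
        have h2 := Subgroup.mem_center_iff.mp (hDZ h) g
        simp only [← mul_assoc, mul_inv_cancel, one_mul] at h2
        rwa [← mul_right_cancel h2] at h
      , fun h => by rw [Subgroup.mem_center_iff.mp (hDZ h) g⁻¹]; simpa using h⟩
    by_cases hd : d ∈ D
    · rw [if_pos hd, if_pos (e.mpr hd), mul_comm]
      congr 2
      rw [Subgroup.mem_center_iff.mp (hDZ hd) g⁻¹]; simp
    · rw [if_neg hd, if_neg (fun h => hd (e.mp h)), mul_zero]
  rw [hev0] at hg
  have h1 := congrArg (fun x : Loc M => (x : ℂ)) hg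
  simp only [ZeroMemClass.coe_zero, hfS] at h1
  rw [CT.char_inv_eq_conj (CT.isCharacter_of_isIrr χ.2), Complex.conj_conj] at h1
  refine (mul_eq_zero.mp h1.symm).resolve_left (div_ne_zero (CT.irr_one_ne_zero χ.2) ?_)
  exact Nat.cast_ne_zero.mpr Subgroup.index_ne_zero_of_finite

/-- Some element with centralizer of `p`-part `|D|` where the character is a unit. -/
theorem exists_unit_value (hM : IsPModular p M) (hDZ : D ≤ Subgroup.center G)
    (hdeg : (charDegree (χ : G → ℂ)).factorization p = D.index.factorization p)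
    (hfaith : ∀ d ∈ D, (χ : G → ℂ) d = (χ : G → ℂ) 1 → d = 1) :
    ∃ g : G, ¬ MemLocalIdeal M ((χ : G → ℂ) g) := by
  classical
  haveI := Fintype.ofFinite G
  obtain ⟨hκ, -⟩ := exists_kappa hM D χ hdeg
  obtain ⟨f, hfc, -, -, hω, hval⟩ := exists_twist_lift hM hDZ hdeg hfaith
  have h1 : omegaL M χ ⟨f, hfc⟩ = 1 := Subtype.ext (by rw [coe_omegaL]; exact hω)
  rw [omegaL_eq_sum] at h1
  have h2 := congrArg (red M) h1
  rw [map_one, map_sum] at h2
  obtain ⟨K, -, hK⟩ := Finset.exists_ne_zero_of_sum_ne_zero (h2.trans_ne one_ne_zero)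
  rw [map_mul] at hK
  refine ⟨(rep K)⁻¹, fun hI => left_ne_zero_of_mul hK ?_⟩
  show red M (f.coeff (rep K)) = 0
  rcases hval (rep K) with h0 | h0
  · rw [h0, map_zero]
  · rw [red_eq_zero_iff, h0]
    rw [CT.char_inv_eq_conj (CT.isCharacter_of_isIrr χ.2)] at hI
    exact memLocalIdeal_mul_left hκ hI

/-- A character whose degree has the `p`-part of the index of a central `p`-subgroup: its block has
that defect group, and it vanishes outside the corresponding sections. -/
theorem central_defect (hM : IsPModular p M) (hD : IsPGroup p D) (hDZ : D ≤ Subgroup.center G)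
    (hdeg : (charDegree (χ : G → ℂ)).factorization p = D.index.factorization p) :
    IsDefectGroup p M (blockOf M (χ : G → ℂ)) D ∧
      ∀ g x : G, IsPPart p g x → x ∉ D → (χ : G → ℂ) g = 0 := by
  classical
  haveI : Fact p.Prime := ⟨hM.1⟩
  haveI hDn : D.Normal := ⟨fun d hd g => by
    rw [Subgroup.mem_center_iff.mp (hDZ hd) g, mul_inv_cancel_right]; exact hd⟩
  set K : Subgroup G := D ⊓ CT.kerChar (χ : G → ℂ) with hK
  haveI hKn : K.Normal := ⟨fun d hd g => by
    rw [Subgroup.mem_center_iff.mp (hDZ hd.1) g, mul_inv_cancel_right]; exact hd⟩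
  have hχc := CT.isCharacter_of_isIrr χ.2
  obtain ⟨f, hf, hfe⟩ := CT.exists_quotient_irr χ.2 K fun n hn => (CT.mem_kerChar_iff hχc).mp hn.2
  set ψ : IrrCharacter (G ⧸ K) := ⟨f, hf⟩
  set π := QuotientGroup.mk' K
  have hDZ' : D.map π ≤ Subgroup.center (G ⧸ K) := by
    rintro _ ⟨d, hd, rfl⟩
    refine Subgroup.mem_center_iff.mpr fun q => ?_
    obtain ⟨g, rfl⟩ := QuotientGroup.mk'_surjective K q
    rw [← map_mul, ← map_mul, Subgroup.mem_center_iff.mp (hDZ hd) g]
  have hker : π.ker ≤ D := by rw [QuotientGroup.ker_mk']; exact inf_le_left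
  have hidx : (D.map π).index = D.index := D.index_map_eq (QuotientGroup.mk'_surjective K) hker
  have hd1 : charDegree f = charDegree (χ : G → ℂ) := by
    simp only [charDegree]
    rw [← hfe 1, QuotientGroup.mk_one]
  have hdeg' : (charDegree (ψ : G ⧸ K → ℂ)).factorization p = (D.map π).index.factorization p := by
    rw [hidx]; exact hd1 ▸ hdeg
  have hfaith : ∀ d ∈ D.map π, (ψ : G ⧸ K → ℂ) d = (ψ : G ⧸ K → ℂ) 1 → d = 1 := by
    rintro _ ⟨d, hd, rfl⟩ h
    rw [QuotientGroup.mk'_apply, QuotientGroup.eq_one_iff]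
    refine ⟨hd, (CT.mem_kerChar_iff hχc).mpr ?_⟩
    rw [← hfe d, ← hfe 1, QuotientGroup.mk_one]; exact h
  refine ⟨?_, fun g x hgx hx => ?_⟩
  swap
  · have hmap : IsPPart p (π g) (π x) := by
      obtain ⟨y, hxy, hc, ⟨k, hk⟩, hy⟩ := hgx
      rw [← hxy, map_mul]
      exact isPPart_mk (hc.map π) ⟨k, by rw [← map_pow, ← hk, pow_orderOf_eq_one, map_one]⟩
        fun hd => hy (hd.trans (orderOf_map_dvd π y))
    rw [← hfe g]
    exact char_eq_zero_of_ppart_notMem hM hDZ' hdeg' hfaith (hD.map π) hmap fun hm => hx (by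
      rw [← Subgroup.mem_comap, Subgroup.comap_map_eq_self hker] at hm; exact hm)
  -- the defect group
  obtain ⟨q, hq⟩ := exists_unit_value hM hDZ' hdeg' hfaith
  obtain ⟨g, rfl⟩ := QuotientGroup.mk_surjective q
  have hg : ¬ MemLocalIdeal M ((χ : G → ℂ) g) := hfe g ▸ hq
  set C := Subgroup.centralizer ({g} : Set G)
  have hDC : D ≤ C := fun d hd => Subgroup.mem_centralizer_singleton_iff.mpr
    (Subgroup.mem_center_iff.mp (hDZ hd) g).symm
  set a := (Nat.card G).factorization p with ha
  set d := (Nat.card C).factorization p with hd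
  set e := (charDegree (χ : G → ℂ)).factorization p with he
  set n₁ := Nat.card G / p ^ a with hn₁
  set n₂ := Nat.card C / p ^ d with hn₂
  set n₃ := charDegree (χ : G → ℂ) / p ^ e with hn₃
  have hsum : (Nat.card D).factorization p + e = a := by
    rw [hdeg, ← Finsupp.add_apply, ← Nat.factorization_mul Nat.card_pos.ne'
      Subgroup.index_ne_zero_of_finite, D.card_mul_index]
  have hdle : (Nat.card D).factorization p ≤ d :=
    (Nat.factorization_le_iff_dvd Nat.card_pos.ne' Nat.card_pos.ne').mpr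
      (Subgroup.card_dvd_of_le hDC) p
  obtain ⟨t, ht⟩ : ∃ t, d + e = a + t := ⟨d + e - a, by omega⟩
  have key : (p : ℂ) ^ t * (((n₂ * n₃ : ℕ) : ℂ) * centralChar (χ : G → ℂ) g) =
      (n₁ : ℂ) * (χ : G → ℂ) g := by
    apply mul_left_cancel₀ (pow_ne_zero a (Nat.cast_ne_zero.mpr hM.1.ne_zero : (p : ℂ) ≠ 0))
    have h := centralChar_mul χ g
    rw [charDegree_cast, ← Nat.ordProj_mul_ordCompl_eq_self (Nat.card G) p,
      ← Nat.ordProj_mul_ordCompl_eq_self (Nat.card C) p,
      ← Nat.ordProj_mul_ordCompl_eq_self (charDegree (χ : G → ℂ)) p] at h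
    push_cast at h ⊢
    change (p : ℂ) ^ d * (n₂ : ℂ) * ((p : ℂ) ^ e * (n₃ : ℂ)) * _ =
      (p : ℂ) ^ a * (n₁ : ℂ) * _ at h
    have hp : (p : ℂ) ^ a * (p : ℂ) ^ t = (p : ℂ) ^ d * (p : ℂ) ^ e := by
      rw [← pow_add, ← pow_add, ht]
    linear_combination h + (n₂ : ℂ) * (n₃ : ℂ) * centralChar (χ : G → ℂ) g * hp
  have hn1 : ¬ MemLocalIdeal M (n₁ : ℂ) := fun h =>
    Nat.not_dvd_ordCompl hM.1 Nat.card_pos.ne' ((memLocalIdeal_natCast hM _).mp h)
  have hu : ¬ MemLocalIdeal M ((n₁ : ℂ) * (χ : G → ℂ) g) := fun h =>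
    hg (memLocalIdeal_of_mul (integral_mem_loc (isIntegral_irr χ.2 g)) (natCast_mem _ _) hn1 h)
  have hω : centralChar (χ : G → ℂ) g ∈ Loc M := integral_mem_loc (isIntegral_centralChar χ.2 g)
  rw [← key] at hu
  have hω1 : ¬ MemLocalIdeal M (centralChar (χ : G → ℂ) g) := fun h => hu <| by
    rw [← mul_assoc]
    exact memLocalIdeal_mul_left ((Loc M).mul_mem (pow_mem (natCast_mem _ _) _) (natCast_mem _ _)) h
  have ht0 : t = 0 := by
    by_contra h0
    apply hu
    rw [mul_comm]
    refine memLocalIdeal_mul_left ((Loc M).mul_mem (natCast_mem _ _) hω) ?_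
    obtain ⟨j, rfl⟩ := Nat.exists_eq_succ_of_ne_zero h0
    rw [pow_succ]
    exact memLocalIdeal_mul_left (pow_mem (natCast_mem _ _) _)
      ((memLocalIdeal_natCast hM p).mpr dvd_rfl)
  have hB : IsPBlock M (blockOf M (χ : G → ℂ)) := isPBlock_blockOf χ
  obtain ⟨P, hP⟩ := exists_defectGroup (p := p) hB
  have hle : D ≤ P := normal_le_defect hM hB hD hP
  obtain ⟨x, hx⟩ := defect_conj_le_centralizer hM hB hP (self_mem_blockOf χ) hω1
  obtain ⟨-, -, -, hPp, -⟩ := defectGroup_spec hP
  suffices hPD : P = D by rwa [hPD] at hP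
  obtain ⟨i, hi⟩ := IsPGroup.iff_card.mp hPp
  obtain ⟨j, hj⟩ := IsPGroup.iff_card.mp hD
  have h1 : p ^ i ∣ Nat.card C := by
    rw [← hi, ← card_map_conj P x]; exact Subgroup.card_dvd_of_le hx
  have h2 : i ≤ d := (hM.1.pow_dvd_iff_le_factorization Nat.card_pos.ne').mp h1
  have h3 : (Nat.card D).factorization p = j := by
    rw [hj, hM.1.factorization_pow, Finsupp.single_eq_same]
  refine (Subgroup.eq_of_le_of_card_ge hle ?_).symm
  rw [hi, hj]
  exact Nat.pow_le_pow_right hM.1.pos (by omega)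

end Cfsg.Agent.Blocks
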