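import Cfsg.Agent.Lib.Blocks.BlockCount
import Cfsg.Agent.Lib.Blocks.CentralDefect
import Cfsg.Agent.Lib.Blocks.BrauerFeit
import Cfsg.Agent.Lib.Blocks.SecondMain

/-!
# The characters of a block with central defect group
-/

set_option linter.unusedSectionVars false

namespace Cfsg.Agent.Blocks

open scoped ComplexConjugate
open CT

universe u

variable {G : Type u} [Group G] [Fintype G] {p : ℕ} {M : Ideal AlgInt} [M.IsPrime]

/-- A character of a block vanishes outside the sections meeting a defect group. -/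
theorem apply_eq_zero_of_ppart_notConj (hM : IsPModular p M) {B : Set (IrrCharacter G)}
    (hB : IsPBlock M B) {D : Subgroup G} (hD : IsDefectGroup p M B D) {χ : IrrCharacter G}
    (hχ : χ ∈ B) {g x : G} (hx : IsPPart p g x) (hxD : ∀ d ∈ D, ¬ IsConj d x) :
    (χ : G → ℂ) g = 0 := by
  refine char_eq_zero_of_not_mem_defect hM hx fun E hE hxE => ?_
  rw [← block_eq_blockOf hB hχ] at hE
  obtain ⟨c, rfl⟩ := defect_conj hM hB hD hE
  obtain ⟨d, hd, rfl⟩ := Subgroup.mem_map.mp hxE
  exact hxD d hd (isConj_iff.mpr ⟨c, rfl⟩)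

theorem classInner_regFun (χ ψ : IrrCharacter G) :
    classInner (regFun p χ) (regFun p ψ) = bfPair p χ ψ := by
  rw [bfPair, classInner, classInner]
  congr 1
  refine Finset.sum_congr rfl fun x _ => ?_
  simp only [regFun]
  split_ifs <;> simp

/-- The regular norm of a character in a block with central defect group. -/
theorem bfPair_self_of_central (hM : IsPModular p M) {B : Set (IrrCharacter G)}
    (hB : IsPBlock M B) {D : Subgroup G} (hD : IsDefectGroup p M B D)
    (hDZ : D ≤ Subgroup.center G) {χ : IrrCharacter G} (hχ : χ ∈ B) :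
    (p : ℂ) ^ blockDefect p B * bfPair p χ χ = 1 := by
  classical
  haveI : Fact p.Prime := ⟨hM.1⟩
  obtain ⟨-, -, -, hDp, -⟩ := defectGroup_spec hD
  have hself := irr_inner_self χ.2
  rw [classInner] at hself
  set F : G → ℂ := fun g => (χ : G → ℂ) g * conj ((χ : G → ℂ) g) with hF
  set R := Finset.univ.filter (fun y : G => ¬ p ∣ orderOf y) with hR
  have hpp : ∀ d ∈ D, ∀ y : G, ¬ p ∣ orderOf y → IsPPart p (d * y) d := fun d hd y hy => by
    obtain ⟨k, hk⟩ := IsPGroup.iff_orderOf.mp hDp ⟨d, hd⟩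
    exact ⟨y, rfl, ((Subgroup.mem_center_iff.mp (hDZ hd)) y).symm,
      ⟨k, by rwa [Subgroup.orderOf_mk] at hk⟩, hy⟩
  have hsum : ∑ g, F g = (Nat.card D : ℂ) * ∑ y ∈ R, F y := by
    choose π hπ using fun g : G => exists_isPPart (p := p) g
    have h0 : ∀ g, π g ∉ D → F g = 0 := fun g hg => by
      rw [hF]
      simp only
      rw [apply_eq_zero_of_ppart_notConj hM hB hD hχ (hπ g).1 fun d hd hc => hg ?_, zero_mul]
      obtain ⟨c, hc⟩ := isConj_iff.mp hc
      rwa [← hc, Subgroup.mem_center_iff.mp (hDZ hd) c, mul_inv_cancel_right]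
    rw [← Finset.sum_filter_of_ne (p := fun g => π g ∈ D) fun g _ hne => by
      by_contra h; exact hne (h0 g h)]
    rw [← Finset.sum_fiberwise_of_maps_to (g := π) (t := Finset.univ.filter fun d : G => d ∈ D)
      (fun g hg => by simpa using (Finset.mem_filter.mp hg).2)]
    have hfib : ∀ d ∈ Finset.univ.filter (fun d : G => d ∈ D),
        ∑ g ∈ (Finset.univ.filter fun g => π g ∈ D).filter (fun g => π g = d), F g =
          ∑ y ∈ R, F y := by
      intro d hd
      have hdD : d ∈ D := (Finset.mem_filter.mp hd).2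
      refine (Finset.sum_bij (fun y _ => d * y) (fun y hy => ?_) (fun a _ b _ h => mul_left_cancel h)
        (fun g hg => ?_) fun y hy => ?_).symm
      · have e : π (d * y) = d :=
          ppart_unique (hπ _).1 (hpp d hdD y (Finset.mem_filter.mp hy).2)
        simp [e, hdD]
      · have e := (Finset.mem_filter.mp hg).2
        obtain ⟨y, hy, -, -, hreg⟩ := (hπ g).1
        exact ⟨y, Finset.mem_filter.mpr ⟨Finset.mem_univ _, hreg⟩, by rw [← e]; exact hy⟩
      · have h1 := char_mul_central χ.2 (hDZ hdD) y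
        have h2 := char_mul_central χ.2 (hDZ hdD) d⁻¹
        rw [inv_mul_cancel, char_inv_eq_conj (isCharacter_of_isIrr χ.2)] at h2
        have h3 : conj ((χ : G → ℂ) 1) = (χ : G → ℂ) 1 := by rw [charDegree_cast, map_natCast]
        have h4 : (χ : G → ℂ) (d * y) = (χ : G → ℂ) (y * d) := by
          rw [← Subgroup.mem_center_iff.mp (hDZ hdD) y]
        apply mul_left_cancel₀ (mul_ne_zero (irr_one_ne_zero χ.2) (irr_one_ne_zero χ.2))
        have h5 := congrArg conj h1
        simp only [map_mul, h3] at h5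
        simp only [hF, h4]
        linear_combination ((χ : G → ℂ) y * conj ((χ : G → ℂ) y)) * h2 -
          ((χ : G → ℂ) 1 * conj ((χ : G → ℂ) (y * d))) * h1 -
          ((χ : G → ℂ) d * (χ : G → ℂ) y) * h5
    rw [Finset.sum_congr rfl hfib, Finset.sum_const, nsmul_eq_mul, ← Fintype.card_subtype,
      Fintype.card_eq_nat_card]
  rw [hsum, card_defectGroup hM hB hD, hR, Finset.sum_filter] at hself
  rw [bfPair_eq, regPair, mul_left_comm]
  convert hself using 3
  · push_cast; rfl
  · exact Finset.sum_congr rfl fun x _ => by simp only [hF]; split_ifs <;> rfl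

/-- In a block with central defect group all characters agree on the regular elements, and their
number is the order of the defect group. -/
theorem central_block (hM : IsPModular p M) {B : Set (IrrCharacter G)}
    (hB : IsPBlock M B) {D : Subgroup G} (hD : IsDefectGroup p M B D)
    (hDZ : D ≤ Subgroup.center G) :
    Nat.card B = p ^ blockDefect p B ∧
      (∀ χ ∈ B, ∀ ψ ∈ B, ∀ g : G, ¬ p ∣ orderOf g → (χ : G → ℂ) g = (ψ : G → ℂ) g) ∧
      ∀ χ ∈ B, ∀ ψ ∈ B, (p : ℂ) ^ blockDefect p B * bfPair p χ ψ = 1 := by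
  classical
  haveI : Fact p.Prime := ⟨hM.1⟩
  set d := blockDefect p B
  obtain ⟨χ₀, hχ₀, h0⟩ := exists_height_zero (p := p) hB
  have key : ∀ χ ∈ B, (∀ g : G, ¬ p ∣ orderOf g → (χ : G → ℂ) g = (χ₀ : G → ℂ) g) ∧
      (p : ℂ) ^ d * bfPair p χ₀ χ = 1 := by
    intro χ hχ
    obtain ⟨z, hz⟩ := exists_int_bfPair (p := p) hM hχ₀ χ
    have hp0 : (p : ℂ) ^ d ≠ 0 := pow_ne_zero _ (Nat.cast_ne_zero.mpr hM.1.ne_zero)
    have hz0 : z ≠ 0 := fun h => by
      rw [h, Int.cast_zero, mul_eq_zero] at hz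
      exact bfPair_ne_zero hM hB hχ₀ hχ h0 (hz.resolve_left hp0)
    set f : G → ℂ := regFun p χ - (z : ℂ) • regFun p χ₀ with hf
    have hsm : ∀ a : G → ℂ, classInner a ((z : ℂ) • regFun p χ₀) =
        (z : ℂ) * classInner a (regFun p χ₀) := fun a => by
      simp [CT.classInner_smul_right]
    have hff : (p : ℂ) ^ d * classInner f f = 1 - (z : ℂ) ^ 2 := by
      rw [hf, classInner_sub_left, classInner_sub_right, classInner_sub_right, hsm, hsm,
        classInner_smul_left, classInner_smul_left, classInner_regFun, classInner_regFun,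
        classInner_regFun, classInner_regFun, bfPair_symm χ χ₀]
      linear_combination bfPair_self_of_central hM hB hD hDZ hχ - 2 * (z : ℂ) * hz +
        (z : ℂ) ^ 2 * bfPair_self_of_central hM hB hD hDZ hχ₀
    have hn := classInner_self f
    rw [hn] at hff
    have hre : (p : ℝ) ^ d * ((Nat.card G : ℝ)⁻¹ * ∑ g : G, ‖f g‖ ^ 2) = 1 - (z : ℝ) ^ 2 := by
      exact_mod_cast hff
    have hpos : 0 ≤ (p : ℝ) ^ d * ((Nat.card G : ℝ)⁻¹ * ∑ g : G, ‖f g‖ ^ 2) := by positivity
    have hz2 : z ^ 2 = 1 := by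
      have h1 : (z : ℝ) ^ 2 ≤ 1 := by linarith
      have h2 : z ^ 2 ≤ 1 := by exact_mod_cast h1
      nlinarith [Int.one_le_abs hz0, sq_abs z]
    have hf0 : f = 0 := by
      refine classInner_self_eq_zero ?_
      have : (z : ℂ) ^ 2 = 1 := by exact_mod_cast hz2
      rw [hn]
      exact (mul_eq_zero.mp (by rw [hff, this, sub_self])).resolve_left hp0
    have h1 : ∀ g : G, ¬ p ∣ orderOf g → (χ : G → ℂ) g = (z : ℂ) * (χ₀ : G → ℂ) g := fun g hg => by
      have := congrFun hf0 g
      simp only [hf, Pi.sub_apply, Pi.smul_apply, regFun, if_neg hg, smul_eq_mul, Pi.zero_apply,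
        sub_eq_zero] at this
      exact this
    have hz1 : z = 1 := by
      have h := h1 1 (by simpa using hM.1.not_dvd_one)
      rw [charDegree_cast, charDegree_cast] at h
      have h' : (charDegree (χ : G → ℂ) : ℤ) = z * (charDegree (χ₀ : G → ℂ) : ℤ) := by
        exact_mod_cast h
      have := charDegree_pos χ
      have := charDegree_pos χ₀
      rcases sq_eq_one_iff.mp hz2 with rfl | rfl
      · rfl
      · omega
    subst hz1
    exact ⟨fun g hg => by simpa using h1 g hg, by simpa using hz⟩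
  have hall : ∀ χ ∈ B, ∀ ψ ∈ B, (p : ℂ) ^ d * bfPair p χ ψ = 1 := fun χ hχ ψ hψ => by
    rw [← (key ψ hψ).2]
    congr 1
    rw [bfPair_eq, bfPair_eq, regPair, regPair]
    congr 1
    refine Finset.sum_congr rfl fun x _ => ?_
    split_ifs with hx
    · rfl
    · rw [(key χ hχ).1 x hx]
  refine ⟨?_, fun χ hχ ψ hψ g hg => ((key χ hχ).1 g hg).trans ((key ψ hψ).1 g hg).symm, hall⟩
  have h := sum_bfPair_mul_conj (p := p) χ₀
  have hp0 : (p : ℂ) ^ d ≠ 0 := pow_ne_zero _ (Nat.cast_ne_zero.mpr hM.1.ne_zero)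
  have hr : ∀ ψ, bfPair p χ₀ ψ = if ψ ∈ B then ((p : ℂ) ^ d)⁻¹ else 0 := fun ψ => by
    split_ifs with hψ
    · exact eq_inv_of_mul_eq_one_right (hall χ₀ hχ₀ ψ hψ)
    · exact bfPair_eq_zero hM fun hs => hψ ((mem_block_iff hB hχ₀).mpr hs)
  simp only [hr, if_pos hχ₀, apply_ite conj, map_inv₀, map_pow, map_natCast, map_zero, mul_ite,
    ite_mul, zero_mul, mul_zero] at h
  rw [Finset.sum_congr rfl (g := fun ψ => if ψ ∈ B then ((p : ℂ) ^ d)⁻¹ * ((p : ℂ) ^ d)⁻¹ else 0)
    (fun ψ _ => by split_ifs <;> rfl), ← Finset.sum_filter, Finset.sum_const, nsmul_eq_mul,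
    ← Fintype.card_subtype] at h
  have h' : (Nat.card B : ℂ) = (p : ℂ) ^ d := by
    rw [Nat.card_eq_fintype_card]
    field_simp at h
    exact_mod_cast h
  exact_mod_cast h'

end Cfsg.Agent.Blocks
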