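import Cfsg.Agent.Lib.Blocks.Regular
import Mathlib.GroupTheory.PGroup

/-!
# Vanishing on elements of order `p`
-/

namespace Cfsg.Agent.Blocks

open MonoidAlgebra
open scoped ComplexConjugate

universe u v

variable {G : Type u} [Group G] [Finite G] {p : ℕ} {M : Ideal AlgInt} [M.IsPrime]

set_option linter.unusedSectionVars false

theorem exists_isPModular (hp : p.Prime) : ∃ M : Ideal AlgInt, IsPModular p M := by
  have hne : Ideal.span {(p : AlgInt)} ≠ ⊤ := by
    intro h
    obtain ⟨a, ha⟩ := Ideal.mem_span_singleton'.mp ((Ideal.eq_top_iff_one _).mp h)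
    have hC : (a : ℂ) * (p : ℂ) = 1 := by
      have := congrArg (fun x : AlgInt => (x : ℂ)) ha
      push_cast at this
      exact this
    have hd : IsIntegral ℤ (((1 : ℕ) : ℂ) / (p : ℂ)) := by
      rw [Nat.cast_one, show (1 : ℂ) / (p : ℂ) = (a : ℂ) by
        rw [← hC, mul_div_assoc, div_self (Nat.cast_ne_zero.mpr hp.ne_zero), mul_one]]
      exact a.2
    exact hp.not_dvd_one (CT.dvd_of_isIntegral_div hp.ne_zero hd)
  obtain ⟨M, hM, hle⟩ := Ideal.exists_le_maximal _ hne
  exact ⟨M, hp, hM, hle (Ideal.mem_span_singleton_self _)⟩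

theorem charDegree_dvd_card (χ : IrrCharacter G) : charDegree (χ : G → ℂ) ∣ Nat.card G := by
  obtain ⟨n, ρ, hρ, h⟩ := χ.2
  haveI := hρ
  haveI := Fintype.ofFinite G
  have h1 := CT.finrank_dvd_card ρ
  have h2 : charDegree (χ : G → ℂ) = Module.finrank ℂ (Fin n → ℂ) := by
    have := charDegree_cast χ
    rw [← h, Representation.char_one] at this
    rw [← h]
    exact_mod_cast this.symm
  rwa [h2]

open Classical in
/-- The sum of the elements with `x ^ p = 1`. -/
noncomputable def torsionSum (R : Type v) [CommRing R] (p : ℕ) : ZG R G :=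
  ⟨ofFun fun x => if x ^ p = 1 then 1 else 0, by
    rw [mem_center_iff_isClassFn]
    intro g h
    simp only [coeff_ofFun]
    refine if_congr ?_ rfl rfl
    rw [conj_pow, conj_eq_one_iff]⟩

theorem mul_subgroupSum_eq_zero {R : Type v} [CommRing R] [CharP R p] {Q : Subgroup G}
    (hdvd : p ∣ Nat.card Q) {a : MonoidAlgebra R G}
    (ha : ∀ q ∈ Q, ∀ u, a.coeff (u * q) = a.coeff u) : a * subgroupSum R Q = 0 := by
  classical
  haveI := Fintype.ofFinite G
  ext u
  rw [coeff_mul_subgroupSum, coeff_zero, Finsupp.zero_apply, ← Finset.sum_filter,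
    Finset.sum_congr rfl fun q hq => ha q (Finset.mem_filter.mp hq).2 u, Finset.sum_const,
    nsmul_eq_mul, ← Nat.card_eq_finsetCard]
  have e : Nat.card {x // x ∈ Finset.univ.filter fun x => x ∈ Q} = Nat.card Q :=
    Nat.card_congr (Equiv.subtypeEquivRight fun x => by simp)
  rw [e, (CharP.cast_eq_zero_iff R p _).mpr hdvd, zero_mul]

/-- A character vanishing on the elements of order `p` has defect zero. -/
theorem defect_zero_of_vanishing (hM : IsPModular p M) (χ : IrrCharacter G)
    (hvan : ∀ g : G, orderOf g = p → (χ : G → ℂ) g = 0) :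
    (charDegree (χ : G → ℂ)).factorization p = (Nat.card G).factorization p := by
  classical
  haveI : Fact p.Prime := ⟨hM.1⟩
  haveI := charP_res hM
  refine le_antisymm ((Nat.factorization_le_iff_dvd (charDegree_pos χ).ne' Nat.card_pos.ne').mpr
    (charDegree_dvd_card χ) p) ?_
  set B := blockOf M (χ : G → ℂ)
  have hB : IsPBlock M B := isPBlock_blockOf χ
  have hχB : χ ∈ B := self_mem_blockOf χ
  obtain ⟨D, hD⟩ := exists_defectGroup (p := p) hB
  obtain ⟨g, hg, -, hDp, hcard⟩ := defectGroup_spec hD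
  suffices hD0 : D = ⊥ by
    have h1 := le_factorization_of_defectClass hM hg hχB
    rw [hD0, Subgroup.card_bot] at hcard
    rcases Nat.pow_eq_one.mp hcard.symm with h | h
    · exact absurd h hM.1.ne_one
    · omega
  by_contra hD0
  haveI : Nontrivial D := (Subgroup.nontrivial_iff_ne_bot D).mpr hD0
  haveI : Nontrivial (Subgroup.center D) := hDp.center_nontrivial
  obtain ⟨n, hn⟩ := IsPGroup.iff_card.mp (hDp.to_subgroup (Subgroup.center D))
  have hn0 : n ≠ 0 := by
    rintro rfl
    rw [pow_zero] at hn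
    exact absurd hn (Finite.one_lt_card (α := Subgroup.center D)).ne'
  obtain ⟨z₀, hz₀⟩ := exists_prime_orderOf_dvd_card' (G := Subgroup.center D) p
    (hn ▸ dvd_pow_self p hn0)
  set z : G := ((z₀ : D) : G) with hz
  have hzord : orderOf z = p := by rw [hz, Subgroup.orderOf_coe, Subgroup.orderOf_coe, hz₀]
  have hzD : z ∈ D := (z₀ : D).2
  have hzc : ∀ w ∈ D, w * z = z * w := fun w hw =>
    congrArg Subtype.val (Subgroup.mem_center_iff.mp z₀.2 ⟨w, hw⟩)
  have hω : omegaBar M χ (torsionSum (Res M) p) = 1 := by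
    have e : torsionSum (G := G) (Res M) p = redZ M G (torsionSum (Loc M) p) := by
      refine Subtype.ext ?_
      ext u
      rw [coe_redZ, coeff_map']
      simp only [torsionSum, coeff_ofFun]
      split_ifs <;> simp
    rw [e, omegaBar_redZ]
    have h1 : omegaL M χ (torsionSum (Loc M) p) = 1 := by
      refine Subtype.ext ?_
      haveI := Fintype.ofFinite G
      rw [coe_omegaL, omega, ev_eq_sum, OneMemClass.coe_one,
        div_eq_one_iff_eq (CT.irr_one_ne_zero χ.2), Finset.sum_eq_single 1]
      · simp [torsionSum, coeff_map']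
      · intro x _ hx
        rw [coeff_map']
        simp only [torsionSum, coeff_ofFun]
        split_ifs with hxp
        · rw [hvan x (orderOf_eq_prime hxp hx)]; simp
        · simp
      · simp
    rw [h1, map_one]
  set T := br D hDp (torsionSum (Res M) p) with hT
  have hzC : z ∈ Subgroup.centralizer (D : Set G) := Subgroup.mem_centralizer_iff.mpr hzc
  have hinv : ∀ q ∈ Subgroup.zpowers z, ∀ u, T.coeff (u * q) = T.coeff u ∧ T.coeff (q * u) = T.coeff u := by
    intro q hq u
    obtain ⟨i, rfl⟩ := Subgroup.mem_zpowers_iff.mp hq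
    have hqC : z ^ i ∈ Subgroup.centralizer (D : Set G) := zpow_mem hzC i
    have hqD : z ^ i ∈ D := zpow_mem hzD i
    have hqp : (z ^ i) ^ p = 1 := by
      rw [← zpow_natCast, ← zpow_mul, mul_comm, zpow_mul, zpow_natCast, ← hzord,
        pow_orderOf_eq_one, one_zpow]
    rw [hT, br_apply]
    by_cases hu : u ∈ (Subgroup.centralizer (D : Set G) : Set G)
    · have hc : Commute (z ^ i) u := Subgroup.mem_centralizer_iff.mp hu _ hqD
      have h1 : u * z ^ i ∈ (Subgroup.centralizer (D : Set G) : Set G) := Subgroup.mul_mem _ hu hqC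
      have hpow : (u * z ^ i) ^ p = u ^ p := by rw [hc.symm.mul_pow, hqp, mul_one]
      rw [hc.eq, coeff_trunc_of_mem _ h1, coeff_trunc_of_mem _ hu]
      simp only [torsionSum, coeff_ofFun, hpow, and_self]
    · rw [coeff_trunc_of_notMem _ hu, coeff_trunc_of_notMem _, coeff_trunc_of_notMem _]
      · exact ⟨rfl, rfl⟩
      · intro h
        exact hu (by simpa using Subgroup.mul_mem _ (Subgroup.inv_mem _ hqC) h)
      · intro h
        exact hu (by simpa [mul_assoc] using Subgroup.mul_mem _ h (Subgroup.inv_mem _ hqC))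
  obtain ⟨w, hw⟩ := exists_eq_subgroupSum_mul (Q := Subgroup.zpowers z) (v := T) fun q hq => by
    ext u
    rw [coeff_single_mul', one_mul]
    have := (hinv q⁻¹ (Subgroup.inv_mem _ hq) u).2
    exact this
  have h0 : T * T = 0 := by
    nth_rewrite 2 [hw]
    rw [← mul_assoc, mul_subgroupSum_eq_zero (p := p) (by rw [Nat.card_zpowers, hzord])
      (fun q hq u => (hinv q hq u).1), zero_mul]
  refine br_ne_zero hM hDp hB hχB (z := torsionSum (Res M) p * torsionSum (Res M) p)
    (by rw [map_mul, hω, mul_one]; exact one_ne_zero)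
    ((br_bBar_ne_zero_iff hM hB hD hDp).mpr ⟨1, by rw [map_conj_one]⟩) ?_
  rw [map_mul, ← hT, h0]

end Cfsg.Agent.Blocks
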