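import Cfsg.Agent.Lib.Blocks.Normal

/-!
# Blocks of a normal subgroup and the blocks covering them
-/

namespace Cfsg.Agent.Blocks

open MonoidAlgebra
open scoped ComplexConjugate

universe u v w

variable {G : Type u} [Group G] [Finite G] {p : ℕ} {M : Ideal AlgInt} [M.IsPrime]

set_option linter.unusedSectionVars false

theorem centralChar_comp_equiv {H : Type v} [Group H] (e : H ≃* G) (ψ : G → ℂ) (h : H) :
    centralChar (fun x => ψ (e x)) h = centralChar ψ (e h) := by
  have hc : (Subgroup.centralizer ({h} : Set H)).map e.toMonoidHom =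
      Subgroup.centralizer ({e h} : Set G) := by
    ext y
    constructor
    · rintro ⟨x, hx, rfl⟩
      refine Subgroup.mem_centralizer_singleton_iff.mpr ?_
      show e x * e h = e h * e x
      rw [← map_mul, Subgroup.mem_centralizer_singleton_iff.mp hx, map_mul]
    · intro hy
      refine ⟨e.symm y, Subgroup.mem_centralizer_singleton_iff.mpr (e.injective ?_), e.apply_symm_apply y⟩
      simpa using Subgroup.mem_centralizer_singleton_iff.mp hy
  rw [centralChar, centralChar, map_one, ← hc,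
    Subgroup.index_map_of_bijective (e.bijective : Function.Bijective e.toMonoidHom)]

theorem blockCoeff_mem_loc_of_saturated {A : Set (IrrCharacter G)}
    (hA : ∀ χ ∈ A, blockOf M (χ : G → ℂ) ⊆ A) (g : G) : blockCoeff A g ∈ Loc M := by
  classical
  rw [blockCoeff, finsum_mem_irr,
    ← Finset.sum_fiberwise_of_maps_to (g := fun χ : IrrCharacter G => blockOf M (χ : G → ℂ))
      (t := Finset.univ.image fun χ : IrrCharacter G => blockOf M (χ : G → ℂ))
      (fun χ _ => Finset.mem_image_of_mem _ (Finset.mem_univ χ)), Finset.mul_sum]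
  refine Subring.sum_mem _ fun B hB => ?_
  obtain ⟨χ₀, -, rfl⟩ := Finset.mem_image.mp hB
  have hBl : IsPBlock M (blockOf M (χ₀ : G → ℂ)) := isPBlock_blockOf χ₀
  by_cases h : blockOf M (χ₀ : G → ℂ) ⊆ A
  · convert blockCoeff_mem_loc hBl g using 1
    rw [blockCoeff, finsum_mem_irr, Finset.sum_filter]
    congr 1
    refine Finset.sum_congr rfl fun χ _ => ?_
    by_cases hχ : χ ∈ blockOf M (χ₀ : G → ℂ)
    · rw [if_pos (block_eq_blockOf hBl hχ).symm, if_pos (h hχ), if_pos hχ]
    · rw [if_neg fun e : blockOf M (χ : G → ℂ) = blockOf M (χ₀ : G → ℂ) =>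
        hχ (e ▸ self_mem_blockOf χ), if_neg hχ]
  · convert Subring.zero_mem (Loc M) using 1
    refine mul_eq_zero_of_right _ (Finset.sum_eq_zero fun χ hχ => ?_)
    have e := (Finset.mem_filter.mp hχ).2
    rw [if_neg]
    intro hχA
    exact h (e ▸ hA χ hχA)

section NormalSubgroup

variable {N : Subgroup G} [Fintype N] [hN : N.Normal]

/-- The conjugate of an irreducible character of a normal subgroup. -/
noncomputable def conjIrr (g : G) (θ : IrrCharacter N) : IrrCharacter N :=
  ⟨CT.conjFun N g (θ : N → ℂ), CT.isIrrCharacter_conjFun N g θ.2⟩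

@[simp] theorem coe_conjIrr (g : G) (θ : IrrCharacter N) :
    (conjIrr g θ : N → ℂ) = CT.conjFun N g (θ : N → ℂ) := rfl

theorem conjIrr_one (θ : IrrCharacter N) : conjIrr 1 θ = θ := Subtype.ext (CT.conjFun_one N _)

theorem conjIrr_mul (g h : G) (θ : IrrCharacter N) :
    conjIrr (g * h) θ = conjIrr h (conjIrr g θ) := Subtype.ext (CT.conjFun_mul N g h _)

theorem sameBlock_conjIrr (g : G) {θ θ' : IrrCharacter N}
    (h : SameBlock M (θ : N → ℂ) (θ' : N → ℂ)) :
    SameBlock M (conjIrr g θ : N → ℂ) (conjIrr g θ' : N → ℂ) := fun n => by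
  rw [coe_conjIrr, coe_conjIrr, CT.conjFun_eq_comp, CT.conjFun_eq_comp,
    centralChar_comp_equiv (MulAut.conjNormal g) (θ : N → ℂ),
    centralChar_comp_equiv (MulAut.conjNormal g) (θ' : N → ℂ)]
  exact h _

/-- The characters conjugate to a member of a set. -/
def conjSet (b : Set (IrrCharacter N)) : Set (IrrCharacter N) :=
  {ψ | ∃ g : G, conjIrr g ψ ∈ b}

theorem subset_conjSet (b : Set (IrrCharacter N)) : b ⊆ conjSet b :=
  fun θ hθ => ⟨1, by rwa [conjIrr_one]⟩

theorem conjIrr_mem_conjSet_iff (g : G) (b : Set (IrrCharacter N)) (θ : IrrCharacter N) :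
    conjIrr g θ ∈ conjSet b ↔ θ ∈ conjSet b := by
  constructor
  · rintro ⟨h, hh⟩
    exact ⟨g * h, by rwa [conjIrr_mul]⟩
  · rintro ⟨h, hh⟩
    exact ⟨g⁻¹ * h, by rwa [← conjIrr_mul, mul_inv_cancel_left]⟩

theorem blockOf_subset_conjSet {b : Set (IrrCharacter N)} (hb : IsPBlock M b) {θ : IrrCharacter N}
    (hθ : θ ∈ conjSet b) : blockOf M (θ : N → ℂ) ⊆ conjSet b := by
  obtain ⟨g, hg⟩ := hθ
  intro ψ hψ
  exact ⟨g, (mem_block_iff hb hg).mpr (sameBlock_conjIrr g hψ)⟩

theorem blockCoeff_conjSet_mem_loc {b : Set (IrrCharacter N)} (hb : IsPBlock M b) (n : N) :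
    blockCoeff (conjSet b) n ∈ Loc M :=
  blockCoeff_mem_loc_of_saturated (fun _ hθ => blockOf_subset_conjSet hb hθ) n

theorem blockCoeff_conjSet_stable (b : Set (IrrCharacter N)) (g : G) (n : N) :
    blockCoeff (conjSet b) ⟨g * n * g⁻¹, hN.conj_mem _ n.2 g⟩ = blockCoeff (conjSet b) n := by
  classical
  simp only [blockCoeff, finsum_mem_irr]
  congr 1
  refine Fintype.sum_equiv
    { toFun := conjIrr g
      invFun := conjIrr g⁻¹
      left_inv := fun θ => by rw [← conjIrr_mul, mul_inv_cancel, conjIrr_one]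
      right_inv := fun θ => by rw [← conjIrr_mul, inv_mul_cancel, conjIrr_one] } _ _ fun θ => ?_
  simp only [Equiv.coe_fn_mk, conjIrr_mem_conjSet_iff]
  refine if_congr Iff.rfl ?_ rfl
  show _ = CT.conjFun N g (θ : N → ℂ) 1 * conj (CT.conjFun N g (θ : N → ℂ) n)
  simp only [CT.conjFun]
  rw [show (⟨g * ((1 : N) : G) * g⁻¹, hN.conj_mem _ (1 : N).2 g⟩ : N) = 1 from Subtype.ext (by simp)]

theorem classInner_conjIrr {χ : G → ℂ} (hχ : IsClassFunction G χ) (g : G) (θ : IrrCharacter N) :
    classInner (fun n : N => χ n) (conjIrr g θ : N → ℂ) =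
      classInner (fun n : N => χ n) (θ : N → ℂ) :=
  CT.classInner_restrict_conjFun N hχ _ g

theorem mult_ne_zero_iff (χ : IrrCharacter G) (θ : IrrCharacter N) :
    CT.mult (fun n : N => (χ : G → ℂ) n) θ ≠ 0 ↔
      classInner (fun n : N => (χ : G → ℂ) n) (θ : N → ℂ) ≠ 0 := by
  rw [CT.mult_spec (CT.isCharacter_restrict N (CT.isCharacter_of_isIrr χ.2))
    (CT.isCharacter_of_isIrr θ.2), Nat.cast_ne_zero]

theorem hasConstituent_conjSet_iff (b : Set (IrrCharacter N)) (χ : IrrCharacter G) :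
    HasConstituent (conjSet b) (χ : G → ℂ) ↔
      ∃ θ ∈ b, classInner (fun n : N => (χ : G → ℂ) n) (θ : N → ℂ) ≠ 0 := by
  constructor
  · rintro ⟨ψ, ⟨g, hg⟩, hψ⟩
    refine ⟨_, hg, ?_⟩
    rw [classInner_conjIrr (CT.isClassFunction_of_isIrr χ.2)]
    exact (mult_ne_zero_iff χ ψ).mp hψ
  · rintro ⟨θ, hθ, h⟩
    exact ⟨θ, subset_conjSet b hθ, (mult_ne_zero_iff χ θ).mpr h⟩

theorem exists_conjIrr_of_constituent {χ : IrrCharacter G} {θ ψ : IrrCharacter N}
    (h1 : classInner (fun n : N => (χ : G → ℂ) n) (θ : N → ℂ) ≠ 0)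
    (h2 : classInner (fun n : N => (χ : G → ℂ) n) (ψ : N → ℂ) ≠ 0) :
    ∃ g : G, conjIrr g θ = ψ := by
  letI := Fintype.ofFinite G
  obtain ⟨g, hg⟩ := CT.exists_conj_of_constituent N χ.2 θ.2 ψ.2 h1 h2
  exact ⟨g, Subtype.ext hg⟩

theorem omega_conjIrr (g : G) (θ : IrrCharacter N) {z : MonoidAlgebra ℂ N}
    (hz : ∀ n : N, z.coeff ⟨g * n * g⁻¹, hN.conj_mem _ n.2 g⟩ = z.coeff n) :
    omega (conjIrr g θ : N → ℂ) z = omega (θ : N → ℂ) z := by
  simp only [omega, coe_conjIrr, ev_eq_sum]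
  congr 1
  · refine Fintype.sum_equiv (MulAut.conjNormal g).toEquiv _ _ fun n => ?_
    have e : (MulAut.conjNormal g) n = ⟨g * n * g⁻¹, hN.conj_mem _ n.2 g⟩ :=
      Subtype.ext (MulAut.conjNormal_apply g n)
    show _ = z.coeff ((MulAut.conjNormal g) n) * (θ : N → ℂ) ((MulAut.conjNormal g) n)
    rw [e, hz]
    rfl
  · exact congrArg (θ : N → ℂ) (Subtype.ext (by simp))

/-- A `G`-stable central element of the normal subgroup takes on `χ` the value it takes on any
constituent. -/
theorem omega_embH_eq (χ : IrrCharacter G) {θ : IrrCharacter N}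
    (hcon : classInner (fun n : N => (χ : G → ℂ) n) (θ : N → ℂ) ≠ 0) {z : MonoidAlgebra ℂ N}
    (hzc : z ∈ Subring.center (MonoidAlgebra ℂ N))
    (hz : ∀ (g : G) (n : N), z.coeff ⟨g * n * g⁻¹, hN.conj_mem _ n.2 g⟩ = z.coeff n) :
    omega (χ : G → ℂ) (embH N z) = omega (θ : N → ℂ) z := by
  have hres := CT.character_eq_sum (CT.isCharacter_restrict N (CT.isCharacter_of_isIrr χ.2))
  have hev : ∀ ψ : IrrCharacter N,
      (CT.mult (fun n : N => (χ : G → ℂ) n) ψ : ℂ) * ev (ψ : N → ℂ) z =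
        omega (θ : N → ℂ) z * ((CT.mult (fun n : N => (χ : G → ℂ) n) ψ : ℂ) * (ψ : N → ℂ) 1) := by
    intro ψ
    by_cases h0 : CT.mult (fun n : N => (χ : G → ℂ) n) ψ = 0
    · simp [h0]
    obtain ⟨g, hg⟩ := exists_conjIrr_of_constituent hcon ((mult_ne_zero_iff χ ψ).mp h0)
    have h := omega_conjIrr g θ (hz g)
    rw [hg] at h
    rw [← h, omega]
    field_simp [CT.irr_one_ne_zero ψ.2]
  rw [omega, ev_embH, div_eq_iff (CT.irr_one_ne_zero χ.2)]
  conv_lhs => rw [hres, ev_sum_smul_fun, Finset.sum_congr rfl fun ψ _ => hev ψ, ← Finset.mul_sum]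
  congr 1
  have := congrFun hres 1
  simp only [Finset.sum_apply, Pi.smul_apply, smul_eq_mul, OneMemClass.coe_one] at this
  exact this.symm

theorem resH_stable {R : Type w} [CommRing R] {a : MonoidAlgebra R G}
    (ha : a ∈ Subring.center (MonoidAlgebra R G)) (g : G) (n : N) :
    (resH N a).coeff ⟨g * n * g⁻¹, hN.conj_mem _ n.2 g⟩ = (resH N a).coeff n :=
  (mem_center_iff_isClassFn a).mp ha n g

theorem classSum_supported {R : Type w} [CommRing R] (n : N) {u : G} (hu : u ∉ N) :
    (classSum R (n : G)).coeff u = 0 := by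
  simp only [classSum, coeff_ofFun]
  rw [classInd_neg]
  intro h
  obtain ⟨c, hc⟩ := isConj_iff.mp h
  exact hu (hc ▸ hN.conj_mem _ n.2 c)

theorem omega_eq_of_supported (χ : IrrCharacter G) {θ : IrrCharacter N}
    (hcon : classInner (fun n : N => (χ : G → ℂ) n) (θ : N → ℂ) ≠ 0) {a : MonoidAlgebra ℂ G}
    (ha : a ∈ Subring.center (MonoidAlgebra ℂ G)) (hsupp : ∀ u ∉ N, a.coeff u = 0) :
    omega (χ : G → ℂ) a = omega (θ : N → ℂ) (resH N a) := by
  conv_lhs => rw [← embH_resH hsupp]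
  exact omega_embH_eq χ hcon (resH_mem_center N ha) (resH_stable ha)

theorem centralChar_eq_inducedCentralChar (χ : IrrCharacter G) {θ : IrrCharacter N}
    (hcon : classInner (fun n : N => (χ : G → ℂ) n) (θ : N → ℂ) ≠ 0) (n : N) :
    centralChar (χ : G → ℂ) (n : G) = inducedCentralChar N (θ : N → ℂ) (n : G) := by
  rw [centralChar_eq_omega (isClassFn_irr χ), inducedCentralChar_eq_omega]
  exact omega_eq_of_supported χ hcon (classSum_mem_center _) fun u hu => classSum_supported n hu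

/-- The element of the centre attached to the conjugates of a block of a normal subgroup. -/
noncomputable def coverIdem {b : Set (IrrCharacter N)} (hb : IsPBlock M b) : ZG (Loc M) G :=
  ⟨embH N (ofFun fun n => (⟨blockCoeff (conjSet b) n, blockCoeff_conjSet_mem_loc hb n⟩ : Loc M)), by
    rw [mem_center_iff_isClassFn]
    intro u c
    show (embH N _).coeff (c * u * c⁻¹) = (embH N _).coeff u
    by_cases hu : u ∈ N
    · rw [coeff_embH N _ ⟨u, hu⟩, coeff_embH N _ ⟨c * u * c⁻¹, hN.conj_mem _ hu c⟩]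
      exact Subtype.ext (blockCoeff_conjSet_stable b c ⟨u, hu⟩)
    · rw [coeff_embH_of_notMem _ _ hu, coeff_embH_of_notMem]
      intro h
      exact hu (by simpa [mul_assoc] using hN.conj_mem _ h c⁻¹)⟩

theorem toC_coverIdem {b : Set (IrrCharacter N)} (hb : IsPBlock M b) :
    toC M G (coverIdem hb : MonoidAlgebra (Loc M) G) = embH N (idemC (conjSet b)) := by
  rw [coverIdem, toC, map_embH]
  congr 1
  ext n
  simp [idemC]

theorem resH_coverIdem {b : Set (IrrCharacter N)} (hb : IsPBlock M b) :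
    toC M N (resZ N (coverIdem hb) : MonoidAlgebra (Loc M) N) = idemC (conjSet b) := by
  rw [coe_resZ, coverIdem]
  simp only [resH_embH]
  ext n
  simp [idemC, toC]

/-- Covering, by congruences of central characters on the normal subgroup. -/
theorem hasConstituent_of_congr {b : Set (IrrCharacter N)} (hb : IsPBlock M b)
    (χ : IrrCharacter G) {θ : IrrCharacter N} (hθ : θ ∈ b)
    (h : ∀ n : N, MemLocalIdeal M (centralChar (χ : G → ℂ) (n : G) -
      inducedCentralChar N (θ : N → ℂ) (n : G))) :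
    ∃ θ ∈ b, classInner (fun n : N => (χ : G → ℂ) n) (θ : N → ℂ) ≠ 0 := by
  classical
  rw [← hasConstituent_conjSet_iff]
  by_contra hne
  have h0 := (omega_stable_eq_zero_iff (A := conjSet b) χ).mpr hne
  set a := coverIdem hb
  have hterm : ∀ g : G, (a : MonoidAlgebra (Loc M) G).coeff g ≠ 0 →
      red M (centralCharL M χ g) =
        omegaBar M θ (resZ N (classSumZ (Res M) g)) := by
    intro g hg
    have hgN : g ∈ N := by
      by_contra hgN
      exact hg (coeff_embH_of_notMem _ _ hgN)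
    rw [← indBar_apply, indBar_classSumZ, red_eq_iff]
    exact h ⟨g, hgN⟩
  have h1 : red M (omegaL M χ a) = omegaBar M θ (resZ N (redZ M G a)) := by
    rw [← indBar_apply, zg_eq_sum (redZ M G a), map_sum, omegaL_eq_sum, map_sum]
    refine Finset.sum_congr rfl fun K _ => ?_
    rw [indBar_scalar_mul, map_mul, coe_redZ, coeff_map']
    by_cases hK : (a : MonoidAlgebra (Loc M) G).coeff (rep K) = 0
    · simp [hK]
    · rw [hterm _ hK, indBar_apply]
  have h2 : omegaL M θ (resZ N a) = 1 := by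
    refine Subtype.ext ?_
    rw [coe_omegaL, resH_coverIdem, omega_idemC, if_pos (subset_conjSet b hθ)]
    rfl
  have h3 : omegaL M χ a = 0 := by
    refine Subtype.ext ?_
    rw [coe_omegaL, toC_coverIdem, h0]
    rfl
  have e : resZ N (redZ M G a) = redZ M N (resZ N a) := Subtype.ext (by simp [map_resH])
  rw [h3, map_zero, e, omegaBar_redZ, h2, map_one] at h1
  exact zero_ne_one h1

/-- The congruences hold for all members once some member covers. -/
theorem congr_of_cover {B : Set (IrrCharacter G)} (hB : IsPBlock M B) {b : Set (IrrCharacter N)}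
    (hb : IsPBlock M b) {χ₀ : IrrCharacter G} (hχ₀ : χ₀ ∈ B) {θ₀ : IrrCharacter N} (hθ₀ : θ₀ ∈ b)
    (hcon : classInner (fun n : N => (χ₀ : G → ℂ) n) (θ₀ : N → ℂ) ≠ 0)
    {χ : IrrCharacter G} (hχ : χ ∈ B) {θ : IrrCharacter N} (hθ : θ ∈ b) (n : N) :
    MemLocalIdeal M (centralChar (χ : G → ℂ) (n : G) -
      inducedCentralChar N (θ : N → ℂ) (n : G)) := by
  refine (red_eq_iff (x := centralCharL M χ (n : G))
    (y := ⟨_, inducedCentralChar_mem_loc N θ (n : G)⟩)).mp ?_
  have e1 := sameBlock_iff_red.mp ((mem_block_iff hB hχ).mp hχ₀) (n : G)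
  have e2 : (centralCharL M χ₀ (n : G)) = ⟨_, inducedCentralChar_mem_loc N θ₀ (n : G)⟩ :=
    Subtype.ext (centralChar_eq_inducedCentralChar χ₀ hcon n)
  rw [e1, e2, ← indBar_classSumZ, ← indBar_classSumZ]
  exact indBar_congr ((mem_block_iff hb hθ₀).mp hθ) _

/-- Covered blocks are conjugate. -/
theorem covered_conj {B : Set (IrrCharacter G)} (hB : IsPBlock M B) {b : Set (IrrCharacter N)}
    (hb : IsPBlock M b) {χ : IrrCharacter G} (hχ : χ ∈ B) {θ : IrrCharacter N} (hθ : θ ∈ b)
    (hcon : classInner (fun n : N => (χ : G → ℂ) n) (θ : N → ℂ) ≠ 0)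
    {χ' : IrrCharacter G} (hχ' : χ' ∈ B) {ψ : IrrCharacter N}
    (hψ : classInner (fun n : N => (χ' : G → ℂ) n) (ψ : N → ℂ) ≠ 0) :
    ∃ g : G, conjIrr g ψ ∈ b := by
  have h1 := (hasConstituent_iff_of_sameBlock' (blockCoeff_conjSet_mem_loc hb)
    (blockCoeff_conjSet_stable b) ((mem_block_iff hB hχ).mp hχ')).mp
    ((hasConstituent_conjSet_iff b χ).mpr ⟨θ, hθ, hcon⟩)
  exact mem_of_hasConstituent (blockCoeff_conjSet_stable b) h1 ((mult_ne_zero_iff χ' ψ).mpr hψ)

/-- Covering of a character, by exact equality of central characters on the normal subgroup. -/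
theorem constituent_of_eq (χ : IrrCharacter G) (θ : IrrCharacter N)
    (h : ∀ n : N, centralChar (χ : G → ℂ) (n : G) = inducedCentralChar N (θ : N → ℂ) (n : G)) :
    classInner (fun n : N => (χ : G → ℂ) n) (θ : N → ℂ) ≠ 0 := by
  classical
  haveI := Fintype.ofFinite G
  suffices hc : HasConstituent (conjSet ({θ} : Set (IrrCharacter N))) (χ : G → ℂ) by
    obtain ⟨θ', hθ', h'⟩ := (hasConstituent_conjSet_iff _ χ).mp hc
    rwa [Set.mem_singleton_iff.mp hθ'] at h'
  by_contra hne
  have h0 := (omega_stable_eq_zero_iff (A := conjSet ({θ} : Set (IrrCharacter N))) χ).mpr hne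
  set a := embH N (idemC (conjSet ({θ} : Set (IrrCharacter N)))) with ha
  have hac : a ∈ Subring.center (MonoidAlgebra ℂ G) :=
    embH_idemC_mem_center (blockCoeff_conjSet_stable _)
  have h1 : omega (θ : N → ℂ) (resH N a) = 1 := by
    rw [ha, resH_embH, omega_idemC, if_pos (subset_conjSet ({θ} : Set (IrrCharacter N)) (Set.mem_singleton θ))]
  have h2 : resH N a = ∑ K : ConjClasses G, a.coeff (rep K) • resH N (classSum ℂ (rep K)) := by
    ext n
    have h3 := congrArg (fun x : MonoidAlgebra ℂ G => x.coeff (n : G)) (eq_sum_classSum hac)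
    simpa [coeff_sum, Finset.sum_apply'] using h3
  rw [h2, omega_sum] at h1
  have h4 := omega_central_eq_sum (isClassFn_irr χ) hac
  rw [h0] at h4
  refine zero_ne_one (h4.trans (Eq.trans (Finset.sum_congr rfl fun K _ => ?_) h1))
  rw [omega_smul, ← inducedCentralChar_eq_omega]
  by_cases hK : a.coeff (rep K) = 0
  · simp [hK]
  · have hKN : rep K ∈ N := by
      by_contra hn
      exact hK (coeff_embH_of_notMem _ _ hn)
    rw [h ⟨rep K, hKN⟩]

/-- If every element supporting the idempotent of a block lies in `N`, that block contains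
everything over a block of `N` that it covers. -/
theorem mem_of_supported {B : Set (IrrCharacter G)} (hB : IsPBlock M B)
    (hsupp : ∀ u ∉ N, blockCoeff B u = 0) {χ χ' : IrrCharacter G} (hχ : χ ∈ B)
    {θ θ' : IrrCharacter N} (hcon : classInner (fun n : N => (χ : G → ℂ) n) (θ : N → ℂ) ≠ 0)
    (hcon' : classInner (fun n : N => (χ' : G → ℂ) n) (θ' : N → ℂ) ≠ 0)
    (hsame : SameBlock M (θ : N → ℂ) (θ' : N → ℂ)) : χ' ∈ B := by
  classical
  have hA := blockCoeff_mem_loc hB
  have key : ∀ (η : IrrCharacter G) (φ : IrrCharacter N),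
      classInner (fun n : N => (η : G → ℂ) n) (φ : N → ℂ) ≠ 0 →
      omegaL M η (bIdem M B) = omegaL M φ (resZ N (bIdem M B)) := by
    intro η φ h
    refine Subtype.ext ?_
    rw [coe_omegaL, coe_omegaL, coe_resZ, toC_bIdem hA,
      show toC M N (resH N ((bIdem M B : ZG (Loc M) G) : MonoidAlgebra (Loc M) G)) =
        resH N (idemC B) by rw [← toC_bIdem hA, toC, toC, map_resH]]
    exact omega_eq_of_supported η h (idemC_mem_center B) fun u hu => by simp [idemC, hsupp u hu]
  have h1 := key χ θ hcon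
  have h2 := key χ' θ' hcon'
  have h3 := red_omegaL_eq_of_sameBlock hsame (resZ N (bIdem M B))
  rw [← h1, ← h2, omegaL_bIdem hA, omegaL_bIdem hA, if_pos hχ, map_one] at h3
  by_contra hne
  rw [if_neg hne, map_zero] at h3
  exact one_ne_zero h3

theorem mem_of_pow_index [Fact p.Prime] (hidx : ∃ k : ℕ, N.index = p ^ k) {u : G}
    (hu : ¬ p ∣ orderOf u) : u ∈ N := by
  obtain ⟨k, hk⟩ := hidx
  rw [← QuotientGroup.eq_one_iff]
  have h1 : orderOf (QuotientGroup.mk u : G ⧸ N) ∣ p ^ k := by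
    rw [← hk, Subgroup.index]; exact orderOf_dvd_natCard _
  have h2 : orderOf (QuotientGroup.mk u : G ⧸ N) ∣ orderOf u :=
    orderOf_map_dvd (QuotientGroup.mk' N) u
  obtain ⟨j, -, hj⟩ := (Nat.dvd_prime_pow Fact.out).mp h1
  rcases Nat.eq_zero_or_pos j with rfl | hj0
  · exact orderOf_eq_one_iff.mp (by rw [hj, pow_zero])
  · exact absurd ((dvd_pow_self p hj0.ne').trans (hj ▸ h2)) hu

theorem supported_of_pow_index (hM : IsPModular p M) (hidx : ∃ k : ℕ, N.index = p ^ k)
    {B : Set (IrrCharacter G)} (hB : IsPBlock M B) {u : G} (hu : u ∉ N) :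
    blockCoeff B u = 0 := by
  haveI : Fact p.Prime := ⟨hM.1⟩
  refine blockCoeff_eq_zero_of_singular hM (blockCoeff_mem_loc hB) ?_
  by_contra h
  exact hu (mem_of_pow_index hidx h)

end NormalSubgroup

end Cfsg.Agent.Blocks
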