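import Cfsg.Agent.Lib.Blocks.Covering
import Cfsg.Agent.Lib.Blocks.SecondMain
import Cfsg.Agent.Lib.Basics.Cores
import Cfsg.Agent.S0939

/-!
# The principal block at a `p`-section
-/

namespace Cfsg.Agent.Blocks

open MonoidAlgebra
open scoped ComplexConjugate

variable {G : Type*} [Group G] [Finite G] {p : ℕ} {M : Ideal AlgInt} [M.IsPrime]

set_option linter.unusedSectionVars false

theorem sum_idemC_blocks (M : Ideal AlgInt) [M.IsPrime] [DecidableEq (Set (IrrCharacter G))] :
    ∑ B ∈ Finset.univ.image (fun χ : IrrCharacter G => blockOf M (χ : G → ℂ)), idemC B = 1 := by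
  classical
  refine central_ext (Subring.sum_mem _ fun B _ => idemC_mem_center B) (Subring.one_mem _) fun χ => ?_
  rw [omega_sum, omega_one (CT.irr_one_ne_zero χ.2), Finset.sum_eq_single (blockOf M (χ : G → ℂ))]
  · rw [omega_idemC, if_pos (self_mem_blockOf χ)]
  · intro B hB hne
    obtain ⟨ψ, -, rfl⟩ := Finset.mem_image.mp hB
    rw [omega_idemC, if_neg fun h => hne (block_eq_blockOf (isPBlock_blockOf ψ) h)]
  · exact fun h => absurd (Finset.mem_image_of_mem _ (Finset.mem_univ χ)) h

theorem ev_principal_section (hM : IsPModular p M) [Fact p.Prime] {z : G}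
    (hz : ∃ k : ℕ, z ^ p ^ k = 1) {h : Subgroup.centralizer ({z} : Set G)}
    (hh : IsPPart p (h : G) z) (ζ : IrrCharacter G)
    [Decidable (ζ ∈ principalBlock M G)] :
    ev (ζ : G → ℂ) (embH (Subgroup.centralizer ({z} : Set G))
      (idemC (principalBlock M (Subgroup.centralizer ({z} : Set G)))) * single (h : G) 1) =
      if ζ ∈ principalBlock M G then (ζ : G → ℂ) h else 0 := by
  classical
  haveI := charP_res hM
  have hzH : z ∈ Subgroup.centralizer ({z} : Set G) := Subgroup.mem_centralizer_singleton_iff.mpr rfl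
  have hQ : IsPGroup p (Subgroup.zpowers z) := isPGroup_zpowers hz
  have hCeq := centralizer_zpowers_eq z
  have hHN : Subgroup.centralizer ({z} : Set G) ≤
      Subgroup.normalizer ((Subgroup.zpowers z : Subgroup G) : Set G) :=
    hCeq ▸ Subgroup.centralizer_le_normalizer _
  have hB0 : IsPBlock M (principalBlock M G) := isPBlock_blockOf (CT.trivIrr G)
  have hb0 : IsPBlock M (principalBlock M (Subgroup.centralizer ({z} : Set G))) :=
    isPBlock_blockOf (CT.trivIrr _)
  have hex : ∀ b : Set (IrrCharacter (Subgroup.centralizer ({z} : Set G))), IsPBlock M b →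
      ∃ B, IsInducedBlock M _ b B := fun b hb =>
    exists_inducedBlock hM hQ (Subgroup.zpowers_le.mpr hzH) hCeq.le hHN hb
  by_cases hζ : ζ ∈ principalBlock M G
  · rw [if_pos hζ]
    have h1 : (ζ : G → ℂ) (h : G) = ∑ b ∈ Finset.univ.image
        (fun χ : IrrCharacter (Subgroup.centralizer ({z} : Set G)) => blockOf M (χ : Subgroup.centralizer ({z} : Set G) → ℂ)),
        ev (ζ : G → ℂ) (embH _ (idemC b) * single (h : G) 1) := by
      rw [← ev_sum, ← Finset.sum_mul, ← map_sum, sum_idemC_blocks, map_one, one_mul, ev_single, one_mul]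
    rw [h1, Finset.sum_eq_single (principalBlock M (Subgroup.centralizer ({z} : Set G)))]
    · intro b hb hne
      obtain ⟨ψ, -, rfl⟩ := Finset.mem_image.mp hb
      obtain ⟨B, hB⟩ := hex _ (isPBlock_blockOf ψ)
      refine second_main hM hB hh le_rfl fun hζB => hne ?_
      rw [← block_eq_of_mem hB0 hB.2.1 hζ hζB] at hB
      exact (third_main hM ⟨_, hB⟩).mp hB
    · exact fun h0 => absurd (Finset.mem_image.mpr ⟨CT.trivIrr _, Finset.mem_univ _, rfl⟩) h0
  · rw [if_neg hζ]
    exact second_main hM ((third_main hM (hex _ hb0)).mpr rfl) hh le_rfl hζ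

theorem norm_mul_central {χ : G → ℂ} (hχ : IsIrrCharacter G χ) {z : G}
    (hz : z ∈ Subgroup.center G) (g : G) : ‖χ (z * g)‖ = ‖χ g‖ := by
  haveI := Fintype.ofFinite G
  obtain ⟨n, ρ, hρ, rfl⟩ := hχ
  haveI := hρ
  obtain ⟨ω, hω, -⟩ := CT.central_scalar ρ hz
  have hval : ρ.character (z * g) = ω * ρ.character g := by
    rw [Representation.character, map_mul, hω]
    simp [Representation.character, Module.End.mul_eq_comp]
  have hn := (CT.norm_eq_iff_scalar ρ z).mpr ⟨ω, hω⟩
  have hz1 : ρ.character z = ω * (Module.finrank ℂ (Fin n → ℂ) : ℂ) := by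
    simp [Representation.character, hω]
  rw [hz1, norm_mul, Complex.norm_natCast] at hn
  have hpos : (0 : ℝ) < Module.finrank ℂ (Fin n → ℂ) :=
    Nat.cast_pos.mpr (CT.finrank_pos_of_irreducible ρ)
  have hω1 : ‖ω‖ = 1 := by
    nlinarith [mul_right_cancel₀ hpos.ne' (hn.trans (one_mul _).symm)]
  rw [hval, norm_mul, hω1, one_mul]

theorem forall_eq_of_hasConstituent_triv {N : Subgroup G} [Fintype N] [N.Normal]
    (χ : IrrCharacter G) (h : HasConstituent ({CT.trivIrr N} : Set (IrrCharacter N)) (χ : G → ℂ)) :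
    ∀ n ∈ N, (χ : G → ℂ) n = (χ : G → ℂ) 1 := by
  classical
  have hA : ∀ (g : G) (n : N), blockCoeff ({CT.trivIrr N} : Set (IrrCharacter N))
      ⟨g * n * g⁻¹, ‹N.Normal›.conj_mem _ n.2 g⟩ = blockCoeff {CT.trivIrr N} n := fun g n => by
    rw [blockCoeff_trivIrr_const, blockCoeff_trivIrr_const]
  have h4 := CT.character_eq_sum (CT.isCharacter_restrict N (CT.isCharacter_of_isIrr χ.2))
  have h5 : ∀ θ : IrrCharacter N, θ ≠ CT.trivIrr N →
      CT.mult (fun h : N => (χ : G → ℂ) h) θ = 0 := fun θ hne => by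
    by_contra h0
    exact hne (mem_of_hasConstituent hA h h0)
  have h6 : ∀ m : N, (χ : G → ℂ) m =
      (CT.mult (fun h : N => (χ : G → ℂ) h) (CT.trivIrr N : N → ℂ) : ℂ) := by
    intro m
    have := congrFun h4 m
    simp only [Finset.sum_apply, Pi.smul_apply, smul_eq_mul] at this
    rw [this, Finset.sum_eq_single (CT.trivIrr N) (fun θ _ hne => by simp [h5 θ hne]) (by simp)]
    simp
  intro n hn
  exact (h6 ⟨n, hn⟩).trans (h6 1).symm

theorem section_sums (hM : IsPModular p M) [Fact p.Prime] {z : G}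
    (hz : ∃ k : ℕ, z ^ p ^ k = 1) {y : Subgroup.centralizer ({z} : Set G)} (hy : ¬ p ∣ orderOf y) :
    ∑ᶠ ζ ∈ principalBlock M G, ‖(ζ : G → ℂ) (z * (y : G))‖ ^ 2 =
      ∑ᶠ χ ∈ principalBlock M (Subgroup.centralizer ({z} : Set G)),
        ‖(χ : Subgroup.centralizer ({z} : Set G) → ℂ) y‖ ^ 2 := by
  classical
  letI := Fintype.ofFinite G
  letI := Fintype.ofFinite (Subgroup.centralizer ({z} : Set G))
  have hzH : z ∈ (Subgroup.centralizer ({z} : Set G)) := Subgroup.mem_centralizer_singleton_iff.mpr rfl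
  set zH : (Subgroup.centralizer ({z} : Set G)) := ⟨z, hzH⟩
  have hzc : zH ∈ Subgroup.center (Subgroup.centralizer ({z} : Set G)) := Subgroup.mem_center_iff.mpr fun w =>
    Subtype.ext (Subgroup.mem_centralizer_singleton_iff.mp w.2)
  have hcom : Commute zH y := (Subgroup.mem_center_iff.mp hzc y).symm
  have hzHk : ∃ k : ℕ, zH ^ p ^ k = 1 := by
    obtain ⟨k, hk⟩ := hz
    exact ⟨k, Subtype.ext (by simpa [zH] using hk)⟩
  set h : (Subgroup.centralizer ({z} : Set G)) := zH * y
  have hh : IsPPart p h zH := isPPart_mk hcom hzHk hy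
  have hhG : IsPPart p (h : G) z :=
    isPPart_mk (hcom.map (Subgroup.centralizer ({z} : Set G)).subtype) hz (by rwa [Subgroup.orderOf_coe])
  set b0 := principalBlock M (Subgroup.centralizer ({z} : Set G))
  have hb0 : IsPBlock M b0 := isPBlock_blockOf (CT.trivIrr (Subgroup.centralizer ({z} : Set G)))
  have hA := blockCoeff_mem_loc hb0
  set w := idemC b0 * single h (1 : ℂ)
  have hG : ∀ ζ : IrrCharacter G, ev (ζ : G → ℂ) (embH (Subgroup.centralizer ({z} : Set G)) w) =
      if ζ ∈ principalBlock M G then (ζ : G → ℂ) (h : G) else 0 := fun ζ => by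
    rw [show embH (Subgroup.centralizer ({z} : Set G)) w = embH (Subgroup.centralizer ({z} : Set G)) (idemC b0) * single (h : G) 1 by simp [w, embH_single]]
    exact ev_principal_section hM hz hhG ζ
  have hcard : Nat.card (Subgroup.centralizer ({(h : G)} : Set G)) =
      Nat.card (Subgroup.centralizer ({h} : Set (Subgroup.centralizer ({z} : Set G)))) := by
    refine Nat.card_congr
      { toFun := fun c => ⟨⟨c.1, ?_⟩, ?_⟩
        invFun := fun c => ⟨(c.1 : G), Subgroup.mem_centralizer_singleton_iff.mpr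
          (congrArg Subtype.val (Subgroup.mem_centralizer_singleton_iff.mp c.2))⟩
        left_inv := fun c => rfl
        right_inv := fun c => rfl }
    · obtain ⟨i, hi⟩ := Subgroup.mem_zpowers_iff.mp (ppart_mem_zpowers hhG)
      have hc : Commute (c.1 : G) (h : G) := Subgroup.mem_centralizer_singleton_iff.mp c.2
      have hc2 := hc.zpow_right i
      rw [hi] at hc2
      exact Subgroup.mem_centralizer_singleton_iff.mpr hc2.eq
    · exact Subgroup.mem_centralizer_singleton_iff.mpr
        (Subtype.ext (Subgroup.mem_centralizer_singleton_iff.mp c.2))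
  have hclass : ev (classInd ℂ (h : G)) (embH (Subgroup.centralizer ({z} : Set G)) w) = ev (classInd ℂ h) w := by
    rw [ev_embH]
    let T : (Subgroup.centralizer ({z} : Set G)) → Loc M := fun u => classInd (Loc M) (h : G) (u : G) - classInd (Loc M) h u
    have hT : IsClassFn T := fun a c => by
      simp only [T, isClassFn_classInd (R := Loc M) h a c, Subgroup.coe_mul, Subgroup.coe_inv,
        isClassFn_classInd (R := Loc M) (h : G) (a : G) (c : G)]
    have h0 := ev_idem_eq_zero_of_ppart hM hT (e := (bIdem M b0 : MonoidAlgebra (Loc M) (Subgroup.centralizer ({z} : Set G))))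
      (congrArg Subtype.val (bIdem_mul_self hA)) hh
      (fun c _ _ => (Subring.mem_center_iff.mp (bIdem M b0).2 _).symm) fun u hu => by
        obtain ⟨v, hv, hvc, hvk, hvr⟩ := hu
        obtain ⟨k, hk⟩ := hvk
        have huG : IsPPart p (u : G) z := by
          rw [← hv]
          exact isPPart_mk (hvc.map (Subgroup.centralizer ({z} : Set G)).subtype) hz (by rwa [Subgroup.orderOf_coe])
        simp only [T]
        by_cases hc : IsConj (h : G) (u : G)
        · obtain ⟨c, hc'⟩ := isConj_iff.mp hc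
          have hcz : c ∈ (Subgroup.centralizer ({z} : Set G)) := by
            have hpp := ppart_conj hhG c
            rw [hc'] at hpp
            have e := ppart_unique hpp huG
            exact Subgroup.mem_centralizer_singleton_iff.mpr (mul_inv_eq_iff_eq_mul.mp e)
          rw [classInd_pos hc, classInd_pos (isConj_iff.mpr ⟨⟨c, hcz⟩, Subtype.ext hc'⟩), sub_self]
        · rw [classInd_neg hc, classInd_neg fun h' => hc ((Subgroup.centralizer ({z} : Set G)).subtype.map_isConj h'), sub_self]
    have h1 := congrArg (fun x : Loc M => (x : ℂ)) h0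
    simp only [coe_ev, map_mul, toC_bIdem hA, toC_single, ZeroMemClass.coe_zero, T,
      AddSubgroupClass.coe_sub, toC_classInd] at h1
    rw [ev_eq_sum] at h1 ⊢
    rw [ev_eq_sum]
    simp only [mul_sub, Finset.sum_sub_distrib, sub_eq_zero] at h1
    exact h1
  have keyG := sum_ev_mul_conj (embH (Subgroup.centralizer ({z} : Set G)) w) (h : G)
  have keyH := sum_ev_mul_conj w h
  rw [hclass, hcard, ← keyH] at keyG
  have eL : ∀ {X : Type _} [Group X] [Finite X] (B : Set (IrrCharacter X)) [DecidablePred (· ∈ B)]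
      (g : X), ((∑ᶠ η ∈ B, ‖(η : X → ℂ) g‖ ^ 2 : ℝ) : ℂ) = ∑ η : IrrCharacter X,
        (if η ∈ B then (η : X → ℂ) g else 0) * conj ((η : X → ℂ) g) := by
    intro X _ _ B _ g
    rw [finsum_mem_eq_toFinset_sum, Complex.ofReal_sum]
    refine Finset.sum_subset_zero_on_sdiff (Finset.subset_univ _) (fun η hη => ?_) fun η hη => ?_
    · simp only [Finset.mem_sdiff, Finset.mem_univ, Set.mem_toFinset, true_and] at hη
      rw [if_neg hη, zero_mul]
    · rw [if_pos (Set.mem_toFinset.mp hη), Complex.mul_conj, Complex.normSq_eq_norm_sq]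
  have hzy : z * (y : G) = (h : G) := rfl
  have hr : ∑ᶠ χ ∈ b0, ‖(χ : (Subgroup.centralizer ({z} : Set G)) → ℂ) y‖ ^ 2 = ∑ᶠ χ ∈ b0, ‖(χ : (Subgroup.centralizer ({z} : Set G)) → ℂ) h‖ ^ 2 :=
    finsum_mem_congr rfl fun χ _ => by rw [norm_mul_central χ.2 hzc]
  rw [hzy, hr]
  apply Complex.ofReal_injective
  rw [eL, eL]
  simp only [hG] at keyG
  refine keyG.trans (Finset.sum_congr rfl fun χ _ => ?_)
  rw [ev_idemC_mul, ev_single, one_mul]

theorem sum_sq_of_normal_complement (hM : IsPModular p M) [Fact p.Prime]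
    (hnc : ∃ k : ℕ, (pPrimeCore p G).index = p ^ k) {y : G} (hy : ¬ p ∣ orderOf y) :
    ∑ᶠ χ ∈ principalBlock M G, ‖(χ : G → ℂ) y‖ ^ 2 =
      ((p ^ (Nat.card G).factorization p : ℕ) : ℝ) := by
  classical
  letI := Fintype.ofFinite G
  letI := Fintype.ofFinite (pPrimeCore p G)
  set K := pPrimeCore p G
  haveI : K.Normal := Basics.pPrimeCore_normal p
  have hK : ¬ p ∣ Nat.card K := Basics.not_dvd_card_pPrimeCore p
  have hmem := Cfsg.Agent.S0939.result p M hM hnc
  have hyK : y ∈ K := mem_of_pow_index hnc hy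
  have hidx : (K.index : ℕ) = p ^ (Nat.card G).factorization p := by
    obtain ⟨k, hk⟩ := hnc
    rw [← K.index_mul_card, Nat.factorization_mul Subgroup.index_ne_zero_of_finite Nat.card_pos.ne',
      Finsupp.coe_add, Pi.add_apply, Nat.factorization_eq_zero_of_not_dvd hK, add_zero,
      show K.index = p ^ k from hk, (Fact.out : p.Prime).factorization_pow, Finsupp.single_eq_same]
  have he : idemC (principalBlock M G) = embH K (idemC ({CT.trivIrr K} : Set (IrrCharacter K))) := by
    have hA : ∀ (g : G) (n : K), blockCoeff ({CT.trivIrr K} : Set (IrrCharacter K))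
        ⟨g * n * g⁻¹, (inferInstance : K.Normal).conj_mem _ n.2 g⟩ = blockCoeff {CT.trivIrr K} n :=
      fun g n => by rw [blockCoeff_trivIrr_const, blockCoeff_trivIrr_const]
    refine central_ext (idemC_mem_center _) (embH_idemC_mem_center hA) fun χ => ?_
    rw [omega_idemC]
    by_cases hχ : χ ∈ principalBlock M G
    · rw [if_pos hχ]
      refine ((omega_stable hA χ).resolve_left fun h0 => ?_).symm
      refine (omega_stable_eq_zero_iff χ).mp h0 ⟨CT.trivIrr K, rfl, (mult_ne_zero_iff χ _).mpr ?_⟩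
      have hχ' : ∀ n : K, (χ : G → ℂ) n = (χ : G → ℂ) 1 := fun n =>
        apply_eq_one_of_mem_principalBlock hM hK hχ n.2
      simp [classInner, hχ', CT.irr_one_ne_zero χ.2]
    · rw [if_neg hχ]
      refine ((omega_stable_eq_zero_iff χ).mpr fun hc => hχ ?_).symm
      rw [hmem]
      exact forall_eq_of_hasConstituent_triv χ hc
  have h1 := congrArg (fun x : MonoidAlgebra ℂ G => x.coeff ((1 : K) : G)) he
  simp only [coeff_embH K _ (1 : K), idemC, coeff_ofFun, blockCoeff_trivIrr_const] at h1
  rw [OneMemClass.coe_one, blockCoeff, finsum_mem_irr, inv_mul_eq_iff_eq_mul₀ CT.card_ne_zero] at h1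
  apply Complex.ofReal_injective
  rw [finsum_mem_eq_toFinset_sum, Complex.ofReal_sum, Complex.ofReal_natCast, ← hidx]
  have e2 : (K.index : ℂ) = (Nat.card G : ℂ) * (Nat.card K : ℂ)⁻¹ := by
    rw [eq_mul_inv_iff_mul_eq₀ (Nat.cast_ne_zero.mpr Nat.card_pos.ne')]
    exact_mod_cast K.index_mul_card
  rw [e2, ← h1]
  refine Finset.sum_subset_zero_on_sdiff (Finset.subset_univ _) (fun η hη => ?_) fun η hη => ?_
  · simp only [Finset.mem_sdiff, Finset.mem_univ, Set.mem_toFinset, true_and] at hη
    rw [if_neg hη]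
  · have hη' := Set.mem_toFinset.mp hη
    rw [if_pos hη', apply_eq_one_of_mem_principalBlock hM hK hη' hyK, Complex.mul_conj,
      Complex.normSq_eq_norm_sq]

end Cfsg.Agent.Blocks
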