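import Cfsg.Agent.Lib.Blocks.Inflation
import Cfsg.Agent.Lib.Blocks.SecondMain
import Cfsg.Agent.Lib.Blocks.Section
import Cfsg.Agent.Lib.Blocks.FirstMain
import Cfsg.Agent.S0914
import Cfsg.Agent.Lib.Blocks.Knorr
import Mathlib.GroupTheory.GroupAction.CardCommute

/-!
# Blocks with defect group `P` in a group `P * C(P)`
-/

set_option linter.unusedSectionVars false

namespace Cfsg.Agent.Blocks

open MonoidAlgebra
open scoped ComplexConjugate

universe u

variable {G : Type u} [Group G] [Finite G] {p : ℕ} {M : Ideal AlgInt} [M.IsPrime]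

open Classical in
/-- Characters of different blocks are orthogonal on every `p`-section. -/
theorem sectionSum_eq_zero [Fintype G] (hM : IsPModular p M) {χ ψ : IrrCharacter G}
    (h : ¬ SameBlock M (χ : G → ℂ) (ψ : G → ℂ)) (x : G) :
    ∑ u ∈ Finset.univ.filter (fun u : G => ∃ z, IsPPart p u z ∧ IsConj x z),
      (χ : G → ℂ) u * conj ((ψ : G → ℂ) u) = 0 := by
  haveI : Fact p.Prime := ⟨hM.1⟩
  set B := blockOf M (χ : G → ℂ)
  have hA := blockCoeff_mem_loc (isPBlock_blockOf (M := M) χ)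
  have hψB : ψ ∉ B := h
  set S := Finset.univ.filter (fun u : G => ∃ z, IsPPart p u z ∧ IsConj x z) with hS
  let K : G → G → ℂ := fun u y => ∑ η : IrrCharacter G,
    if η ∈ B then (η : G → ℂ) u * conj ((η : G → ℂ) y) else 0
  have key : ∀ (φ η : IrrCharacter G), ∑ y : G, (φ : G → ℂ) y * conj ((η : G → ℂ) y) =
      if φ = η then (Nat.card G : ℂ) else 0 := by
    intro φ η
    have := CT.irr_inner_subtype φ η
    rw [classInner, inv_mul_eq_iff_eq_mul₀ (CT.card_ne_zero (G := G))] at this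
    rw [this]; split_ifs <;> simp
  have e2 : ∀ u : G, ∑ y : G, (χ : G → ℂ) y * K u y = (Nat.card G : ℂ) * (χ : G → ℂ) u := by
    intro u
    simp only [K, Finset.mul_sum]
    rw [Finset.sum_comm, Finset.sum_eq_single χ]
    · simp only [if_pos (self_mem_blockOf (M := M) χ), B, mul_left_comm _ ((χ : G → ℂ) u),
        ← Finset.mul_sum, key, if_pos]
      ring
    · intro η _ hη
      by_cases hηB : η ∈ B
      · simp only [if_pos hηB, mul_left_comm _ ((η : G → ℂ) u), ← Finset.mul_sum, key,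
          if_neg (Ne.symm hη), mul_zero]
      · simp [hηB]
    · simp
  have hK0 : ∀ u y, (u ∈ S ∧ y ∉ S ∨ u ∉ S ∧ y ∈ S) → K u y = 0 := by
    intro u y huy
    obtain ⟨z, hz, -⟩ := exists_isPPart (p := p) u
    obtain ⟨w, hw, -⟩ := exists_isPPart (p := p) y
    have hne : ¬ IsConj z w := fun hc => by
      simp only [hS, Finset.mem_filter, Finset.mem_univ, true_and] at huy
      rcases huy with ⟨⟨z', hz', hx⟩, h2⟩ | ⟨h1, ⟨w', hw', hx⟩⟩
      · exact h2 ⟨w, hw, hx.trans (ppart_unique hz' hz ▸ hc)⟩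
      · exact h1 ⟨z, hz, hx.trans (ppart_unique hw' hw ▸ hc.symm)⟩
    have h0 := block_orthogonality hM hA hz hw hne
    rw [finsum_mem_irr] at h0
    exact h0
  have e3 : ∀ y : G, ∑ u ∈ S, K u y * conj ((ψ : G → ℂ) u) = 0 := by
    intro y
    by_cases hy : y ∈ S
    swap
    · exact Finset.sum_eq_zero fun u hu => by rw [hK0 u y (Or.inl ⟨hu, hy⟩), zero_mul]
    rw [Finset.sum_subset (Finset.subset_univ S) fun u _ hu => by
      rw [hK0 u y (Or.inr ⟨hu, hy⟩), zero_mul]]
    simp only [K, Finset.sum_mul]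
    rw [Finset.sum_comm]
    refine Finset.sum_eq_zero fun η _ => ?_
    by_cases hη : η ∈ B
    · simp only [if_pos hη, mul_right_comm _ (conj ((η : G → ℂ) y)), ← Finset.sum_mul, key,
        if_neg (fun e : η = ψ => hψB (e ▸ hη)), zero_mul]
    · simp [hη]
  have h4 : (Nat.card G : ℂ) * ∑ u ∈ S, (χ : G → ℂ) u * conj ((ψ : G → ℂ) u) = 0 := by
    simp only [Finset.mul_sum, ← mul_assoc, ← e2, Finset.sum_mul]
    rw [Finset.sum_comm]
    refine Finset.sum_eq_zero fun y _ => ?_
    simp only [mul_assoc, ← Finset.mul_sum, e3, mul_zero]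
  exact (mul_eq_zero.mp h4).resolve_left CT.card_ne_zero

variable {P : Subgroup G}

theorem exists_mul_of_sup_eq_top (hG : P ⊔ Subgroup.centralizer (P : Set G) = ⊤) (g : G) :
    ∃ a ∈ P, ∃ c ∈ Subgroup.centralizer (P : Set G), g = a * c := by
  have hCN : Subgroup.centralizer (P : Set G) ≤ Subgroup.normalizer (P : Set G) :=
    Subgroup.centralizer_le_normalizer _
  have hg : g ∈ (P ⊔ Subgroup.centralizer (P : Set G) : Subgroup G) := hG ▸ Subgroup.mem_top g
  rw [← SetLike.mem_coe, Subgroup.coe_mul_of_right_le_normalizer_left _ _ hCN] at hg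
  obtain ⟨a, ha, c, hc, rfl⟩ := hg
  exact ⟨a, ha, c, hc, rfl⟩

theorem normal_of_sup_eq_top (hG : P ⊔ Subgroup.centralizer (P : Set G) = ⊤) : P.Normal :=
  Subgroup.normalizer_eq_top_iff.mp (top_le_iff.mp (hG ▸ sup_le Subgroup.le_normalizer
    (Subgroup.centralizer_le_normalizer _)))

theorem centralizer_index_pow (hG : P ⊔ Subgroup.centralizer (P : Set G) = ⊤)
    (hP : IsPGroup p P) [Fact p.Prime] :
    ∃ k : ℕ, (Subgroup.centralizer (P : Set G)).index = p ^ k := by
  haveI := normal_of_sup_eq_top hG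
  set C := Subgroup.centralizer (P : Set G)
  obtain ⟨n, hn⟩ := IsPGroup.iff_card.mp hP
  have hd : C.index ∣ p ^ n := by
    rw [← Subgroup.relIndex_top_right, ← hG, Subgroup.relIndex_sup_right, ← hn]
    exact Subgroup.relIndex_dvd_card _ _
  obtain ⟨k, -, hk⟩ := (Nat.dvd_prime_pow (Fact.out : p.Prime)).mp hd
  exact ⟨k, hk⟩

open Classical in
/-- The structure of a block with defect group `P` when `G = P * C(P)`, with the norms on `P`. -/
theorem central_product_block_norm [Fintype G] (hM : IsPModular p M) (hP : IsPGroup p P)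
    (hG : P ⊔ Subgroup.centralizer (P : Set G) = ⊤) {B : Set (IrrCharacter G)}
    (hB : IsPBlock M B) (hD : IsDefectGroup p M B P) :
    ((∃! θ : IrrCharacter G, θ ∈ B ∧ ∀ x ∈ P, (θ : G → ℂ) x = (θ : G → ℂ) 1) ∧
      (∀ θ ∈ B, (∀ x ∈ P, (θ : G → ℂ) x = (θ : G → ℂ) 1) →
        (charDegree (θ : G → ℂ)).factorization p = P.index.factorization p) ∧
      Nat.card B = Nat.card (ConjClasses P)) ∧
      ∀ θ ∈ B, (∀ x ∈ P, (θ : G → ℂ) x = (θ : G → ℂ) 1) → ∀ χ ∈ B,
        ∑ x ∈ Finset.univ.filter (· ∈ P), (χ : G → ℂ) x * conj ((χ : G → ℂ) x) =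
          (θ : G → ℂ) 1 * conj ((θ : G → ℂ) 1) * Nat.card P := by
  classical
  haveI : Fact p.Prime := ⟨hM.1⟩
  haveI hPn := normal_of_sup_eq_top hG
  haveI := Fintype.ofFinite P
  haveI := Fintype.ofFinite (G ⧸ P)
  have hC := centralizer_index_pow hG hP
  set C := Subgroup.centralizer (P : Set G) with hCdef
  have hA := blockCoeff_mem_loc hB
  -- degree of members trivial on `P`
  have hdeg : ∀ θ ∈ B, (∀ x ∈ P, (θ : G → ℂ) x = (θ : G → ℂ) 1) →
      (charDegree (θ : G → ℂ)).factorization p = P.index.factorization p := by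
    intro θ hθ htriv
    obtain ⟨f, hf, hfe⟩ := CT.exists_quotient_irr θ.2 P htriv
    have hd1 : charDegree f = charDegree (θ : G → ℂ) := by
      simp only [charDegree]; rw [← hfe 1, QuotientGroup.mk_one]
    have hup : (charDegree (θ : G → ℂ)).factorization p ≤ P.index.factorization p := by
      rw [← hd1, Subgroup.index_eq_card]
      exact (Nat.factorization_le_iff_dvd (charDegree_pos ⟨f, hf⟩).ne' Nat.card_pos.ne').mpr
        (charDegree_dvd_card ⟨f, hf⟩) p
    obtain ⟨g, hg, -, -, hcard⟩ := defectGroup_spec hD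
    have hlow := le_factorization_of_defectClass hM hg hθ
    obtain ⟨n, hn⟩ := IsPGroup.iff_card.mp hP
    have hv : (Nat.card (Subgroup.centralizer ({g} : Set G))).factorization p = n :=
      (Nat.pow_right_injective hM.1.two_le (hcard.symm.trans hn))
    rw [hv] at hlow
    have hsum : n + P.index.factorization p = (Nat.card G).factorization p := by
      rw [← P.card_mul_index, Nat.factorization_mul Nat.card_pos.ne'
        Subgroup.index_ne_zero_of_finite, Finsupp.add_apply, hn, hM.1.factorization_pow,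
        Finsupp.single_eq_same]
    omega
  -- uniqueness
  have hsing : ∀ χ : IrrCharacter (G ⧸ P), inflIrr χ ∈ B → blockOf M (χ : G ⧸ P → ℂ) = {χ} := by
    intro χ hχ
    have h := hdeg _ hχ fun x hx => by simp [(QuotientGroup.eq_one_iff x).mpr hx]
    refine (Cfsg.Agent.S0914.result p M hM χ).mp fun hd => ?_
    have hd1 : charDegree (inflIrr χ : G → ℂ) = charDegree (χ : G ⧸ P → ℂ) := by
      simp only [charDegree, inflIrr_apply, QuotientGroup.mk_one]
    rw [hd1, Subgroup.index_eq_card] at h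
    have hq0 : Nat.card (G ⧸ P) / charDegree (χ : G ⧸ P → ℂ) ≠ 0 :=
      (Nat.div_pos (Nat.le_of_dvd Nat.card_pos (charDegree_dvd_card χ)) (charDegree_pos χ)).ne'
    have h2 := congrArg (fun f => f p) (Nat.factorization_div (charDegree_dvd_card χ))
    simp only [Finsupp.coe_tsub, Pi.sub_apply] at h2
    have h3 := hM.1.factorization_pos_of_dvd hq0 hd
    omega
  obtain ⟨θ', hθB⟩ := exists_trivial_on_pGroup hM hP hB
  set θ := inflIrr θ' with hθdef
  have hθt : ∀ x ∈ P, (θ : G → ℂ) x = (θ : G → ℂ) 1 := fun x hx => by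
    simp [hθdef, (QuotientGroup.eq_one_iff x).mpr hx]
  have huniq : ∀ η ∈ B, (∀ x ∈ P, (η : G → ℂ) x = (η : G → ℂ) 1) → η = θ := by
    intro η hη htriv
    obtain ⟨f, hf, hfe⟩ := CT.exists_quotient_irr η.2 P htriv
    have he : inflIrr ⟨f, hf⟩ = η := Subtype.ext (funext fun g => hfe g)
    have hsame : SameBlock M (inflIrr θ' : G → ℂ) (inflIrr ⟨f, hf⟩ : G → ℂ) :=
      (mem_block_iff hB hθB).mp (he ▸ hη)
    have h2 : (⟨f, hf⟩ : IrrCharacter (G ⧸ P)) ∈ blockOf M (θ' : G ⧸ P → ℂ) :=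
      sameBlock_of_inflIrr_of_pGroup hM hP hC hsame
    rw [hsing θ' hθB, Set.mem_singleton_iff] at h2
    rw [← he, h2]
  suffices hboth : Nat.card B = Nat.card (ConjClasses P) ∧ ∀ χ ∈ B,
      ∑ x ∈ Finset.univ.filter (· ∈ P), (χ : G → ℂ) x * conj ((χ : G → ℂ) x) =
        (θ : G → ℂ) 1 * conj ((θ : G → ℂ) 1) * Nat.card P from
    ⟨⟨⟨θ, ⟨hθB, hθt⟩, fun η h => huniq η h.1 h.2⟩, hdeg, hboth.1⟩,
      fun η hη ht χ hχ => by rw [huniq η hη ht]; exact hboth.2 χ hχ⟩
  -- conjugation facts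
  have hconjC : ∀ a ∈ P, ∀ y ∈ C, a * y = y * a := fun a ha y hy =>
    Subgroup.mem_centralizer_iff.mp hy a ha
  have hregC : ∀ y : G, ¬ p ∣ orderOf y → y ∈ C := fun y hy => by
    haveI := Fintype.ofFinite C
    exact mem_of_pow_index hC hy
  have huniqlift : ∀ y y' : G, ¬ p ∣ orderOf y → ¬ p ∣ orderOf y' →
      (y : G ⧸ P) = (y' : G ⧸ P) → y = y' := by
    intro y y' hy hy' hyy
    have hu : y⁻¹ * y' ∈ P := QuotientGroup.eq.mp hyy
    obtain ⟨k, hk⟩ := exists_pow_eq_one_of_isPGroup hP hu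
    have hcom : Commute (y⁻¹ * y') y := hconjC _ hu y (hregC y hy)
    have h1 := isPPart_mk (p := p) hcom ⟨k, hk⟩ hy
    rw [hcom.eq, mul_inv_cancel_left] at h1
    exact inv_mul_eq_one.mp (ppart_unique h1 (isPPart_one hy'))
  -- values on sections
  have hval : ∀ χ ∈ B, ∀ x ∈ P, ∀ y : G, ¬ p ∣ orderOf y →
      (θ : G → ℂ) 1 * (χ : G → ℂ) (x * y) = (χ : G → ℂ) x * (θ : G → ℂ) y := by
    intro χ hχ x hx
    let φ : G ⧸ P → ℂ := fun q =>
      if h : ∃ y : G, ¬ p ∣ orderOf y ∧ (y : G ⧸ P) = q then (χ : G → ℂ) (x * h.choose) else 0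
    have hφy : ∀ y : G, ¬ p ∣ orderOf y → φ y = (χ : G → ℂ) (x * y) := by
      intro y hy
      have h : ∃ y' : G, ¬ p ∣ orderOf y' ∧ (y' : G ⧸ P) = (y : G ⧸ P) := ⟨y, hy, rfl⟩
      simp only [φ, dif_pos h]
      rw [huniqlift _ y h.choose_spec.1 hy h.choose_spec.2]
    have hφ0 : ∀ q : G ⧸ P, (¬ ∃ y : G, ¬ p ∣ orderOf y ∧ (y : G ⧸ P) = q) → φ q = 0 :=
      fun q hq => by simp only [φ, dif_neg hq]
    have hφcl : IsClassFunction (G ⧸ P) φ := by
      refine CT.isClassFunction_iff.mpr fun q q' hqq => ?_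
      by_cases h : ∃ y : G, ¬ p ∣ orderOf y ∧ (y : G ⧸ P) = q
      · obtain ⟨y, hy, rfl⟩ := h
        obtain ⟨g', hg'⟩ := isConj_iff.mp hqq
        obtain ⟨g, rfl⟩ := QuotientGroup.mk_surjective g'
        rw [← hg', ← QuotientGroup.mk_inv, ← QuotientGroup.mk_mul, ← QuotientGroup.mk_mul]
        have hy' : ¬ p ∣ orderOf (g * y * g⁻¹) := by
          rw [show g * y * g⁻¹ = MulAut.conj g y from rfl, MulEquiv.orderOf_eq]; exact hy
        rw [hφy y hy, hφy _ hy']
        obtain ⟨a, ha, c, hc, rfl⟩ := exists_mul_of_sup_eq_top hG g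
        have hcy : c * y * c⁻¹ ∈ C := C.mul_mem (C.mul_mem hc (hregC y hy)) (C.inv_mem hc)
        have e : a * c * y * (a * c)⁻¹ = c * y * c⁻¹ := by
          calc a * c * y * (a * c)⁻¹ = a * (c * y * c⁻¹) * a⁻¹ := by group
            _ = c * y * c⁻¹ := by rw [hconjC a ha _ hcy, mul_inv_cancel_right]
        rw [e, show x * (c * y * c⁻¹) = c * (x * y) * c⁻¹ by
          rw [← mul_assoc, ← mul_assoc, hconjC x hx c hc, mul_assoc c x y]]
        exact CT.isClassFunction_isConj (CT.isClassFunction_of_isIrr χ.2) (isConj_iff.mpr ⟨c, rfl⟩)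
      · have h' : ¬ ∃ y : G, ¬ p ∣ orderOf y ∧ (y : G ⧸ P) = q' := fun ⟨y, hy, hyq⟩ => h (by
          obtain ⟨g', hg'⟩ := isConj_iff.mp hqq.symm
          obtain ⟨g, rfl⟩ := QuotientGroup.mk_surjective g'
          refine ⟨g * y * g⁻¹, ?_, ?_⟩
          · rw [show g * y * g⁻¹ = MulAut.conj g y from rfl, MulEquiv.orderOf_eq]; exact hy
          · rw [QuotientGroup.mk_mul, QuotientGroup.mk_mul, QuotientGroup.mk_inv, hyq, hg'])
        rw [hφ0 q h, hφ0 q' h']
    -- inner products
    have hsumQ : ∀ F : G ⧸ P → ℂ, (∀ q, (¬ ∃ y : G, ¬ p ∣ orderOf y ∧ (y : G ⧸ P) = q) → F q = 0) →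
        ∑ q, F q = ∑ y ∈ Finset.univ.filter (fun y : G => ¬ p ∣ orderOf y), F (y : G ⧸ P) := by
      intro F hF
      symm
      refine Finset.sum_bij_ne_zero (fun y _ _ => (y : G ⧸ P)) (fun _ _ _ => Finset.mem_univ _)
        (fun y h₁ _ y' h₁' _ e => huniqlift y y' (Finset.mem_filter.mp h₁).2
          (Finset.mem_filter.mp h₁').2 e) (fun q _ hq => ?_) (fun _ _ _ => rfl)
      obtain ⟨y, hy, rfl⟩ : ∃ y : G, ¬ p ∣ orderOf y ∧ (y : G ⧸ P) = q :=
        by_contra fun hn => hq (hF q hn)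
      exact ⟨y, Finset.mem_filter.mpr ⟨Finset.mem_univ _, hy⟩, hq, rfl⟩
    have hortho : ∀ ψ : IrrCharacter (G ⧸ P), ψ ≠ θ' → classInner φ (ψ : G ⧸ P → ℂ) = 0 := by
      intro ψ hψ
      have hnot : ¬ SameBlock M (χ : G → ℂ) (inflIrr ψ : G → ℂ) := by
        intro hsame
        have hmem : inflIrr ψ ∈ B := (mem_block_iff hB hχ).mpr hsame
        refine hψ ?_
        have := huniq _ hmem fun x hx => by simp [(QuotientGroup.eq_one_iff x).mpr hx]
        refine Subtype.ext (funext fun q => ?_)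
        obtain ⟨g, rfl⟩ := QuotientGroup.mk_surjective q
        exact congrFun (congrArg Subtype.val this) g
      have h0 := sectionSum_eq_zero hM hnot x
      have hterm : ∀ a ∈ P, ∀ y : G, ¬ p ∣ orderOf y →
          (χ : G → ℂ) (a * x * a⁻¹ * y) * conj ((inflIrr ψ : G → ℂ) (a * x * a⁻¹ * y)) =
          φ (y : G ⧸ P) * conj ((ψ : G ⧸ P → ℂ) (y : G ⧸ P)) := by
        intro a ha y hy
        have e : a * x * a⁻¹ * y = a * (x * y) * a⁻¹ := by
          rw [mul_assoc (a * x), hconjC _ (P.inv_mem ha) y (hregC y hy)]; group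
        rw [hφy y hy]
        congr 1
        · rw [e]
          exact (CT.isClassFunction_isConj (CT.isClassFunction_of_isIrr χ.2)
            (isConj_iff.mpr ⟨a, rfl⟩)).symm
        · rw [inflIrr_apply, QuotientGroup.mk_mul,
            (QuotientGroup.eq_one_iff _).mpr (P.mul_mem (P.mul_mem ha hx) (P.inv_mem ha)), one_mul]
      have hxclass : ∀ z, IsConj x z → ∃ a ∈ P, z = a * x * a⁻¹ := by
        intro z hz
        obtain ⟨g, rfl⟩ := isConj_iff.mp hz
        obtain ⟨a, ha, c, hc, rfl⟩ := exists_mul_of_sup_eq_top hG g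
        refine ⟨a, ha, ?_⟩
        calc a * c * x * (a * c)⁻¹ = a * (c * x * c⁻¹) * a⁻¹ := by group
          _ = a * x * a⁻¹ := by rw [← hconjC x hx c hc, mul_inv_cancel_right]
      set X := Finset.univ.filter (fun z : G => IsConj x z)
      set R := Finset.univ.filter (fun y : G => ¬ p ∣ orderOf y)
      set S' : ℂ := ∑ y ∈ R, φ (y : G ⧸ P) * conj ((ψ : G ⧸ P → ℂ) (y : G ⧸ P)) with hS'
      have hzP : ∀ z, IsConj x z → z ∈ P := fun z hz => by
        obtain ⟨g, rfl⟩ := isConj_iff.mp hz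
        exact hPn.conj_mem x hx g
      have hppt : ∀ z y : G, IsConj x z → ¬ p ∣ orderOf y → IsPPart p (z * y) z := fun z y hz hy => by
        obtain ⟨k, hk⟩ := exists_pow_eq_one_of_isPGroup hP (hzP z hz)
        exact isPPart_mk (hconjC z (hzP z hz) y (hregC y hy)) ⟨k, hk⟩ hy
      have h1 : ∑ u ∈ Finset.univ.filter (fun u : G => ∃ z, IsPPart p u z ∧ IsConj x z),
          (χ : G → ℂ) u * conj ((inflIrr ψ : G → ℂ) u) = (X.card : ℂ) * S' := by
        rw [← nsmul_eq_mul, ← Finset.sum_const, hS', ← Finset.sum_product']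
        symm
        refine Finset.sum_bij (fun zy _ => zy.1 * zy.2) (fun zy h => ?_) (fun zy h zy' h' e => ?_)
          (fun u hu => ?_) (fun zy h => ?_)
        · simp only [X, R, Finset.mem_product, Finset.mem_filter, Finset.mem_univ, true_and] at h ⊢
          exact ⟨zy.1, hppt _ _ h.1 h.2, h.1⟩
        · simp only [X, R, Finset.mem_product, Finset.mem_filter, Finset.mem_univ, true_and] at h h'
          have e1 : zy.1 = zy'.1 := ppart_unique (e ▸ hppt _ _ h.1 h.2) (hppt _ _ h'.1 h'.2)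
          refine Prod.ext e1 ?_
          rw [e1] at e; exact mul_left_cancel e
        · simp only [Finset.mem_filter, Finset.mem_univ, true_and] at hu
          obtain ⟨z, ⟨y, hy, -, -, hreg⟩, hz⟩ := hu
          exact ⟨(z, y), Finset.mem_product.mpr ⟨Finset.mem_filter.mpr ⟨Finset.mem_univ _, hz⟩,
            Finset.mem_filter.mpr ⟨Finset.mem_univ _, hreg⟩⟩, hy⟩
        · simp only [X, R, Finset.mem_product, Finset.mem_filter, Finset.mem_univ, true_and] at h
          obtain ⟨a, ha, hza⟩ := hxclass _ h.1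
          rw [hza]
          exact (hterm a ha _ h.2).symm
      rw [h1] at h0
      have hX : (X.card : ℂ) ≠ 0 :=
        Nat.cast_ne_zero.mpr (Finset.card_ne_zero.mpr
          ⟨x, Finset.mem_filter.mpr ⟨Finset.mem_univ _, IsConj.refl x⟩⟩)
      rw [classInner, hsumQ _ (fun q hq => by rw [hφ0 q hq, zero_mul]), ← hS',
        (mul_eq_zero.mp h0).resolve_left hX, mul_zero]
    have hexp := CT.classFunction_eq_sum hφcl
    intro y hy
    have hv : ∀ q, φ q = classInner φ (θ' : G ⧸ P → ℂ) * (θ' : G ⧸ P → ℂ) q := fun q => by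
      have h2 := congrFun hexp q
      simp only [Finset.sum_apply, Pi.smul_apply, smul_eq_mul] at h2
      rw [Finset.sum_eq_single θ' (fun ψ _ hne => by simp [hortho ψ hne]) (by simp)] at h2
      exact h2
    have e1 := hv ((1 : G) : G ⧸ P)
    have e2 := hv (y : G ⧸ P)
    rw [hφy 1 (by rw [orderOf_one]; exact hM.1.not_dvd_one), mul_one] at e1
    rw [hφy y hy] at e2
    rw [e1, e2, hθdef, inflIrr_apply, inflIrr_apply]
    ring
  -- vanishing
  have hvan : ∀ χ ∈ B, ∀ g z : G, IsPPart p g z → z ∉ P → (χ : G → ℂ) g = 0 := by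
    intro χ hχ g z hgz hz
    refine char_eq_zero_of_not_mem_defect hM hgz fun D hD' => ?_
    rw [← block_eq_blockOf hB hχ] at hD'
    obtain ⟨w, hw⟩ := defect_conj hM hB hD hD'
    intro hzD
    rw [← hw] at hzD
    obtain ⟨q, hq, rfl⟩ := hzD
    exact hz (hPn.conj_mem q hq w)
  -- counting
  set θ1 : ℂ := (θ : G → ℂ) 1 with hθ1
  have hθ0 : θ1 ≠ 0 := CT.irr_one_ne_zero θ.2
  set T : Finset (IrrCharacter G) := B.toFinset
  have hmT : ∀ χ, χ ∈ T ↔ χ ∈ B := fun χ => Set.mem_toFinset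
  set R := Finset.univ.filter (fun y : G => ¬ p ∣ orderOf y) with hR
  set P' := Finset.univ.filter (fun x : G => x ∈ P) with hP'
  have hPcard : (Nat.card P : ℂ) ≠ 0 := CT.card_ne_zero (G := P)
  have hrow : ∀ χ ∈ B, θ1 * conj θ1 * (Nat.card G : ℂ) =
      (∑ x ∈ P', (χ : G → ℂ) x * conj ((χ : G → ℂ) x)) *
        ∑ y ∈ R, (θ : G → ℂ) y * conj ((θ : G → ℂ) y) := by
    intro χ hχ
    have h1 : ∑ g : G, (χ : G → ℂ) g * conj ((χ : G → ℂ) g) = (Nat.card G : ℂ) := by
      have h2 := CT.irr_inner_self χ.2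
      rw [classInner, inv_mul_eq_iff_eq_mul₀ (CT.card_ne_zero (G := G)), mul_one] at h2
      exact h2
    rw [← h1, Finset.sum_mul_sum, ← Finset.sum_product', Finset.mul_sum]
    symm
    refine Finset.sum_bij_ne_zero (fun zy _ _ => zy.1 * zy.2) (fun _ _ _ => Finset.mem_univ _)
      (fun zy h _ zy' h' _ e => ?_) (fun g _ hg => ?_) (fun zy h _ => ?_)
    · simp only [hP', hR, Finset.mem_product, Finset.mem_filter, Finset.mem_univ, true_and] at h h'
      obtain ⟨i, hi⟩ := exists_pow_eq_one_of_isPGroup hP h.1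
      obtain ⟨j, hj⟩ := exists_pow_eq_one_of_isPGroup hP h'.1
      have t1 := isPPart_mk (p := p) (hconjC zy.1 h.1 zy.2 (hregC _ h.2)) ⟨i, hi⟩ h.2
      have t2 := isPPart_mk (p := p) (hconjC zy'.1 h'.1 zy'.2 (hregC _ h'.2)) ⟨j, hj⟩ h'.2
      have e1 : zy.1 = zy'.1 := ppart_unique (e ▸ t1) t2
      refine Prod.ext e1 ?_
      rw [e1] at e; exact mul_left_cancel e
    · obtain ⟨z, hz, -⟩ := exists_isPPart (p := p) g
      have hzP : z ∈ P := by_contra fun hn => hg (by rw [hvan χ hχ g z hz hn]; simp)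
      obtain ⟨y, hy, -, -, hreg⟩ := hz
      refine ⟨(z, y), Finset.mem_product.mpr ⟨Finset.mem_filter.mpr ⟨Finset.mem_univ _, hzP⟩,
        Finset.mem_filter.mpr ⟨Finset.mem_univ _, hreg⟩⟩, fun h0 => hg ?_, hy⟩
      have h2 := hval χ hχ z hzP y hreg
      rw [hy] at h2
      have h3 : θ1 * conj θ1 * ((χ : G → ℂ) g * conj ((χ : G → ℂ) g)) = 0 := by
        rw [← h0, show θ1 * conj θ1 * ((χ : G → ℂ) g * conj ((χ : G → ℂ) g)) =
          (θ1 * (χ : G → ℂ) g) * conj (θ1 * (χ : G → ℂ) g) by rw [map_mul]; ring, h2, map_mul]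
        ring
      rcases mul_eq_zero.mp h3 with h4 | h4
      · exact absurd h4 (mul_ne_zero hθ0 (by simpa using hθ0))
      · rw [h4, mul_zero]
    · simp only [hP', hR, Finset.mem_product, Finset.mem_filter, Finset.mem_univ, true_and] at h
      have h2 := hval χ hχ zy.1 h.1 zy.2 h.2
      have h3 := congrArg conj h2
      rw [map_mul, map_mul] at h3
      linear_combination -(conj θ1 * conj ((χ : G → ℂ) (zy.1 * zy.2))) * h2 -
        (χ : G → ℂ) zy.1 * (θ : G → ℂ) zy.2 * h3
  have hθP : ∀ x ∈ P, (θ : G → ℂ) x = θ1 := hθt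
  have hRsum : ∑ y ∈ R, (θ : G → ℂ) y * conj ((θ : G → ℂ) y) = (Nat.card G : ℂ) / Nat.card P := by
    have h := hrow θ hθB
    rw [Finset.sum_congr rfl (g := fun _ => θ1 * conj θ1) (fun x hx => by
      rw [hθP x (Finset.mem_filter.mp hx).2]), Finset.sum_const, nsmul_eq_mul, hP',
      ← Fintype.card_subtype, ← Nat.card_eq_fintype_card] at h
    rw [eq_div_iff hPcard]
    refine mul_left_cancel₀ (mul_ne_zero hθ0 (by simpa using hθ0 : conj θ1 ≠ 0)) ?_
    linear_combination -h
  have hPsum : ∀ χ ∈ B, ∑ x ∈ P', (χ : G → ℂ) x * conj ((χ : G → ℂ) x) =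
      θ1 * conj θ1 * Nat.card P := by
    intro χ hχ
    have h := hrow χ hχ
    rw [hRsum, mul_div_assoc', eq_div_iff hPcard] at h
    refine mul_right_cancel₀ (CT.card_ne_zero (G := G)) ?_
    linear_combination -h
  refine ⟨?_, hPsum⟩
  -- column sums on `P`
  have hcol : ∀ x ∈ P, ∑ χ ∈ T, (χ : G → ℂ) x * conj ((χ : G → ℂ) x) =
      (Nat.card (Subgroup.centralizer ({x} : Set G)) : ℂ) * blockCoeff B 1 := by
    intro x hx
    have h := sum_ev_mul_conj (idemC B * single x (1 : ℂ)) x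
    simp only [ev_idemC_mul, ev_single, one_mul] at h
    rw [← Finset.sum_subset (Finset.subset_univ T) (fun η _ hη => by
      rw [if_neg (fun hB' => hη ((hmT η).mpr hB')), zero_mul]),
      Finset.sum_congr rfl (fun η hη => by rw [if_pos ((hmT η).mp hη)])] at h
    rw [h, ev_mul_single, one_mul, ev_eq_sum, Finset.sum_eq_single (1 : G)]
    · rw [one_mul, classInd_self, mul_one, idemC, coeff_ofFun]
    · intro u _ hu
      by_cases hc : IsConj x (u * x)
      swap
      · rw [classInd_neg hc, mul_zero]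
      have huP : u ∈ P := by
        obtain ⟨g, hg⟩ := isConj_iff.mp hc
        have h1 : g * x * g⁻¹ ∈ P := hPn.conj_mem x hx g
        rw [hg] at h1
        exact (P.mul_mem_cancel_right hx).mp h1
      obtain ⟨k, hk⟩ := exists_pow_eq_one_of_isPGroup hP huP
      rw [idemC, coeff_ofFun, blockCoeff_block_eq_zero hM hB ?_, zero_mul]
      obtain ⟨j, -, hj⟩ := (Nat.dvd_prime_pow hM.1).mp (orderOf_dvd_of_pow_eq_one hk)
      rw [hj]
      exact dvd_pow_self p fun e => hu (orderOf_eq_one_iff.mp (by rw [hj, e, pow_zero]))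
    · simp
  have hcolP : ∀ x ∈ P, x ≠ 1 → ∑ χ ∈ T, (χ : G → ℂ) 1 * conj ((χ : G → ℂ) x) = 0 := by
    intro x hx hx1
    obtain ⟨k, hk⟩ := exists_pow_eq_one_of_isPGroup hP hx
    obtain ⟨j, -, hj⟩ := (Nat.dvd_prime_pow hM.1).mp (orderOf_dvd_of_pow_eq_one hk)
    have h := weak_orthogonality hM hA (g := (1 : G)) (by rw [orderOf_one]; exact hM.1.not_dvd_one)
      (h := x) (by rw [hj]; exact dvd_pow_self p fun e => hx1 (orderOf_eq_one_iff.mp (by rw [hj, e, pow_zero])))
    rwa [finsum_mem_eq_toFinset_sum] at h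
  have hS1 : ∑ χ ∈ T, (χ : G → ℂ) 1 * conj ((χ : G → ℂ) 1) = θ1 * conj θ1 * Nat.card P := by
    have h1 : ∑ χ ∈ T, (χ : G → ℂ) 1 * ∑ x ∈ P', conj ((χ : G → ℂ) x) =
        ∑ χ ∈ T, (χ : G → ℂ) 1 * conj ((χ : G → ℂ) 1) := by
      simp only [Finset.mul_sum]
      rw [Finset.sum_comm, Finset.sum_eq_single (1 : G)]
      · intro x hx hx1
        exact hcolP x (Finset.mem_filter.mp hx).2 hx1
      · exact fun h => absurd (Finset.mem_filter.mpr ⟨Finset.mem_univ _, P.one_mem⟩) h
    rw [← h1, Finset.sum_eq_single θ]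
    · rw [Finset.sum_congr rfl (g := fun _ => conj θ1) (fun x hx => by
        rw [hθP x (Finset.mem_filter.mp hx).2]), Finset.sum_const, nsmul_eq_mul, hP',
        ← Fintype.card_subtype, ← Nat.card_eq_fintype_card, ← hθ1]
      ring
    · intro η hη hne
      have hmult : classInner (fun n : P => (η : G → ℂ) n) (CT.trivIrr P : P → ℂ) = 0 := by
        by_contra h0
        refine hne (huniq η ((hmT η).mp hη) (forall_eq_of_hasConstituent_triv η
          ⟨CT.trivIrr P, rfl, (mult_ne_zero_iff η _).mpr h0⟩))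
      rw [classInner, mul_eq_zero] at hmult
      have h2 := hmult.resolve_left (inv_ne_zero hPcard)
      have h3 : ∑ x ∈ P', (η : G → ℂ) x = 0 := by
        rw [← h2, hP']
        simp only [CT.trivIrr_apply, map_one, mul_one]
        exact Finset.sum_subtype _ (fun x => by simp) _
      rw [← map_sum, h3, map_zero, mul_zero]
    · exact fun h => absurd ((hmT θ).mpr hθB) h
  have hcol1 := hcol 1 P.one_mem
  rw [hS1, show Subgroup.centralizer ({(1 : G)} : Set G) = ⊤ from eq_top_iff.mpr fun x _ =>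
    Subgroup.mem_centralizer_singleton_iff.mpr (by simp), Subgroup.card_top] at hcol1
  -- count
  have htot : ∑ x ∈ P', ∑ χ ∈ T, (χ : G → ℂ) x * conj ((χ : G → ℂ) x) =
      (T.card : ℂ) * (θ1 * conj θ1 * Nat.card P) := by
    rw [Finset.sum_comm, Finset.sum_congr rfl fun χ hχ => hPsum χ ((hmT χ).mp hχ),
      Finset.sum_const, nsmul_eq_mul]
  rw [Finset.sum_congr rfl fun x hx => hcol x (Finset.mem_filter.mp hx).2, ← Finset.sum_mul] at htot
  have hclass : ∑ x ∈ P', (Nat.card (Subgroup.centralizer ({x} : Set G)) : ℂ) * Nat.card P =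
      (Nat.card (ConjClasses P) : ℂ) * Nat.card P * Nat.card G := by
    have hcen : ∀ x : P, Nat.card (Subgroup.centralizer ({(x : G)} : Set G)) * Nat.card P =
        Nat.card G * Nat.card {y : P // Commute x y} := by
      intro x
      have e1 : Nat.card {z : G // IsConj (x : G) z} = Nat.card {z : P // IsConj x z} := by
        refine Nat.card_congr
          { toFun := fun z => ⟨⟨z.1, ?_⟩, ?_⟩
            invFun := fun z => ⟨(z.1 : G), P.subtype.map_isConj z.2⟩
            left_inv := fun z => rfl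
            right_inv := fun z => rfl }
        · obtain ⟨g, hg⟩ := isConj_iff.mp z.2
          rw [← hg]; exact hPn.conj_mem _ x.2 g
        · obtain ⟨g, hg⟩ := isConj_iff.mp z.2
          obtain ⟨a, ha, c, hc, rfl⟩ := exists_mul_of_sup_eq_top hG g
          refine isConj_iff.mpr ⟨⟨a, ha⟩, Subtype.ext ?_⟩
          show a * (x : G) * a⁻¹ = z.1
          rw [← hg]
          calc a * (x : G) * a⁻¹ = a * (c * x * c⁻¹) * a⁻¹ := by
                rw [← hconjC x x.2 c hc, mul_inv_cancel_right]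
            _ = a * c * x * (a * c)⁻¹ := by group
      have e2 := CT.card_conj_class_mul_centralizer (x : G)
      have e3 := CT.card_conj_class_mul_centralizer x
      have e4 : Nat.card (Subgroup.centralizer ({x} : Set P)) = Nat.card {y : P // Commute x y} :=
        Nat.card_congr (Equiv.subtypeEquivRight fun y =>
          Subgroup.mem_centralizer_singleton_iff.trans ⟨fun h => h.symm, fun h => h.symm⟩)
      rw [← e2, ← e3, e1, e4]
      ring
    have e5 : ∑ x : P, Nat.card {y : P // Commute x y} = Nat.card (ConjClasses P) * Nat.card P := by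
      rw [← card_comm_eq_card_conjClasses_mul_card, ← Nat.card_sigma]
      exact Nat.card_congr (Equiv.subtypeProdEquivSigmaSubtype fun a b : P => Commute a b).symm
    rw [hP', Finset.sum_subtype (Finset.univ.filter fun x : G => x ∈ P) (p := fun x => x ∈ P)
      (fun x => by simp) (fun x => (Nat.card (Subgroup.centralizer ({x} : Set G)) : ℂ) * Nat.card P)]
    exact_mod_cast (by simp only [hcen, ← Finset.mul_sum, e5]; ring :
      ∑ x : P, Nat.card (Subgroup.centralizer ({(x : G)} : Set G)) * Nat.card P =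
        Nat.card (ConjClasses P) * Nat.card P * Nat.card G)
  rw [← Finset.sum_mul] at hclass
  have hne : θ1 * conj θ1 * (Nat.card P : ℂ) ≠ 0 :=
    mul_ne_zero (mul_ne_zero hθ0 (by simpa using hθ0)) hPcard
  have hb1 : blockCoeff B 1 = θ1 * conj θ1 * Nat.card P / Nat.card G := by
    rw [hcol1, mul_div_cancel_left₀ _ CT.card_ne_zero]
  rw [hb1] at htot
  have hfin : (T.card : ℂ) = (Nat.card (ConjClasses P) : ℂ) := by
    set Ssum := ∑ x ∈ P', (Nat.card (Subgroup.centralizer ({x} : Set G)) : ℂ)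
    have hS : Ssum = (Nat.card (ConjClasses P) : ℂ) * Nat.card G :=
      mul_right_cancel₀ hPcard (by rw [hclass]; ring)
    rw [hS] at htot
    refine mul_right_cancel₀ hne ?_
    rw [← htot]
    field_simp [CT.card_ne_zero (G := G)]
  rw [Nat.card_eq_fintype_card, ← Set.toFinset_card]
  exact_mod_cast hfin

/-- The structure of a block with defect group `P` when `G = P * C(P)`. -/
theorem central_product_block (hM : IsPModular p M) (hP : IsPGroup p P)
    (hG : P ⊔ Subgroup.centralizer (P : Set G) = ⊤) {B : Set (IrrCharacter G)}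
    (hB : IsPBlock M B) (hD : IsDefectGroup p M B P) :
    (∃! θ : IrrCharacter G, θ ∈ B ∧ ∀ x ∈ P, (θ : G → ℂ) x = (θ : G → ℂ) 1) ∧
      (∀ θ ∈ B, (∀ x ∈ P, (θ : G → ℂ) x = (θ : G → ℂ) 1) →
        (charDegree (θ : G → ℂ)).factorization p = P.index.factorization p) ∧
      Nat.card B = Nat.card (ConjClasses P) :=
  haveI := Fintype.ofFinite G
  (central_product_block_norm hM hP hG hB hD).1

end Cfsg.Agent.Blocks
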