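import Cfsg.Agent.Lib.Blocks.CentralProduct

/-!
# Character values in a block with defect group `P`, where `G = P C(P)`
-/

set_option autoImplicit false
set_option linter.all false

namespace Cfsg.Agent.Blocks

open Cfsg MonoidAlgebra
open scoped ComplexConjugate

universe u

variable {G : Type u} [Group G] [Finite G] {p : ℕ} {M : Ideal AlgInt} [M.IsPrime] {P : Subgroup G}

/-- Values of the members on the `p`-sections of elements of `P`, and vanishing elsewhere. -/
theorem central_product_values [Fintype G] (hM : IsPModular p M) (hP : IsPGroup p P)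
    (hG : P ⊔ Subgroup.centralizer (P : Set G) = ⊤) {B : Set (IrrCharacter G)}
    (hB : IsPBlock M B) (hD : IsDefectGroup p M B P) {θ₀ : IrrCharacter G} (hθ₀ : θ₀ ∈ B)
    (hθ₀P : ∀ x ∈ P, (θ₀ : G → ℂ) x = (θ₀ : G → ℂ) 1) :
    (∀ χ ∈ B, ∀ x ∈ P, ∀ y : G, ¬ p ∣ orderOf y →
      (θ₀ : G → ℂ) 1 * (χ : G → ℂ) (x * y) = (χ : G → ℂ) x * (θ₀ : G → ℂ) y) ∧
    (∀ χ ∈ B, ∀ g z : G, IsPPart p g z → z ∉ P → (χ : G → ℂ) g = 0) := by
  classical
  haveI : Fact p.Prime := ⟨hM.1⟩
  haveI hPn := normal_of_sup_eq_top hG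
  haveI := Fintype.ofFinite P
  haveI := Fintype.ofFinite (G ⧸ P)
  have hC := centralizer_index_pow hG hP
  set C := Subgroup.centralizer (P : Set G) with hCdef
  have hA := blockCoeff_mem_loc hB
  -- degree of members trivial on `P`
  have hdeg : ∀ θ ∈ B, (∀ x ∈ P, (θ : G → ℂ) x = (θ : G → ℂ) 1) →
      (charDegree (θ : G → ℂ)).factorization p = P.index.factorization p := by
    intro θ hθ htriv
    obtain ⟨f, hf, hfe⟩ := CT.exists_quotient_irr θ.2 P htriv
    have hd1 : charDegree f = charDegree (θ : G → ℂ) := by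
      simp only [charDegree]; rw [← hfe 1, QuotientGroup.mk_one]
    have hup : (charDegree (θ : G → ℂ)).factorization p ≤ P.index.factorization p := by
      rw [← hd1, Subgroup.index_eq_card]
      exact (Nat.factorization_le_iff_dvd (charDegree_pos ⟨f, hf⟩).ne' Nat.card_pos.ne').mpr
        (charDegree_dvd_card ⟨f, hf⟩) p
    obtain ⟨g, hg, -, -, hcard⟩ := defectGroup_spec hD
    have hlow := le_factorization_of_defectClass hM hg hθ
    obtain ⟨n, hn⟩ := IsPGroup.iff_card.mp hP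
    have hv : (Nat.card (Subgroup.centralizer ({g} : Set G))).factorization p = n :=
      (Nat.pow_right_injective hM.1.two_le (hcard.symm.trans hn))
    rw [hv] at hlow
    have hsum : n + P.index.factorization p = (Nat.card G).factorization p := by
      rw [← P.card_mul_index, Nat.factorization_mul Nat.card_pos.ne'
        Subgroup.index_ne_zero_of_finite, Finsupp.add_apply, hn, hM.1.factorization_pow,
        Finsupp.single_eq_same]
    omega
  -- uniqueness
  have hsing : ∀ χ : IrrCharacter (G ⧸ P), inflIrr χ ∈ B → blockOf M (χ : G ⧸ P → ℂ) = {χ} := by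
    intro χ hχ
    have h := hdeg _ hχ fun x hx => by simp [(QuotientGroup.eq_one_iff x).mpr hx]
    refine (Cfsg.Agent.S0914.result p M hM χ).mp fun hd => ?_
    have hd1 : charDegree (inflIrr χ : G → ℂ) = charDegree (χ : G ⧸ P → ℂ) := by
      simp only [charDegree, inflIrr_apply, QuotientGroup.mk_one]
    rw [hd1, Subgroup.index_eq_card] at h
    have hq0 : Nat.card (G ⧸ P) / charDegree (χ : G ⧸ P → ℂ) ≠ 0 :=
      (Nat.div_pos (Nat.le_of_dvd Nat.card_pos (charDegree_dvd_card χ)) (charDegree_pos χ)).ne'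
    have h2 := congrArg (fun f => f p) (Nat.factorization_div (charDegree_dvd_card χ))
    simp only [Finsupp.coe_tsub, Pi.sub_apply] at h2
    have h3 := hM.1.factorization_pos_of_dvd hq0 hd
    omega
  obtain ⟨θ', hθB⟩ := exists_trivial_on_pGroup hM hP hB
  set θ := inflIrr θ' with hθdef
  have hθt : ∀ x ∈ P, (θ : G → ℂ) x = (θ : G → ℂ) 1 := fun x hx => by
    simp [hθdef, (QuotientGroup.eq_one_iff x).mpr hx]
  have huniq : ∀ η ∈ B, (∀ x ∈ P, (η : G → ℂ) x = (η : G → ℂ) 1) → η = θ := by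
    intro η hη htriv
    obtain ⟨f, hf, hfe⟩ := CT.exists_quotient_irr η.2 P htriv
    have he : inflIrr ⟨f, hf⟩ = η := Subtype.ext (funext fun g => hfe g)
    have hsame : SameBlock M (inflIrr θ' : G → ℂ) (inflIrr ⟨f, hf⟩ : G → ℂ) :=
      (mem_block_iff hB hθB).mp (he ▸ hη)
    have h2 : (⟨f, hf⟩ : IrrCharacter (G ⧸ P)) ∈ blockOf M (θ' : G ⧸ P → ℂ) :=
      sameBlock_of_inflIrr_of_pGroup hM hP hC hsame
    rw [hsing θ' hθB, Set.mem_singleton_iff] at h2
    rw [← he, h2]
  -- conjugation facts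
  have hconjC : ∀ a ∈ P, ∀ y ∈ C, a * y = y * a := fun a ha y hy =>
    Subgroup.mem_centralizer_iff.mp hy a ha
  have hregC : ∀ y : G, ¬ p ∣ orderOf y → y ∈ C := fun y hy => by
    haveI := Fintype.ofFinite C
    exact mem_of_pow_index hC hy
  have huniqlift : ∀ y y' : G, ¬ p ∣ orderOf y → ¬ p ∣ orderOf y' →
      (y : G ⧸ P) = (y' : G ⧸ P) → y = y' := by
    intro y y' hy hy' hyy
    have hu : y⁻¹ * y' ∈ P := QuotientGroup.eq.mp hyy
    obtain ⟨k, hk⟩ := exists_pow_eq_one_of_isPGroup hP hu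
    have hcom : Commute (y⁻¹ * y') y := hconjC _ hu y (hregC y hy)
    have h1 := isPPart_mk (p := p) hcom ⟨k, hk⟩ hy
    rw [hcom.eq, mul_inv_cancel_left] at h1
    exact inv_mul_eq_one.mp (ppart_unique h1 (isPPart_one hy'))
  -- values on sections
  have hval : ∀ χ ∈ B, ∀ x ∈ P, ∀ y : G, ¬ p ∣ orderOf y →
      (θ : G → ℂ) 1 * (χ : G → ℂ) (x * y) = (χ : G → ℂ) x * (θ : G → ℂ) y := by
    intro χ hχ x hx
    let φ : G ⧸ P → ℂ := fun q =>
      if h : ∃ y : G, ¬ p ∣ orderOf y ∧ (y : G ⧸ P) = q then (χ : G → ℂ) (x * h.choose) else 0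
    have hφy : ∀ y : G, ¬ p ∣ orderOf y → φ y = (χ : G → ℂ) (x * y) := by
      intro y hy
      have h : ∃ y' : G, ¬ p ∣ orderOf y' ∧ (y' : G ⧸ P) = (y : G ⧸ P) := ⟨y, hy, rfl⟩
      simp only [φ, dif_pos h]
      rw [huniqlift _ y h.choose_spec.1 hy h.choose_spec.2]
    have hφ0 : ∀ q : G ⧸ P, (¬ ∃ y : G, ¬ p ∣ orderOf y ∧ (y : G ⧸ P) = q) → φ q = 0 :=
      fun q hq => by simp only [φ, dif_neg hq]
    have hφcl : IsClassFunction (G ⧸ P) φ := by
      refine CT.isClassFunction_iff.mpr fun q q' hqq => ?_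
      by_cases h : ∃ y : G, ¬ p ∣ orderOf y ∧ (y : G ⧸ P) = q
      · obtain ⟨y, hy, rfl⟩ := h
        obtain ⟨g', hg'⟩ := isConj_iff.mp hqq
        obtain ⟨g, rfl⟩ := QuotientGroup.mk_surjective g'
        rw [← hg', ← QuotientGroup.mk_inv, ← QuotientGroup.mk_mul, ← QuotientGroup.mk_mul]
        have hy' : ¬ p ∣ orderOf (g * y * g⁻¹) := by
          rw [show g * y * g⁻¹ = MulAut.conj g y from rfl, MulEquiv.orderOf_eq]; exact hy
        rw [hφy y hy, hφy _ hy']
        obtain ⟨a, ha, c, hc, rfl⟩ := exists_mul_of_sup_eq_top hG g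
        have hcy : c * y * c⁻¹ ∈ C := C.mul_mem (C.mul_mem hc (hregC y hy)) (C.inv_mem hc)
        have e : a * c * y * (a * c)⁻¹ = c * y * c⁻¹ := by
          calc a * c * y * (a * c)⁻¹ = a * (c * y * c⁻¹) * a⁻¹ := by group
            _ = c * y * c⁻¹ := by rw [hconjC a ha _ hcy, mul_inv_cancel_right]
        rw [e, show x * (c * y * c⁻¹) = c * (x * y) * c⁻¹ by
          rw [← mul_assoc, ← mul_assoc, hconjC x hx c hc, mul_assoc c x y]]
        exact CT.isClassFunction_isConj (CT.isClassFunction_of_isIrr χ.2) (isConj_iff.mpr ⟨c, rfl⟩)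
      · have h' : ¬ ∃ y : G, ¬ p ∣ orderOf y ∧ (y : G ⧸ P) = q' := fun ⟨y, hy, hyq⟩ => h (by
          obtain ⟨g', hg'⟩ := isConj_iff.mp hqq.symm
          obtain ⟨g, rfl⟩ := QuotientGroup.mk_surjective g'
          refine ⟨g * y * g⁻¹, ?_, ?_⟩
          · rw [show g * y * g⁻¹ = MulAut.conj g y from rfl, MulEquiv.orderOf_eq]; exact hy
          · rw [QuotientGroup.mk_mul, QuotientGroup.mk_mul, QuotientGroup.mk_inv, hyq, hg'])
        rw [hφ0 q h, hφ0 q' h']
    -- inner products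
    have hsumQ : ∀ F : G ⧸ P → ℂ, (∀ q, (¬ ∃ y : G, ¬ p ∣ orderOf y ∧ (y : G ⧸ P) = q) → F q = 0) →
        ∑ q, F q = ∑ y ∈ Finset.univ.filter (fun y : G => ¬ p ∣ orderOf y), F (y : G ⧸ P) := by
      intro F hF
      symm
      refine Finset.sum_bij_ne_zero (fun y _ _ => (y : G ⧸ P)) (fun _ _ _ => Finset.mem_univ _)
        (fun y h₁ _ y' h₁' _ e => huniqlift y y' (Finset.mem_filter.mp h₁).2
          (Finset.mem_filter.mp h₁').2 e) (fun q _ hq => ?_) (fun _ _ _ => rfl)
      obtain ⟨y, hy, rfl⟩ : ∃ y : G, ¬ p ∣ orderOf y ∧ (y : G ⧸ P) = q :=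
        by_contra fun hn => hq (hF q hn)
      exact ⟨y, Finset.mem_filter.mpr ⟨Finset.mem_univ _, hy⟩, hq, rfl⟩
    have hortho : ∀ ψ : IrrCharacter (G ⧸ P), ψ ≠ θ' → classInner φ (ψ : G ⧸ P → ℂ) = 0 := by
      intro ψ hψ
      have hnot : ¬ SameBlock M (χ : G → ℂ) (inflIrr ψ : G → ℂ) := by
        intro hsame
        have hmem : inflIrr ψ ∈ B := (mem_block_iff hB hχ).mpr hsame
        refine hψ ?_
        have := huniq _ hmem fun x hx => by simp [(QuotientGroup.eq_one_iff x).mpr hx]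
        refine Subtype.ext (funext fun q => ?_)
        obtain ⟨g, rfl⟩ := QuotientGroup.mk_surjective q
        exact congrFun (congrArg Subtype.val this) g
      have h0 := sectionSum_eq_zero hM hnot x
      have hterm : ∀ a ∈ P, ∀ y : G, ¬ p ∣ orderOf y →
          (χ : G → ℂ) (a * x * a⁻¹ * y) * conj ((inflIrr ψ : G → ℂ) (a * x * a⁻¹ * y)) =
          φ (y : G ⧸ P) * conj ((ψ : G ⧸ P → ℂ) (y : G ⧸ P)) := by
        intro a ha y hy
        have e : a * x * a⁻¹ * y = a * (x * y) * a⁻¹ := by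
          rw [mul_assoc (a * x), hconjC _ (P.inv_mem ha) y (hregC y hy)]; group
        rw [hφy y hy]
        congr 1
        · rw [e]
          exact (CT.isClassFunction_isConj (CT.isClassFunction_of_isIrr χ.2)
            (isConj_iff.mpr ⟨a, rfl⟩)).symm
        · rw [inflIrr_apply, QuotientGroup.mk_mul,
            (QuotientGroup.eq_one_iff _).mpr (P.mul_mem (P.mul_mem ha hx) (P.inv_mem ha)), one_mul]
      have hxclass : ∀ z, IsConj x z → ∃ a ∈ P, z = a * x * a⁻¹ := by
        intro z hz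
        obtain ⟨g, rfl⟩ := isConj_iff.mp hz
        obtain ⟨a, ha, c, hc, rfl⟩ := exists_mul_of_sup_eq_top hG g
        refine ⟨a, ha, ?_⟩
        calc a * c * x * (a * c)⁻¹ = a * (c * x * c⁻¹) * a⁻¹ := by group
          _ = a * x * a⁻¹ := by rw [← hconjC x hx c hc, mul_inv_cancel_right]
      set X := Finset.univ.filter (fun z : G => IsConj x z)
      set R := Finset.univ.filter (fun y : G => ¬ p ∣ orderOf y)
      set S' : ℂ := ∑ y ∈ R, φ (y : G ⧸ P) * conj ((ψ : G ⧸ P → ℂ) (y : G ⧸ P)) with hS'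
      have hzP : ∀ z, IsConj x z → z ∈ P := fun z hz => by
        obtain ⟨g, rfl⟩ := isConj_iff.mp hz
        exact hPn.conj_mem x hx g
      have hppt : ∀ z y : G, IsConj x z → ¬ p ∣ orderOf y → IsPPart p (z * y) z := fun z y hz hy => by
        obtain ⟨k, hk⟩ := exists_pow_eq_one_of_isPGroup hP (hzP z hz)
        exact isPPart_mk (hconjC z (hzP z hz) y (hregC y hy)) ⟨k, hk⟩ hy
      have h1 : ∑ u ∈ Finset.univ.filter (fun u : G => ∃ z, IsPPart p u z ∧ IsConj x z),
          (χ : G → ℂ) u * conj ((inflIrr ψ : G → ℂ) u) = (X.card : ℂ) * S' := by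
        rw [← nsmul_eq_mul, ← Finset.sum_const, hS', ← Finset.sum_product']
        symm
        refine Finset.sum_bij (fun zy _ => zy.1 * zy.2) (fun zy h => ?_) (fun zy h zy' h' e => ?_)
          (fun u hu => ?_) (fun zy h => ?_)
        · simp only [X, R, Finset.mem_product, Finset.mem_filter, Finset.mem_univ, true_and] at h ⊢
          exact ⟨zy.1, hppt _ _ h.1 h.2, h.1⟩
        · simp only [X, R, Finset.mem_product, Finset.mem_filter, Finset.mem_univ, true_and] at h h'
          have e1 : zy.1 = zy'.1 := ppart_unique (e ▸ hppt _ _ h.1 h.2) (hppt _ _ h'.1 h'.2)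
          refine Prod.ext e1 ?_
          rw [e1] at e; exact mul_left_cancel e
        · simp only [Finset.mem_filter, Finset.mem_univ, true_and] at hu
          obtain ⟨z, ⟨y, hy, -, -, hreg⟩, hz⟩ := hu
          exact ⟨(z, y), Finset.mem_product.mpr ⟨Finset.mem_filter.mpr ⟨Finset.mem_univ _, hz⟩,
            Finset.mem_filter.mpr ⟨Finset.mem_univ _, hreg⟩⟩, hy⟩
        · simp only [X, R, Finset.mem_product, Finset.mem_filter, Finset.mem_univ, true_and] at h
          obtain ⟨a, ha, hza⟩ := hxclass _ h.1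
          rw [hza]
          exact (hterm a ha _ h.2).symm
      rw [h1] at h0
      have hX : (X.card : ℂ) ≠ 0 :=
        Nat.cast_ne_zero.mpr (Finset.card_ne_zero.mpr
          ⟨x, Finset.mem_filter.mpr ⟨Finset.mem_univ _, IsConj.refl x⟩⟩)
      rw [classInner, hsumQ _ (fun q hq => by rw [hφ0 q hq, zero_mul]), ← hS',
        (mul_eq_zero.mp h0).resolve_left hX, mul_zero]
    have hexp := CT.classFunction_eq_sum hφcl
    intro y hy
    have hv : ∀ q, φ q = classInner φ (θ' : G ⧸ P → ℂ) * (θ' : G ⧸ P → ℂ) q := fun q => by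
      have h2 := congrFun hexp q
      simp only [Finset.sum_apply, Pi.smul_apply, smul_eq_mul] at h2
      rw [Finset.sum_eq_single θ' (fun ψ _ hne => by simp [hortho ψ hne]) (by simp)] at h2
      exact h2
    have e1 := hv ((1 : G) : G ⧸ P)
    have e2 := hv (y : G ⧸ P)
    rw [hφy 1 (by rw [orderOf_one]; exact hM.1.not_dvd_one), mul_one] at e1
    rw [hφy y hy] at e2
    rw [e1, e2, hθdef, inflIrr_apply, inflIrr_apply]
    ring
  -- vanishing
  have hvan : ∀ χ ∈ B, ∀ g z : G, IsPPart p g z → z ∉ P → (χ : G → ℂ) g = 0 := by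
    intro χ hχ g z hgz hz
    refine char_eq_zero_of_not_mem_defect hM hgz fun D hD' => ?_
    rw [← block_eq_blockOf hB hχ] at hD'
    obtain ⟨w, hw⟩ := defect_conj hM hB hD hD'
    intro hzD
    rw [← hw] at hzD
    obtain ⟨q, hq, rfl⟩ := hzD
    exact hz (hPn.conj_mem q hq w)
  exact ⟨by rw [huniq θ₀ hθ₀ hθ₀P]; exact hval, hvan⟩

end Cfsg.Agent.Blocks
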