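import Cfsg.Agent.Lib.Blocks.RankUnion

/-!
# The section count for the characters above a block along an embedding
-/

set_option linter.unusedSectionVars false

namespace Cfsg.Agent.Blocks.ChainCount

open scoped ComplexConjugate Classical

universe u

variable {G : Type u} [Group G] [Fintype G] {p : ℕ} [hp : Fact p.Prime] {M : Ideal AlgInt}
  [M.IsPrime]

/-- The induced central character along a homomorphism. -/
noncomputable def indC {H : Type u} [Group H] (f : H →* G) (η : H → ℂ) (g : G) : ℂ :=
  ∑ᶠ h ∈ {h : H | IsConj g (f h)}, η h / η 1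

/-- The characters whose blocks induce `b` along a homomorphism. -/
def Over (M : Ideal AlgInt) (b : Set (IrrCharacter G)) {H : Type u} [Group H] (f : H →* G) :
    Set (IrrCharacter H) :=
  {η | ∀ χ ∈ b, ∀ g : G, MemLocalIdeal M (indC f (η : H → ℂ) g - centralChar (χ : G → ℂ) g)}

theorem indC_eq_sum {H : Type u} [Group H] [Fintype H] (f : H →* G) (η : H → ℂ) (g : G) :
    indC f η g = ∑ h ∈ Finset.univ.filter (fun h : H => IsConj g (f h)), η h / η 1 := by
  rw [indC, finsum_mem_eq_toFinset_sum]
  exact Finset.sum_congr (by ext; simp) fun _ _ => rfl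

/-- The induced central character of a character is a sum of central characters over classes. -/
theorem indC_eq_classes {H : Type u} [Group H] [Fintype H] (f : H →* G) {η : H → ℂ}
    (hη : IsClassFunction H η) (g : G) :
    indC f η g = ∑ K ∈ Finset.univ.filter (fun K : ConjClasses H => IsConj g (f (rep K))),
      centralChar η (rep K) := by
  rw [indC_eq_sum, ← Finset.sum_fiberwise_of_maps_to (g := ConjClasses.mk)
    (t := Finset.univ.filter (fun K : ConjClasses H => IsConj g (f (rep K))))]
  · refine Finset.sum_congr rfl fun K hK => ?_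
    have hgK := (Finset.mem_filter.mp hK).2
    have hmem : ∀ h : H, h ∈ (Finset.univ.filter (fun h : H => IsConj g (f h))).filter
        (fun h => ConjClasses.mk h = K) ↔ IsConj (rep K) h := by
      intro h
      rw [Finset.mem_filter, Finset.mem_filter]
      constructor
      · rintro ⟨-, h2⟩
        exact ConjClasses.mk_eq_mk_iff_isConj.mp ((mk_rep K).trans h2.symm)
      · intro h2
        exact ⟨⟨Finset.mem_univ _, hgK.trans (f.map_isConj h2)⟩,
          (ConjClasses.mk_eq_mk_iff_isConj.mpr h2.symm).trans (mk_rep K)⟩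
    rw [Finset.sum_congr rfl fun h hh => by
      rw [CT.isClassFunction_isConj hη ((hmem h).mp hh).symm], Finset.sum_const, nsmul_eq_mul,
      centralChar, mul_div_assoc]
    congr 2
    have h1 := CT.card_conj_class_mul_centralizer (rep K)
    rw [← (Subgroup.centralizer ({rep K} : Set H)).index_mul_card] at h1
    rw [← Nat.eq_of_mul_eq_mul_right Nat.card_pos h1, Nat.card_eq_fintype_card, Fintype.card_subtype]
    congr 1
    ext h
    rw [hmem]; simp
  · intro h hh
    refine Finset.mem_filter.mpr ⟨Finset.mem_univ _, (Finset.mem_filter.mp hh).2.trans (f.map_isConj ?_)⟩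
    exact ConjClasses.mk_eq_mk_iff_isConj.mp (mk_rep (ConjClasses.mk h)).symm

variable {b : Set (IrrCharacter G)}

/-- Transitivity of induction. -/
theorem trans_induced {N : Type u} [Group N] [Fintype N] (f : N →* G) {C : Subgroup N} [Fintype C]
    {η : IrrCharacter C} {ψ : IrrCharacter N}
    (h : IsInducedBlock M C (blockOf M (η : C → ℂ)) (blockOf M (ψ : N → ℂ))) :
    η ∈ Over M b (f.comp C.subtype) ↔ ψ ∈ Over M b f := by
  have key : ∀ g : G, MemLocalIdeal M
      (indC (f.comp C.subtype) (η : C → ℂ) g - indC f (ψ : N → ℂ) g) := by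
    intro g
    have e : indC (f.comp C.subtype) (η : C → ℂ) g =
        ∑ K ∈ Finset.univ.filter (fun K : ConjClasses N => IsConj g (f (rep K))),
          inducedCentralChar C (η : C → ℂ) (rep K) := by
      rw [indC_eq_sum, ← Finset.sum_fiberwise_of_maps_to
        (g := fun c : C => ConjClasses.mk (c : N))
        (t := Finset.univ.filter (fun K : ConjClasses N => IsConj g (f (rep K))))]
      · refine Finset.sum_congr rfl fun K hK => ?_
        rw [inducedCentralChar, finsum_mem_eq_toFinset_sum]
        refine Finset.sum_congr ?_ fun _ _ => rfl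
        ext c
        simp only [Finset.mem_filter, Finset.mem_univ, true_and, Set.mem_toFinset, Set.mem_setOf_eq]
        constructor
        · rintro ⟨-, h2⟩
          exact ConjClasses.mk_eq_mk_iff_isConj.mp ((mk_rep K).trans h2.symm)
        · intro h2
          exact ⟨(Finset.mem_filter.mp hK).2.trans (f.map_isConj h2),
            (ConjClasses.mk_eq_mk_iff_isConj.mpr h2.symm).trans (mk_rep K)⟩
      · intro c hc
        refine Finset.mem_filter.mpr ⟨Finset.mem_univ _, (Finset.mem_filter.mp hc).2.trans ?_⟩
        exact f.map_isConj (ConjClasses.mk_eq_mk_iff_isConj.mp (mk_rep (ConjClasses.mk (c : N))).symm)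
    rw [e, indC_eq_classes f (CT.isClassFunction_of_isIrr ψ.2), ← Finset.sum_sub_distrib]
    exact Finset.sum_induction _ (MemLocalIdeal M) (fun _ _ => memLocalIdeal_add) memLocalIdeal_zero
      fun K _ => h.2.2 η (self_mem_blockOf η) ψ (self_mem_blockOf ψ) (rep K)
  constructor
  · intro hη χ hχ g
    simpa using memLocalIdeal_sub (hη χ hχ g) (key g)
  · intro hψ χ hχ g
    simpa using memLocalIdeal_add (key g) (hψ χ hχ g)

/-- The set above a block is a union of blocks. -/
theorem over_closed {H : Type u} [Group H] [Fintype H] (f : H →* G) {η η' : IrrCharacter H}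
    (hη : η ∈ Over M b f) (h : SameBlock M (η : H → ℂ) (η' : H → ℂ)) : η' ∈ Over M b f := by
  intro χ hχ g
  have key : MemLocalIdeal M (indC f (η : H → ℂ) g - indC f (η' : H → ℂ) g) := by
    rw [indC_eq_classes f (CT.isClassFunction_of_isIrr η.2),
      indC_eq_classes f (CT.isClassFunction_of_isIrr η'.2), ← Finset.sum_sub_distrib]
    exact Finset.sum_induction _ (MemLocalIdeal M) (fun _ _ => memLocalIdeal_add) memLocalIdeal_zero
      fun K _ => h (rep K)
  simpa using memLocalIdeal_sub (hη χ hχ g) key

theorem bfPair_zero_over (hM : IsPModular p M) {H : Type u} [Group H] [Fintype H] (f : H →* G) :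
    ∀ a ∈ Over M b f, ∀ c, c ∉ Over M b f → bfPair p a c = 0 :=
  fun _ ha _ hc => bfPair_eq_zero hM fun h => hc (over_closed f ha h)

variable (M b p)

/-- The group order times the regular rank above `b`. -/
noncomputable def phi {H : Type u} [Group H] [Finite H] (f : H →* G) : ℤ :=
  (Nat.card H : ℤ) * (blockRank p (Over M b f) : ℤ)

variable {M b p}

theorem phi_cast (hM : IsPModular p M) {H : Type u} [Group H] [Fintype H] (f : H →* G) :
    (phi p M b f : ℂ) = (Nat.card H : ℂ) *
      ∑ η : IrrCharacter H, (if η ∈ Over M b f then bfPair p η η else 0) := by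
  rw [sum_bfPair_union (bfPair_zero_over hM f), phi]
  push_cast
  rfl

/-- The quantity depends only on the range. -/
theorem phi_congr (hM : IsPModular p M) {H H' : Type u} [Group H] [Fintype H] [Group H'] [Fintype H']
    {f : H →* G} {f' : H' →* G} (hf : Function.Injective f) (hf' : Function.Injective f')
    (hr : f.range = f'.range) : phi p M b f = phi p M b f' := by
  let e : H ≃* H' :=
    (MonoidHom.ofInjective hf).trans ((MulEquiv.subgroupCongr hr).trans (MonoidHom.ofInjective hf').symm)
  have he : ∀ h, f' (e h) = f h := fun h => by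
    have := congrArg Subtype.val ((MonoidHom.ofInjective hf').apply_symm_apply
      (MulEquiv.subgroupCongr hr (MonoidHom.ofInjective hf h)))
    simpa [e, MonoidHom.ofInjective_apply] using this
  let T : IrrCharacter H' ≃ IrrCharacter H :=
    { toFun := fun η => ⟨_, CT.isIrrCharacter_comp e.toMonoidHom e.surjective η.2⟩
      invFun := fun η => ⟨_, CT.isIrrCharacter_comp e.symm.toMonoidHom e.symm.surjective η.2⟩
      left_inv := fun η => Subtype.ext (funext fun h => by simp)
      right_inv := fun η => Subtype.ext (funext fun h => by simp) }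
  apply Int.cast_injective (α := ℂ)
  rw [phi_cast hM, phi_cast hM, Nat.card_congr e.toEquiv, ← Equiv.sum_comp T]
  congr 1
  refine Finset.sum_congr rfl fun η _ => ?_
  have hmem : T η ∈ Over M b f ↔ η ∈ Over M b f' := by
    have hi : ∀ g, indC f (T η : H → ℂ) g = indC f' (η : H' → ℂ) g := fun g => by
      rw [indC_eq_sum, indC_eq_sum]
      refine Finset.sum_nbij' (fun h => e h) (fun h => e.symm h) (fun h hh => ?_) (fun h hh => ?_)
        (fun h _ => e.symm_apply_apply h) (fun h _ => e.apply_symm_apply h) fun h _ => by simp [T]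
      · exact Finset.mem_filter.mpr ⟨Finset.mem_univ _, by rw [he]; exact (Finset.mem_filter.mp hh).2⟩
      · refine Finset.mem_filter.mpr ⟨Finset.mem_univ _, ?_⟩
        rw [← he, e.apply_symm_apply]; exact (Finset.mem_filter.mp hh).2
    simp only [Over, Set.mem_setOf_eq, hi]
  simp only [hmem]
  congr 1
  rw [bfPair_eq, bfPair_eq, Nat.card_congr e.toEquiv, regPair, regPair]
  congr 1
  refine Fintype.sum_equiv e.toEquiv _ _ fun h => ?_
  simp [T, MulEquiv.orderOf_eq]

/-- The section count. -/
theorem card_mul_over (hM : IsPModular p M) {N : Type u} [Group N] [Fintype N] (f : N →* G) :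
    (Nat.card N : ℤ) * (Nat.card (Over M b f) : ℤ) =
      ∑ x ∈ Finset.univ.filter (fun x : N => ∃ k : ℕ, orderOf x = p ^ k),
        phi p M b (f.comp (Subgroup.centralizer ({x} : Set N)).subtype) := by
  apply Int.cast_injective (α := ℂ)
  push_cast
  rw [Nat.card_eq_fintype_card (α := Over M b f), Fintype.card_subtype, Finset.card_eq_sum_ones,
    Nat.cast_sum, Finset.mul_sum]
  have e1 : ∀ ψ : IrrCharacter N, (Nat.card N : ℂ) * ((1 : ℕ) : ℂ) =
      ∑ x ∈ Finset.univ.filter (fun x : N => ∃ k : ℕ, orderOf x = p ^ k),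
        (Nat.card (Subgroup.centralizer ({x} : Set N)) : ℂ) *
          ∑ η : IrrCharacter (Subgroup.centralizer ({x} : Set N)),
            classInner (secFun p ψ x) (η : Subgroup.centralizer ({x} : Set N) → ℂ) *
              conj (classInner (secFun p ψ x) (η : Subgroup.centralizer ({x} : Set N) → ℂ)) := by
    intro ψ
    have h := CT.irr_inner_self ψ.2
    rw [classInner, inv_mul_eq_iff_eq_mul₀ CT.card_ne_zero] at h
    rw [Nat.cast_one, ← h]
    choose π hπ _ using fun g : N => exists_isPPart (p := p) g
    rw [← Finset.sum_fiberwise_of_maps_to (g := π)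
      (t := Finset.univ.filter (fun x : N => ∃ k : ℕ, orderOf x = p ^ k)) (fun g _ => by
        obtain ⟨y, -, -, hk, -⟩ := hπ g
        exact Finset.mem_filter.mpr ⟨Finset.mem_univ _, hk⟩)]
    refine Finset.sum_congr rfl fun x hx => ?_
    obtain ⟨k, hk⟩ := (Finset.mem_filter.mp hx).2
    rw [show Finset.univ.filter (fun g : N => π g = x) =
        Finset.univ.filter (fun g : N => IsPPart p g x) from Finset.ext fun g => by
          simp only [Finset.mem_filter, Finset.mem_univ, true_and]
          exact ⟨fun h => h ▸ hπ g, fun h => ppart_unique (hπ g) h⟩,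
      sum_section hp.out ⟨k, hk ▸ pow_orderOf_eq_one x⟩, ← CT.classInner_eq_sum (secFun_class ψ),
      classInner, mul_inv_cancel_left₀ CT.card_ne_zero, Finset.sum_filter]
    refine Finset.sum_congr rfl fun v _ => ?_
    simp only [secFun]
    by_cases hv : p ∣ orderOf v <;> simp [hv]
  rw [Finset.sum_congr rfl fun ψ _ => e1 ψ, Finset.sum_comm]
  refine Finset.sum_congr rfl fun x hx => ?_
  obtain ⟨k, hk⟩ := (Finset.mem_filter.mp hx).2
  have hxk : ∃ k : ℕ, x ^ p ^ k = 1 := ⟨k, hk ▸ pow_orderOf_eq_one x⟩
  rw [phi_cast hM, ← Finset.mul_sum, Finset.sum_comm]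
  congr 1
  refine Finset.sum_congr rfl fun η _ => ?_
  have hb := isPBlock_blockOf (M := M) η
  have hc : ∀ ψ : IrrCharacter N, gB p (blockOf M (η : Subgroup.centralizer ({x} : Set N) → ℂ)) ψ η =
      classInner (secFun p ψ x) (η : Subgroup.centralizer ({x} : Set N) → ℂ) := fun ψ => by
    rw [gB_eq hM hb ψ η, if_pos (self_mem_blockOf η)]
    rfl
  obtain ⟨B', hB'⟩ := exists_inducedBlock hM (isPGroup_zpowers (p := p) hxk)
    (Subgroup.zpowers_le.mpr (Subgroup.mem_centralizer_singleton_iff.mpr rfl))
    (centralizer_zpowers_eq x).le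
    (by rw [← centralizer_zpowers_eq x]; exact Subgroup.centralizer_le_normalizer _) hb
  have hiff : ∀ ψ : IrrCharacter N, gB p (blockOf M (η : Subgroup.centralizer ({x} : Set N) → ℂ)) ψ η ≠ 0 →
      (η ∈ Over M b (f.comp (Subgroup.centralizer ({x} : Set N)).subtype) ↔ ψ ∈ Over M b f) := by
    intro ψ hne
    have hψ : ψ ∈ B' := by_contra fun h => hne (gB_eq_zero hM hxk hB' h η)
    exact trans_induced f (block_eq_blockOf hB'.2.1 hψ ▸ hB')
  have hs := sum_gB hM hxk hb η η
  rw [if_pos (self_mem_blockOf η)] at hs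
  split_ifs with hη
  · rw [← hs, Finset.sum_filter]
    refine Finset.sum_congr rfl fun ψ _ => ?_
    rw [mul_comm, hc]
    split_ifs with hψ
    · rfl
    · rw [show classInner (secFun p ψ x) (η : Subgroup.centralizer ({x} : Set N) → ℂ) = 0 from
        hc ψ ▸ by_contra fun h => hψ ((hiff ψ h).mp hη), mul_zero]
  · refine Finset.sum_eq_zero fun ψ hψ => ?_
    rw [show classInner (secFun p ψ x) (η : Subgroup.centralizer ({x} : Set N) → ℂ) = 0 from
      hc ψ ▸ by_contra fun h => hη ((hiff ψ h).mpr (Finset.mem_filter.mp hψ).2), zero_mul]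

/-- Characters minus rank, as a sum over the nontrivial `p`-elements. -/
theorem card_sub_rank (hM : IsPModular p M) {N : Type u} [Group N] [Fintype N] (f : N →* G)
    (hf : Function.Injective f) :
    (Nat.card N : ℤ) * ((Nat.card (Over M b f) : ℤ) - (blockRank p (Over M b f) : ℤ)) =
      ∑ x ∈ Finset.univ.filter (fun x : N => (∃ k : ℕ, orderOf x = p ^ k) ∧ x ≠ 1),
        phi p M b (f.range ⊓ Subgroup.centralizer ({f x} : Set G)).subtype := by
  rw [mul_sub, card_mul_over hM f]
  have h1 : (1 : N) ∈ Finset.univ.filter (fun x : N => ∃ k : ℕ, orderOf x = p ^ k) :=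
    Finset.mem_filter.mpr ⟨Finset.mem_univ _, 0, by simp⟩
  rw [← Finset.add_sum_erase _ _ h1, add_comm, add_sub_assoc]
  have htop : phi p M b (f.comp (Subgroup.centralizer ({(1 : N)} : Set N)).subtype) = phi p M b f := by
    refine phi_congr hM (hf.comp Subtype.val_injective) hf ?_
    ext g
    constructor
    · rintro ⟨a, rfl⟩; exact ⟨_, rfl⟩
    · rintro ⟨a, rfl⟩
      exact ⟨⟨a, Subgroup.mem_centralizer_singleton_iff.mpr (by simp)⟩, rfl⟩
  rw [htop, show phi p M b f = (Nat.card N : ℤ) * (blockRank p (Over M b f) : ℤ) from rfl, sub_self,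
    add_zero]
  refine Finset.sum_congr (Finset.ext fun x => by simp [and_comm]) fun x _ => ?_
  refine phi_congr hM (hf.comp Subtype.val_injective) Subtype.val_injective ?_
  rw [Subgroup.range_subtype]
  ext g
  constructor
  · rintro ⟨a, rfl⟩
    refine ⟨⟨_, rfl⟩, Subgroup.mem_centralizer_singleton_iff.mpr ?_⟩
    show f (a : N) * f x = f x * f (a : N)
    rw [← map_mul, ← map_mul, Subgroup.mem_centralizer_singleton_iff.mp a.2]
  · rintro ⟨⟨a, rfl⟩, h⟩
    refine ⟨⟨a, Subgroup.mem_centralizer_singleton_iff.mpr (hf ?_)⟩, rfl⟩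
    rw [map_mul, map_mul]
    exact Subgroup.mem_centralizer_singleton_iff.mp h

theorem over_id (hb : IsPBlock M b) : Over M b (MonoidHom.id G) = b := by
  obtain ⟨χ₀, hχ₀⟩ := block_nonempty hb
  have h1 : ∀ (ψ : IrrCharacter G) (g : G),
      indC (MonoidHom.id G) (ψ : G → ℂ) g = centralChar (ψ : G → ℂ) g := by
    intro ψ g
    rw [indC_eq_classes _ (CT.isClassFunction_of_isIrr ψ.2), Finset.sum_eq_single (ConjClasses.mk g)]
    · have hr : IsConj g (rep (ConjClasses.mk g)) :=
        (ConjClasses.mk_eq_mk_iff_isConj.mp (mk_rep (ConjClasses.mk g))).symm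
      obtain ⟨c, hc⟩ := isConj_iff.mp hr
      rw [centralChar, centralChar, ← hc, CT.isClassFunction_of_isIrr ψ.2 g c]
      congr 3
      have e1 := CT.card_conj_class_mul_centralizer g
      have e2 := CT.card_conj_class_mul_centralizer (c * g * c⁻¹)
      rw [← (Subgroup.centralizer ({g} : Set G)).index_mul_card] at e1
      rw [← (Subgroup.centralizer ({c * g * c⁻¹} : Set G)).index_mul_card] at e2
      rw [← Nat.eq_of_mul_eq_mul_right Nat.card_pos e1, ← Nat.eq_of_mul_eq_mul_right Nat.card_pos e2]
      exact Nat.card_congr (Equiv.subtypeEquivRight fun z =>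
        ⟨fun h => (isConj_iff.mpr ⟨c, rfl⟩).trans h, fun h => (isConj_iff.mpr ⟨c, rfl⟩).symm.trans h⟩)
    · intro K hK hne
      exact absurd ((mk_rep K).symm.trans
        (ConjClasses.mk_eq_mk_iff_isConj.mpr (Finset.mem_filter.mp hK).2.symm)) hne
    · intro h
      exact absurd ((Finset.mem_filter (p := fun K : ConjClasses G => IsConj g ((MonoidHom.id G) (rep K)))).mpr
        ⟨Finset.mem_univ (ConjClasses.mk g),
          (ConjClasses.mk_eq_mk_iff_isConj.mp (mk_rep (ConjClasses.mk g))).symm⟩) h
  ext ψ
  simp only [Over, Set.mem_setOf_eq, h1]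
  refine ⟨fun h => (mem_block_iff hb hχ₀).mpr (sameBlock_symm (h χ₀ hχ₀)),
    fun h χ hχ => (mem_block_iff hb h).mp hχ⟩

end Cfsg.Agent.Blocks.ChainCount
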