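import Mathlib.GroupTheory.Nilpotent
import Mathlib.GroupTheory.PGroup
import Mathlib.Data.Finset.SymmDiff
import Mathlib.Algebra.BigOperators.Group.Finset.Basic

/-!
# Alternating sums over chains of p-subgroups
-/

set_option linter.unusedSectionVars false

namespace Cfsg.Agent.Blocks.ChainSums

open scoped Classical

variable {G : Type*} [Group G] [Finite G] (p : ℕ) [hp : Fact p.Prime]

/-- Chains of nontrivial `p`-subgroups. -/
def IsChainP (s : Finset (Subgroup G)) : Prop :=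
  (∀ Q ∈ s, ∀ R ∈ s, Q ≤ R ∨ R ≤ Q) ∧ ∀ Q ∈ s, Q ≠ ⊥ ∧ IsPGroup p Q

/-- The stabilizer of a chain. -/
def stab (s : Finset (Subgroup G)) : Subgroup G :=
  ⨅ Q ∈ s, Subgroup.normalizer ((Q : Subgroup G) : Set G)

/-- A member not contained in the normalizers of the smaller ones. -/
def Bad (s : Finset (Subgroup G)) (Q : Subgroup G) : Prop :=
  Q ∈ s ∧ ∃ Q' ∈ s, Q' ≤ Q ∧ ¬ Q ≤ Subgroup.normalizer ((Q' : Subgroup G) : Set G)

theorem mem_stab {s : Finset (Subgroup G)} {g : G} :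
    g ∈ stab s ↔ ∀ Q ∈ s, g ∈ Subgroup.normalizer ((Q : Subgroup G) : Set G) := by
  simp [stab, Subgroup.mem_iInf]

theorem stab_insert (s : Finset (Subgroup G)) (R : Subgroup G) :
    stab (insert R s) = stab s ⊓ Subgroup.normalizer ((R : Subgroup G) : Set G) := by
  ext g
  simp only [mem_stab, Subgroup.mem_inf, Finset.forall_mem_insert]
  exact and_comm

variable {p}

/-- A nonempty chain has a least upper member. -/
theorem exists_top {s : Finset (Subgroup G)} (hs : ∀ Q ∈ s, ∀ R ∈ s, Q ≤ R ∨ R ≤ Q)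
    (hne : s.Nonempty) : ∃ T ∈ s, ∀ Q ∈ s, Q ≤ T := by
  obtain ⟨T, hT, hmax⟩ := s.exists_maximal hne
  exact ⟨T, hT, fun Q hQ => (hs Q hQ T hT).elim id fun h => hmax hQ h⟩

theorem exists_bottom {s : Finset (Subgroup G)} (hs : ∀ Q ∈ s, ∀ R ∈ s, Q ≤ R ∨ R ≤ Q)
    (hne : s.Nonempty) : ∃ T ∈ s, ∀ Q ∈ s, T ≤ Q := by
  obtain ⟨T, hT, hmin⟩ := s.exists_minimal hne
  exact ⟨T, hT, fun Q hQ => (hs Q hQ T hT).elim (fun h => hmin hQ h) id⟩

/-- Adding or removing one member. -/
noncomputable def tog (s : Finset (Subgroup G)) (R : Subgroup G) : Finset (Subgroup G) :=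
  if R ∈ s then s.erase R else insert R s

theorem mem_tog {s : Finset (Subgroup G)} {R Q : Subgroup G} (h : Q ≠ R) :
    Q ∈ tog s R ↔ Q ∈ s := by
  unfold tog
  split_ifs <;> simp [h]

theorem mem_tog_self {s : Finset (Subgroup G)} {R : Subgroup G} : R ∈ tog s R ↔ R ∉ s := by
  unfold tog
  split_ifs with h <;> simp [h]

theorem tog_tog (s : Finset (Subgroup G)) (R : Subgroup G) : tog (tog s R) R = s := by
  ext Q
  by_cases h : Q = R
  · subst h; rw [mem_tog_self, mem_tog_self, not_not]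
  · rw [mem_tog h, mem_tog h]

theorem pow_card_tog (s : Finset (Subgroup G)) (R : Subgroup G) :
    (-1 : ℤ) ^ (tog s R).card = -(-1) ^ s.card := by
  unfold tog
  split_ifs with h
  · have : 0 < s.card := Finset.card_pos.mpr ⟨R, h⟩
    rw [Finset.card_erase_of_mem h]
    obtain ⟨n, hn⟩ := Nat.exists_eq_add_of_lt this
    rw [hn]; simp [pow_succ]
  · rw [Finset.card_insert_of_notMem h, pow_succ]; simp

section Star

variable (x : G)

/-- The member toggled for a fixed element. -/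
noncomputable def starR (s : Finset (Subgroup G)) : Subgroup G :=
  Subgroup.zpowers x ⊔ (s.filter fun Q => x ∉ Q).sup id

theorem mem_starR (s : Finset (Subgroup G)) : x ∈ starR x s :=
  (le_sup_left : Subgroup.zpowers x ≤ starR x s) (Subgroup.mem_zpowers x)

theorem starR_tog (s : Finset (Subgroup G)) : starR x (tog s (starR x s)) = starR x s := by
  conv_lhs => unfold starR
  conv_rhs => unfold starR
  congr 2
  ext Q
  simp only [Finset.mem_filter]
  constructor
  · rintro ⟨h1, h2⟩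
    exact ⟨(mem_tog (fun e : Q = starR x s => h2 (by rw [e]; exact mem_starR x s))).mp h1, h2⟩
  · rintro ⟨h1, h2⟩
    exact ⟨(mem_tog (fun e : Q = starR x s => h2 (by rw [e]; exact mem_starR x s))).mpr h1, h2⟩

theorem chain_tog_starR {s : Finset (Subgroup G)} (hs : IsChainP p s) (hx : x ≠ 1)
    (hxp : ∃ k : ℕ, orderOf x = p ^ k) (hxs : x ∈ stab s) :
    IsChainP p (tog s (starR x s)) ∧ x ∈ stab (tog s (starR x s)) ∧
      stab (tog s (starR x s)) ⊓ Subgroup.centralizer ({x} : Set G) =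
        stab s ⊓ Subgroup.centralizer ({x} : Set G) := by
  set R := starR x s with hR
  obtain ⟨k, hk⟩ := hxp
  have hZ : IsPGroup p (Subgroup.zpowers x) := IsPGroup.of_card (n := k) (by rw [Nat.card_zpowers, hk])
  have hfac : R = Subgroup.zpowers x ∨ ∃ B ∈ s, x ∉ B ∧ (∀ Q ∈ s, x ∉ Q → Q ≤ B) ∧
      R = Subgroup.zpowers x ⊔ B := by
    by_cases hne : (s.filter fun Q => x ∉ Q).Nonempty
    · obtain ⟨B, hB, hBtop⟩ := exists_top (fun Q hQ Q' hQ' =>
        hs.1 Q (Finset.mem_filter.mp hQ).1 Q' (Finset.mem_filter.mp hQ').1) hne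
      refine Or.inr ⟨B, (Finset.mem_filter.mp hB).1, (Finset.mem_filter.mp hB).2,
        fun Q hQ hxQ => hBtop Q (Finset.mem_filter.mpr ⟨hQ, hxQ⟩), ?_⟩
      rw [hR, starR]
      congr 1
      exact le_antisymm (Finset.sup_le hBtop) (Finset.le_sup (f := id) hB)
    · left
      rw [hR, starR, Finset.not_nonempty_iff_eq_empty.mp hne, Finset.sup_empty, sup_bot_eq]
  have hcomp : ∀ Q ∈ s, Q ≤ R ∨ R ≤ Q := by
    intro Q hQ
    by_cases hxQ : x ∈ Q
    · right
      rcases hfac with h | ⟨B, hB, hxB, -, h⟩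
      · rw [h]; exact Subgroup.zpowers_le.mpr hxQ
      · rw [h]
        refine sup_le (Subgroup.zpowers_le.mpr hxQ) ?_
        exact (hs.1 B hB Q hQ).elim id fun hle => absurd (hle hxQ) hxB
    · left
      exact (Finset.le_sup (f := id) (Finset.mem_filter.mpr ⟨hQ, hxQ⟩)).trans le_sup_right
  have hRp : IsPGroup p R := by
    rcases hfac with h | ⟨B, hB, -, -, h⟩
    · rw [h]; exact hZ
    · rw [h]
      exact hZ.to_sup_of_normal_right' (hs.2 B hB).2 (Subgroup.zpowers_le.mpr (mem_stab.mp hxs B hB))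
  have hR0 : R ≠ ⊥ := fun h => hx ((Subgroup.eq_bot_iff_forall _).mp h x (mem_starR x s))
  have hnorm : ∀ g ∈ stab (s.erase R) ⊓ Subgroup.centralizer ({x} : Set G),
      g ∈ Subgroup.normalizer ((R : Subgroup G) : Set G) := by
    rintro g ⟨hg, hgc⟩
    have hgx : g * x * g⁻¹ = x := by
      rw [Subgroup.mem_centralizer_singleton_iff.mp hgc, mul_inv_cancel_right]
    have hZmap : (Subgroup.zpowers x).map ((MulAut.conj g : G ≃* G) : G →* G) = Subgroup.zpowers x := by
      rw [MonoidHom.map_zpowers]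
      congr 1
    rw [Subgroup.mem_normalizer_iff_map_conj_eq]
    rcases hfac with h | ⟨B, hB, hxB, -, h⟩
    · rw [h]; exact hZmap
    · have hBR : B ≠ R := fun e => hxB (e ▸ mem_starR x s)
      rw [h, Subgroup.map_sup, hZmap]
      congr 1
      exact Subgroup.mem_normalizer_iff_map_conj_eq.mp (mem_stab.mp hg B (Finset.mem_erase.mpr ⟨hBR, hB⟩))
  have hxR : x ∈ Subgroup.normalizer ((R : Subgroup G) : Set G) :=
    Subgroup.le_normalizer (mem_starR x s)
  refine ⟨⟨fun Q hQ Q' hQ' => ?_, fun Q hQ => ?_⟩, mem_stab.mpr fun Q hQ => ?_, ?_⟩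
  · by_cases h1 : Q = R
    · subst h1
      by_cases h2 : Q' = R
      · exact Or.inl (le_of_eq h2.symm)
      · exact (hcomp Q' ((mem_tog h2).mp hQ')).symm
    · by_cases h2 : Q' = R
      · subst h2; exact hcomp Q ((mem_tog h1).mp hQ)
      · exact hs.1 Q ((mem_tog h1).mp hQ) Q' ((mem_tog h2).mp hQ')
  · by_cases h1 : Q = R
    · subst h1; exact ⟨hR0, hRp⟩
    · exact hs.2 Q ((mem_tog h1).mp hQ)
  · by_cases h1 : Q = R
    · subst h1; exact hxR
    · exact mem_stab.mp hxs Q ((mem_tog h1).mp hQ)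
  · have key : ∀ g ∈ Subgroup.centralizer ({x} : Set G),
        g ∈ stab (s.erase R) → ∀ u : Finset (Subgroup G), (∀ Q ∈ u, Q ≠ R → Q ∈ s) → g ∈ stab u :=
      fun g hc hg u hu => mem_stab.mpr fun Q hQ => by
        by_cases h1 : Q = R
        · subst h1; exact hnorm g ⟨hg, hc⟩
        · exact mem_stab.mp hg Q (Finset.mem_erase.mpr ⟨h1, hu Q hQ h1⟩)
    ext g
    constructor
    · rintro ⟨hg, hc⟩
      exact ⟨key g hc (mem_stab.mpr fun Q hQ => mem_stab.mp hg Q
        ((mem_tog (Finset.ne_of_mem_erase hQ)).mpr (Finset.mem_of_mem_erase hQ))) s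
          fun Q hQ _ => hQ, hc⟩
    · rintro ⟨hg, hc⟩
      exact ⟨key g hc (mem_stab.mpr fun Q hQ => mem_stab.mp hg Q (Finset.mem_of_mem_erase hQ)) _
        fun Q hQ h1 => (mem_tog h1).mp hQ, hc⟩

end Star

section Normal

/-- The least bad member. -/
theorem exists_least_bad {s : Finset (Subgroup G)} (hs : ∀ Q ∈ s, ∀ R ∈ s, Q ≤ R ∨ R ≤ Q)
    (hbad : ∃ Q, Bad s Q) : ∃ T, Bad s T ∧ ∀ Q, Bad s Q → T ≤ Q := by
  obtain ⟨Q, hQ⟩ := hbad
  obtain ⟨T, hT, hmin⟩ := exists_bottom (s := s.filter (Bad s))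
    (fun A hA B hB => hs A (Finset.mem_filter.mp hA).1 B (Finset.mem_filter.mp hB).1)
    ⟨Q, Finset.mem_filter.mpr ⟨hQ.1, hQ⟩⟩
  exact ⟨T, (Finset.mem_filter.mp hT).2, fun Q hQ => hmin Q (Finset.mem_filter.mpr ⟨hQ.1, hQ⟩)⟩

/-- The intersection of `T` with the normalizers of the members below it. -/
noncomputable def inner (s : Finset (Subgroup G)) (T : Subgroup G) : Subgroup G :=
  T ⊓ stab (s.filter fun Q => Q < T)

theorem step {s : Finset (Subgroup G)} (hs : IsChainP p s) {T : Subgroup G} (hT : Bad s T)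
    (hmin : ∀ Q, Bad s Q → T ≤ Q) :
    IsChainP p (tog s (inner s T)) ∧ stab (tog s (inner s T)) = stab s ∧
      Bad (tog s (inner s T)) T ∧ (∀ Q, Bad (tog s (inner s T)) Q → T ≤ Q) ∧
      inner (tog s (inner s T)) T = inner s T := by
  set A := inner s T with hA
  set L := s.filter fun Q => Q < T with hL
  have hgood : ∀ Q ∈ L, ∀ Q' ∈ s, Q' ≤ Q → Q ≤ Subgroup.normalizer ((Q' : Subgroup G) : Set G) := by
    intro Q hQ Q' hQ' hle
    by_contra h
    exact not_le_of_gt (Finset.mem_filter.mp hQ).2 (hmin Q ⟨(Finset.mem_filter.mp hQ).1, Q', hQ', hle, h⟩)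
  have hLA : ∀ Q ∈ L, Q ≤ A := by
    intro Q hQ q hq
    refine ⟨(Finset.mem_filter.mp hQ).2.le hq, mem_stab.mpr fun Q' hQ' => ?_⟩
    rcases hs.1 Q (Finset.mem_filter.mp hQ).1 Q' (Finset.mem_filter.mp hQ').1 with h | h
    · exact Subgroup.le_normalizer (h hq)
    · exact hgood Q hQ Q' (Finset.mem_filter.mp hQ').1 h hq
  obtain ⟨hTs, W, hW, hWT, hWn⟩ := hT
  have hWlt : W < T := lt_of_le_of_ne hWT fun e => hWn (e ▸ Subgroup.le_normalizer)
  have hWL : W ∈ L := Finset.mem_filter.mpr ⟨hW, hWlt⟩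
  have hAT : A < T := lt_of_le_of_ne inf_le_left fun e => hWn fun t ht =>
    mem_stab.mp ((e.ge ht : t ∈ A)).2 W hWL
  have hA0 : A ≠ ⊥ := fun e => (hs.2 W hW).1 (eq_bot_iff.mpr (e ▸ hLA W hWL))
  have hAp : IsPGroup p A := (hs.2 T hTs).2.to_le inf_le_left
  have hcomp : ∀ Q ∈ s, Q ≤ A ∨ A ≤ Q := by
    intro Q hQ
    rcases hs.1 Q hQ T hTs with h | h
    · rcases eq_or_lt_of_le h with rfl | h'
      · exact Or.inr hAT.le
      · exact Or.inl (hLA Q (Finset.mem_filter.mpr ⟨hQ, h'⟩))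
    · exact Or.inr (hAT.le.trans h)
  -- a member equal to `A` is the largest one below `T`
  have hchain : IsChainP p (tog s A) := by
    refine ⟨fun Q hQ Q' hQ' => ?_, fun Q hQ => ?_⟩
    · by_cases h1 : Q = A
      · subst h1
        by_cases h2 : Q' = A
        · exact Or.inl (le_of_eq h2.symm)
        · exact (hcomp Q' ((mem_tog h2).mp hQ')).symm
      · by_cases h2 : Q' = A
        · subst h2; exact hcomp Q ((mem_tog h1).mp hQ)
        · exact hs.1 Q ((mem_tog h1).mp hQ) Q' ((mem_tog h2).mp hQ')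
    · by_cases h1 : Q = A
      · subst h1; exact ⟨hA0, hAp⟩
      · exact hs.2 Q ((mem_tog h1).mp hQ)
  have hTA : T ≠ A := hAT.ne'
  have hTt : T ∈ tog s A := (mem_tog hTA).mpr hTs
  -- normalizing the members below `T` other than `A` and the top normalizes `A`
  have hnormA : ∀ g : G, g ∈ Subgroup.normalizer ((T : Subgroup G) : Set G) →
      (∀ Q ∈ L, g ∈ Subgroup.normalizer ((Q : Subgroup G) : Set G)) →
      g ∈ Subgroup.normalizer ((A : Subgroup G) : Set G) := by
    intro g hgT hgL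
    rw [Subgroup.mem_normalizer_iff]
    intro a
    simp only [hA, inner, Subgroup.mem_inf, mem_stab]
    refine and_congr (Subgroup.mem_normalizer_iff.mp hgT a) (forall_congr' fun Q => imp_congr_right fun hQ => ?_)
    have hg := hgL Q hQ
    exact ⟨fun h => mul_mem (mul_mem hg h) (inv_mem hg),
      fun h => by simpa [mul_assoc] using mul_mem (mul_mem (inv_mem hg) h) hg⟩
  have hstab : stab (tog s A) = stab s := by
    by_cases hAs : A ∈ s
    · have hins : s = insert A (s.erase A) := (Finset.insert_erase hAs).symm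
      conv_rhs => rw [hins, stab_insert]
      rw [tog, if_pos hAs, eq_comm, inf_eq_left]
      intro g hg
      -- the members below `T` are normalized, and `A` is recovered from the others
      have hA' : T ⊓ stab (L.erase A) = A := by
        refine le_antisymm ?_ fun a ha => ⟨ha.1, mem_stab.mpr fun Q hQ =>
          mem_stab.mp ha.2 Q (Finset.mem_of_mem_erase hQ)⟩
        by_contra hne
        set A' := T ⊓ stab (L.erase A)
        have hAA' : A ≤ A' := fun a ha => ⟨ha.1, mem_stab.mpr fun Q hQ =>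
          mem_stab.mp ha.2 Q (Finset.mem_of_mem_erase hQ)⟩
        have hA'p : IsPGroup p A' := (hs.2 T hTs).2.to_le inf_le_left
        haveI : Group.IsNilpotent A' := hA'p.isNilpotent
        have hlt : A.subgroupOf A' < ⊤ := lt_top_iff_ne_top.mpr fun e =>
          hne (Subgroup.subgroupOf_eq_top.mp e)
        obtain ⟨y, hy, hyA⟩ := SetLike.exists_of_lt (Group.normalizerCondition_of_isNilpotent _ hlt)
        refine hyA (Subgroup.mem_subgroupOf.mpr ⟨y.2.1, mem_stab.mpr fun Q hQ => ?_⟩)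
        by_cases hQA : Q = A
        · subst hQA
          have hy' : (y : G) ∈ Subgroup.normalizer ((A : Subgroup G) : Set G) ⊓ A' := by
            refine ⟨?_, y.2⟩
            rw [← Subgroup.subgroupOf_normalizer_eq hAA'] at hy
            exact Subgroup.mem_subgroupOf.mp hy
          exact hy'.1
        · exact mem_stab.mp y.2.2 Q (Finset.mem_erase.mpr ⟨hQA, hQ⟩)
      rw [Subgroup.mem_normalizer_iff]
      intro a
      rw [← hA']
      simp only [Subgroup.mem_inf, mem_stab]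
      refine and_congr (Subgroup.mem_normalizer_iff.mp
        (mem_stab.mp hg T (Finset.mem_erase.mpr ⟨hTA, hTs⟩)) a)
        (forall_congr' fun Q => imp_congr_right fun hQ => ?_)
      have hgQ := mem_stab.mp hg Q (Finset.mem_erase.mpr ⟨Finset.ne_of_mem_erase hQ,
        (Finset.mem_filter.mp (Finset.mem_of_mem_erase hQ)).1⟩)
      exact ⟨fun h => mul_mem (mul_mem hgQ h) (inv_mem hgQ),
        fun h => by simpa [mul_assoc] using mul_mem (mul_mem (inv_mem hgQ) h) hgQ⟩
    · rw [tog, if_neg hAs, stab_insert, inf_eq_left]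
      exact fun g hg => hnormA g (mem_stab.mp hg T hTs) fun Q hQ =>
        mem_stab.mp hg Q (Finset.mem_filter.mp hQ).1
  -- badness of `T` and the inner subgroup do not change
  have hL' : ∀ Q, Q ∈ (tog s A).filter (fun Q => Q < T) → Q ∈ L ∨ Q = A := fun Q hQ => by
    by_cases h : Q = A
    · exact Or.inr h
    · exact Or.inl (Finset.mem_filter.mpr ⟨(mem_tog h).mp (Finset.mem_filter.mp hQ).1,
        (Finset.mem_filter.mp hQ).2⟩)
  have hinner : inner (tog s A) T = A := by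
    refine le_antisymm ?_ fun a ha => ⟨ha.1, mem_stab.mpr fun Q hQ => ?_⟩
    · by_cases hAs : A ∈ s
      · intro a ha
        have hA'le : T ⊓ stab (L.erase A) ≤ A := by
          by_contra hne
          set A' := T ⊓ stab (L.erase A)
          have hAA' : A ≤ A' := fun a ha => ⟨ha.1, mem_stab.mpr fun Q hQ =>
            mem_stab.mp ha.2 Q (Finset.mem_of_mem_erase hQ)⟩
          have hA'p : IsPGroup p A' := (hs.2 T hTs).2.to_le inf_le_left
          haveI : Group.IsNilpotent A' := hA'p.isNilpotent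
          have hlt : A.subgroupOf A' < ⊤ := lt_top_iff_ne_top.mpr fun e =>
            hne (Subgroup.subgroupOf_eq_top.mp e)
          obtain ⟨y, hy, hyA⟩ := SetLike.exists_of_lt (Group.normalizerCondition_of_isNilpotent _ hlt)
          refine hyA (Subgroup.mem_subgroupOf.mpr ⟨y.2.1, mem_stab.mpr fun Q hQ => ?_⟩)
          by_cases hQA : Q = A
          · subst hQA
            rw [← Subgroup.subgroupOf_normalizer_eq hAA'] at hy
            exact Subgroup.mem_subgroupOf.mp hy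
          · exact mem_stab.mp y.2.2 Q (Finset.mem_erase.mpr ⟨hQA, hQ⟩)
        refine hA'le ⟨ha.1, mem_stab.mpr fun Q hQ => mem_stab.mp ha.2 Q (Finset.mem_filter.mpr
          ⟨(mem_tog (Finset.ne_of_mem_erase hQ)).mpr (Finset.mem_filter.mp (Finset.mem_of_mem_erase hQ)).1,
            (Finset.mem_filter.mp (Finset.mem_of_mem_erase hQ)).2⟩)⟩
      · intro a ha
        exact ⟨ha.1, mem_stab.mpr fun Q hQ => mem_stab.mp ha.2 Q (Finset.mem_filter.mpr
          ⟨(mem_tog fun e : Q = A => hAs (e ▸ (Finset.mem_filter.mp hQ).1)).mpr (Finset.mem_filter.mp hQ).1,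
            (Finset.mem_filter.mp hQ).2⟩)⟩
    · rcases hL' Q hQ with h | rfl
      · exact mem_stab.mp ha.2 Q h
      · exact Subgroup.le_normalizer ha
  refine ⟨hchain, hstab, ⟨hTt, ?_⟩, ?_, hinner⟩
  · by_contra h
    push_neg at h
    refine hAT.ne (le_antisymm hAT.le fun t ht => ?_)
    rw [← hinner]
    exact ⟨ht, mem_stab.mpr fun Q hQ => h Q (Finset.mem_filter.mp hQ).1 (Finset.mem_filter.mp hQ).2.le ht⟩
  · rintro Q ⟨hQ, Q', hQ', hle, hn⟩
    rcases hchain.1 Q hQ T hTt with h | h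
    swap
    · exact h
    rcases eq_or_lt_of_le h with rfl | hlt
    · exact le_rfl
    exfalso
    apply hn
    rcases hL' Q (Finset.mem_filter.mpr ⟨hQ, hlt⟩) with hQL | rfl
    · rcases hL' Q' (Finset.mem_filter.mpr ⟨hQ', hle.trans_lt hlt⟩) with hQ'L | rfl
      · exact hgood Q hQL Q' (Finset.mem_filter.mp hQ'L).1 hle
      · exact le_antisymm (hLA Q hQL) hle ▸ Subgroup.le_normalizer
    · rcases hL' Q' (Finset.mem_filter.mpr ⟨hQ', hle.trans_lt hlt⟩) with hQ'L | rfl
      · exact fun a ha => mem_stab.mp ha.2 Q' hQ'L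
      · exact Subgroup.le_normalizer

end Normal

/-- Normal chains: every member is normal in the largest one. -/
def IsNormalChain (s : Finset (Subgroup G)) : Prop :=
  s.Nonempty ∧ (∀ Q ∈ s, ∀ R ∈ s, Q ≤ R ∨ R ≤ Q) ∧ (∀ Q ∈ s, Q ≠ ⊥ ∧ IsPGroup p Q) ∧
    ∃ T ∈ s, ∀ Q ∈ s, Q ≤ T ∧ T ≤ Subgroup.normalizer ((Q : Subgroup G) : Set G)

theorem not_bad_of_normal {s : Finset (Subgroup G)} (hs : IsNormalChain (p := p) s) :
    ¬ ∃ Q, Bad s Q := by
  rintro ⟨Q, hQ, Q', hQ', -, hn⟩
  obtain ⟨T, -, hT⟩ := hs.2.2.2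
  exact hn ((hT Q hQ).1.trans (hT Q' hQ').2)

theorem normal_of_not_bad {s : Finset (Subgroup G)} (hs : IsChainP p s) (hne : s.Nonempty)
    (h : ¬ ∃ Q, Bad s Q) : IsNormalChain (p := p) s := by
  obtain ⟨T, hT, hTtop⟩ := exists_top hs.1 hne
  refine ⟨hne, hs.1, hs.2, T, hT, fun Q hQ => ⟨hTtop Q hQ, by_contra fun hn => h ⟨T, hT, Q, hQ, hTtop Q hQ, hn⟩⟩⟩

/-- The alternating sum over normal chains at a fixed element. -/
theorem alternating_sum {x : G} (hx : x ≠ 1) (hxp : ∃ k : ℕ, orderOf x = p ^ k)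
    [Fintype (Subgroup G)] (φ : Subgroup G → ℤ) :
    ∑ s ∈ Finset.univ.filter (fun s : Finset (Subgroup G) => IsNormalChain (p := p) s ∧ x ∈ stab s),
      (-1 : ℤ) ^ (s.card - 1) * φ (stab s ⊓ Subgroup.centralizer ({x} : Set G)) =
      φ (Subgroup.centralizer ({x} : Set G)) := by
  set U := Finset.univ.filter fun s : Finset (Subgroup G) => IsChainP p s ∧ x ∈ stab s
  set g : Finset (Subgroup G) → ℤ := fun s =>
    (-1 : ℤ) ^ s.card * φ (stab s ⊓ Subgroup.centralizer ({x} : Set G)) with hg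
  have hall : ∑ s ∈ U, g s = 0 := by
    refine Finset.sum_involution (fun s _ => tog s (starR x s)) (fun s hs => ?_) (fun s hs _ e => ?_)
      (fun s hs => ?_) fun s hs => ?_
    · obtain ⟨h1, h2⟩ := (Finset.mem_filter.mp hs).2
      simp only [hg]
      rw [(chain_tog_starR x h1 hx hxp h2).2.2, pow_card_tog]
      ring
    · have := congrArg (fun u => starR x s ∈ u) e
      simp [mem_tog_self] at this
    · obtain ⟨h1, h2⟩ := (Finset.mem_filter.mp hs).2
      exact Finset.mem_filter.mpr ⟨Finset.mem_univ _, (chain_tog_starR x h1 hx hxp h2).1,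
        (chain_tog_starR x h1 hx hxp h2).2.1⟩
    · simp only [starR_tog, tog_tog]
  have hnon : ∑ s ∈ U.filter (fun s => ∃ Q, Bad s Q), g s = 0 := by
    choose T hTb hTm using fun (s : {s // s ∈ U.filter (fun s => ∃ Q, Bad s Q)}) =>
      exists_least_bad (s := s.1) ((Finset.mem_filter.mp (Finset.mem_filter.mp s.2).1).2.1.1)
        (Finset.mem_filter.mp s.2).2
    refine Finset.sum_involution (fun s hs => tog s (inner s (T ⟨s, hs⟩))) (fun s hs => ?_)
      (fun s hs _ e => ?_) (fun s hs => ?_) fun s hs => ?_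
    · obtain ⟨h1, -⟩ := (Finset.mem_filter.mp (Finset.mem_filter.mp hs).1).2
      obtain ⟨-, e2, -, -, -⟩ := step h1 (hTb ⟨s, hs⟩) (hTm ⟨s, hs⟩)
      simp only [hg]
      rw [e2, pow_card_tog]
      ring
    · have := congrArg (fun u => inner s (T ⟨s, hs⟩) ∈ u) e
      simp [mem_tog_self] at this
    · obtain ⟨h1, h2⟩ := (Finset.mem_filter.mp (Finset.mem_filter.mp hs).1).2
      obtain ⟨e1, e2, e3, -, -⟩ := step h1 (hTb ⟨s, hs⟩) (hTm ⟨s, hs⟩)
      exact Finset.mem_filter.mpr ⟨Finset.mem_filter.mpr ⟨Finset.mem_univ _, e1, e2 ▸ h2⟩, _, e3⟩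
    · obtain ⟨h1, -⟩ := (Finset.mem_filter.mp (Finset.mem_filter.mp hs).1).2
      obtain ⟨e1, e2, e3, e4, e5⟩ := step h1 (hTb ⟨s, hs⟩) (hTm ⟨s, hs⟩)
      have hT : ∀ h, T ⟨tog s (inner s (T ⟨s, hs⟩)), h⟩ = T ⟨s, hs⟩ := fun h =>
        le_antisymm (hTm ⟨_, h⟩ _ e3) (e4 _ (hTb ⟨_, h⟩))
      simp only [hT, e5, tog_tog]
  have hsplit := Finset.sum_filter_add_sum_filter_not U (fun s => ∃ Q, Bad s Q) g
  rw [hnon, zero_add, hall] at hsplit
  have hset : U.filter (fun s => ¬ ∃ Q, Bad s Q) = insert ∅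
      (Finset.univ.filter fun s : Finset (Subgroup G) => IsNormalChain (p := p) s ∧ x ∈ stab s) := by
    ext s
    rw [Finset.mem_filter, Finset.mem_insert]
    constructor
    · rintro ⟨hs, hb⟩
      obtain ⟨h1, h2⟩ := (Finset.mem_filter.mp hs).2
      rcases s.eq_empty_or_nonempty with h | h
      · exact Or.inl h
      · exact Or.inr (Finset.mem_filter.mpr ⟨Finset.mem_univ _, normal_of_not_bad h1 h hb, h2⟩)
    · rintro (rfl | h)
      · exact ⟨Finset.mem_filter.mpr ⟨Finset.mem_univ _, ⟨by simp, by simp⟩, by simp [stab]⟩,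
          fun ⟨Q, hQ, _⟩ => by simp at hQ⟩
      · obtain ⟨h1, h2⟩ := (Finset.mem_filter.mp h).2
        exact ⟨Finset.mem_filter.mpr ⟨Finset.mem_univ _, ⟨h1.2.1, h1.2.2.1⟩, h2⟩, not_bad_of_normal h1⟩
  rw [hset, Finset.sum_insert (fun h => by
    simpa using ((Finset.mem_filter.mp h).2.1.1))] at hsplit
  simp only [hg, Finset.card_empty, pow_zero, one_mul] at hsplit
  rw [show stab (∅ : Finset (Subgroup G)) = ⊤ by simp [stab], top_inf_eq] at hsplit
  rw [eq_comm, ← sub_eq_zero]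
  refine Eq.trans ?_ hsplit
  rw [sub_eq_add_neg, ← Finset.sum_neg_distrib]
  congr 1
  refine Finset.sum_congr rfl fun s hs => ?_
  obtain ⟨n, hn⟩ := Nat.exists_eq_succ_of_ne_zero
    (Finset.card_pos.mpr (Finset.mem_filter.mp hs).2.1.1).ne'
  rw [hn, Nat.succ_sub_one, pow_succ]
  ring

end Cfsg.Agent.Blocks.ChainSums
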