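import Cfsg.Agent.Lib.Blocks.CoverDefect
import Cfsg.Agent.Lib.Blocks.Knorr
import Cfsg.Agent.Lib.Transfer.Constrained

/-!
# Blocks over an invariant character of the largest normal subgroup of order prime to `p`
-/

namespace Cfsg.Agent.Blocks

open MonoidAlgebra

universe u

variable {G : Type u} [Group G] [Finite G] {p : ℕ} {M : Ideal AlgInt} [M.IsPrime]
  {N : Subgroup G} [Fintype N] [hN : N.Normal]

set_option linter.unusedSectionVars false

theorem isPBlock_singleton (hM : IsPModular p M) (h : ¬ p ∣ Nat.card N) (θ : IrrCharacter N) :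
    IsPBlock M ({θ} : Set (IrrCharacter N)) :=
  ⟨θ, Set.Subset.antisymm (Set.singleton_subset_iff.mpr (self_mem_blockOf θ))
    (blockOf_subset_of_integral (blockCoeff_mem_loc_of_not_dvd hM h _) (Set.mem_singleton θ))⟩

theorem value_of_over (θ : IrrCharacter N) (hinv : ∀ g : G, conjIrr g θ = θ)
    {K : Subgroup G} [Fintype K] (hNK : N ≤ K) {χ : IrrCharacter G}
    (hχ : classInner (fun n : N => (χ : G → ℂ) n) (θ : N → ℂ) ≠ 0) {η : IrrCharacter K}
    (hη : classInner (fun k : K => (χ : G → ℂ) k) (η : K → ℂ) ≠ 0) (n : N) :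
    (η : K → ℂ) ⟨n, hNK n.2⟩ * (θ : N → ℂ) 1 = (η : K → ℂ) 1 * (θ : N → ℂ) n := by
  classical
  letI := Fintype.ofFinite G
  letI := Fintype.ofFinite (N.subgroupOf K)
  let e : N.subgroupOf K ≃* N := Subgroup.subgroupOfEquivOfLe hNK
  obtain ⟨φ', hφ'⟩ := CT.exists_constituent_restrict (N.subgroupOf K) η.2
  let φ : IrrCharacter N := compIrr e.symm φ'
  have hin : classInner (CT.resTo N K hNK (η : K → ℂ)) (φ : N → ℂ) =
      classInner (fun m : N.subgroupOf K => (η : K → ℂ) m) (φ' : N.subgroupOf K → ℂ) := by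
    simp only [classInner]
    rw [Nat.card_congr e.symm.toEquiv]
    congr 1
    exact Fintype.sum_equiv e.symm.toEquiv _ _ fun m => rfl
  have hmult : CT.mult (fun n : N => (χ : G → ℂ) n) φ ≠ 0 := by
    rw [CT.sum_mult_over N φ.2 K hNK (CT.isCharacter_of_isIrr χ.2)]
    intro h
    rcases Nat.mul_eq_zero.mp (Finset.sum_eq_zero_iff.mp h η (Finset.mem_univ _)) with h1 | h1
    · apply hη
      rw [CT.mult_spec (CT.isCharacter_restrict K (CT.isCharacter_of_isIrr χ.2))
        (CT.isCharacter_of_isIrr η.2), h1, Nat.cast_zero]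
    · apply hφ'
      rw [← hin, CT.mult_spec (CT.isCharacter_resTo N K hNK (CT.isCharacter_of_isIrr η.2))
        (CT.isCharacter_of_isIrr φ.2), h1, Nat.cast_zero]
  obtain ⟨g, hg⟩ := exists_conjIrr_of_constituent hχ ((mult_ne_zero_iff χ φ).mp hmult)
  rw [hinv] at hg
  have hφe : ∀ m : N.subgroupOf K, (φ' : N.subgroupOf K → ℂ) m = (θ : N → ℂ) (e m) := fun m => by
    rw [hg, coe_compIrr, e.symm_apply_apply]
  have hst : ∀ t : K, CT.conjFun (N.subgroupOf K) t (φ' : N.subgroupOf K → ℂ) = φ' := fun t => by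
    funext m
    show (φ' : N.subgroupOf K → ℂ) _ = (φ' : N.subgroupOf K → ℂ) m
    rw [hφe, hφe]
    exact congrFun (congrArg Subtype.val (hinv (t : G))) (e m)
  have hres := CT.restrict_eq_smul_of_invariant (N.subgroupOf K) η.2 φ'.2 hφ' hst
  have h1 : (η : K → ℂ) 1 = _ := congrFun hres 1
  have h2 : (η : K → ℂ) ⟨n, hNK n.2⟩ = _ := congrFun hres (e.symm n)
  rw [Pi.smul_apply, smul_eq_mul, hφe] at h1 h2
  rw [h1, h2, e.apply_symm_apply, map_one]
  ring

theorem mem_of_regular_of_pow_relIndex [Fact p.Prime] {K : Subgroup G}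
    (hrel : ∃ m : ℕ, N.relIndex K = p ^ m) {u : G} (hu : u ∈ K) (hreg : ¬ p ∣ orderOf u) :
    u ∈ N :=
  letI := Fintype.ofFinite (N.subgroupOf K)
  mem_of_pow_index (N := N.subgroupOf K) hrel (u := ⟨u, hu⟩)
    (by rwa [Subgroup.orderOf_mk])

/-- Blocks of a subgroup with quotient a `p`-group over an invariant character have full defect. -/
theorem card_defect_over (hM : IsPModular p M) (hN : ¬ p ∣ Nat.card N) (θ : IrrCharacter N)
    (hinv : ∀ g : G, conjIrr g θ = θ) {K : Subgroup G} [Fintype K] (hNK : N ≤ K)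
    (hrel : ∃ m : ℕ, N.relIndex K = p ^ m) {χ : IrrCharacter G}
    (hχ : classInner (fun n : N => (χ : G → ℂ) n) (θ : N → ℂ) ≠ 0) {η : IrrCharacter K}
    (hη : classInner (fun k : K => (χ : G → ℂ) k) (η : K → ℂ) ≠ 0)
    {D : Subgroup K} (hD : IsDefectGroup p M (blockOf M (η : K → ℂ)) D) :
    Nat.card D = p ^ (Nat.card K).factorization p := by
  classical
  haveI : Fact p.Prime := ⟨hM.1⟩
  obtain ⟨g, hg, -, -, hcard⟩ := defectGroup_spec hD
  rw [hcard]
  congr 1
  have hgN : (g : G) ∈ N := mem_of_regular_of_pow_relIndex hrel g.2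
    (by rw [Subgroup.orderOf_coe]; exact regular_of_defectClass hM (isPBlock_blockOf η) hg)
  have hN' : Nat.card (N.subgroupOf K) = Nat.card N :=
    Nat.card_congr (Subgroup.subgroupOfEquivOfLe hNK).toEquiv
  set n : N := ⟨(g : G), hgN⟩
  set C := Subgroup.centralizer ({g} : Set K)
  set C' := Subgroup.centralizer ({n} : Set N)
  have hL : Nat.card C' = Nat.card ((N.subgroupOf K).subgroupOf C) := by
    refine Nat.card_congr
      { toFun := fun x => ⟨⟨⟨((x : N) : G), hNK (x : N).2⟩,
          Subgroup.mem_centralizer_singleton_iff.mpr (Subtype.ext (congrArg (fun z : N => (z : G))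
            (Subgroup.mem_centralizer_singleton_iff.mp x.2)))⟩, (x : N).2⟩
        invFun := fun x => ⟨⟨(((x : C) : K) : G), x.2⟩,
          Subgroup.mem_centralizer_singleton_iff.mpr (Subtype.ext (congrArg (fun z : K => (z : G))
            (Subgroup.mem_centralizer_singleton_iff.mp (x : C).2)))⟩
        left_inv := fun x => rfl
        right_inv := fun x => rfl }
  obtain ⟨m, hm⟩ := hrel
  obtain ⟨j, hjm, hj⟩ := (Nat.dvd_prime_pow (Fact.out : p.Prime)).mp
    (hm ▸ Subgroup.relIndex_dvd_index_of_normal (N.subgroupOf K) C :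
      (N.subgroupOf K).relIndex C ∣ p ^ m)
  have hC : Nat.card C = p ^ j * Nat.card C' := by
    rw [hL, ← hj]; exact (Subgroup.index_mul_card ((N.subgroupOf K).subgroupOf C)).symm
  have hK : Nat.card K = p ^ m * Nat.card N := by
    rw [← hN', ← hm]; exact (N.subgroupOf K).index_mul_card.symm
  have hval : (η : K → ℂ) g * (θ : N → ℂ) 1 = (η : K → ℂ) 1 * (θ : N → ℂ) n :=
    value_of_over θ hinv hNK hχ hη n
  have hmul := centralChar_mul η g
  have hmul' := centralChar_mul θ n
  rw [hC, hK] at hmul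
  push_cast at hmul
  set w := centralChar (η : K → ℂ) g
  set w' := centralChar (θ : N → ℂ) n
  have key : (p : ℂ) ^ j * w = (p : ℂ) ^ m * w' := by
    apply mul_left_cancel₀ (mul_ne_zero (mul_ne_zero (Nat.cast_ne_zero.mpr (Nat.card_pos (α := C')).ne')
      (CT.irr_one_ne_zero η.2)) (CT.irr_one_ne_zero θ.2))
    linear_combination (θ : N → ℂ) 1 * hmul + (p : ℂ) ^ m * (Nat.card N : ℂ) * hval -
      (η : K → ℂ) 1 * (p : ℂ) ^ m * hmul'
  rcases hjm.lt_or_eq with hlt | rfl
  · refine absurd ?_ (hg.2.2 η (self_mem_blockOf η))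
    obtain ⟨d, rfl⟩ : ∃ d, m = j + (d + 1) := ⟨m - j - 1, by omega⟩
    show MemLocalIdeal M w
    have : w = ((p : ℂ) ^ d * w') * (p : ℂ) := by
      apply mul_left_cancel₀ (pow_ne_zero j (Nat.cast_ne_zero.mpr hM.1.ne_zero))
      linear_combination key
    rw [this]
    exact memLocalIdeal_mul_left (mul_mem (pow_mem (natCast_mem _ p) d)
      (integral_mem_loc (isIntegral_centralChar θ.2 n))) ((memLocalIdeal_natCast hM p).mpr dvd_rfl)
  · refine le_antisymm ((Nat.factorization_le_iff_dvd Nat.card_pos.ne' Nat.card_pos.ne').mpr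
      (Subgroup.card_subgroup_dvd_card _) p) ?_
    rw [hC, hK, Nat.factorization_mul (pow_ne_zero _ hM.1.ne_zero) Nat.card_pos.ne',
      Nat.factorization_mul (pow_ne_zero _ hM.1.ne_zero) Nat.card_pos.ne']
    simp [-Nat.card_eq_fintype_card, Nat.factorization_eq_zero_of_not_dvd hN]

section Fong

variable (hM : IsPModular p M) (hp' : ¬ p ∣ Nat.card N) (θ : IrrCharacter N)
  (hinv : ∀ g : G, conjIrr g θ = θ) {K : Subgroup G} [hK : K.Normal] (hNK : N ≤ K)
  (hrel : ∃ m : ℕ, N.relIndex K = p ^ m)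
  (hcent : ∀ S : Subgroup G, S ≤ K → IsPGroup p S →
    Nat.card S = p ^ (Nat.card K).factorization p →
      ∀ c ∈ Subgroup.centralizer (S : Set G), ¬ p ∣ orderOf c → c ∈ K)

include hM hp' hinv hNK hrel hcent in
/-- The centralizer of some defect group lies in the intermediate subgroup. -/
theorem exists_defect_centralizer_le {B : Set (IrrCharacter G)} (hB : IsPBlock M B)
    {χ : IrrCharacter G} (hχB : χ ∈ B)
    (hχ : classInner (fun n : N => (χ : G → ℂ) n) (θ : N → ℂ) ≠ 0) :
    ∃ P : Subgroup G, IsDefectGroup p M B P ∧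
      ∀ c ∈ Subgroup.centralizer (P : Set G), ¬ p ∣ orderOf c → c ∈ K := by
  classical
  haveI : Fact p.Prime := ⟨hM.1⟩
  letI := Fintype.ofFinite G
  letI := Fintype.ofFinite K
  obtain ⟨η, hη⟩ := CT.exists_constituent_restrict K χ.2
  obtain ⟨D, hD⟩ := exists_defectGroup (p := p) (isPBlock_blockOf (M := M) η)
  have hsub : (D.map K.subtype).subgroupOf K = D :=
    Subgroup.comap_map_eq_self_of_injective K.subtype_injective D
  obtain ⟨P, hP, hPK⟩ := knorr_cover hM (isPBlock_blockOf η) (Subgroup.map_subtype_le D)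
    (hsub.symm ▸ hD) hB ⟨χ, hχB, η, self_mem_blockOf η, hη⟩
  obtain ⟨-, -, -, hDp, -⟩ := defectGroup_spec hD
  refine ⟨P, hP, fun c hc hreg => hcent (D.map K.subtype) (Subgroup.map_subtype_le D) (hDp.map _) ?_
    c (fun d hd => hc d (hPK ▸ hd : d ∈ P ⊓ K).1) hreg⟩
  rw [Subgroup.card_map_of_injective K.subtype_injective]
  exact card_defect_over hM hp' θ hinv hNK hrel hχ hη hD

include hM hp' hinv hNK hrel hcent in
theorem mem_of_regular_unit {B : Set (IrrCharacter G)} (hB : IsPBlock M B)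
    {χ : IrrCharacter G} (hχB : χ ∈ B)
    (hχ : classInner (fun n : N => (χ : G → ℂ) n) (θ : N → ℂ) ≠ 0) {h : G}
    (hreg : ¬ p ∣ orderOf h) (hh : ¬ MemLocalIdeal M (centralChar (χ : G → ℂ) h)) : h ∈ N := by
  haveI : Fact p.Prime := ⟨hM.1⟩
  obtain ⟨P, hP, hC⟩ := exists_defect_centralizer_le hM hp' θ hinv hNK hrel hcent hB hχB hχ
  obtain ⟨x, hx⟩ := defect_conj_le_centralizer hM hB hP hχB hh
  refine mem_of_regular_of_pow_relIndex hrel ?_ hreg
  have h1 : x⁻¹ * h * x ∈ K := hC _ (fun q hq => by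
    have e := Subgroup.mem_centralizer_singleton_iff.mp
      (hx (mem_map_conj.mpr (by simpa [mul_assoc] using hq) :
        x * q * x⁻¹ ∈ P.map (MulAut.conj x).toMonoidHom))
    calc q * (x⁻¹ * h * x) = x⁻¹ * ((x * q * x⁻¹) * h) * x := by group
      _ = x⁻¹ * (h * (x * q * x⁻¹)) * x := by rw [e]
      _ = x⁻¹ * h * x * q := by group) (by
    rwa [show x⁻¹ * h * x = MulAut.conj x⁻¹ h by simp, MulEquiv.orderOf_eq])
  simpa [mul_assoc] using hK.conj_mem _ h1 x

include hM hp' hinv hNK hrel hcent in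
/-- All characters over the invariant character are in one block. -/
theorem mem_block_of_over {B : Set (IrrCharacter G)} (hB : IsPBlock M B)
    {χ : IrrCharacter G} (hχB : χ ∈ B)
    (hχ : classInner (fun n : N => (χ : G → ℂ) n) (θ : N → ℂ) ≠ 0) {χ' : IrrCharacter G}
    (hχ' : classInner (fun n : N => (χ' : G → ℂ) n) (θ : N → ℂ) ≠ 0) : χ' ∈ B := by
  classical
  haveI : Fact p.Prime := ⟨hM.1⟩
  have hA := blockCoeff_mem_loc hB
  have e : omegaBar M χ' (bBar M B) = omegaBar M χ (bBar M B) := by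
    rw [omegaBar_apply, omegaBar_apply]
    refine Finset.sum_congr rfl fun C _ => ?_
    by_cases h0 : (bBar M B : MonoidAlgebra (Res M) G).coeff (rep C) = 0
    · rw [h0, zero_mul, zero_mul]
    congr 1
    have hreg := regular_of_red_blockCoeff hM hB ((coeff_bBar_ne_zero_iff hA _).mp h0)
    by_cases hN : rep C ∈ N
    · congr 1
      refine Subtype.ext ?_
      show centralChar (χ' : G → ℂ) ((⟨rep C, hN⟩ : N) : G) =
        centralChar (χ : G → ℂ) ((⟨rep C, hN⟩ : N) : G)
      rw [centralChar_eq_inducedCentralChar χ' hχ', centralChar_eq_inducedCentralChar χ hχ]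
    · have hz : ∀ (B' : Set (IrrCharacter G)) (η : IrrCharacter G), IsPBlock M B' → η ∈ B' →
          classInner (fun n : N => (η : G → ℂ) n) (θ : N → ℂ) ≠ 0 →
          red M (centralCharL M η (rep C)) = 0 := fun B' η hB' hη hηc => by
        by_contra hne
        exact hN (mem_of_regular_unit hM hp' θ hinv hNK hrel hcent hB' hη hηc hreg
          ((red_centralCharL_ne_zero_iff η _).mp hne))
      rw [hz _ χ' (isPBlock_blockOf χ') (self_mem_blockOf χ') hχ', hz _ χ hB hχB hχ]
  rw [omegaBar_bBar hA, omegaBar_bBar hA, if_pos hχB] at e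
  by_contra hc
  rw [if_neg hc] at e
  exact zero_ne_one e

include hM hp' hinv hNK hrel hcent in
/-- Fong: the characters over the invariant character form one block of full defect. -/
theorem exists_block_over : ∃ B : Set (IrrCharacter G), IsPBlock M B ∧
    (∀ χ : IrrCharacter G, χ ∈ B ↔ classInner (fun n : N => (χ : G → ℂ) n) (θ : N → ℂ) ≠ 0) ∧
    blockDefect p B = (Nat.card G).factorization p := by
  classical
  haveI : Fact p.Prime := ⟨hM.1⟩
  letI := Fintype.ofFinite G
  obtain ⟨χ₀, hχ₀⟩ := CT.exists_irr_over N θ.2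
  have hb := isPBlock_singleton hM hp' θ
  set B := blockOf M (χ₀ : G → ℂ)
  have hB : IsPBlock M B := isPBlock_blockOf χ₀
  have hiff : ∀ χ : IrrCharacter G,
      χ ∈ B ↔ classInner (fun n : N => (χ : G → ℂ) n) (θ : N → ℂ) ≠ 0 := by
    refine fun χ => ⟨fun h => ?_, mem_block_of_over hM hp' θ hinv hNK hrel hcent hB
      (self_mem_blockOf χ₀) hχ₀⟩
    obtain ⟨ψ, hψ⟩ := CT.exists_constituent_restrict N χ.2
    obtain ⟨g, hg⟩ := covered_conj hB hb (self_mem_blockOf χ₀) (Set.mem_singleton θ) hχ₀ h hψ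
    have : ψ = θ := by
      rw [← hinv g⁻¹, ← Set.mem_singleton_iff.mp hg, ← conjIrr_mul, mul_inv_cancel, conjIrr_one]
    exact this ▸ hψ
  refine ⟨B, hB, hiff, ?_⟩
  have hinvb : ∀ g : G, ∀ ψ ∈ ({θ} : Set (IrrCharacter N)), conjIrr g ψ ∈ ({θ} : Set (IrrCharacter N)) :=
    fun g ψ hψ => by rw [Set.mem_singleton_iff.mp hψ, hinv]; rfl
  obtain ⟨P, hP⟩ := exists_defectGroup (p := p) hB
  obtain ⟨-, -, hd⟩ := fong hM hb hinvb hB
    ⟨χ₀, self_mem_blockOf χ₀, θ, Set.mem_singleton θ, hχ₀⟩ (fun B' hB' hc => by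
      obtain ⟨χ, hχ, ψ, hψ, hc⟩ := hc
      rw [Set.mem_singleton_iff.mp hψ] at hc
      rw [block_eq_of_mem hB' hB hχ ((hiff χ).mpr hc)]) hP
  rw [hd, ← N.index_mul_card, Nat.factorization_mul Subgroup.index_ne_zero_of_finite
    Nat.card_pos.ne', blockDefect]
  have hdeg : ¬ p ∣ charDegree (θ : N → ℂ) := fun h => hp' (h.trans (charDegree_dvd_card θ))
  simp [-Nat.card_eq_fintype_card, Nat.factorization_eq_zero_of_not_dvd hp',
    Nat.factorization_eq_zero_of_not_dvd hdeg]

end Fong

theorem isPSolvable_subgroup [Fact p.Prime] (h : IsPSolvable p G) (S : Subgroup G) :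
    IsPSolvable p S := by
  obtain ⟨n, C, h0, h1, hmono, hn, hfac⟩ := h
  refine ⟨n, fun i => (C i).subgroupOf S, by simp [h0], by simp [h1],
    fun i j hij => Subgroup.comap_mono (hmono hij), fun i => (hn i).comap S.subtype, fun i => ?_⟩
  haveI := hn i.castSucc
  have hd : ((C i.castSucc).subgroupOf S).relIndex ((C i.succ).subgroupOf S) ∣
      (C i.castSucc).relIndex (C i.succ) := by
    rw [← Subgroup.inf_subgroupOf_right (C i.succ) S, Subgroup.relIndex_subgroupOf inf_le_right]
    rw [← Subgroup.relIndex_subgroupOf (inf_le_left : C i.succ ⊓ S ≤ C i.succ)]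
    exact Subgroup.relIndex_dvd_index_of_normal _ _
  rcases hfac i with ⟨m, hm⟩ | hc
  · rw [hm] at hd
    obtain ⟨j, -, hj⟩ := (Nat.dvd_prime_pow (Fact.out : p.Prime)).mp hd
    exact Or.inl ⟨j, hj⟩
  · exact Or.inr (hc.coprime_dvd_left hd)

/-- The preimage of the `p`-core of the quotient by the largest normal `p'`-subgroup. -/
theorem exists_intermediate [Fact p.Prime] (hs : IsPSolvable p G) (hN : N = pPrimeCore p G) :
    ∃ K : Subgroup G, K.Normal ∧ N ≤ K ∧ (∃ m : ℕ, N.relIndex K = p ^ m) ∧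
      ∀ S : Subgroup G, S ≤ K → IsPGroup p S →
        Nat.card S = p ^ (Nat.card K).factorization p →
          ∀ c ∈ Subgroup.centralizer (S : Set G), ¬ p ∣ orderOf c → c ∈ K := by
  have hp' : ¬ p ∣ Nat.card N := by
    rw [hN]
    exact (Fact.out : p.Prime).coprime_iff_not_dvd.mp (Basics.pPrimeCore_coprime p).symm
  subst hN
  set N := pPrimeCore p G
  set O := pCore p (G ⧸ N)
  have hcore := Transfer.centralizer_pCore_le_of_pSolvable (p := p) (X := G ⧸ N)
    (Basics.pPrimeCore_quotient_eq_bot p)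
    (isPSolvable_subgroup (Coprime23.isPSolvable_map (QuotientGroup.mk' N)
      (QuotientGroup.mk'_surjective N) hs) _)
  haveI : O.Normal := Basics.pCore_normal p
  obtain ⟨m, hm⟩ := IsPGroup.iff_card.mp (Basics.pCore_isPGroup (G := G ⧸ N) p)
  set K := O.comap (QuotientGroup.mk' N) with hKdef
  have hKcard : Nat.card K = p ^ m * Nat.card N := by
    rw [← hm]; exact (Basics.card_comap_mk' O).trans (mul_comm _ _) |> fun h => by linarith
  have hNK : N ≤ K := fun x hx => by
    show QuotientGroup.mk' N x ∈ O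
    rw [QuotientGroup.mk'_apply, (QuotientGroup.eq_one_iff x).mpr hx]
    exact O.one_mem
  refine ⟨K, inferInstance, hNK, ⟨m, ?_⟩, fun S hSK hS hcard c hc _ => ?_⟩
  · have := (N.subgroupOf K).index_mul_card
    rw [Nat.card_congr (Subgroup.subgroupOfEquivOfLe hNK).toEquiv, hKcard] at this
    exact Nat.eq_of_mul_eq_mul_right Nat.card_pos this
  · have hmap : S.map (QuotientGroup.mk' N) = O := by
      have hinj : Function.Injective ((QuotientGroup.mk' N).comp S.subtype) := by
        rw [injective_iff_map_eq_one]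
        intro s hs
        have hsN : (s : G) ∈ N := (QuotientGroup.eq_one_iff _).mp hs
        obtain ⟨k, hk⟩ := hS s
        have h1 : orderOf s ∣ p ^ k := orderOf_dvd_of_pow_eq_one hk
        have h2 : orderOf s ∣ Nat.card N := by
          rw [← Subgroup.orderOf_coe, ← Subgroup.orderOf_mk (s : G) hsN]
          exact _root_.orderOf_dvd_natCard _
        exact orderOf_eq_one_iff.mp (Nat.eq_one_of_dvd_coprimes
          (((Fact.out : p.Prime).coprime_iff_not_dvd.mpr hp').pow_left k) h1 h2)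
      refine Subgroup.eq_of_le_of_card_ge ?_ (le_of_eq ?_)
      · rintro _ ⟨s, hs, rfl⟩
        exact hSK hs
      · have : S.map (QuotientGroup.mk' N) = ((QuotientGroup.mk' N).comp S.subtype).range := by
          rw [MonoidHom.range_comp, Subgroup.range_subtype]
        rw [this, ← Nat.card_congr (MonoidHom.ofInjective hinj).toEquiv, hcard, hm, hKcard,
          Nat.factorization_mul (pow_ne_zero _ (Fact.out : p.Prime).ne_zero) Nat.card_pos.ne']
        simp [-Nat.card_eq_fintype_card, Nat.factorization_eq_zero_of_not_dvd hp', (Fact.out : p.Prime).factorization_self]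
    refine hcore ?_
    intro y hy
    change y ∈ O at hy
    rw [← hmap] at hy
    obtain ⟨s, hs, rfl⟩ := hy
    rw [← map_mul, ← map_mul, hc s hs]

end Cfsg.Agent.Blocks
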