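import Mathlib.RingTheory.SimpleModule.IsAlgClosed
import Mathlib.RingTheory.Idempotents
import Mathlib.RingTheory.Artinian.Module
import Mathlib.LinearAlgebra.Dual.Lemmas
import Mathlib.LinearAlgebra.Matrix.Trace

/-!
# Central summands of a symmetric algebra with a centre of dimension at most two

For a finite-dimensional symmetric algebra over an algebraically closed field and a primitive
central idempotent `e` with `dim e Z ≤ 2`, the summand is a matrix algebra over a local algebra
of dimension at most two.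
-/

set_option linter.unusedSectionVars false

namespace Cfsg.Agent.Corner

open Module

universe u v

variable {K : Type u} [Field K] {R : Type v} [Ring R] [Algebra K R] [FiniteDimensional K R]

/-- The semisimple quotient as a product of matrix algebras. -/
theorem exists_matrix_quotient [IsAlgClosed K] : ∃ (m : ℕ) (d : Fin m → ℕ)
    (π : R →ₐ[K] Π i, Matrix (Fin (d i)) (Fin (d i)) K),
      Function.Surjective π ∧ (∀ i, NeZero (d i)) ∧ IsNilpotent (RingHom.ker π.toRingHom) := by
  haveI : IsArtinianRing R := IsArtinianRing.of_finite K R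
  haveI : IsSemisimpleRing (R ⧸ Ring.jacobson R) := IsSemiprimaryRing.isSemisimpleRing
  haveI : FiniteDimensional K (R ⧸ Ring.jacobson R) :=
    Module.Finite.of_surjective (Ideal.Quotient.mkₐ K (Ring.jacobson R)).toLinearMap
      (Ideal.Quotient.mkₐ_surjective K _)
  obtain ⟨m, d, hd, ⟨eqv⟩⟩ :=
    IsSemisimpleRing.exists_algEquiv_pi_matrix_of_isAlgClosed K (R ⧸ Ring.jacobson R)
  refine ⟨m, d, eqv.toAlgHom.comp (Ideal.Quotient.mkₐ K _),
    eqv.surjective.comp (Ideal.Quotient.mkₐ_surjective K _), hd, ?_⟩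
  have h : RingHom.ker (eqv.toAlgHom.comp (Ideal.Quotient.mkₐ K (Ring.jacobson R))).toRingHom =
      Ring.jacobson R := by
    ext x
    simp [RingHom.mem_ker, Ideal.Quotient.eq_zero_iff_mem]
  rw [h]
  exact IsSemiprimaryRing.isNilpotent

/-- A linear functional is tracial. -/
def IsTracial (l : R →ₗ[K] K) : Prop := ∀ x y, l (x * y) = l (y * x)

/-- The tracial functionals supported on `e`. -/
def tracialOn (e : R) : Submodule K (R →ₗ[K] K) where
  carrier := {l | IsTracial l ∧ ∀ x, l (e * x) = l x}
  add_mem' := fun {a b} ha hb => ⟨fun x y => by simp [ha.1 x y, hb.1 x y],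
    fun x => by simp [ha.2 x, hb.2 x]⟩
  zero_mem' := ⟨fun x y => by simp, fun x => by simp⟩
  smul_mem' := fun c {a} ha => ⟨fun x y => by simp [ha.1 x y], fun x => by simp [ha.2 x]⟩

/-- Tracial functionals supported on `e` come from the centre of `e R`. -/
theorem finrank_tracialOn_le (τ : R →ₗ[K] K) (hτ : IsTracial τ)
    (hnd : ∀ x, (∀ y, τ (x * y) = 0) → x = 0) {e : R} (he : ∀ x, e * x = x * e)
    (Z : Submodule K R) (hZ : ∀ c, (∀ x, c * x = x * c) → c * e = c → c ∈ Z)
    (he2 : e * e = e) : finrank K (tracialOn (K := K) e) ≤ finrank K Z := by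
  let T : R →ₗ[K] (R →ₗ[K] K) :=
    { toFun := fun c => τ.comp (LinearMap.mulLeft K c)
      map_add' := fun a b => LinearMap.ext fun x => by simp [add_mul]
      map_smul' := fun a b => LinearMap.ext fun x => by simp }
  have hT : ∀ c x, T c x = τ (c * x) := fun c x => rfl
  have hinj : Function.Injective T := fun a b h => by
    refine sub_eq_zero.mp (hnd _ fun y => ?_)
    have := LinearMap.congr_fun h y
    rw [hT, hT] at this
    rw [sub_mul, map_sub, this, sub_self]
  have hsurj : Function.Surjective T :=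
    (LinearMap.injective_iff_surjective_of_finrank_eq_finrank Subspace.dual_finrank_eq.symm).mp hinj
  refine (Submodule.finrank_mono (t := Z.map T) fun l hl => ?_).trans (Submodule.finrank_map_le T Z)
  obtain ⟨c, rfl⟩ := hsurj l
  refine ⟨c, hZ c (fun x => ?_) ?_, rfl⟩
  · refine sub_eq_zero.mp (hnd _ fun y => ?_)
    have h1 := hl.1 x y
    rw [hT, hT] at h1
    rw [sub_mul, map_sub, mul_assoc, h1, ← mul_assoc, hτ (c * y) x, ← mul_assoc, sub_self]
  · refine hinj (LinearMap.ext fun x => ?_)
    rw [hT, mul_assoc, ← hT, hl.2 x]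

/-- The data of a system of matrix units for `e R` with corner `f R f`. -/
theorem exists_matrix_units {e : R} (he : ∀ x, e * x = x * e) (he2 : e * e = e)
    {m : ℕ} {d : Fin m → ℕ} (π : R →ₐ[K] Π i, Matrix (Fin (d i)) (Fin (d i)) K)
    (hπ : Function.Surjective π) (hker : IsNilpotent (RingHom.ker π.toRingHom)) (i : Fin m)
    (hi : π e = Pi.single i 1) (j₀ : Fin (d i)) :
    ∃ (f : R) (u v : Fin (d i) → R), f * f = f ∧ e * f = f ∧
      π f = Pi.single i (Matrix.single j₀ j₀ 1) ∧ u j₀ = f ∧ v j₀ = f ∧
      (∀ j, f * u j = u j ∧ v j * f = v j ∧ e * u j = u j) ∧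
      (∀ j k, u j * v k = if j = k then f else 0) ∧ ∑ j, v j * u j = e := by
  classical
  obtain ⟨N, hN⟩ := hker
  have hnil : ∀ x, π x = 0 → IsNilpotent x := fun x hx => ⟨N, by
    have := Ideal.pow_mem_pow (show x ∈ RingHom.ker π.toRingHom from hx) N
    rw [hN] at this
    exact this⟩
  have hzero : ∀ x, x * x = x → π x = 0 → x = 0 := fun x hx hx0 => by
    obtain ⟨n, hn⟩ := hnil x hx0
    rcases n with - | n
    · rw [pow_zero] at hn
      rw [← mul_one x, hn, mul_zero]
    · rwa [IsIdempotentElem.pow_succ_eq n hx] at hn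
  let E : Fin (d i) → Fin (d i) → Π i', Matrix (Fin (d i')) (Fin (d i')) K :=
    fun j k => Pi.single i (Matrix.single j k 1)
  have hE : ∀ j k k' l, E j k * E k' l = if k = k' then E j l else 0 := fun j k k' l => by
    simp only [E, ← Pi.single_mul]
    split_ifs with h
    · subst h; simp
    · rw [Matrix.single_mul_single_of_ne (h := h), Pi.single_zero]
  have horth : OrthogonalIdempotents fun j => E j j :=
    ⟨fun j => by rw [IsIdempotentElem, hE, if_pos rfl], fun j k h => by
      show E j j * E k k = 0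
      rw [hE, if_neg h]⟩
  obtain ⟨ε, hε, hπε⟩ := OrthogonalIdempotents.lift_of_isNilpotent_ker π.toRingHom
    (fun x hx => hnil x hx) horth (fun j => hπ (E j j))
  have hπε' : ∀ j, π (ε j) = E j j := fun j => congr_fun hπε j
  obtain ⟨ej, hej⟩ : ∃ ej : Fin (d i) → R, ∀ j, ej j = e * ε j := ⟨_, fun _ => rfl⟩
  have hmm : ∀ j k, ej j * ej k = if j = k then ej j else 0 := fun j k => by
    simp only [hej]
    rw [← mul_assoc, mul_assoc e (ε j) e, ← he, ← mul_assoc, he2, mul_assoc, hε.mul_eq]
    split_ifs <;> simp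
  have hee : ∀ j, e * ej j = ej j := fun j => by simp only [hej]; rw [← mul_assoc, he2]
  have hπe : ∀ j, π (ej j) = E j j := fun j => by
    simp only [hej, map_mul, hπε', hi, E, ← Pi.single_mul, one_mul]
  have hsum : ∑ j, ej j = e := by
    refine (sub_eq_zero.mp (hzero (e - ∑ j, ej j) ?_ ?_)).symm
    · have h1 : e * ∑ j, ej j = ∑ j, ej j := by rw [Finset.mul_sum]; simp [hee]
      have h2 : (∑ j, ej j) * e = ∑ j, ej j := by rw [← he]; exact h1
      have h3 : (∑ j, ej j) * ∑ j, ej j = ∑ j, ej j := by
        simp [Finset.mul_sum, Finset.sum_mul, hmm]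
      rw [sub_mul, mul_sub, mul_sub, he2, h1, h2, h3, sub_self, sub_zero]
    · rw [map_sub, map_sum, hi]
      simp only [hπe, E]
      funext i'
      rcases eq_or_ne i' i with rfl | hne
      · rw [Pi.sub_apply, Finset.sum_apply]
        simp only [Pi.single_eq_same, Pi.zero_apply]
        rw [show (∑ j, Matrix.single j j (1 : K)) = 1 by
          ext a b
          simp [Matrix.sum_apply, Matrix.single_apply, Matrix.one_apply, eq_comm, Finset.sum_ite_eq,
            ite_and], sub_self]
      · simp [Pi.single_eq_of_ne hne]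
  obtain ⟨f, hf⟩ : ∃ f : R, f = ej j₀ := ⟨_, rfl⟩
  have hff : f * f = f := by rw [hf, hmm, if_pos rfl]
  have key : ∀ j, ∃ a b : R, f * a = a ∧ a * ej j = a ∧ b * f = b ∧ ej j * b = b ∧
      a * b = f ∧ b * a = ej j := by
    intro j
    obtain ⟨a₀, ha₀⟩ := hπ (E j₀ j)
    obtain ⟨b₀, hb₀⟩ := hπ (E j j₀)
    obtain ⟨a, ha⟩ : ∃ a : R, a = f * a₀ * ej j := ⟨_, rfl⟩
    obtain ⟨b, hb⟩ : ∃ b : R, b = ej j * b₀ * f := ⟨_, rfl⟩
    have hπa : π a = E j₀ j := by simp [ha, hf, hπe, ha₀, hE]
    have hπb : π b = E j j₀ := by simp [hb, hf, hπe, hb₀, hE]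
    have hejj : ej j * ej j = ej j := by rw [hmm, if_pos rfl]
    have hfa : f * a = a := by rw [ha]; simp only [← mul_assoc, hff]
    have hae : a * ej j = a := by rw [ha]; simp only [mul_assoc, hejj]
    have heb : ej j * b = b := by rw [hb]; simp only [← mul_assoc, hejj]
    have hbf : b * f = b := by rw [hb]; simp only [mul_assoc, hff]
    obtain ⟨w, hwd⟩ : ∃ w : R, w = a * b - f := ⟨_, rfl⟩
    have hfw : f * w = w := by simp only [hwd, mul_sub, ← mul_assoc, hfa, hff]
    have hwf : w * f = w := by simp only [hwd, sub_mul, mul_assoc, hbf, hff]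
    have hw : IsNilpotent w := hnil w (by simp [hwd, hπa, hπb, hf, hπe, hE])
    obtain ⟨g, hg⟩ := (hw.isUnit_one_add : IsUnit (1 + w))
    have hgf : Commute (↑g⁻¹ : R) f := by
      have : Commute (↑g : R) f := by
        rw [hg, Commute, SemiconjBy, add_mul, mul_add, hfw, hwf, one_mul, mul_one]
      exact this.units_inv_left
    have hab : a * b = f * g := by
      rw [hg, mul_add, mul_one, hfw]
      simp [hwd]
    refine ⟨a, b * (↑g⁻¹ : R) * f, hfa, hae, by rw [mul_assoc, hff],
      by rw [← mul_assoc, ← mul_assoc, heb], ?_, ?_⟩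
    · rw [← mul_assoc, ← mul_assoc, hab, mul_assoc f, Units.mul_inv, mul_one, hff]
    · have hb' : b * (↑g⁻¹ : R) * f = b * (↑g⁻¹ : R) := by
        rw [mul_assoc, hgf.eq, ← mul_assoc, hbf]
      rw [hb']
      have hab' : a * (b * (↑g⁻¹ : R)) = f := by
        rw [← mul_assoc, hab, mul_assoc, Units.mul_inv, mul_one]
      have hidem : b * (↑g⁻¹ : R) * a * (b * (↑g⁻¹ : R) * a) = b * (↑g⁻¹ : R) * a := by
        rw [mul_assoc _ a, ← mul_assoc a, hab', hfa]
      have hce : ej j * (b * (↑g⁻¹ : R) * a) = b * (↑g⁻¹ : R) * a := by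
        rw [← mul_assoc, ← mul_assoc, heb]
      have hec : b * (↑g⁻¹ : R) * a * ej j = b * (↑g⁻¹ : R) * a := by rw [mul_assoc, hae]
      refine (sub_eq_zero.mp (hzero (ej j - b * (↑g⁻¹ : R) * a) ?_ ?_)).symm
      · rw [sub_mul, mul_sub, mul_sub, hejj, hidem, hce, hec, sub_self, sub_zero]
      · have hπg : π (↑g⁻¹ : R) = 1 := by
          have h1 : π (↑g : R) = 1 := by simp [hg, hwd, hπa, hπb, hf, hπe, hE]
          have h2 : π (↑g : R) * π (↑g⁻¹ : R) = 1 := by rw [← map_mul, Units.mul_inv, map_one]
          rwa [h1, one_mul] at h2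
        simp [hπa, hπb, hπg, hπe, hE]
  choose a b ha haj hb hbj hab hba using key
  refine ⟨f, Function.update a j₀ f, Function.update b j₀ f, hff, hf ▸ hee j₀, hf ▸ hπe j₀,
    Function.update_self .., Function.update_self .., fun j => ?_, fun j k => ?_, ?_⟩
  · rcases eq_or_ne j j₀ with rfl | h
    · simp only [Function.update_self]
      exact ⟨hff, hff, hf ▸ hee _⟩
    · simp only [Function.update_of_ne h]
      refine ⟨ha j, hb j, ?_⟩
      rw [← haj j, ← mul_assoc, he, mul_assoc, hee]
  · have hu : ∀ j, Function.update a j₀ f j * ej j = Function.update a j₀ f j := fun j => by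
      rcases eq_or_ne j j₀ with rfl | h
      · rw [Function.update_self, ← hf]; exact hff
      · rw [Function.update_of_ne h]; exact haj j
    have hv : ∀ j, ej j * Function.update b j₀ f j = Function.update b j₀ f j := fun j => by
      rcases eq_or_ne j j₀ with rfl | h
      · rw [Function.update_self, ← hf]; exact hff
      · rw [Function.update_of_ne h]; exact hbj j
    split_ifs with h
    · subst h
      rcases eq_or_ne j j₀ with rfl | h
      · simp only [Function.update_self]; rw [hff, hf]
      · simp only [Function.update_of_ne h]; exact hab j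
    · rw [← hu j, ← hv k, mul_assoc, ← mul_assoc (ej j), hmm, if_neg h, zero_mul, mul_zero]
  · rw [← hsum]
    refine Finset.sum_congr rfl fun j _ => ?_
    rcases eq_or_ne j j₀ with rfl | h
    · simp only [Function.update_self]; rw [hff, hf]
    · simp only [Function.update_of_ne h]; exact hba j

/-- The unit group of a local corner with few traces is commutative and small. -/
theorem finrank_corner_le_two {f : R} (hff : f * f = f) (hf0 : f ≠ 0) (J : Submodule K R)
    (hJ : ∀ x, f * x * f - x = 0 → ∃ a : K, x - a • f ∈ J)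
    (hJf : ∀ x ∈ J, f * x * f = x) (hJmul : ∀ x ∈ J, ∀ y ∈ J, x * y ∈ J) {N : ℕ}
    (hJnil : J ^ (N + 1) = ⊥)
    (hfun : ∀ T : Submodule K (Module.Dual K (LinearMap.range
        ((LinearMap.mulLeft K f).comp (LinearMap.mulRight K f)))),
      (∀ l ∈ T, ∀ a b c c' : LinearMap.range ((LinearMap.mulLeft K f).comp (LinearMap.mulRight K f)),
        (c : R) = a * b → (c' : R) = b * a → l c = l c') → finrank K T ≤ 2) :
    finrank K (LinearMap.range ((LinearMap.mulLeft K f).comp (LinearMap.mulRight K f))) ≤ 2 := by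
  set A := LinearMap.range ((LinearMap.mulLeft K f).comp (LinearMap.mulRight K f)) with hA
  have hmemA : ∀ x, x ∈ A ↔ f * x * f = x := fun x => by
    constructor
    · rintro ⟨y, rfl⟩
      simp only [LinearMap.comp_apply, LinearMap.mulLeft_apply, LinearMap.mulRight_apply, ← mul_assoc]
      rw [hff, mul_assoc, hff]
    · intro h
      exact ⟨x, by simp only [LinearMap.comp_apply, LinearMap.mulLeft_apply, LinearMap.mulRight_apply,
        ← mul_assoc, h]⟩
  have hJA : J ≤ A := fun x hx => (hmemA x).mpr (hJf x hx)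
  have hJJ : J * J ≤ J := Submodule.mul_le.mpr hJmul
  have hfx : ∀ x ∈ A, f * x = x ∧ x * f = x := fun x hx => by
    constructor
    · conv_lhs => rw [← (hmemA x).mp hx]
      rw [← mul_assoc, ← mul_assoc, hff, (hmemA x).mp hx]
    · conv_lhs => rw [← (hmemA x).mp hx]
      rw [mul_assoc, hff, (hmemA x).mp hx]
  have hcomm : ∀ a ∈ A, ∀ b ∈ A, a * b - b * a ∈ J * J := by
    intro a ha b hb
    obtain ⟨α, hα⟩ := hJ a (sub_eq_zero.mpr ((hmemA a).mp ha))
    obtain ⟨β, hβ⟩ := hJ b (sub_eq_zero.mpr ((hmemA b).mp hb))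
    have : a * b - b * a = (a - α • f) * (b - β • f) - (b - β • f) * (a - α • f) := by
      simp only [sub_mul, mul_sub, smul_mul_assoc, mul_smul_comm, hff, (hfx a ha).1, (hfx a ha).2,
        (hfx b hb).1, (hfx b hb).2, smul_sub, smul_smul, mul_comm β α]
      abel
    rw [this]
    exact sub_mem (Submodule.mul_mem_mul hα hβ) (Submodule.mul_mem_mul hβ hα)
  -- traces bound the first layer
  have hS : finrank K A ≤ finrank K ↥(J * J) + 2 := by
    set S : Submodule K A := (J * J).comap A.subtype with hSdef
    have h2 : finrank K S.dualAnnihilator ≤ 2 := hfun _ fun l hl a b c c' hc hc' => by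
      have hmem : c - c' ∈ S := by
        show ((c - c' : A) : R) ∈ J * J
        rw [AddSubgroupClass.coe_sub, hc, hc']
        exact hcomm _ a.2 _ b.2
      have := (Submodule.mem_dualAnnihilator l).mp hl _ hmem
      rwa [map_sub, sub_eq_zero] at this
    have h3 := Subspace.finrank_add_finrank_dualAnnihilator_eq S
    have h4 : finrank K S = finrank K ↥(J * J) :=
      (Submodule.comapSubtypeEquivOfLe (hJJ.trans hJA)).finrank_eq
    omega
  by_cases hJ0 : J = ⊥
  · have hle : A ≤ Submodule.span K {f} := fun x hx => by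
      obtain ⟨α, hα⟩ := hJ x (sub_eq_zero.mpr ((hmemA x).mp hx))
      rw [hJ0, Submodule.mem_bot, sub_eq_zero] at hα
      exact hα ▸ Submodule.smul_mem _ α (Submodule.mem_span_singleton_self f)
    have := (Submodule.finrank_mono hle).trans (finrank_span_singleton hf0).le
    omega
  obtain ⟨t, htJ, htJJ⟩ : ∃ t ∈ J, t ∉ J * J := by
    by_contra h
    push Not at h
    refine hJ0 (le_bot_iff.mp ?_)
    have hle : ∀ k : ℕ, J ≤ J ^ (k + 1) := fun k => by
      induction k with
      | zero => rw [zero_add, pow_one]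
      | succ k ih =>
        refine (show J ≤ J * J from h).trans ?_
        rw [pow_succ']
        exact mul_le_mul_right ih J
    exact hJnil ▸ hle N
  have hfJ : f ∉ J := fun h => by
    have : ∀ k : ℕ, f ∈ J ^ (k + 1) := fun k => by
      induction k with
      | zero => rwa [pow_one]
      | succ k ih => rw [pow_succ', ← hff]; exact Submodule.mul_mem_mul h ih
    have := this N
    rw [hJnil, Submodule.mem_bot] at this
    exact hf0 this
  have hlt : J < A := lt_of_le_of_ne hJA fun h => hfJ (h ▸ (hmemA f).mpr (by rw [hff, hff]))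
  have hlt' := Submodule.finrank_lt_finrank_of_lt hlt
  have hspan : J = J * J ⊔ Submodule.span K {t} := by
    refine (Submodule.eq_of_le_of_finrank_le (sup_le hJJ ((Submodule.span_singleton_le_iff_mem t J).mpr htJ)) ?_).symm
    have : J * J < J * J ⊔ Submodule.span K {t} :=
      lt_of_le_of_ne le_sup_left fun h => htJJ (h ▸ Submodule.mem_sup_right (Submodule.mem_span_singleton_self t))
    have := Submodule.finrank_lt_finrank_of_lt this
    omega
  set S := Submodule.span K (Set.range fun k : ℕ => t ^ (k + 1)) with hSdef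
  have hlayer : ∀ k : ℕ, J ^ (k + 1) ≤ Submodule.span K {t ^ (k + 1)} ⊔ J ^ (k + 2) := by
    intro k
    induction k with
    | zero => rw [zero_add, pow_one, pow_one, pow_two, sup_comm]; exact hspan.le
    | succ k ih =>
      rw [pow_succ J (k + 1)]
      refine (mul_le_mul' ih hspan.le).trans ?_
      rw [Submodule.sup_mul, Submodule.mul_sup, Submodule.mul_sup]
      have ht : Submodule.span K {t ^ (k + 1)} ≤ J ^ (k + 1) := by
        rw [Submodule.span_singleton_le_iff_mem]
        exact Submodule.pow_mem_pow J htJ _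
      have ht1 : Submodule.span K {t} ≤ J := (Submodule.span_singleton_le_iff_mem t J).mpr htJ
      refine sup_le (sup_le ?_ ?_) (sup_le ?_ ?_)
      · refine le_trans ?_ le_sup_right
        refine (mul_le_mul_left ht _).trans (le_of_eq ?_)
        rw [← pow_two, ← pow_add]
      · rw [Submodule.span_mul_span, Set.singleton_mul_singleton, ← pow_succ]
        exact le_sup_left
      · refine le_trans ?_ le_sup_right
        refine (mul_le_mul_right hJJ _).trans (le_of_eq ?_)
        rw [← pow_succ]
      · refine le_trans ?_ le_sup_right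
        refine (mul_le_mul_right ht1 _).trans (le_of_eq ?_)
        rw [← pow_succ]
  have hJS : ∀ k l : ℕ, N ≤ l + k → J ^ (l + 1) ≤ S := fun k => by
    induction k with
    | zero =>
      intro l hl
      obtain ⟨r, hr⟩ := Nat.exists_eq_add_of_le (show N + 1 ≤ l + 1 by omega)
      rw [hr, pow_add, hJnil, Submodule.bot_mul]
      exact bot_le
    | succ k ih =>
      intro l hl
      refine (hlayer l).trans (sup_le ?_ (ih (l + 1) (by omega)))
      rw [Submodule.span_singleton_le_iff_mem]
      exact Submodule.subset_span ⟨l, rfl⟩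
  have hJS1 : J ≤ S := by simpa using hJS N 0 (by omega)
  have hSc : ∀ x ∈ S, ∀ y ∈ S, x * y = y * x := by
    intro x hx y hy
    induction hx, hy using Submodule.span_induction₂ with
    | mem_mem x y hx hy =>
      obtain ⟨a, rfl⟩ := hx
      obtain ⟨b, rfl⟩ := hy
      exact (Commute.pow_pow_self t _ _).eq
    | zero_left => simp
    | zero_right => simp
    | add_left _ _ _ _ _ _ h h' => simp [add_mul, mul_add, h, h']
    | add_right _ _ _ _ _ _ h h' => simp [add_mul, mul_add, h, h']
    | smul_left r _ _ _ _ h => simp [h]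
    | smul_right r _ _ _ _ h => simp [h]
  have hAc : ∀ a ∈ A, ∀ b ∈ A, a * b = b * a := by
    intro a ha b hb
    obtain ⟨α, hα⟩ := hJ a (sub_eq_zero.mpr ((hmemA a).mp ha))
    obtain ⟨β, hβ⟩ := hJ b (sub_eq_zero.mpr ((hmemA b).mp hb))
    have h := hSc _ (hJS1 hα) _ (hJS1 hβ)
    simp only [sub_mul, mul_sub, smul_mul_assoc, mul_smul_comm, hff, (hfx a ha).1, (hfx a ha).2,
        (hfx b hb).1, (hfx b hb).2, smul_sub, smul_smul, mul_comm β α] at h
    rw [← sub_eq_zero] at h ⊢
    rw [← h]; abel
  have := hfun ⊤ fun l _ a b c c' hc hc' => congrArg l (Subtype.ext (by rw [hc, hc', hAc _ a.2 _ b.2]))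
  rwa [finrank_top, Subspace.dual_finrank_eq] at this

end Cfsg.Agent.Corner
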