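import Cfsg.Agent.Lib.Blocks.CornerAlgebra
import Mathlib.LinearAlgebra.Dimension.Constructions

/-!
# Dimensions in a central summand with a centre of dimension at most two
-/

set_option linter.unusedSectionVars false

namespace Cfsg.Agent.Corner

open Module

universe u v

variable {K : Type u} [Field K] [IsAlgClosed K] {R : Type v} [Ring R] [Algebra K R]
  [FiniteDimensional K R]

/-- The summand of a primitive central idempotent has a single simple module, and its
dimensions are those of a matrix algebra over a corner of dimension at most two. -/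
theorem exists_corner_dims (τ : R →ₗ[K] K) (hτ : IsTracial τ)
    (hnd : ∀ x, (∀ y, τ (x * y) = 0) → x = 0) {e : R} (he : ∀ x, e * x = x * e)
    (he2 : e * e = e) (he0 : e ≠ 0)
    (hprim : ∀ c, (∀ x, c * x = x * c) → c * c = c → c * e = c → c = 0 ∨ c = e)
    (Z : Submodule K R) (hZ : ∀ c, (∀ x, c * x = x * c) → c * e = c → c ∈ Z)
    (hZ2 : finrank K Z ≤ 2) :
    ∃ n a : ℕ, (a = 1 ∨ a = 2) ∧ finrank K (LinearMap.range (LinearMap.mulLeft K e)) = n * n * a ∧
      ∃ f : R, f * f = f ∧ finrank K (LinearMap.range (LinearMap.mulRight K f)) = n * a := by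
  classical
  have htr := (finrank_tracialOn_le τ hτ hnd he Z hZ he2).trans hZ2
  obtain ⟨m, d, π, hπ, hd, hker⟩ := exists_matrix_quotient (K := K) (R := R)
  have hker' := hker
  obtain ⟨N, hN⟩ := hker'
  have hnil : ∀ x, π x = 0 → IsNilpotent x := fun x hx => ⟨N, by
    have := Ideal.pow_mem_pow (show x ∈ RingHom.ker π.toRingHom from hx) N
    rw [hN] at this
    exact this⟩
  have hzero : ∀ x, x * x = x → π x = 0 → x = 0 := fun x hx hx0 => by
    obtain ⟨n, hn⟩ := hnil x hx0
    rcases n with - | n
    · rw [pow_zero] at hn
      rw [← mul_one x, hn, mul_zero]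
    · rwa [IsIdempotentElem.pow_succ_eq n hx] at hn
  -- the components of `e` are scalars `0` or `1`
  have hcomp : ∀ i, π e i = 0 ∨ π e i = 1 := by
    intro i
    obtain ⟨r, hr⟩ := (Matrix.mem_range_scalar_iff_commute_single').mpr
      (fun a b => by
        obtain ⟨x, hx⟩ := hπ (Pi.single i (Matrix.single a b 1))
        have := congrArg (fun y => π y i) (he x)
        simp only [map_mul, Pi.mul_apply, hx, Pi.single_eq_same] at this
        exact this.symm : ∀ a b, Commute (Matrix.single a b (1 : K)) (π e i))
    have hidem : π e i * π e i = π e i := by rw [← Pi.mul_apply, ← map_mul, he2]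
    rw [← hr] at hidem ⊢
    rw [← map_mul] at hidem
    haveI : NeZero (d i) := hd i
    have := congrFun (congrFun hidem 0) 0
    simp [Matrix.scalar_apply] at this
    rcases IsIdempotentElem.iff_eq_zero_or_one.mp (show IsIdempotentElem r from this) with h | h
    · exact Or.inl (by rw [h, map_zero])
    · exact Or.inr (by rw [h, map_one])
  -- exactly one component
  obtain ⟨i, hi⟩ : ∃ i, π e = Pi.single i 1 := by
    obtain ⟨i, hi⟩ : ∃ i, π e i ≠ 0 := by
      by_contra h
      push Not at h
      exact he0 (hzero e he2 (funext h))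
    refine ⟨i, ?_⟩
    by_contra hne
    obtain ⟨i', hi'⟩ : ∃ i', i' ≠ i ∧ π e i' ≠ 0 := by
      by_contra h
      push Not at h
      refine hne (funext fun k => ?_)
      rcases eq_or_ne k i with rfl | hk
      · rw [Pi.single_eq_same]; exact (hcomp k).resolve_left hi
      · rw [Pi.single_eq_of_ne hk]; exact h k hk
    haveI : NeZero (d i) := hd i
    haveI : NeZero (d i') := hd i'
    -- two independent traces
    let φ : Fin m → (R →ₗ[K] K) := fun k =>
      (Matrix.traceLinearMap (Fin (d k)) K K).comp ((LinearMap.proj k).comp π.toLinearMap)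
    have hφ : ∀ k x, φ k x = Matrix.trace (π x k) := fun k x => rfl
    have hφmem : ∀ k, π e k = 1 → φ k ∈ tracialOn (K := K) e := fun k hk =>
      ⟨fun x y => by rw [hφ, hφ, map_mul, map_mul, Pi.mul_apply, Pi.mul_apply, Matrix.trace_mul_comm],
        fun x => by rw [hφ, hφ, map_mul, Pi.mul_apply, hk, one_mul]⟩
    have hi1 := (hcomp i).resolve_left hi
    have hi1' := (hcomp i').resolve_left hi'.2
    set T := Submodule.span K {φ i, φ i'}
    have hindep : LinearIndependent K ![φ i, φ i'] := by
      rw [LinearIndependent.pair_iff]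
      intro s t hst
      obtain ⟨x, hx⟩ := hπ (Pi.single i (Matrix.single 0 0 1))
      obtain ⟨x', hx'⟩ := hπ (Pi.single i' (Matrix.single 0 0 1))
      have h1 := LinearMap.congr_fun hst x
      have h2 := LinearMap.congr_fun hst x'
      simp [hφ, hx, hx', Pi.single_eq_of_ne hi'.1, Pi.single_eq_of_ne hi'.1.symm] at h1 h2
      exact ⟨h1, h2⟩
    have hTle : T ≤ tracialOn (K := K) e := Submodule.span_le.mpr fun l hl => by
      rcases hl with rfl | rfl
      exacts [hφmem i hi1, hφmem i' hi1']
    have hT2 : finrank K T = 2 := by
      have := finrank_span_eq_card hindep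
      rwa [Fintype.card_fin, Matrix.range_cons_cons_empty] at this
    have hTeq : T = tracialOn (K := K) e := Submodule.eq_of_le_of_finrank_le hTle (by omega)
    have hinj : ∀ x, π x = 0 → e * x = 0 := by
      intro x hx
      refine hnd _ fun y => ?_
      have hl : τ.comp (LinearMap.mulLeft K e) ∈ T := by
        rw [hTeq]
        refine ⟨fun a b => ?_, fun a => ?_⟩
        · show τ (e * (a * b)) = τ (e * (b * a))
          rw [← mul_assoc, hτ (e * a) b, ← mul_assoc, ← he b, mul_assoc]
        · show τ (e * (e * a)) = τ (e * a)
          rw [← mul_assoc, he2]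
      obtain ⟨s, t, hst⟩ := Submodule.mem_span_pair.mp hl
      have := LinearMap.congr_fun hst (x * y)
      simp [hφ, hx] at this
      rw [mul_assoc]
      exact this.symm
    obtain ⟨x, hx⟩ := hπ (Pi.single i 1)
    have hπc : π (e * x) = Pi.single i 1 := by
      rw [map_mul, hx]
      funext k
      rcases eq_or_ne k i with rfl | hk
      · simp [hi1]
      · simp [Pi.single_eq_of_ne hk]
    have hcen : ∀ y, e * x * y = y * (e * x) := fun y => by
      have h0 : π (x * y - y * x) = 0 := by
        rw [map_sub, map_mul, map_mul, hx, sub_eq_zero]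
        funext k
        rcases eq_or_ne k i with rfl | hk
        · simp
        · simp [Pi.single_eq_of_ne hk]
      have := hinj _ h0
      rw [mul_sub, sub_eq_zero] at this
      rw [mul_assoc, this, ← mul_assoc, he, mul_assoc]
    have hidem : e * x * (e * x) = e * x := by
      have h0 : π (x * x - x) = 0 := by rw [map_sub, map_mul, hx, sub_eq_zero]; simp [← Pi.single_mul]
      have := hinj _ h0
      rw [mul_sub, sub_eq_zero] at this
      calc e * x * (e * x) = e * (x * e) * x := by simp only [mul_assoc]
        _ = e * (e * x) * x := by rw [← he x]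
        _ = e * (x * x) := by rw [← mul_assoc e e, he2, mul_assoc]
        _ = e * x := this
    rcases hprim (e * x) hcen hidem (by rw [← he, ← mul_assoc, he2]) with h | h
    · have := congrArg (fun y => π y i) h
      simp [hπc] at this
    · have := congrArg (fun y => π y i') h
      simp [hπc, hi1', Pi.single_eq_of_ne hi'.1] at this
  haveI : NeZero (d i) := hd i
  obtain ⟨f, u, v, hff, hef, hπf, hu0, hv0, huv1, huv, hsum⟩ :=
    exists_matrix_units he he2 π hπ hker i hi 0
  have hf0 : f ≠ 0 := fun h => by
    rw [h, map_zero] at hπf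
    have := congrFun (congrFun (congrFun hπf i) 0) 0
    simp at this
  set φA := (LinearMap.mulLeft K f).comp (LinearMap.mulRight K f) with hφA
  set A := LinearMap.range φA
  have hmemA : ∀ x, x ∈ A ↔ f * x * f = x := fun x => by
    constructor
    · rintro ⟨y, rfl⟩
      simp only [φA, LinearMap.comp_apply, LinearMap.mulLeft_apply, LinearMap.mulRight_apply,
        ← mul_assoc]
      rw [hff, mul_assoc, hff]
    · intro h
      exact ⟨x, by simp only [φA, LinearMap.comp_apply, LinearMap.mulLeft_apply,
        LinearMap.mulRight_apply, ← mul_assoc, h]⟩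
  have hfu : ∀ j, f * u j = u j := fun j => (huv1 j).1
  have hvf : ∀ j, v j * f = v j := fun j => (huv1 j).2.1
  have huxv : ∀ x j k, u j * x * v k ∈ A := fun x j k => (hmemA _).mpr (by
    rw [← mul_assoc, ← mul_assoc, hfu, mul_assoc, hvf])
  have huev : ∀ x j k, u j * (e * x) * v k = u j * x * v k := fun x j k => by
    rw [← mul_assoc (u j), show u j * e = u j by rw [← he]; exact (huv1 j).2.2]
  -- the corner
  let J : Submodule K R := A ⊓ LinearMap.ker π.toLinearMap
  have hJmem : ∀ {x}, x ∈ J ↔ x ∈ A ∧ π x = 0 := Iff.rfl
  have hJ : ∀ x, f * x * f - x = 0 → ∃ a : K, x - a • f ∈ J := by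
    intro x hx
    rw [sub_eq_zero] at hx
    refine ⟨π x i 0 0, hJmem.mpr ⟨sub_mem ((hmemA x).mpr hx) (Submodule.smul_mem _ _ ((hmemA f).mpr
      (by rw [hff, hff]))), ?_⟩⟩
    rw [map_sub, map_smul, sub_eq_zero]
    conv_lhs => rw [← hx, map_mul, map_mul, hπf]
    rw [hπf]
    funext k
    rcases eq_or_ne k i with rfl | hk
    · ext a b
      simp only [Pi.mul_apply, Pi.smul_apply, Pi.single_eq_same, Matrix.smul_apply,
        Matrix.single_apply, smul_eq_mul, Matrix.single_mul_mul_single]
      split_ifs <;> simp
    · simp [Pi.single_eq_of_ne hk]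
  have hJpow : ∀ k : ℕ, ∀ x ∈ J ^ (k + 1), x ∈ RingHom.ker π.toRingHom ^ (k + 1) := by
    intro k
    induction k with
    | zero =>
      intro x hx
      rw [zero_add] at hx ⊢
      rw [pow_one] at hx
      rw [Submodule.pow_one]
      exact (hJmem.mp hx).2
    | succ k ih =>
      intro x hx
      rw [pow_succ] at hx
      rw [Submodule.pow_succ]
      induction hx using Submodule.mul_induction_on' with
      | mem_mul_mem a ha b hb => exact Ideal.mul_mem_mul (ih a ha) (hJmem.mp hb).2
      | add a _ b _ ha hb => exact add_mem ha hb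
  have hJnil : J ^ (N + 1) = ⊥ := by
    rw [eq_bot_iff]
    intro x hx
    have := hJpow N x hx
    rw [Submodule.pow_succ, hN, zero_mul] at this
    simpa using this
  -- traces of the corner extend
  have hfun : ∀ T : Submodule K (Module.Dual K A), (∀ l ∈ T, ∀ a b c c' : A,
      (c : R) = a * b → (c' : R) = b * a → l c = l c') → finrank K T ≤ 2 := by
    intro T hT
    let D : Fin (d i) → R →ₗ[K] A := fun j =>
      ((LinearMap.mulLeft K (u j)).comp (LinearMap.mulRight K (v j))).codRestrict A fun x => by
        simp only [LinearMap.comp_apply, LinearMap.mulLeft_apply, LinearMap.mulRight_apply, ← mul_assoc]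
        exact huxv x j j
    have hD : ∀ j x, (D j x : R) = u j * x * v j := fun j x => by
      show u j * (x * v j) = _
      rw [mul_assoc]
    let Λ : T →ₗ[K] (R →ₗ[K] K) :=
      { toFun := fun l => ∑ j, (l : Module.Dual K A).comp (D j)
        map_add' := fun a b => by simp [LinearMap.add_comp, Finset.sum_add_distrib]
        map_smul' := fun r a => by simp [LinearMap.smul_comp, Finset.smul_sum] }
    have hΛ : ∀ (l : T) x, Λ l x = ∑ j, (l : Module.Dual K A) (D j x) := fun l x => by
      simp [Λ]
    have hΛe : ∀ (l : T) x, Λ l (e * x) = Λ l x := fun l x => by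
      rw [hΛ, hΛ]
      refine Finset.sum_congr rfl fun j _ => congrArg _ (Subtype.ext ?_)
      rw [hD, hD, huev]
    have hmem : ∀ l, Λ l ∈ tracialOn (K := K) e := by
      refine fun l => ⟨fun x y => ?_, hΛe l⟩
      have hsplit : ∀ x y, Λ l (x * y) = ∑ j, ∑ k,
          (l : Module.Dual K A) ⟨(u j * x * v k) * (u k * y * v j), (hmemA _).mpr (by
            simp only [← mul_assoc, hfu]
            simp only [mul_assoc, hvf])⟩ := fun x y => by
        rw [← hΛe, hΛ]
        refine Finset.sum_congr rfl fun j _ => ?_
        rw [← map_sum]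
        refine congrArg _ (Subtype.ext ?_)
        rw [hD, AddSubmonoidClass.coe_finsetSum]
        calc u j * (e * (x * y)) * v j = u j * x * (∑ k, v k * u k) * y * v j := by
              rw [hsum, ← mul_assoc e x y, he x]; simp only [mul_assoc]
          _ = _ := by
              simp only [Finset.mul_sum, Finset.sum_mul]
              exact Finset.sum_congr rfl fun k _ => by simp only [mul_assoc]
      rw [hsplit, hsplit, Finset.sum_comm]
      exact Finset.sum_congr rfl fun k _ => Finset.sum_congr rfl fun j _ =>
        hT l l.2 ⟨_, huxv x j k⟩ ⟨_, huxv y k j⟩ _ _ rfl rfl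
    have hΛinj : Function.Injective Λ := by
      intro l l' h
      refine Subtype.ext (LinearMap.ext fun a => ?_)
      have hres : ∀ l : T, Λ l (a : R) = (l : Module.Dual K A) a := by
        intro l
        have hfa : f * (a : R) * f = a := (hmemA _).mp a.2
        rw [hΛ, Finset.sum_eq_single 0]
        · refine congrArg _ (Subtype.ext ?_)
          rw [hD, hu0, hv0, hfa]
        · intro j _ hj
          have hz : u j * f = 0 := by rw [← hv0, huv, if_neg hj]
          have : D j (a : R) = 0 := Subtype.ext (by
            rw [hD, ← hfa, ← mul_assoc, ← mul_assoc, hz]; simp)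
          rw [this, map_zero]
        · simp
      rw [← hres l, ← hres l', h]
    calc finrank K T = finrank K (LinearMap.range Λ) :=
          (LinearEquiv.ofInjective Λ hΛinj).finrank_eq
      _ ≤ finrank K (tracialOn (K := K) e) :=
          Submodule.finrank_mono (LinearMap.range_le_iff_comap.mpr (eq_top_iff.mpr fun l _ => hmem l))
      _ ≤ 2 := htr
  have hA2 : finrank K A ≤ 2 := finrank_corner_le_two hff hf0 J hJ
    (fun x hx => (hmemA x).mp (hJmem.mp hx).1)
    (fun x hx y hy => hJmem.mpr ⟨(hmemA _).mpr (by
      rw [← (hmemA x).mp (hJmem.mp hx).1, ← (hmemA y).mp (hJmem.mp hy).1]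
      simp only [← mul_assoc, hff]
      simp only [mul_assoc, hff]), by rw [map_mul, (hJmem.mp hx).2, zero_mul]⟩) hJnil hfun
  have hA1 : 0 < finrank K A := by
    refine Nat.pos_of_ne_zero fun h => hf0 ?_
    have := (hmemA f).mpr (by rw [hff, hff])
    rwa [Submodule.finrank_eq_zero.mp h, Submodule.mem_bot] at this
  refine ⟨d i, finrank K A, by omega, ?_, f, hff, ?_⟩
  · let Φ : LinearMap.range (LinearMap.mulLeft K e) ≃ₗ[K] (Fin (d i) → Fin (d i) → A) :=
      { toFun := fun x j k => ⟨u j * x * v k, huxv x j k⟩
        map_add' := fun x y => by ext j k; simp [mul_add, add_mul]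
        map_smul' := fun r x => by ext j k; simp
        invFun := fun c => ⟨∑ j, ∑ k, v j * c j k * u k, ⟨∑ j, ∑ k, v j * c j k * u k, by
          simp only [LinearMap.mulLeft_apply, Finset.mul_sum]
          refine Finset.sum_congr rfl fun j _ => Finset.sum_congr rfl fun k _ => ?_
          rw [he, mul_assoc, ← he (u k), (huv1 k).2.2]⟩⟩
        left_inv := fun x => Subtype.ext (by
          obtain ⟨y, hy⟩ := x.2
          have hx : e * (x : R) = x := by
            rw [← hy, LinearMap.mulLeft_apply, ← mul_assoc, he2]
          calc ∑ j, ∑ k, v j * (u j * (x : R) * v k) * u k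
              = (∑ j, v j * u j) * x * ∑ k, v k * u k := by
                simp only [Finset.sum_mul, Finset.mul_sum]
                rw [Finset.sum_comm]
                simp only [mul_assoc]
            _ = x := by rw [hsum, hx, ← he, hx])
        right_inv := fun c => by
          ext j k
          show u j * (∑ j', ∑ k', v j' * (c j' k' : R) * u k') * v k = c j k
          simp only [Finset.mul_sum, Finset.sum_mul]
          rw [Finset.sum_eq_single j, Finset.sum_eq_single k]
          · rw [show u j * (v j * (c j k : R) * u k) * v k = (u j * v j) * c j k * (u k * v k) by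
              simp only [mul_assoc], huv, huv, if_pos rfl, if_pos rfl, (hmemA _).mp (c j k).2]
          · intro k' _ hk
            rw [show u j * (v j * (c j k' : R) * u k') * v k = u j * v j * c j k' * (u k' * v k) by
              simp only [mul_assoc], huv k' k, if_neg hk, mul_zero]
          · simp
          · intro j' _ hj
            refine Finset.sum_eq_zero fun k' _ => ?_
            rw [show u j * (v j' * (c j' k' : R) * u k') * v k = u j * v j' * (c j' k' * u k' * v k) by
              simp only [mul_assoc], huv, if_neg (Ne.symm hj), zero_mul]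
          · simp }
    rw [Φ.finrank_eq, Module.finrank_pi_fintype, Finset.sum_congr rfl fun j _ =>
      Module.finrank_pi_fintype K]
    simp [mul_assoc]
  · let Ψ : LinearMap.range (LinearMap.mulRight K f) ≃ₗ[K] (Fin (d i) → A) :=
      { toFun := fun x j => ⟨u j * x, (hmemA _).mpr (by
          obtain ⟨y, hy⟩ := x.2
          rw [← hy, LinearMap.mulRight_apply, ← mul_assoc, ← mul_assoc, hfu]
          simp only [mul_assoc, hff])⟩
        map_add' := fun x y => by ext j; simp [mul_add]
        map_smul' := fun r x => by ext j; simp
        invFun := fun c => ⟨∑ j, v j * c j, ⟨∑ j, v j * c j, by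
          simp only [LinearMap.mulRight_apply, Finset.sum_mul]
          refine Finset.sum_congr rfl fun j _ => ?_
          have hc := (hmemA _).mp (c j).2
          rw [← hc]
          simp only [mul_assoc, hff]⟩⟩
        left_inv := fun x => Subtype.ext (by
          obtain ⟨y, hy⟩ := x.2
          show ∑ j, v j * (u j * (x : R)) = x
          simp only [← mul_assoc, ← Finset.sum_mul, hsum]
          rw [← hy, LinearMap.mulRight_apply, ← mul_assoc, he y, mul_assoc, hef])
        right_inv := fun c => by
          ext j
          show u j * ∑ j', v j' * (c j' : R) = c j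
          rw [Finset.mul_sum, Finset.sum_eq_single j]
          · rw [← mul_assoc, huv, if_pos rfl]
            conv_lhs => rw [← (hmemA _).mp (c j).2, ← mul_assoc, ← mul_assoc, hff]
            exact (hmemA _).mp (c j).2
          · intro j' _ hj
            rw [← mul_assoc, huv, if_neg (Ne.symm hj), zero_mul]
          · simp }
    rw [Ψ.finrank_eq, Module.finrank_pi_fintype]
    simp

end Cfsg.Agent.Corner
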