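import Mathlib.Algebra.Algebra.Operations
import Mathlib.LinearAlgebra.Dual.Lemmas
import Mathlib.Tactic

/-!
# Local symmetric algebras with small centre

A local symmetric algebra whose space of traces has dimension at most four is commutative.
-/

set_option linter.unusedSectionVars false

namespace Cfsg.Agent.LocalSym

open Module

universe u v

variable {K : Type u} [Field K] {R : Type v} [Ring R] [Algebra K R] [FiniteDimensional K R]

/-- In a graded algebra generated by two elements whose degree two part is spanned by their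
commutator, the degree three part vanishes. -/
theorem degree_three_zero {W : Type v} [AddCommGroup W] [Module K W] {a b c d : K} {X Y X' Y' : W}
    (hbc : b - c = 1) (e1 : a • X' = a • X) (e2 : a • Y' = b • X) (e3 : b • X' = c • X)
    (e4 : b • Y' = d • X) (e5 : c • X' = a • Y) (e6 : c • Y' = b • Y) (e7 : d • X' = c • Y) :
    X = 0 ∧ Y = 0 := by
  by_cases hb : b = 0
  · subst hb
    obtain rfl : c = -1 := by linear_combination -hbc
    rw [zero_smul, neg_smul, one_smul, zero_eq_neg] at e3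
    subst e3
    refine ⟨rfl, ?_⟩
    rw [neg_smul, one_smul, neg_eq_iff_eq_neg] at e5
    rw [smul_zero] at e1
    rw [neg_smul, one_smul] at e7
    by_cases ha : a = 0
    · subst ha
      rw [zero_smul, neg_zero] at e5
      rw [e5, smul_zero, eq_comm, neg_eq_zero] at e7
      exact e7
    · have hX' : X' = 0 := (smul_eq_zero.mp e1).resolve_left ha
      rw [hX', eq_comm, neg_eq_zero, smul_eq_zero] at e5
      exact e5.resolve_left ha
  · have h1 : a • X = 0 := by
      have h : (a * b) • X' = (a * b) • X := by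
        rw [mul_comm, mul_smul, e1, ← mul_smul]
      rw [mul_smul, e3, ← mul_smul, ← sub_eq_zero, ← sub_smul,
        show a * c - a * b = -a by linear_combination -a * hbc, neg_smul, neg_eq_zero] at h
      exact h
    by_cases ha : a = 0
    · subst ha
      rw [zero_smul, eq_comm, smul_eq_zero] at e2
      obtain rfl := e2.resolve_left hb
      rw [smul_zero, smul_eq_zero] at e3 e4
      obtain rfl := e3.resolve_left hb
      obtain rfl := e4.resolve_left hb
      rw [smul_zero, eq_comm, smul_eq_zero] at e6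
      exact ⟨rfl, e6.resolve_left hb⟩
    · obtain rfl := (smul_eq_zero.mp h1).resolve_left ha
      rw [smul_zero, smul_eq_zero] at e3
      obtain rfl := e3.resolve_left hb
      rw [smul_zero, eq_comm, smul_eq_zero] at e5
      exact ⟨rfl, e5.resolve_left ha⟩

/-- The corner `A = K f + J` is commutative if it has at most four independent traces. -/
theorem comm_of_small {f : R} (hf0 : f ≠ 0) (A J : Submodule K R) (hfA : f ∈ A)
    (hJA : J ≤ A) (hA : ∀ x ∈ A, ∃ a : K, x - a • f ∈ J)
    (hfx : ∀ x ∈ A, f * x = x ∧ x * f = x) (hJmul : ∀ x ∈ J, ∀ y ∈ J, x * y ∈ J) {N : ℕ}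
    (hJnil : J ^ (N + 1) = ⊥) (τ : R →ₗ[K] K) (hτ : ∀ x y, τ (x * y) = τ (y * x))
    (hnd : ∀ x ∈ A, (∀ y ∈ A, τ (x * y) = 0) → x = 0)
    (hfun : ∀ C : Submodule K R, C ≤ A → (∀ x ∈ A, ∀ y ∈ A, x * y - y * x ∈ C) →
      finrank K A ≤ finrank K C + 4) :
    ∀ x ∈ A, ∀ y ∈ A, x * y = y * x := by
  classical
  obtain ⟨C, hC⟩ : ∃ C : Submodule K R, C =
      Submodule.span K {z | ∃ x ∈ J, ∃ y ∈ J, z = x * y - y * x} := ⟨_, rfl⟩
  have hJJ : J * J ≤ J := Submodule.mul_le.mpr hJmul
  have hC2 : C ≤ J * J := by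
    rw [hC, Submodule.span_le]
    rintro _ ⟨x, hx, y, hy, rfl⟩
    exact sub_mem (Submodule.mul_mem_mul hx hy) (Submodule.mul_mem_mul hy hx)
  have hcomm : ∀ x ∈ A, ∀ y ∈ A, x * y - y * x ∈ C := by
    intro x hx y hy
    obtain ⟨α, hα⟩ := hA x hx
    obtain ⟨β, hβ⟩ := hA y hy
    have hff : f * f = f := (hfx f hfA).1
    have : x * y - y * x = (x - α • f) * (y - β • f) - (y - β • f) * (x - α • f) := by
      simp only [sub_mul, mul_sub, smul_mul_assoc, mul_smul_comm, hff, (hfx x hx).1, (hfx x hx).2,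
        (hfx y hy).1, (hfx y hy).2, smul_sub, smul_smul, mul_comm β α]
      abel
    rw [this, hC]
    exact Submodule.subset_span ⟨_, hα, _, hβ, rfl⟩
  have hτC : ∀ z ∈ C, τ z = 0 := fun z hz => by
    rw [hC] at hz
    induction hz using Submodule.span_induction with
    | mem z hz => obtain ⟨x, -, y, -, rfl⟩ := hz; rw [map_sub, hτ, sub_self]
    | zero => exact map_zero _
    | add a b _ _ ha hb => rw [map_add, ha, hb, add_zero]
    | smul r a _ ha => rw [map_smul, ha, smul_zero]
  by_contra hne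
  push Not at hne
  obtain ⟨x₁, hx₁, y₁, hy₁, hne₁⟩ := hne
  have hC0 : C ≠ ⊥ := fun h => hne₁ (sub_eq_zero.mp (by simpa [h] using hcomm x₁ hx₁ y₁ hy₁))
  -- decreasing powers
  have hanti : ∀ l : ℕ, J ^ (l + 2) ≤ J ^ (l + 1) := fun l => by
    induction l with
    | zero => rw [pow_two, zero_add, pow_one]; exact hJJ
    | succ l ih =>
      calc J ^ (l + 1 + 2) = J * J ^ (l + 2) := pow_succ' J (l + 2)
        _ ≤ J * J ^ (l + 1) := mul_le_mul_right ih J
        _ = J ^ (l + 1 + 1) := (pow_succ' J (l + 1)).symm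
  have hle : ∀ l k : ℕ, J ^ (l + k + 1) ≤ J ^ (l + 1) := fun l k => by
    induction k with
    | zero => exact le_rfl
    | succ k ih => exact (hanti (l + k)).trans ih
  have hstab : ∀ l : ℕ, J ^ (l + 1) ≤ J ^ (l + 2) → J ^ (l + 1) = ⊥ := fun l h => by
    have : ∀ k : ℕ, J ^ (l + 1) ≤ J ^ (l + k + 1) := fun k => by
      induction k with
      | zero => exact le_rfl
      | succ k ih =>
        refine h.trans ?_
        rw [pow_succ', show l + (k + 1) + 1 = (l + k + 1) + 1 by ring, pow_succ' J (l + k + 1)]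
        exact mul_le_mul_right ih J
    refine le_bot_iff.mp ((this N).trans ?_)
    rw [add_comm l N, ← hJnil]
    exact hle N l
  -- the last nonzero power
  have hex : ∃ l : ℕ, J ^ (l + 2) = ⊥ := ⟨N, le_bot_iff.mp ((hanti N).trans hJnil.le)⟩
  obtain ⟨m, hm⟩ : ∃ m, m = Nat.find hex := ⟨_, rfl⟩
  have hm0 : J ^ (m + 2) = ⊥ := hm ▸ Nat.find_spec hex
  have hJ2 : J ^ (0 + 2) ≠ ⊥ := fun h => hC0 (le_bot_iff.mp (hC2.trans (by
    rw [← h, zero_add, pow_two])))
  have hm1 : 1 ≤ m := Nat.one_le_iff_ne_zero.mpr fun h => hJ2 (h ▸ hm0)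
  have hm2 : J ^ (m + 1) ≠ ⊥ := fun h => Nat.find_min hex (m := m - 1) (by omega) (by
    rwa [show m - 1 + 2 = m + 1 by omega])
  have hsoc : ∀ x ∈ J ^ (m + 1), τ x = 0 → x = 0 := fun x hx h0 => by
    have hxA : x ∈ A := hJA (by simpa using hle 0 m (by simpa using hx))
    refine hnd x hxA fun y hy => ?_
    obtain ⟨α, hα⟩ := hA y hy
    have h1 : x * (y - α • f) ∈ J ^ (m + 2) := by
      rw [pow_succ]; exact Submodule.mul_mem_mul hx hα
    rw [hm0, Submodule.mem_bot, mul_sub, mul_smul_comm, (hfx x hxA).2, sub_eq_zero] at h1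
    rw [h1, map_smul, h0, smul_zero]
  obtain ⟨σ, hσ, hσC⟩ : ∃ σ ∈ J ^ (m + 1), σ ∉ C := by
    by_contra h
    push Not at h
    exact hm2 ((Submodule.eq_bot_iff _).mpr fun x hx => hsoc x hx (hτC x (h x hx)))
  -- the first layer has dimension at most two
  have hfJ : f ∉ J := fun h => by
    have : ∀ k : ℕ, f ∈ J ^ (k + 1) := fun k => by
      induction k with
      | zero => rwa [pow_one]
      | succ k ih => rw [pow_succ', ← (hfx f hfA).1]; exact Submodule.mul_mem_mul h ih
    exact hf0 (by simpa [hJnil] using this N)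
  have hdimA : finrank K J < finrank K A :=
    Submodule.finrank_lt_finrank_of_lt (lt_of_le_of_ne hJA fun h => hfJ (h ▸ hfA))
  have hbound := hfun C (hC2.trans (hJJ.trans hJA)) hcomm
  have hσ2 : σ ∈ J * J := by
    rw [← pow_two]
    have : J ^ (1 + (m - 1) + 1) ≤ J ^ (1 + 1) := hle 1 (m - 1)
    exact this (by rwa [show 1 + (m - 1) + 1 = m + 1 by omega])
  have hCσ : C < C ⊔ Submodule.span K {σ} := lt_of_le_of_ne le_sup_left fun h =>
    hσC (h ▸ Submodule.mem_sup_right (Submodule.mem_span_singleton_self σ))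
  have hCσle : C ⊔ Submodule.span K {σ} ≤ J * J :=
    sup_le hC2 ((Submodule.span_singleton_le_iff_mem _ _).mpr hσ2)
  have hd1 := Submodule.finrank_lt_finrank_of_lt hCσ
  have hd2 := Submodule.finrank_mono hCσle
  -- one generator is not enough
  have hcyc : ∀ t ∈ J, J ≠ J * J ⊔ Submodule.span K {t} := by
    intro t ht hspan
    refine hC0 ((Submodule.eq_bot_iff _).mpr fun z hz => ?_)
    have hlayer : ∀ k : ℕ, J ^ (k + 1) ≤ Submodule.span K {t ^ (k + 1)} ⊔ J ^ (k + 2) := by
      intro k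
      induction k with
      | zero => rw [zero_add, pow_one, pow_one, pow_two, sup_comm]; exact hspan.le
      | succ k ih =>
        rw [pow_succ J (k + 1)]
        refine (mul_le_mul' ih hspan.le).trans ?_
        rw [Submodule.sup_mul, Submodule.mul_sup, Submodule.mul_sup]
        have ht : Submodule.span K {t ^ (k + 1)} ≤ J ^ (k + 1) := by
          rw [Submodule.span_singleton_le_iff_mem]
          exact Submodule.pow_mem_pow J ht _
        have ht1 : Submodule.span K {t} ≤ J := (Submodule.span_singleton_le_iff_mem t J).mpr ‹_›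
        refine sup_le (sup_le ?_ ?_) (sup_le ?_ ?_)
        · refine le_trans ?_ le_sup_right
          refine (mul_le_mul_left ht _).trans (le_of_eq ?_)
          rw [← pow_two, ← pow_add]
        · rw [Submodule.span_mul_span, Set.singleton_mul_singleton, ← pow_succ]
          exact le_sup_left
        · refine le_trans ?_ le_sup_right
          refine (mul_le_mul_right hJJ _).trans (le_of_eq ?_)
          rw [← pow_succ]
        · refine le_trans ?_ le_sup_right
          refine (mul_le_mul_right ht1 _).trans (le_of_eq ?_)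
          rw [← pow_succ]
    obtain ⟨S, hS⟩ : ∃ S, S = Submodule.span K (Set.range fun k : ℕ => t ^ (k + 1)) := ⟨_, rfl⟩
    have hJS : ∀ k l : ℕ, N ≤ l + k → J ^ (l + 1) ≤ S := fun k => by
      induction k with
      | zero =>
        intro l hl
        obtain ⟨r, rfl⟩ := Nat.exists_eq_add_of_le hl
        refine (hle N r).trans ?_
        rw [hJnil]
        exact bot_le
      | succ k ih =>
        intro l hl
        refine (hlayer l).trans (sup_le ?_ (ih (l + 1) (by omega)))
        rw [Submodule.span_singleton_le_iff_mem, hS]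
        exact Submodule.subset_span ⟨l, rfl⟩
    have hJS1 : J ≤ S := by simpa using hJS N 0 (by omega)
    have hSc : ∀ x ∈ S, ∀ y ∈ S, x * y = y * x := by
      intro x hx y hy
      rw [hS] at hx hy
      induction hx, hy using Submodule.span_induction₂ with
      | mem_mem x y hx hy =>
        obtain ⟨a, rfl⟩ := hx
        obtain ⟨b, rfl⟩ := hy
        exact (Commute.pow_pow_self t _ _).eq
      | zero_left => simp
      | zero_right => simp
      | add_left _ _ _ _ _ _ h h' => simp [add_mul, mul_add, h, h']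
      | add_right _ _ _ _ _ _ h h' => simp [add_mul, mul_add, h, h']
      | smul_left r _ _ _ _ h => simp [h]
      | smul_right r _ _ _ _ h => simp [h]
    rw [hC] at hz
    induction hz using Submodule.span_induction with
    | mem z hz =>
      obtain ⟨a, ha, b, hb, rfl⟩ := hz
      rw [hSc a (hJS1 ha) b (hJS1 hb), sub_self]
    | zero => rfl
    | add a b _ _ ha hb => rw [ha, hb, add_zero]
    | smul r a _ ha => rw [ha, smul_zero]
  obtain ⟨x, hx, hxJ⟩ : ∃ x ∈ J, x ∉ J * J := by
    by_contra h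
    push Not at h
    refine hJ2 (hstab 1 ?_)
    have h' : J ≤ J * J := h
    show J ^ 2 ≤ J ^ 3
    rw [pow_succ' J 2, pow_two]
    exact mul_le_mul_left h' J |>.trans (le_of_eq (mul_assoc _ _ _))
  obtain ⟨y, hy, hyJ⟩ : ∃ y ∈ J, y ∉ J * J ⊔ Submodule.span K {x} := by
    by_contra h
    push Not at h
    exact hcyc x hx (le_antisymm h (sup_le hJJ ((Submodule.span_singleton_le_iff_mem _ _).mpr hx)))
  have hxlt : J * J < J * J ⊔ Submodule.span K {x} := lt_of_le_of_ne le_sup_left fun h =>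
    hxJ (h ▸ Submodule.mem_sup_right (Submodule.mem_span_singleton_self x))
  have hylt : J * J ⊔ Submodule.span K {x} < J * J ⊔ Submodule.span K {x} ⊔ Submodule.span K {y} :=
    lt_of_le_of_ne le_sup_left fun h =>
      hyJ (h ▸ Submodule.mem_sup_right (Submodule.mem_span_singleton_self y))
  have hgenle : J * J ⊔ Submodule.span K {x} ⊔ Submodule.span K {y} ≤ J :=
    sup_le (sup_le hJJ ((Submodule.span_singleton_le_iff_mem _ _).mpr hx))
      ((Submodule.span_singleton_le_iff_mem _ _).mpr hy)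
  have hd3 := Submodule.finrank_lt_finrank_of_lt hxlt
  have hd4 := Submodule.finrank_lt_finrank_of_lt hylt
  have hd5 := Submodule.finrank_mono hgenle
  have hgen : J * J ⊔ Submodule.span K {x} ⊔ Submodule.span K {y} = J :=
    Submodule.eq_of_le_of_finrank_le hgenle (by omega)
  have hsplit : C ⊔ Submodule.span K {σ} = J * J :=
    Submodule.eq_of_le_of_finrank_le hCσle (by omega)
  -- modulo cubes
  have h21 : ∀ a ∈ J * J, ∀ b ∈ J, a * b ∈ J ^ 3 ∧ b * a ∈ J ^ 3 := fun a ha b hb =>
    ⟨by rw [pow_succ, pow_two]; exact Submodule.mul_mem_mul ha hb,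
      by rw [pow_succ', pow_two]; exact Submodule.mul_mem_mul hb ha⟩
  have hdec : ∀ a ∈ J, ∃ j ∈ J * J, ∃ α β : K, a = j + α • x + β • y := fun a ha => by
    rw [← hgen] at ha
    obtain ⟨w, hw, _, hy', rfl⟩ := Submodule.mem_sup.mp ha
    obtain ⟨j, hj, _, hx', rfl⟩ := Submodule.mem_sup.mp hw
    obtain ⟨α, rfl⟩ := Submodule.mem_span_singleton.mp hx'
    obtain ⟨β, rfl⟩ := Submodule.mem_span_singleton.mp hy'
    exact ⟨j, hj, α, β, rfl⟩
  obtain ⟨c, hc⟩ : ∃ c, c = x * y - y * x := ⟨_, rfl⟩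
  have hCc : C ≤ Submodule.span K {c} ⊔ J ^ 3 := by
    rw [hC, Submodule.span_le]
    rintro _ ⟨a, ha, b, hb, rfl⟩
    obtain ⟨j, hj, α, β, rfl⟩ := hdec a ha
    obtain ⟨j', hj', α', β', rfl⟩ := hdec b hb
    refine Submodule.mem_sup.mpr ⟨(α * β' - β * α') • c, Submodule.smul_mem _ _
      (Submodule.mem_span_singleton_self c),
      (j * (j' + α' • x + β' • y) - (j' + α' • x + β' • y) * j) +
        ((α • x + β • y) * j' - j' * (α • x + β • y)), ?_, ?_⟩
    · refine add_mem (sub_mem (h21 j hj _ hb).1 (h21 j hj _ hb).2) (sub_mem ?_ ?_)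
      · exact (h21 j' hj' _ (add_mem (Submodule.smul_mem _ _ hx) (Submodule.smul_mem _ _ hy))).2
      · exact (h21 j' hj' _ (add_mem (Submodule.smul_mem _ _ hx) (Submodule.smul_mem _ _ hy))).1
    · subst hc
      simp only [mul_add, add_mul, smul_mul_assoc, mul_smul_comm, smul_smul, smul_add, sub_smul,
        smul_sub, mul_comm α' α, mul_comm β' β, mul_comm β' α, mul_comm α' β]
      abel
  have hm2' : 2 ≤ m := by
    by_contra h
    obtain rfl : m = 1 := by omega
    refine hC0 ((Submodule.eq_bot_iff _).mpr fun z hz => hsoc z ?_ (hτC z hz))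
    rw [show (1 : ℕ) + 1 = 2 from rfl, pow_two]; exact hC2 hz
  have hσ3 : σ ∈ J ^ 3 :=
    (show J ^ (2 + (m - 2) + 1) ≤ J ^ (2 + 1) from hle 2 (m - 2)) (by
      rwa [show 2 + (m - 2) + 1 = m + 1 by omega])
  have hJ2c : J * J ≤ Submodule.span K {c} ⊔ J ^ 3 := by
    rw [← hsplit]
    exact sup_le hCc (((Submodule.span_singleton_le_iff_mem _ _).mpr hσ3).trans le_sup_right)
  have hc3 : c ∉ J ^ 3 := fun h => hJ2 (hstab 1 (by
    show J ^ 2 ≤ J ^ 3
    rw [pow_two]
    exact hJ2c.trans (sup_le ((Submodule.span_singleton_le_iff_mem _ _).mpr h) le_rfl)))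
  have hco : ∀ a ∈ J, ∀ b ∈ J, ∃ r : K, a * b - r • c ∈ J ^ 3 := fun a ha b hb => by
    obtain ⟨s, hs, j, hj, e⟩ := Submodule.mem_sup.mp (hJ2c (Submodule.mul_mem_mul ha hb))
    obtain ⟨r, rfl⟩ := Submodule.mem_span_singleton.mp hs
    exact ⟨r, by rw [← e, add_sub_cancel_left]; exact hj⟩
  obtain ⟨a, hxx⟩ := hco x hx x hx
  obtain ⟨b, hxy⟩ := hco x hx y hy
  obtain ⟨g, hyx⟩ := hco y hy x hx
  obtain ⟨d, hyy⟩ := hco y hy y hy
  have hbg : b - g = 1 := by
    by_contra h
    refine hc3 ((Submodule.smul_mem_iff _ (sub_ne_zero.mpr (Ne.symm h))).mp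
      (show ((1 : K) - (b - g)) • c ∈ J ^ 3 from ?_))
    have := sub_mem hxy hyx
    convert this using 1
    rw [sub_smul, one_smul, sub_smul]
    nth_rewrite 1 [hc]
    abel
  obtain ⟨q, hq⟩ : ∃ q : R →ₗ[K] R ⧸ (J ^ 4), q = (J ^ 4).mkQ := ⟨_, rfl⟩
  have hassoc : ∀ u ∈ J, ∀ v ∈ J, ∀ w ∈ J, ∀ r s : K, u * v - r • c ∈ J ^ 3 →
      v * w - s • c ∈ J ^ 3 → r • q (c * w) = s • q (u * c) := by
    intro u hu v _ w hw r s h1 h2
    rw [← map_smul, ← map_smul, hq, Submodule.mkQ_apply, Submodule.mkQ_apply, Submodule.Quotient.eq]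
    have e : r • (c * w) - s • (u * c) = u * (v * w - s • c) - (u * v - r • c) * w := by
      rw [mul_sub, sub_mul, mul_smul_comm, smul_mul_assoc, mul_assoc]; abel
    rw [e]
    exact sub_mem (pow_succ' J 3 ▸ Submodule.mul_mem_mul hu h2)
      (pow_succ J 3 ▸ Submodule.mul_mem_mul h1 hw)
  obtain ⟨hX, hY⟩ := degree_three_zero (X := q (x * c)) (Y := q (y * c)) (X' := q (c * x))
    (Y' := q (c * y)) hbg (hassoc x hx x hx x hx a a hxx hxx)
    (hassoc x hx x hx y hy a b hxx hxy) (hassoc x hx y hy x hx b g hxy hyx)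
    (hassoc x hx y hy y hy b d hxy hyy) (hassoc y hy x hx x hx g a hyx hxx)
    (hassoc y hy x hx y hy g b hyx hxy) (hassoc y hy y hy x hx d g hyy hyx)
  rw [hq, Submodule.mkQ_apply, Submodule.Quotient.mk_eq_zero] at hX hY
  have h3 : J ^ 3 ≤ J ^ 4 := by
    rw [pow_succ' J 2, Submodule.mul_le]
    intro u hu v hv
    rw [pow_two] at hv
    obtain ⟨s, hs, j, hj, rfl⟩ := Submodule.mem_sup.mp (hJ2c hv)
    obtain ⟨r, rfl⟩ := Submodule.mem_span_singleton.mp hs
    obtain ⟨k, hk, α, β, rfl⟩ := hdec u hu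
    rw [mul_add]
    refine add_mem ?_ (pow_succ' J 3 ▸ Submodule.mul_mem_mul hu hj)
    rw [mul_smul_comm, add_mul, add_mul, smul_mul_assoc, smul_mul_assoc]
    refine Submodule.smul_mem _ _ (add_mem (add_mem ?_ (Submodule.smul_mem _ _ hX))
      (Submodule.smul_mem _ _ hY))
    have hcJ : c ∈ J ^ 2 := by
      rw [pow_two, hc]; exact sub_mem (Submodule.mul_mem_mul hx hy) (Submodule.mul_mem_mul hy hx)
    rw [← pow_two] at hk
    rw [show 4 = 2 + 2 from rfl, pow_add]
    exact Submodule.mul_mem_mul hk hcJ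
  exact hσC (by rw [hstab 2 h3] at hσ3; rw [(Submodule.mem_bot K).mp hσ3]; exact zero_mem _)

end Cfsg.Agent.LocalSym
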