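import Cfsg.Agent.Lib.Blocks.CornerAlgebra
import Cfsg.Agent.Lib.Glauberman.PGroup
import Mathlib.LinearAlgebra.Matrix.Charpoly.Coeff
import Mathlib.Algebra.CharP.Lemmas
import Mathlib.Data.ZMod.Basic
import Mathlib.Data.Matrix.PEquiv

/-!
# Multiplicities of idempotents in the image of a trace map

An automorphism of order dividing `p` of a finite-dimensional algebra in characteristic `p` and a
central idempotent in the image of its trace: every additive, conjugation invariant and fixed
integer function on idempotents takes a multiple of `p` at that idempotent.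
-/

set_option linter.unusedSectionVars false

namespace Cfsg.Agent.Corner

universe u v

variable {K : Type u} [Field K] {S : Type v} [Ring S] [Algebra K S]

/-- A tracial functional on a matrix algebra with the value of the trace at `1` is the trace. -/
theorem tracial_eq_trace {d : ℕ} (hd : (d : K) ≠ 0) (L : Matrix (Fin d) (Fin d) K →ₗ[K] K)
    (htr : ∀ X Y, L (X * Y) = L (Y * X)) (h1 : L 1 = d) (X : Matrix (Fin d) (Fin d) K) :
    L X = X.trace := by
  classical
  have hoff : ∀ a b : Fin d, a ≠ b → L (Matrix.single a b 1) = 0 := fun a b h => by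
    have e : Matrix.single a b (1 : K) = Matrix.single a a 1 * Matrix.single a b 1 := by
      rw [Matrix.single_mul_single_same, mul_one]
    rw [e, htr, Matrix.single_mul_single_of_ne (h := h.symm), map_zero]
  have hdiag : ∀ a b : Fin d, L (Matrix.single a a 1) = L (Matrix.single b b 1) := fun a b => by
    have e1 : Matrix.single a a (1 : K) = Matrix.single a b 1 * Matrix.single b a 1 := by
      rw [Matrix.single_mul_single_same, mul_one]
    have e2 : Matrix.single b b (1 : K) = Matrix.single b a 1 * Matrix.single a b 1 := by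
      rw [Matrix.single_mul_single_same, mul_one]
    rw [e1, htr, ← e2]
  have hone : ∀ a : Fin d, L (Matrix.single a a 1) = 1 := by
    intro a
    have e : (1 : Matrix (Fin d) (Fin d) K) = ∑ b, Matrix.single b b 1 := by
      ext i j
      simp [Matrix.sum_apply, Matrix.single_apply, Matrix.one_apply, eq_comm, ite_and]
    rw [e, map_sum, Finset.sum_congr rfl fun b _ => hdiag b a, Finset.sum_const, Finset.card_univ,
      Fintype.card_fin, nsmul_eq_mul] at h1
    exact mul_left_cancel₀ hd (h1.trans (mul_one _).symm)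
  conv_lhs => rw [Matrix.matrix_eq_sum_single X]
  simp only [map_sum]
  refine Finset.sum_congr rfl fun i _ => ?_
  rw [Finset.sum_eq_single i]
  · rw [show Matrix.single i i (X i i) = X i i • Matrix.single i i (1 : K) by simp, map_smul, hone,
      smul_eq_mul, mul_one, Matrix.diag_apply]
  · intro j _ hj
    rw [show Matrix.single i j (X i j) = X i j • Matrix.single i j (1 : K) by simp, map_smul,
      hoff i j hj.symm, smul_zero]
  · simp

theorem eq_zero_of_nil_ideal {d : ℕ} (X : Matrix (Fin d) (Fin d) K)
    (h : ∀ Y, IsNilpotent (X * Y)) : X = 0 := by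
  classical
  ext a b
  have := (Matrix.isNilpotent_trace_of_isNilpotent (h (Matrix.single b a 1))).eq_zero
  simpa [Matrix.trace, Matrix.diag, Matrix.mul_apply, Matrix.single_apply, ite_and] using this

theorem dvd_of_trace_image [FiniteDimensional K S] [IsAlgClosed K] {p : ℕ} [Fact p.Prime]
    [CharP K p] (σ : S →ₐ[K] S) (hσ : ∀ x, σ^[p] x = x) (m : S → ℤ)
    (hadd : ∀ f g, f * f = f → g * g = g → f * g = 0 → g * f = 0 → m (f + g) = m f + m g)
    (hconj : ∀ (f : S) (v : Sˣ), f * f = f → m ((v : S) * f * (↑v⁻¹ : S)) = m f)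
    (hmσ : ∀ f, f * f = f → m (σ f) = m f) {ε a : S} (hεc : ∀ x, ε * x = x * ε) (hεε : ε * ε = ε)
    (hεσ : σ ε = ε) (ha : ∑ l ∈ Finset.range p, σ^[l] a = ε) : (p : ℤ) ∣ m ε := by
  classical
  have hp := (Fact.out : p.Prime)
  obtain ⟨r, d, π, hπ, hd, N, hN⟩ := exists_matrix_quotient (K := K) (R := S)
  have hnil : ∀ x, π x = 0 → IsNilpotent x := fun x hx => ⟨N, by
    have := Ideal.pow_mem_pow (show x ∈ RingHom.ker π.toRingHom from hx) N
    rw [hN] at this
    exact this⟩
  have hm0 : m 0 = 0 := by simpa using hadd 0 0 (by simp) (by simp) (by simp) (by simp)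
  have hzero : ∀ x, x * x = x → π x = 0 → x = 0 := fun x hx hx0 => by
    obtain ⟨n, hn⟩ := hnil x hx0
    rcases n with - | n
    · rw [pow_zero] at hn
      rw [← mul_one x, hn, mul_zero]
    · rwa [IsIdempotentElem.pow_succ_eq n hx] at hn
  have hunit : ∀ x, π x = 1 → IsUnit x := fun x hx => by
    have := (hnil (x - 1) (by rw [map_sub, hx, map_one, sub_self])).isUnit_one_add
    rwa [add_sub_cancel] at this
  have hcongr : ∀ f g, f * f = f → g * g = g → π f = π g → m f = m g := by
    intro f g hf hg e
    have hf1 : π f * π f = π f := by rw [← map_mul, hf]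
    obtain ⟨v, hv⟩ := hunit (f * g + (1 - f) * (1 - g)) (by
      simp only [map_add, map_mul, map_sub, map_one, ← e, mul_sub, sub_mul, one_mul, mul_one, hf1]
      abel)
    have h1 : f * (v : S) = f * g := by
      rw [hv, mul_add, ← mul_assoc, hf, ← mul_assoc f (1 - f), mul_sub f 1 f, mul_one, hf, sub_self,
        zero_mul, add_zero]
    have h2 : (v : S) * g = f * g := by
      rw [hv, add_mul, mul_assoc f, hg, mul_assoc (1 - f), sub_mul 1 g, one_mul, hg, sub_self,
        mul_zero, add_zero]
    have h3 : f = (v : S) * g * (↑v⁻¹ : S) := by rw [h2, ← h1, Units.mul_inv_cancel_right]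
    rw [h3, hconj g v hg]
  have hiter : ∀ (l : ℕ) (x y : S), σ^[l] (x * y) = σ^[l] x * σ^[l] y := fun l => by
    induction l with
    | zero => simp
    | succ l ih => intro x y; simp only [Function.iterate_succ_apply, map_mul, ih]
  have hinv : ∀ x, σ (σ^[p - 1] x) = x := fun x => by
    rw [← Function.iterate_succ_apply' σ, Nat.sub_one, Nat.succ_pred hp.ne_zero, hσ]
  have hinv' : ∀ x, σ^[p - 1] (σ x) = x := fun x => by
    rw [← Function.iterate_succ_apply σ, Nat.sub_one, Nat.succ_pred hp.ne_zero, hσ]
  have hstab : ∀ x, π x = 0 → π (σ x) = 0 := by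
    intro x hx
    funext i
    refine eq_zero_of_nil_ideal _ fun Y => ?_
    obtain ⟨y, hy⟩ := hπ (Pi.single i Y)
    have h2 := (hnil (x * σ^[p - 1] y) (by rw [map_mul, hx, zero_mul])).map σ
    rw [map_mul, hinv] at h2
    have h3 := (h2.map π).map (Pi.evalRingHom (fun i => Matrix (Fin (d i)) (Fin (d i)) K) i)
    simpa [hy] using h3
  have hstabl : ∀ (l : ℕ) (x : S), π x = 0 → π (σ^[l] x) = 0 := fun l => by
    induction l with
    | zero => simp
    | succ l ih => intro x hx; rw [Function.iterate_succ_apply]; exact ih _ (hstab x hx)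
  -- lifts of the diagonal units
  obtain ⟨E, hE⟩ : ∃ E : (Σ i, Fin (d i)) → Π i, Matrix (Fin (d i)) (Fin (d i)) K,
      E = fun (q : Σ i, Fin (d i)) => Pi.single q.1 (Matrix.single q.2 q.2 (1 : K)) := ⟨_, rfl⟩
  have horth : OrthogonalIdempotents E := by
    subst hE
    refine ⟨fun q => ?_, fun q q' hne => ?_⟩
    · rw [IsIdempotentElem, ← Pi.single_mul]; simp
    · obtain ⟨i, j⟩ := q
      obtain ⟨i', j'⟩ := q'
      show (Pi.single i (Matrix.single j j (1 : K)) : Π i, Matrix (Fin (d i)) (Fin (d i)) K) *
      Pi.single i' (Matrix.single j' j' (1 : K)) = 0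
      funext k
      by_cases hk : k = i
      · subst hk
        by_cases hk' : k = i'
        · subst hk'
          have : j ≠ j' := fun h => hne (by rw [h])
          simp only [Pi.mul_apply, Pi.single_eq_same, Pi.zero_apply]
          rw [Matrix.single_mul_single_of_ne (h := this)]
        · simp [Pi.single_eq_of_ne hk']
      · simp [Pi.single_eq_of_ne hk]
  obtain ⟨ep, hep, hπep⟩ := OrthogonalIdempotents.lift_of_isNilpotent_ker π.toRingHom
    (fun x hx => hnil x hx) horth (fun q => hπ (E q))
  have hπe : ∀ q, π (ep q) = E q := fun q => congr_fun hπep q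
  obtain ⟨η, hη⟩ : ∃ η : Fin r → S, η = fun i => ∑ j, ep ⟨i, j⟩ := ⟨_, rfl⟩
  have hEsum : ∀ i, ∑ j, E ⟨i, j⟩ = Pi.single i 1 := by
    intro i
    subst hE
    funext k
    rw [Finset.sum_apply]
    by_cases hk : k = i
    · subst hk
      simp only [Pi.single_eq_same]
      ext a b
      simp [Matrix.sum_apply, Matrix.single_apply, Matrix.one_apply, eq_comm, ite_and]
    · simp [Pi.single_eq_of_ne hk]
  have hπη : ∀ i, π (η i) = Pi.single i 1 := fun i => by
    rw [hη, map_sum]; simp only [hπe]; exact hEsum i
  have htot : ∑ q, ep q = 1 := by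
    refine (sub_eq_zero.mp (hzero (1 - ∑ q, ep q) ?_ ?_)).symm
    · exact (hep.isIdempotentElem_sum).one_sub
    · rw [map_sub, map_one, map_sum, Finset.sum_congr rfl fun q _ => hπe q,
        ← Finset.univ_sigma_univ, Finset.sum_sigma, Finset.sum_congr rfl fun i _ => hEsum i]
      rw [Finset.univ_sum_single (fun i => (1 : Matrix (Fin (d i)) (Fin (d i)) K))]
      exact sub_self _
  have hidemε : ∀ f, f * f = f → (ε * f) * (ε * f) = ε * f := fun f hf => by
    rw [mul_assoc, ← mul_assoc f, ← hεc f, mul_assoc ε f f, hf, ← mul_assoc, hεε]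
  have hsum : ∀ (s : Finset (Σ i, Fin (d i))),
      m (ε * ∑ q ∈ s, ep q) = ∑ q ∈ s, m (ε * ep q) := by
    intro s
    induction s using Finset.induction_on with
    | empty => simp [hm0]
    | @insert q s hq ih =>
      have h1 : ep q * ∑ q' ∈ s, ep q' = 0 := hep.mul_sum_of_notMem hq
      have h2 : (∑ q' ∈ s, ep q') * ep q = 0 := by
        rw [Finset.sum_mul]
        exact Finset.sum_eq_zero fun q' h => hep.ortho fun e => hq (e ▸ h)
      rw [Finset.sum_insert hq, Finset.sum_insert hq, mul_add,
        hadd _ _ (hidemε _ (hep.idem q)) (hidemε _ hep.isIdempotentElem_sum) ?_ ?_, ih]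
      · rw [mul_assoc, ← mul_assoc (ep q), ← hεc, mul_assoc ε (ep q), h1, mul_zero, mul_zero]
      · rw [mul_assoc, ← mul_assoc (∑ q' ∈ s, ep q'), ← hεc, mul_assoc ε (∑ q' ∈ s, ep q'), h2,
          mul_zero, mul_zero]
  obtain ⟨Nf, hNf⟩ : ∃ Nf : Fin r → ℤ, Nf = fun i => m (ε * η i) := ⟨_, rfl⟩
  have hNsum : ∀ i, Nf i = ∑ j, m (ε * ep ⟨i, j⟩) := fun i => by
    rw [hNf, hη]
    simp only
    have := hsum (Finset.univ.map (Function.Embedding.sigmaMk i))
    rw [Finset.sum_map, Finset.sum_map] at this
    exact this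
  have hηη : ∀ i, η i * η i = η i := fun i => by
    rw [hη]
    simp only
    have := (hep.isIdempotentElem_sum (s := Finset.univ.map (Function.Embedding.sigmaMk i))).eq
    simp only [Finset.sum_map, Function.Embedding.sigmaMk_apply] at this
    exact this
  -- the permutation of the factors
  have hscal : ∀ x i, (∀ y, π x * π y = π y * π x) → (π x i) * (π x i) = π x i →
      π x i = 0 ∨ π x i = 1 := by
    intro x i hc hx
    have hmem : π x i ∈ Set.range (Matrix.scalar (Fin (d i))) := by
      refine Matrix.mem_range_scalar_of_commute_single fun a b _ => ?_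
      obtain ⟨y, hy⟩ := hπ (Pi.single i (Matrix.single a b 1))
      have := congrFun (hc y) i
      rw [Pi.mul_apply, Pi.mul_apply, hy, Pi.single_eq_same] at this
      exact this.symm
    obtain ⟨c, hc'⟩ := hmem
    haveI := hd i
    rw [← hc', ← map_mul] at hx
    rcases (IsIdempotentElem.iff_eq_zero_or_one.mp (Matrix.scalar_inj.mp hx)) with h | h <;>
      rw [← hc', h] <;> simp
  have hcenη : ∀ (l : ℕ) i y, π (σ^[l] (η i)) * π y = π y * π (σ^[l] (η i)) := by
    intro l i y
    obtain ⟨y', rfl⟩ : ∃ y', σ^[l] y' = y := by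
      refine ⟨σ^[(p - 1) * l] y, ?_⟩
      rw [← Function.iterate_add_apply, show l + (p - 1) * l = l * p by
        obtain ⟨c, hc⟩ := Nat.exists_eq_succ_of_ne_zero hp.ne_zero
        subst hc; simp; ring]
      clear * - hσ
      induction l with
      | zero => simp
      | succ l ih => rw [Nat.succ_mul, Function.iterate_add_apply, hσ, ih]
    rw [← map_mul, ← map_mul, ← hiter, ← hiter, ← sub_eq_zero, ← map_sub]
    have : σ^[l] (η i * y') - σ^[l] (y' * η i) = σ^[l] (η i * y' - y' * η i) := by
      clear * -
      induction l with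
      | zero => simp
      | succ l ih => simp only [Function.iterate_succ_apply', ← ih, map_sub]
    rw [this]
    refine hstabl l _ ?_
    rw [map_sub, map_mul, map_mul, hπη, sub_eq_zero]
    funext k
    by_cases hk : k = i
    · subst hk; simp
    · simp [Pi.single_eq_of_ne hk]
  have hatom : ∀ i, ∃ i', π (σ (η i)) = Pi.single i' 1 := by
    intro i
    have hx : ∀ k, π (σ (η i)) k * π (σ (η i)) k = π (σ (η i)) k := fun k => by
      rw [← Pi.mul_apply, ← map_mul, ← map_mul, hηη]
    have hne : π (σ (η i)) ≠ 0 := fun h => by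
      have h2 := hstabl (p - 1) _ h
      rw [hinv', hπη] at h2
      haveI := hd i
      exact one_ne_zero (α := Matrix (Fin (d i)) (Fin (d i)) K) (by simpa using congrFun h2 i)
    obtain ⟨i', hi'⟩ : ∃ i', π (σ (η i)) i' ≠ 0 := Function.ne_iff.mp hne
    have h1 : π (σ (η i)) i' = 1 :=
      (hscal _ _ (fun y => hcenη 1 i y) (hx i')).resolve_left hi'
    refine ⟨i', ?_⟩
    -- the preimage of `e_{i'}` lies below `e_i`
    have h2 : π (η i' * σ (η i)) = π (η i') := by
      rw [map_mul, hπη]
      funext k
      by_cases hk : k = i'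
      · subst hk; simp [h1]
      · simp [Pi.single_eq_of_ne hk]
    have h3 : π (σ^[p - 1] (η i') * η i) = π (σ^[p - 1] (η i')) := by
      have h4 := hstabl (p - 1) (η i' * σ (η i) - η i') (by rw [map_sub, h2, sub_self])
      rw [show σ^[p - 1] (η i' * σ (η i) - η i') =
        σ^[p - 1] (η i') * η i - σ^[p - 1] (η i') by
          have : ∀ (l : ℕ) (x y : S), σ^[l] (x - y) = σ^[l] x - σ^[l] y := fun l => by
            induction l with
            | zero => simp
            | succ l ih => intro x y; simp only [Function.iterate_succ_apply, map_sub, ih]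
          rw [this, hiter, hinv'], map_sub, sub_eq_zero] at h4
      exact h4
    rw [map_mul, hπη] at h3
    have hz : ∀ k, k ≠ i → π (σ^[p - 1] (η i')) k = 0 := fun k hk => by
      rw [← congrFun h3 k]; simp [Pi.single_eq_of_ne hk]
    have hne' : π (σ^[p - 1] (η i')) i ≠ 0 := fun h => by
      have h0 : π (σ^[p - 1] (η i')) = 0 := funext fun k => by
        by_cases hk : k = i
        · subst hk; exact h
        · exact hz k hk
      have h5 := hstab _ h0
      rw [hinv, hπη] at h5
      haveI := hd i'
      exact one_ne_zero (α := Matrix (Fin (d i')) (Fin (d i')) K) (by simpa using congrFun h5 i')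
    have h6 : π (σ^[p - 1] (η i')) i = 1 := (hscal _ _ (fun y => hcenη _ i' y) (by
      rw [← Pi.mul_apply, ← map_mul, ← hiter, hηη])).resolve_left hne'
    have h7 : π (σ^[p - 1] (η i') - η i) = 0 := by
      rw [map_sub, hπη, sub_eq_zero]
      funext k
      by_cases hk : k = i
      · subst hk; simp [h6]
      · simp [Pi.single_eq_of_ne hk, hz k hk]
    have h8 := hstab _ h7
    rw [map_sub, hinv, map_sub, sub_eq_zero, hπη] at h8
    exact h8.symm
  choose τ hτ using hatom
  have hτl : ∀ (l : ℕ) i, π (σ^[l] (η i)) = Pi.single (τ^[l] i) 1 := fun l => by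
    induction l with
    | zero => intro i; exact hπη i
    | succ l ih =>
      intro i
      rw [Function.iterate_succ_apply', Function.iterate_succ_apply']
      have h4 := hstab (σ^[l] (η i) - η (τ^[l] i)) (by rw [map_sub, ih, hπη, sub_self])
      rw [map_sub, map_sub, hτ, sub_eq_zero] at h4
      exact h4
  have hτp : ∀ i, τ^[p] i = i := fun i => by
    have := hτl p i
    rw [hσ, hπη] at this
    by_contra hne
    have h2 := congrFun this i
    haveI := hd i
    rw [Pi.single_eq_same, Pi.single_eq_of_ne (Ne.symm hne)] at h2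
    exact one_ne_zero h2
  have hNτ : ∀ i, Nf (τ i) = Nf i := fun i => by
    subst hNf
    simp only
    rw [← hmσ _ (hidemε _ (hηη i)), map_mul, hεσ]
    exact hcongr _ _ (hidemε _ (hηη _)) (hidemε _ (by rw [← map_mul, hηη]))
      (by rw [map_mul, map_mul, hπη, hτ])
  -- fixed factors
  have hfix : ∀ i, τ i = i → (p : ℤ) ∣ Nf i := by
    intro i hi
    haveI := hd i
    rcases hscal ε i (fun y => by rw [← map_mul, ← map_mul, hεc])
      (by rw [← Pi.mul_apply, ← map_mul, hεε]) with h0 | h1
    · have : ε * η i = 0 := hzero _ (hidemε _ (hηη i)) (by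
        rw [map_mul, hπη]
        funext k
        by_cases hk : k = i
        · subst hk; simp [h0]
        · simp [Pi.single_eq_of_ne hk])
      rw [hNf]; simp only [this, hm0, dvd_zero]
    have hτi : ∀ l, π (σ^[l] (η i)) = Pi.single i 1 := fun l => by
      rw [hτl, Function.iterate_fixed hi]
    have hdK : (d i : K) = 0 := by
      by_contra hdK
      have hl : ∀ l : ℕ, ((π (σ^[l] a)) i).trace = ((π a) i).trace := by
        intro l
        choose g hg using hπ
        have hiadd : ∀ x y, σ^[l] (x + y) = σ^[l] x + σ^[l] y := by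
          clear * -
          induction l with
          | zero => simp
          | succ l ih => intro x y; simp only [Function.iterate_succ_apply', ih, map_add]
        have hismul : ∀ (c : K) x, σ^[l] (c • x) = c • σ^[l] x := by
          clear * -
          induction l with
          | zero => simp
          | succ l ih => intro c x; simp only [Function.iterate_succ_apply', ih, map_smul]
        have key : ∀ x y, π x = π y → π (σ^[l] x) = π (σ^[l] y) := fun x y h => by
          have h2 := hstabl l (x - y) (by rw [map_sub, h, sub_self])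
          have : σ^[l] x = σ^[l] (x - y) + σ^[l] y := by rw [← hiadd, sub_add_cancel]
          rw [this, map_add, h2, zero_add]
        let L : Matrix (Fin (d i)) (Fin (d i)) K →ₗ[K] K :=
          { toFun := fun X => ((π (σ^[l] (g (Pi.single i X)))) i).trace
            map_add' := fun X Y => by
              rw [key _ (g (Pi.single i X) + g (Pi.single i Y))
                (by rw [map_add, hg, hg, hg, Pi.single_add]), hiadd, map_add, Pi.add_apply,
                Matrix.trace_add]
            map_smul' := fun c X => by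
              rw [key _ (c • g (Pi.single i X)) (by rw [map_smul, hg, hg, Pi.single_smul]), hismul,
                map_smul, Pi.smul_apply, Matrix.trace_smul, RingHom.id_apply] }
        have hLd : ∀ X, L X = ((π (σ^[l] (g (Pi.single i X)))) i).trace := fun X => rfl
        have hL : L ((π a) i) = ((π (σ^[l] a)) i).trace := by
          have h2 : π (σ^[l] (g (Pi.single i ((π a) i)))) = π (σ^[l] (η i * a)) :=
            key _ _ (by
              rw [hg, map_mul, hπη]
              funext k
              by_cases hk : k = i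
              · subst hk; simp
              · simp [Pi.single_eq_of_ne hk])
          rw [hLd, h2, hiter, map_mul, hτi, Pi.mul_apply, Pi.single_eq_same, one_mul]
        rw [← hL]
        refine tracial_eq_trace hdK L (fun X Y => ?_) ?_ _
        · have e : ∀ Z W : Matrix (Fin (d i)) (Fin (d i)) K, π (σ^[l] (g (Pi.single i (Z * W)))) =
              π (σ^[l] (g (Pi.single i Z))) * π (σ^[l] (g (Pi.single i W))) := fun Z W => by
            rw [← map_mul, ← hiter]
            exact key _ _ (by rw [map_mul, hg, hg, hg, Pi.single_mul])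
          rw [hLd, hLd, e, e, Pi.mul_apply, Pi.mul_apply, Matrix.trace_mul_comm]
        · rw [hLd, key _ (η i) (by rw [hg, hπη]), hτi, Pi.single_eq_same, Matrix.trace_one,
            Fintype.card_fin]
      have h := congrArg (fun x => ((π x) i).trace) ha
      simp only [map_sum, Finset.sum_apply, Matrix.trace_sum, h1, Matrix.trace_one,
        Fintype.card_fin] at h
      rw [Finset.sum_congr rfl fun l _ => hl l, Finset.sum_const, Finset.card_range, nsmul_eq_mul,
        CharP.cast_eq_zero, zero_mul] at h
      exact hdK h.symm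
    have heq : ∀ j k : Fin (d i), m (ep ⟨i, j⟩) = m (ep ⟨i, k⟩) := by
      intro j k
      obtain ⟨w, hw⟩ := hπ (Function.update 1 i ((Equiv.swap j k).toPEquiv.toMatrix : Matrix (Fin (d i)) (Fin (d i)) K))
      obtain ⟨w', hw'⟩ := hπ (Function.update 1 i ((Equiv.swap j k).toPEquiv.toMatrix : Matrix (Fin (d i)) (Fin (d i)) K))
      have hww : π w * π w = 1 := by
        rw [hw]
        funext z
        by_cases hz : z = i
        · subst hz
          simp [PEquiv.toMatrix_toPEquiv_mul]
          ext x y
          simp [PEquiv.toMatrix_apply, Matrix.one_apply]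
        · simp [Function.update_of_ne hz]
      obtain ⟨v, hv⟩ := hunit (w * w) (by rw [map_mul, hww])
      have hwu : IsUnit w :=
        isUnit_iff_exists_and_exists.mpr ⟨⟨w * ↑v⁻¹, by rw [← mul_assoc, ← hv, Units.mul_inv]⟩,
          ⟨↑v⁻¹ * w, by rw [mul_assoc, ← hv, Units.inv_mul]⟩⟩
      obtain ⟨u, rfl⟩ := hwu
      rw [← hconj (ep ⟨i, j⟩) u (hep.idem _)]
      refine hcongr _ _ ?_ (hep.idem _) ?_
      · calc (u : S) * ep ⟨i, j⟩ * ↑u⁻¹ * ((u : S) * ep ⟨i, j⟩ * ↑u⁻¹)
            = (u : S) * (ep ⟨i, j⟩ * ep ⟨i, j⟩) * ↑u⁻¹ := by simp [mul_assoc]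
          _ = _ := by rw [(hep.idem _).eq]
      · have h2 : π (↑u⁻¹ : S) = π (u : S) := by
          calc π (↑u⁻¹ : S) = π (↑u⁻¹ : S) * (π (u : S) * π (u : S)) := by rw [hww, mul_one]
            _ = π (u : S) := by rw [← mul_assoc, ← map_mul π, Units.inv_mul, map_one, one_mul]
        rw [map_mul, map_mul, h2, hπe, hπe, hw, hE]
        funext z
        by_cases hz : z = i
        · subst hz
          simp only [Pi.mul_apply, Function.update_self, Pi.single_eq_same]
          rw [PEquiv.toMatrix_toPEquiv_mul, PEquiv.mul_toMatrix_toPEquiv]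
          ext x y
          have e : ∀ t, (j = Equiv.swap j k t ↔ k = t) := fun t => by
            rw [← Equiv.symm_apply_eq, Equiv.symm_swap, Equiv.swap_apply_left]
          simp [Matrix.single_apply, e]
        · simp [Pi.single_eq_of_ne hz]
    rw [hNsum i]
    have hact : ∀ j, m (ε * ep ⟨i, j⟩) = m (ep ⟨i, 0⟩) := fun j => by
      rw [← heq j 0]
      refine hcongr _ _ (hidemε _ (hep.idem _)) (hep.idem _) ?_
      rw [map_mul, hπe, hE]
      funext z
      by_cases hz : z = i
      · subst hz; simp [h1]
      · simp [Pi.single_eq_of_ne hz]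
    rw [Finset.sum_congr rfl fun j _ => hact j, Finset.sum_const, Finset.card_univ,
      Fintype.card_fin, nsmul_eq_mul]
    exact dvd_mul_of_dvd_left (Int.natCast_dvd_natCast.mpr ((CharP.cast_eq_zero_iff K p _).mp hdK)) _
  -- summing up
  have hmε : m ε = ∑ i, Nf i := by
    conv_lhs => rw [← mul_one ε, ← htot]
    rw [hsum, ← Finset.univ_sigma_univ, Finset.sum_sigma]
    exact Finset.sum_congr rfl fun i _ => (hNsum i).symm
  let τe : Equiv.Perm (Fin r) :=
    { toFun := τ
      invFun := τ^[p - 1]
      left_inv := fun i => by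
        rw [← Function.iterate_succ_apply τ, Nat.sub_one, Nat.succ_pred hp.ne_zero, hτp]
      right_inv := fun i => by
        rw [← Function.iterate_succ_apply' τ, Nat.sub_one, Nat.succ_pred hp.ne_zero, hτp] }
  have hτe : τe ^ p = 1 := Equiv.ext fun i => by
    rw [Equiv.Perm.coe_pow]; exact hτp i
  have hP : IsPGroup p (Subgroup.zpowers τe) := by
    rintro ⟨g, hg⟩
    obtain ⟨z, rfl⟩ := Subgroup.mem_zpowers_iff.mp hg
    refine ⟨1, Subtype.ext ?_⟩
    show (τe ^ z) ^ p ^ 1 = 1
    rw [pow_one, ← zpow_natCast, ← zpow_mul, mul_comm, zpow_mul, zpow_natCast, hτe, one_zpow]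
  have hinvar : ∀ (g : Subgroup.zpowers τe) (i : Fin r),
      ((Nf ((Subgroup.zpowers τe).subtype g i) : ℤ) : ZMod p) = (Nf i : ℤ) := by
    rintro ⟨g, hg⟩ i
    obtain ⟨n, rfl⟩ := mem_powers_iff_mem_zpowers.mpr hg
    congr 1
    show Nf ((τe ^ n) i) = Nf i
    induction n generalizing i with
    | zero => rfl
    | succ n ih =>
      rw [pow_succ, Equiv.Perm.mul_apply, ih _ (Subgroup.pow_mem _ (Subgroup.mem_zpowers _) n)]
      exact hNτ i
  rw [← ZMod.intCast_zmod_eq_zero_iff_dvd, hmε, Int.cast_sum,
    Glauberman.sum_eq_sum_fixed hP (Subgroup.zpowers τe).subtype _ hinvar]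
  refine Finset.sum_eq_zero fun i hi => ?_
  exact (ZMod.intCast_zmod_eq_zero_iff_dvd _ _).mpr
    (hfix i ((Finset.mem_filter.mp hi).2 ⟨τe, Subgroup.mem_zpowers _⟩))

end Cfsg.Agent.Corner
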