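import Cfsg.Agent.Lib.Blocks.Subgroup

/-!
# Height zero characters; the theorems of Blau and Okuyama, the third main theorem
-/

namespace Cfsg.Agent.Blocks

open MonoidAlgebra
open scoped ComplexConjugate

universe u v

variable {G : Type u} [Group G] [Finite G] {p : ℕ} {M : Ideal AlgInt} [M.IsPrime]

set_option linter.unusedSectionVars false

open Classical in
/-- The conjugate of `ψ` restricted to the `p`-regular elements, as a central element. -/
noncomputable def regConj (M : Ideal AlgInt) [M.IsPrime] (p : ℕ) (ψ : IrrCharacter G) :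
    ZG (Loc M) G :=
  ⟨ofFun fun x => if p ∣ orderOf x then 0
      else ⟨conj ((ψ : G → ℂ) x), integral_mem_loc (CT.isIntegral_conj (isIntegral_irr ψ.2 x))⟩, by
    rw [mem_center_iff_isClassFn]
    intro g h
    simp only [coeff_ofFun]
    have ho : orderOf (h * g * h⁻¹) = orderOf g := by
      rw [← MulAut.conj_apply, MulEquiv.orderOf_eq]
    have hc := isClassFn_irr ψ g h
    simp_rw [ho, hc]⟩

open Classical in
theorem coe_coeff_regConj (ψ : IrrCharacter G) (x : G) :
    ((((regConj M p ψ : ZG (Loc M) G) : MonoidAlgebra (Loc M) G).coeff x : Loc M) : ℂ) =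
      if p ∣ orderOf x then 0 else conj ((ψ : G → ℂ) x) := by
  simp only [regConj, coeff_ofFun]
  split_ifs <;> rfl

open Classical in
/-- The sum over `p`-regular elements. -/
noncomputable def regPair (p : ℕ) [Fintype G] (χ ψ : IrrCharacter G) : ℂ :=
  ∑ x : G, if p ∣ orderOf x then 0 else (χ : G → ℂ) x * conj ((ψ : G → ℂ) x)

/-- The normalised pairing over `p`-regular elements. -/
noncomputable def regS (M : Ideal AlgInt) [M.IsPrime] (p : ℕ) (χ ψ : IrrCharacter G) : Loc M :=
  omegaL M χ (regConj M p ψ)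

open Classical in
theorem deg_mul_regS [Fintype G] (χ ψ : IrrCharacter G) :
    (χ : G → ℂ) 1 * (regS M p χ ψ : ℂ) = regPair p χ ψ := by
  rw [regS, coe_omegaL, omega, mul_div_cancel₀ _ (CT.irr_one_ne_zero χ.2), ev_eq_sum, regPair]
  refine Finset.sum_congr rfl fun x _ => ?_
  rw [coeff_map', Subring.subtype_apply, coe_coeff_regConj]
  split_ifs <;> ring

open Classical in
theorem regPair_symm [Fintype G] (χ ψ : IrrCharacter G) : regPair p χ ψ = regPair p ψ χ := by
  refine Fintype.sum_equiv (Equiv.inv G) _ _ fun x => ?_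
  simp only [Equiv.inv_apply, orderOf_inv,
    CT.char_inv_eq_conj (CT.isCharacter_of_isIrr χ.2),
    CT.char_inv_eq_conj (CT.isCharacter_of_isIrr ψ.2), Complex.conj_conj]
  split_ifs <;> ring

theorem deg_mul_regS_symm (χ ψ : IrrCharacter G) :
    (χ : G → ℂ) 1 * (regS M p χ ψ : ℂ) = (ψ : G → ℂ) 1 * (regS M p ψ χ : ℂ) := by
  letI := Fintype.ofFinite G
  rw [deg_mul_regS, deg_mul_regS, regPair_symm]

theorem regS_eq_zero (hM : IsPModular p M) {χ ψ : IrrCharacter G}
    (h : ¬ SameBlock M (χ : G → ℂ) (ψ : G → ℂ)) : regS M p χ ψ = 0 := by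
  classical
  letI := Fintype.ofFinite G
  refine Subtype.ext ?_
  apply mul_left_cancel₀ (CT.irr_one_ne_zero χ.2)
  rw [deg_mul_regS, ZeroMemClass.coe_zero, mul_zero]
  refine Eq.trans ?_ (regSum_eq_zero hM h)
  rw [regPair, finsum_mem_eq_toFinset_sum, Set.toFinset_ofPred, Finset.sum_filter]
  exact Finset.sum_congr rfl fun x _ => by split_ifs <;> rfl

theorem red_regS_congr {χ χ' : IrrCharacter G} (h : SameBlock M (χ : G → ℂ) (χ' : G → ℂ))
    (ψ : IrrCharacter G) : red M (regS M p χ ψ) = red M (regS M p χ' ψ) :=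
  red_omegaL_eq_of_sameBlock h _

/-- Some member of the block pairs with a unit. -/
theorem exists_red_regS_ne_zero (hM : IsPModular p M) (χ : IrrCharacter G) :
    ∃ ψ : IrrCharacter G, SameBlock M (χ : G → ℂ) (ψ : G → ℂ) ∧ red M (regS M p χ ψ) ≠ 0 := by
  classical
  letI := Fintype.ofFinite G
  set B := blockOf M (χ : G → ℂ)
  have hB : IsPBlock M B := isPBlock_blockOf χ
  have hA : ∀ u, blockCoeff B u ∈ Loc M := blockCoeff_mem_loc hB
  have hχB : χ ∈ B := self_mem_blockOf χ
  by_contra hne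
  push Not at hne
  let c : IrrCharacter G → ℂ := fun ψ => if ψ ∈ B then (regS M p χ ψ : ℂ) else 0
  have hci : ∀ ψ, MemLocalIdeal M (c ψ) := fun ψ => by
    simp only [c]
    split_ifs with hψ
    · exact red_eq_zero_iff.mp (hne ψ hψ)
    · exact memLocalIdeal_zero
  have hce : ∀ u : G, (χ : G → ℂ) 1 * ∑ ψ, c ψ * (ψ : G → ℂ) u =
      ∑ x : G, if p ∣ orderOf x then 0
        else (χ : G → ℂ) x * ∑ ψ : IrrCharacter G,
          (if ψ ∈ B then (ψ : G → ℂ) u * conj ((ψ : G → ℂ) x) else 0) := by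
    intro u
    rw [Finset.mul_sum]
    have e : ∀ ψ : IrrCharacter G, (χ : G → ℂ) 1 * (c ψ * (ψ : G → ℂ) u) =
        ∑ x : G, if p ∣ orderOf x then 0 else (χ : G → ℂ) x *
          (if ψ ∈ B then (ψ : G → ℂ) u * conj ((ψ : G → ℂ) x) else 0) := by
      intro ψ
      by_cases hψ : ψ ∈ B
      · simp only [c, if_pos hψ]
        rw [← mul_assoc, deg_mul_regS, regPair, Finset.sum_mul]
        exact Finset.sum_congr rfl fun x _ => by split_ifs <;> ring
      · simp [c, hψ]
    rw [Finset.sum_congr rfl fun ψ _ => e ψ, Finset.sum_comm]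
    refine Finset.sum_congr rfl fun x _ => ?_
    by_cases hx : p ∣ orderOf x
    · simp [hx]
    · simp [hx, Finset.mul_sum]
  obtain ⟨n, hn, -⟩ := exists_eq_pow_mul (G := G) (M := M) hM.1 c
    (fun ψ => memLocalRing_of_mem_ideal (hci ψ)) fun u hu => by
      apply mul_left_cancel₀ (CT.irr_one_ne_zero χ.2)
      rw [hce, mul_zero]
      refine Finset.sum_eq_zero fun x _ => ?_
      by_cases hx : p ∣ orderOf x
      · rw [if_pos hx]
      · have h0 := weak_orthogonality' hM hA hu hx
        rw [finsum_mem_irr] at h0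
        rw [if_neg hx, h0, mul_zero]
  have htot : ∑ ψ, c ψ * (ψ : G → ℂ) 1 = (Nat.card G : ℂ) := by
    apply mul_left_cancel₀ (CT.irr_one_ne_zero χ.2)
    rw [hce]
    have h1 := omega_idemC B χ
    rw [if_pos hχB, omega, div_eq_one_iff_eq (CT.irr_one_ne_zero χ.2), idemC, ev_ofFun] at h1
    refine Eq.trans ?_ ((congrArg ((Nat.card G : ℂ) * ·) h1).trans (mul_comm _ _))
    rw [Finset.mul_sum]
    refine Finset.sum_congr rfl fun x _ => ?_
    by_cases hx : p ∣ orderOf x
    · rw [if_pos hx, blockCoeff_eq_zero_of_singular hM hA hx]; ring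
    · rw [if_neg hx, blockCoeff, finsum_mem_irr, ← mul_assoc,
        mul_inv_cancel_left₀ (CT.card_ne_zero (G := G)), Finset.mul_sum, Finset.sum_mul]
      exact Finset.sum_congr rfl fun ψ _ => by split_ifs <;> ring
  rw [htot] at hn
  set a := (Nat.card G).factorization p
  have hm : ¬ p ∣ Nat.card G / p ^ a := Nat.not_dvd_ordCompl hM.1 Nat.card_pos.ne'
  refine hm ((memLocalIdeal_natCast hM _).mp ?_)
  have hp0 : (p : ℂ) ≠ 0 := Nat.cast_ne_zero.mpr hM.1.ne_zero
  have e : ((Nat.card G / p ^ a : ℕ) : ℂ) = ∑ ψ, c ψ * (n ψ : ℂ) := by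
    apply mul_left_cancel₀ (pow_ne_zero a hp0)
    rw [← hn]
    exact_mod_cast (Nat.ordProj_mul_ordCompl_eq_self (Nat.card G) p)
  rw [e]
  clear e hn htot
  induction (Finset.univ : Finset (IrrCharacter G)) using Finset.induction_on with
  | empty => simpa using memLocalIdeal_zero
  | insert ψ s hψ ih =>
    rw [Finset.sum_insert hψ]
    exact memLocalIdeal_add (by rw [mul_comm]; exact memLocalIdeal_mul_left (natCast_mem _ _) (hci ψ)) ih

/-- Comparing valuations through a unit factor. -/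
theorem factorization_le_of_unit (hM : IsPModular p M) {m n : ℕ} (hm : m ≠ 0) (hn : n ≠ 0)
    {u w : Loc M} (hu : red M u ≠ 0) (h : (n : ℂ) * u = (m : ℂ) * w) :
    m.factorization p ≤ n.factorization p ∧
      (red M w ≠ 0 ↔ m.factorization p = n.factorization p) := by
  haveI := charP_res hM
  set a := m.factorization p
  set b := n.factorization p
  have ho : ∀ k : ℕ, k ≠ 0 → red M ((k / p ^ k.factorization p : ℕ) : Loc M) ≠ 0 := fun k hk h0 => by
    rw [map_natCast] at h0
    exact Nat.not_dvd_ordCompl hM.1 hk ((CharP.cast_eq_zero_iff (Res M) p _).mp h0)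
  have hp0 : (p : Loc M) ≠ 0 := fun e => hM.1.ne_zero (by
    have := congrArg (fun x : Loc M => (x : ℂ)) e
    simpa using this)
  have hrp : red M (p : Loc M) = 0 := by rw [map_natCast, CharP.cast_eq_zero]
  have h' : (n : Loc M) * u = (m : Loc M) * w := Subtype.ext (by simpa using h)
  have hn' : (n : Loc M) = (p : Loc M) ^ b * ((n / p ^ b : ℕ) : Loc M) := by
    rw [← Nat.cast_pow, ← Nat.cast_mul, Nat.ordProj_mul_ordCompl_eq_self]
  have hm' : (m : Loc M) = (p : Loc M) ^ a * ((m / p ^ a : ℕ) : Loc M) := by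
    rw [← Nat.cast_pow, ← Nat.cast_mul, Nat.ordProj_mul_ordCompl_eq_self]
  rw [hn', hm', mul_assoc, mul_assoc] at h'
  have hle : a ≤ b := by
    by_contra hlt
    push Not at hlt
    obtain ⟨t, ht⟩ : ∃ t, a = b + (t + 1) := ⟨a - b - 1, by omega⟩
    have e : ((n / p ^ b : ℕ) : Loc M) * u =
        (p : Loc M) ^ (t + 1) * (((m / p ^ a : ℕ) : Loc M) * w) := by
      apply mul_left_cancel₀ (pow_ne_zero b hp0)
      rw [← mul_assoc ((p : Loc M) ^ b) ((p : Loc M) ^ (t + 1)), ← pow_add, ← ht]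
      exact h'
    have e2 := congrArg (red M) e
    rw [map_mul, map_mul, map_pow, hrp, zero_pow (Nat.succ_ne_zero t), zero_mul] at e2
    exact (mul_ne_zero (ho n hn) hu) e2
  refine ⟨hle, ?_⟩
  obtain ⟨t, ht⟩ : ∃ t, b = a + t := ⟨b - a, by omega⟩
  have e : (p : Loc M) ^ t * (((n / p ^ b : ℕ) : Loc M) * u) =
      ((m / p ^ a : ℕ) : Loc M) * w := by
    apply mul_left_cancel₀ (pow_ne_zero a hp0)
    rw [← mul_assoc, ← pow_add, ← ht]
    exact h'
  have e2 := congrArg (red M) e
  rw [map_mul, map_mul, map_mul, map_pow, hrp] at e2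
  constructor
  · intro hw
    by_contra hne
    rw [zero_pow (by omega), zero_mul] at e2
    exact (mul_ne_zero (ho m hm) hw) e2.symm
  · intro hab hw
    rw [show t = 0 by omega, pow_zero, one_mul, hw, mul_zero] at e2
    exact (mul_ne_zero (ho n hn) hu) e2

/-- The height zero criterion. -/
theorem red_regS_ne_zero_iff (hM : IsPModular p M) {B : Set (IrrCharacter G)}
    (hB : IsPBlock M B) {χ ψ : IrrCharacter G} (hχ : χ ∈ B) (hψ : ψ ∈ B) :
    red M (regS M p χ ψ) ≠ 0 ↔ blockHeight p B (ψ : G → ℂ) = 0 := by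
  obtain ⟨ψ₀, hsb, hu⟩ := exists_red_regS_ne_zero hM χ
  have hψ₀ : ψ₀ ∈ B := (mem_block_iff hB hχ).mpr hsb
  have hcmp : ∀ η ∈ B,
      (charDegree (ψ₀ : G → ℂ)).factorization p ≤ (charDegree (η : G → ℂ)).factorization p ∧
        (red M (regS M p χ η) ≠ 0 ↔
          (charDegree (ψ₀ : G → ℂ)).factorization p = (charDegree (η : G → ℂ)).factorization p) := by
    intro η hη
    have h1 : red M (regS M p η ψ₀) ≠ 0 := by
      rw [← red_regS_congr ((mem_block_iff hB hχ).mp hη)]; exact hu
    have h2 := factorization_le_of_unit hM (charDegree_pos ψ₀).ne' (charDegree_pos η).ne' h1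
      (w := regS M p ψ₀ η) (by rw [← charDegree_cast, ← charDegree_cast]; exact deg_mul_regS_symm η ψ₀)
    rw [red_regS_congr hsb η]
    exact h2
  have hinf : sInf ((fun χ : IrrCharacter G => (charDegree (χ : G → ℂ)).factorization p) '' B) =
      (charDegree (ψ₀ : G → ℂ)).factorization p := by
    refine le_antisymm (Nat.sInf_le ⟨ψ₀, hψ₀, rfl⟩) (le_csInf ⟨_, ψ₀, hψ₀, rfl⟩ ?_)
    rintro _ ⟨η, hη, rfl⟩
    exact (hcmp η hη).1
  rw [(hcmp ψ hψ).2, blockHeight, hinf]
  have := (hcmp ψ hψ).1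
  omega

theorem exists_height_zero {B : Set (IrrCharacter G)} (hB : IsPBlock M B) :
    ∃ ψ ∈ B, blockHeight p B (ψ : G → ℂ) = 0 := by
  obtain ⟨χ, hχ⟩ := block_nonempty hB
  obtain ⟨ψ, hψ, e⟩ := Nat.sInf_mem (s := (fun χ : IrrCharacter G =>
    (charDegree (χ : G → ℂ)).factorization p) '' B) ⟨_, χ, hχ, rfl⟩
  refine ⟨ψ, hψ, ?_⟩
  rw [blockHeight, ← e]
  exact Nat.sub_self _

/-- The key identity: restriction of a character against an inducing block. -/
theorem red_regS_induced (hM : IsPModular p M) {H : Subgroup G} [Fintype H] {b : Set (IrrCharacter H)}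
    {B : Set (IrrCharacter G)} (hind : IsInducedBlock M H b B) {ξ : IrrCharacter H} (hξ : ξ ∈ b)
    {η : IrrCharacter G} (hη : η ∈ B) (χ : IrrCharacter G) :
    red M (regS M p η χ) = ∑ ψ : IrrCharacter H,
      (CT.mult (fun h : H => (χ : G → ℂ) h) ψ : Res M) * red M (regS M p ξ ψ) := by
  classical
  letI := Fintype.ofFinite G
  have h1 := indBar_eq_of_isInducedBlock hind hξ hη (redZ M G (regConj M p χ))
  rw [omegaBar_redZ] at h1
  rw [regS, ← h1, indBar_apply,
    show resZ H (redZ M G (regConj M p χ)) = redZ M H (resZ H (regConj M p χ)) from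
      Subtype.ext (by simp [map_resH]), omegaBar_redZ]
  have hres : resZ H (regConj M p χ) = ∑ ψ : IrrCharacter H,
      (CT.mult (fun h : H => (χ : G → ℂ) h) ψ : ZG (Loc M) H) * regConj M p ψ := by
    refine Subtype.ext ?_
    push_cast
    ext u
    simp only [natCast_def, coeff_sum, Finset.sum_apply', coeff_single_one_mul, coe_resZ, coeff_resH]
    push_cast
    simp only [coe_coeff_regConj, Subgroup.orderOf_coe]
    by_cases hu : p ∣ orderOf u
    · simp [hu]
    · simp only [if_neg hu]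
      have hd := congrFun (CT.character_eq_sum
        (CT.isCharacter_restrict H (CT.isCharacter_of_isIrr χ.2))) u
      simp only [Finset.sum_apply, Pi.smul_apply, smul_eq_mul] at hd
      rw [hd, map_sum]
      simp
  rw [hres, map_sum, map_sum]
  refine Finset.sum_congr rfl fun ψ _ => ?_
  rw [map_mul, map_mul, map_natCast, map_natCast]
  rfl

/-- Blau's theorem. -/
theorem blau (hM : IsPModular p M) {H : Subgroup G} [Fintype H] {b : Set (IrrCharacter H)}
    {B : Set (IrrCharacter G)} (hind : IsInducedBlock M H b B) {χ : IrrCharacter G} (hχ : χ ∈ B)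
    (h0 : blockHeight p B (χ : G → ℂ) = 0) :
    ∃ ξ ∈ b, blockHeight p b (ξ : H → ℂ) = 0 ∧
      ¬ p ∣ CT.mult (fun h : H => (χ : G → ℂ) h) ξ := by
  classical
  haveI := charP_res hM
  obtain ⟨ξ, hξ⟩ := block_nonempty hind.1
  have hu := (red_regS_ne_zero_iff hM hind.2.1 hχ hχ).mpr h0
  rw [red_regS_induced hM hind hξ hχ] at hu
  obtain ⟨ψ, -, hψ⟩ := Finset.exists_ne_zero_of_sum_ne_zero hu
  have h2 := right_ne_zero_of_mul hψ
  have hψb : ψ ∈ b := by
    by_contra hne
    exact h2 (by rw [regS_eq_zero hM (fun h => hne ((mem_block_iff hind.1 hξ).mpr h)), map_zero])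
  refine ⟨ψ, hψb, (red_regS_ne_zero_iff hM hind.1 hξ hψb).mp h2, fun hd => left_ne_zero_of_mul hψ ?_⟩
  exact (CharP.cast_eq_zero_iff (Res M) p _).mpr hd

/-- Okuyama's theorem. -/
theorem okuyama (hM : IsPModular p M) {H : Subgroup G} (χ : IrrCharacter G)
    (hres : IsIrrCharacter H (fun h : H => (χ : G → ℂ) h))
    (hχ0 : blockHeight p (blockOf M (χ : G → ℂ)) (χ : G → ℂ) = 0)
    (hψ0 : blockHeight p (blockOf M (fun h : H => (χ : G → ℂ) h))
      (fun h : H => (χ : G → ℂ) h) = 0)
    {e : Set (IrrCharacter H)} (he : InducedBlockDefined M H e) :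
    IsInducedBlock M H e (blockOf M (χ : G → ℂ)) ↔
      e = blockOf M (fun h : H => (χ : G → ℂ) h) := by
  classical
  letI := Fintype.ofFinite H
  set ψ₀ : IrrCharacter H := ⟨_, hres⟩
  have hmult : ∀ ψ : IrrCharacter H, CT.mult (fun h : H => (χ : G → ℂ) h) ψ =
      if ψ₀ = ψ then 1 else 0 := fun ψ => by
    have h1 := CT.mult_spec (CT.isCharacter_of_isIrr hres) (CT.isCharacter_of_isIrr ψ.2)
    have h2 := CT.irr_inner_subtype ψ₀ ψ
    rw [h2] at h1
    split_ifs at h1 ⊢ <;> exact_mod_cast h1.symm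
  constructor
  · intro hind
    obtain ⟨ψ, hψ, -, hn⟩ := blau hM hind (self_mem_blockOf χ) hχ0
    rw [hmult] at hn
    split_ifs at hn with heq
    · subst heq
      exact block_eq_blockOf hind.1 hψ
    · exact absurd (dvd_zero p) hn
  · intro heq
    obtain ⟨B, hB⟩ := he
    obtain ⟨η, hη⟩ := block_nonempty hB.2.1
    have hψ₀e : ψ₀ ∈ e := by rw [heq]; exact self_mem_blockOf ψ₀
    have h1 : red M (regS M p η χ) ≠ 0 := by
      rw [red_regS_induced hM hB hψ₀e hη, Finset.sum_eq_single ψ₀]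
      · rw [hmult, if_pos rfl, Nat.cast_one, one_mul]
        exact (red_regS_ne_zero_iff hM (isPBlock_blockOf ψ₀) (self_mem_blockOf ψ₀)
          (self_mem_blockOf ψ₀)).mpr hψ0
      · intro ψ _ hψ
        rw [hmult, if_neg (Ne.symm hψ), Nat.cast_zero, zero_mul]
      · simp
    have h2 : SameBlock M (η : G → ℂ) (χ : G → ℂ) := by
      by_contra hne
      exact h1 (by rw [regS_eq_zero hM hne, map_zero])
    rwa [← block_eq_blockOf hB.2.1 ((mem_block_iff hB.2.1 hη).mpr h2)]

theorem blockHeight_trivial (B : Set (IrrCharacter G)) :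
    blockHeight p B (fun _ : G => (1 : ℂ)) = 0 := by
  rw [blockHeight, show charDegree (fun _ : G => (1 : ℂ)) = 1 by simp [charDegree]]
  simp

/-- Brauer's third main theorem. -/
theorem third_main (hM : IsPModular p M) {H : Subgroup G} {b : Set (IrrCharacter H)}
    (hdef : InducedBlockDefined M H b) :
    IsInducedBlock M H b (principalBlock M G) ↔ b = principalBlock M H :=
  okuyama hM (CT.trivIrr G) CT.isIrrCharacter_one (blockHeight_trivial _) (blockHeight_trivial _)
    hdef

end Cfsg.Agent.Blocks
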