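import Cfsg.Agent.Lib.Blocks.Normal
import Cfsg.Agent.Lib.Blocks.NormalPSupport
import Cfsg.Agent.Lib.Blocks.Orthogonality
import Cfsg.Agent.Lib.Blocks.Covering
import Cfsg.Agent.Lib.CT.Kernel

/-!
# Blocks of a quotient and inflation
-/

set_option linter.unusedSectionVars false

namespace Cfsg.Agent.Blocks

open MonoidAlgebra

variable {G : Type*} [Group G] [Finite G] {p : ℕ} {M : Ideal AlgInt} [M.IsPrime]
  {N : Subgroup G} [N.Normal]

/-- The inflation of an irreducible character of a quotient. -/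
noncomputable def inflIrr (χ : IrrCharacter (G ⧸ N)) : IrrCharacter G :=
  ⟨fun g => (χ : G ⧸ N → ℂ) (QuotientGroup.mk' N g),
    CT.isIrrCharacter_comp (QuotientGroup.mk' N) (QuotientGroup.mk'_surjective N) χ.2⟩

@[simp] theorem inflIrr_apply (χ : IrrCharacter (G ⧸ N)) (g : G) :
    (inflIrr χ : G → ℂ) g = (χ : G ⧸ N → ℂ) (g : G ⧸ N) := rfl

theorem coe_inflIrr (χ : IrrCharacter (G ⧸ N)) :
    (inflIrr χ : G → ℂ) = (χ : G ⧸ N → ℂ) ∘ QuotientGroup.mk := rfl

theorem centralizer_le_comap (g : G) : Subgroup.centralizer ({g} : Set G) ≤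
    (Subgroup.centralizer ({(g : G ⧸ N)} : Set (G ⧸ N))).comap (QuotientGroup.mk' N) := by
  intro c hc
  exact Subgroup.mem_centralizer_singleton_iff.mpr
    (congrArg (QuotientGroup.mk' N) (Subgroup.mem_centralizer_singleton_iff.mp hc))

/-- Central characters of inflated characters are natural multiples. -/
theorem centralChar_inflIrr (χ : IrrCharacter (G ⧸ N)) (g : G) :
    centralChar (inflIrr χ : G → ℂ) g =
      ((Subgroup.centralizer ({g} : Set G)).relIndex
        ((Subgroup.centralizer ({(g : G ⧸ N)} : Set (G ⧸ N))).comap (QuotientGroup.mk' N)) : ℂ) *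
        centralChar (χ : G ⧸ N → ℂ) (g : G ⧸ N) := by
  rw [centralChar, centralChar, ← Subgroup.relIndex_mul_index (centralizer_le_comap (N := N) g),
    Subgroup.index_comap_of_surjective _ (QuotientGroup.mk'_surjective N)]
  simp only [inflIrr_apply, QuotientGroup.mk_one]
  push_cast
  ring

theorem sameBlock_inflIrr {χ ψ : IrrCharacter (G ⧸ N)}
    (h : SameBlock M (χ : G ⧸ N → ℂ) (ψ : G ⧸ N → ℂ)) :
    SameBlock M (inflIrr χ : G → ℂ) (inflIrr ψ : G → ℂ) := fun g => by
  rw [centralChar_inflIrr, centralChar_inflIrr, ← mul_sub]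
  exact memLocalIdeal_mul_left (natCast_mem _ _) (h (g : G ⧸ N))

open Classical in
/-- The preimage of a conjugacy class of the quotient, in the center. -/
noncomputable def preimZ (R : Type*) [CommRing R] (x : G ⧸ N) : ZG R G :=
  ⟨ofFun fun u => classInd R x (u : G ⧸ N), by
    rw [mem_center_iff_isClassFn]
    intro g c
    simp only [coeff_ofFun, QuotientGroup.mk_mul, QuotientGroup.mk_inv]
    exact isClassFn_classInd x _ _⟩

theorem omega_preimZ (χ : IrrCharacter (G ⧸ N)) (x : G ⧸ N) :
    omega (inflIrr χ : G → ℂ) (toC M G ((preimZ (Loc M) x : ZG (Loc M) G) : MonoidAlgebra (Loc M) G)) =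
      (Nat.card N : ℂ) * centralChar (χ : G ⧸ N → ℂ) x := by
  classical
  haveI := Fintype.ofFinite G
  haveI := Fintype.ofFinite (G ⧸ N)
  have e : toC M G ((preimZ (Loc M) x : ZG (Loc M) G) : MonoidAlgebra (Loc M) G) =
      ofFun fun u : G => classInd ℂ x (u : G ⧸ N) := by
    ext u
    simp [preimZ, toC, classInd, apply_ite]
  rw [e, centralChar_eq_omega (isClassFn_irr χ), omega, omega, classSum, ev_ofFun, ev_ofFun,
    ← mul_div_assoc]
  simp only [inflIrr_apply, QuotientGroup.mk_one]
  congr 1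
  rw [← Finset.sum_fiberwise Finset.univ (fun u : G => (u : G ⧸ N)), Finset.mul_sum]
  refine Finset.sum_congr rfl fun y _ => ?_
  rw [Finset.sum_congr rfl (g := fun _ => classInd ℂ x y * (χ : G ⧸ N → ℂ) y) fun u hu => by
      rw [(Finset.mem_filter.mp hu).2], Finset.sum_const, nsmul_eq_mul]
  congr 2
  obtain ⟨g, rfl⟩ := QuotientGroup.mk_surjective y
  rw [← Fintype.card_subtype, ← Nat.card_eq_fintype_card]
  exact Nat.card_congr
    { toFun := fun u => ⟨g⁻¹ * u.1, QuotientGroup.eq.mp u.2.symm⟩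
      invFun := fun n => ⟨g * n.1, (QuotientGroup.eq.mpr (by simp)).symm⟩
      left_inv := fun u => by simp
      right_inv := fun n => by simp }

/-- Over a normal `p'`-subgroup, inflation reflects blocks. -/
theorem sameBlock_of_inflIrr_of_not_dvd (hM : IsPModular p M) (hN : ¬ p ∣ Nat.card N)
    {χ ψ : IrrCharacter (G ⧸ N)} (h : SameBlock M (inflIrr χ : G → ℂ) (inflIrr ψ : G → ℂ)) :
    SameBlock M (χ : G ⧸ N → ℂ) (ψ : G ⧸ N → ℂ) := by
  intro x
  have h1 := red_omegaL_eq_of_sameBlock h (preimZ (Loc M) x)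
  rw [red_eq_iff, coe_omegaL, coe_omegaL, omega_preimZ, omega_preimZ, ← mul_sub] at h1
  have h0 : (Nat.card N : ℂ) ≠ 0 := Nat.cast_ne_zero.mpr Nat.card_pos.ne'
  have h2 := memLocalIdeal_mul_left (inv_mem_loc (natCast_mem _ _)
    fun hI => hN ((memLocalIdeal_natCast hM _).mp hI)) h1
  rwa [inv_mul_cancel_left₀ h0] at h2

theorem exists_regular_lift [Fact p.Prime] {x : G ⧸ N} (hx : ¬ p ∣ orderOf x) :
    ∃ g : G, ¬ p ∣ orderOf g ∧ (g : G ⧸ N) = x := by
  obtain ⟨u, rfl⟩ := QuotientGroup.mk_surjective x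
  obtain ⟨z, ⟨r, hr, hc, ⟨k, hk⟩, hreg⟩, -⟩ := exists_isPPart (p := p) u
  refine ⟨r, hreg, ?_⟩
  have h1 : IsPPart p (u : G ⧸ N) (z : G ⧸ N) := by
    rw [← hr, QuotientGroup.mk_mul]
    refine isPPart_mk (hc.map (QuotientGroup.mk' N)) ⟨k, ?_⟩
      fun hd => hreg (hd.trans (orderOf_map_dvd (QuotientGroup.mk' N) r))
    rw [← QuotientGroup.mk_pow, ← hk, pow_orderOf_eq_one, QuotientGroup.mk_one]
  have h2 : (z : G ⧸ N) = 1 := ppart_unique h1 (isPPart_one hx)
  rw [← hr, QuotientGroup.mk_mul, h2, one_mul]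

/-- If the centralizer of a normal `p`-subgroup has `p`-power index, regular elements have the same
class sizes in the quotient. -/
theorem centralChar_inflIrr_regular [Fact p.Prime] (hP : IsPGroup p N)
    (hC : ∃ k : ℕ, (Subgroup.centralizer (N : Set G)).index = p ^ k) (χ : IrrCharacter (G ⧸ N))
    {g : G} (hg : ¬ p ∣ orderOf g) :
    centralChar (inflIrr χ : G → ℂ) g = centralChar (χ : G ⧸ N → ℂ) (g : G ⧸ N) := by
  rw [centralChar_inflIrr]
  haveI := Fintype.ofFinite (Subgroup.centralizer (N : Set G))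
  have hgC : g ∈ Subgroup.centralizer (N : Set G) := mem_of_pow_index hC hg
  have e : (Subgroup.centralizer ({(g : G ⧸ N)} : Set (G ⧸ N))).comap (QuotientGroup.mk' N) =
      Subgroup.centralizer ({g} : Set G) := by
    refine le_antisymm (fun c hc => ?_) (centralizer_le_comap g)
    have h1 := Subgroup.mem_centralizer_singleton_iff.mp hc
    simp only [QuotientGroup.mk'_apply, ← QuotientGroup.mk_mul] at h1
    have hu : g⁻¹ * (c * g * c⁻¹) ∈ N := by
      rw [← QuotientGroup.eq_one_iff, QuotientGroup.mk_mul, QuotientGroup.mk_mul, h1]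
      simp
    set u := g⁻¹ * (c * g * c⁻¹) with hudef
    have hgu : Commute g u := (Subgroup.mem_centralizer_iff.mp hgC u hu).symm
    obtain ⟨k, hk⟩ := exists_pow_eq_one_of_isPGroup hP hu
    have hmk := isPPart_mk (p := p) hgu.symm ⟨k, hk⟩ hg
    have hreg' : ¬ p ∣ orderOf (u * g) := by
      rw [← hgu.eq, hudef, mul_inv_cancel_left,
        show c * g * c⁻¹ = MulAut.conj c g from rfl, MulEquiv.orderOf_eq]
      exact hg
    have h3 : u = 1 := ppart_unique hmk (isPPart_one hreg')
    rw [hudef, inv_mul_eq_one, eq_mul_inv_iff_mul_eq] at h3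
    exact Subgroup.mem_centralizer_singleton_iff.mpr h3.symm
  rw [e, Subgroup.relIndex_self, Nat.cast_one, one_mul]

/-- If the centralizer of a normal `p`-subgroup has `p`-power index, inflation reflects blocks. -/
theorem sameBlock_of_inflIrr_of_pGroup (hM : IsPModular p M) (hP : IsPGroup p N)
    (hC : ∃ k : ℕ, (Subgroup.centralizer (N : Set G)).index = p ^ k)
    {χ ψ : IrrCharacter (G ⧸ N)} (h : SameBlock M (inflIrr χ : G → ℂ) (inflIrr ψ : G → ℂ)) :
    SameBlock M (χ : G ⧸ N → ℂ) (ψ : G ⧸ N → ℂ) := by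
  classical
  haveI : Fact p.Prime := ⟨hM.1⟩
  set B := blockOf M (χ : G ⧸ N → ℂ)
  have hB : IsPBlock M B := isPBlock_blockOf χ
  have hA := blockCoeff_mem_loc hB
  have key : red M (omegaL M χ (bIdem M B)) = red M (omegaL M ψ (bIdem M B)) := by
    simp only [omegaL_eq_sum, map_sum, map_mul]
    refine Finset.sum_congr rfl fun K _ => ?_
    by_cases hK : p ∣ orderOf (rep K)
    · have h0 : ((bIdem M B : ZG (Loc M) (G ⧸ N)) : MonoidAlgebra (Loc M) (G ⧸ N)).coeff (rep K) = 0 :=
        Subtype.ext (by rw [coe_coeff_bIdem hA, blockCoeff_block_eq_zero hM hB hK]; rfl)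
      rw [h0, map_zero, zero_mul, zero_mul]
    · obtain ⟨g, hg, hgK⟩ := exists_regular_lift (p := p) hK
      congr 1
      rw [red_eq_iff, coe_centralCharL, coe_centralCharL, ← hgK,
        ← centralChar_inflIrr_regular hP hC χ hg, ← centralChar_inflIrr_regular hP hC ψ hg]
      exact h g
  rw [omegaL_bIdem hA, omegaL_bIdem hA, if_pos (self_mem_blockOf χ)] at key
  by_contra hc
  rw [if_neg (show ψ ∉ B from hc), map_one, map_zero] at key
  exact one_ne_zero key

/-- Every block has a character trivial on a normal `p`-subgroup. -/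
theorem exists_trivial_on_pGroup (hM : IsPModular p M) (hP : IsPGroup p N)
    {B : Set (IrrCharacter G)} (hB : IsPBlock M B) :
    ∃ χ : IrrCharacter (G ⧸ N), inflIrr χ ∈ B := by
  classical
  haveI : Fact p.Prime := ⟨hM.1⟩
  haveI := charP_res hM
  haveI := Fintype.ofFinite G
  have hA := blockCoeff_mem_loc hB
  by_contra hno
  push Not at hno
  set π := MonoidAlgebra.mapDomainRingHom (Res M) (QuotientGroup.mk' N)
  set e : MonoidAlgebra (Res M) G := (bBar M B : MonoidAlgebra (Res M) G) with he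
  have hsumN : ∀ u : G, (e * subgroupSum (Res M) N).coeff u =
      (π e).coeff (u : G ⧸ N) := by
    intro u
    rw [coeff_mul_subgroupSum]
    have : (π e).coeff (u : G ⧸ N) = ∑ v : G, if (v : G ⧸ N) = u then e.coeff v else 0 := by
      show (MonoidAlgebra.mapDomain (QuotientGroup.mk' N) e).coeff (u : G ⧸ N) = _
      simp only [MonoidAlgebra.coeff_mapDomain, Finsupp.mapDomain, Finsupp.sum_apply]
      rw [Finsupp.sum_fintype _ _ (by simp)]
      exact Finset.sum_congr rfl fun v _ => by simp [Finsupp.single_apply]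
    rw [this]
    refine Fintype.sum_equiv (Equiv.mulLeft u) _ _ fun q => ?_
    simp only [Equiv.coe_mulLeft]
    refine if_congr ?_ rfl rfl
    rw [eq_comm, QuotientGroup.eq, inv_mul_cancel_left]
  have hne : e ≠ 0 := fun h => by
    obtain ⟨χ, hχ⟩ := block_nonempty hB
    have := omegaBar_bBar hA χ
    rw [show bBar M B = 0 from Subtype.ext h, map_zero, if_pos hχ] at this
    exact zero_ne_one this
  have hπne : π e ≠ 0 := fun h => idem_mul_subgroupSum_ne_zero hP hne
    (congrArg Subtype.val (bBar_mul_self hA))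
    (fun q _ => (Subring.mem_center_iff.mp (bBar M B).2 _).symm)
    (by ext u; rw [hsumN, h]; simp)
  have hcen : π e ∈ Subring.center (MonoidAlgebra (Res M) (G ⧸ N)) := by
    rw [mem_center_iff_isClassFn]
    intro x c
    obtain ⟨g, rfl⟩ := QuotientGroup.mk_surjective x
    obtain ⟨d, rfl⟩ := QuotientGroup.mk_surjective c
    dsimp only
    rw [← QuotientGroup.mk_inv, ← QuotientGroup.mk_mul, ← QuotientGroup.mk_mul, ← hsumN, ← hsumN]
    simp only [coeff_mul_subgroupSum]
    refine Fintype.sum_equiv (MulAut.conj d⁻¹).toEquiv _ _ fun q => ?_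
    simp only [MulEquiv.toEquiv_eq_coe, EquivLike.coe_coe] ; simp only [MulAut.conj_apply, inv_inv]
    refine if_congr ⟨fun h => ?_, fun h => ?_⟩ ?_ rfl
    · simpa using (inferInstance : N.Normal).conj_mem q h d⁻¹
    · have := (inferInstance : N.Normal).conj_mem _ h d
      simpa [mul_assoc] using this
    · have hcl := (mem_center_iff_isClassFn e).mp (bBar M B).2 (g * (d⁻¹ * q * d)) d
      simp only at hcl
      rw [← hcl]; group
  have hid : (⟨π e, hcen⟩ : ZG (Res M) (G ⧸ N)) * ⟨π e, hcen⟩ = ⟨π e, hcen⟩ :=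
    Subtype.ext (by
      rw [Subring.coe_mul, ← map_mul]
      exact congrArg π (congrArg Subtype.val (bBar_mul_self hA)))
  apply hπne
  refine congrArg Subtype.val (eq_zero_of_omegaBar hM _ hid fun χ => ?_)
  have h0 : omegaBar M (inflIrr χ) (bBar M B) = 0 := by
    rw [omegaBar_bBar hA, if_neg (hno χ)]
  rw [← h0]
  obtain ⟨A, hA'⟩ := redZ_surjective (bBar M B)
  set π' := MonoidAlgebra.mapDomainRingHom (Loc M) (QuotientGroup.mk' N)
  have hcen' : π' (A : MonoidAlgebra (Loc M) G) ∈ ZG (Loc M) (G ⧸ N) := by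
    rw [Subring.mem_center_iff]
    intro b
    induction b using MonoidAlgebra.induction_linear with
    | zero => simp
    | add x y hx hy => rw [add_mul, mul_add, hx, hy]
    | single x c =>
      obtain ⟨g, rfl⟩ := QuotientGroup.mk_surjective x
      rw [show (single (g : G ⧸ N) c : MonoidAlgebra (Loc M) (G ⧸ N)) = π' (single g c) by simp [π'],
        ← map_mul, ← map_mul, Subring.mem_center_iff.mp A.2]
  have hlift : redZ M (G ⧸ N) ⟨_, hcen'⟩ = ⟨π e, hcen⟩ := by
    refine Subtype.ext ?_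
    have he' : e = redG M G (A : MonoidAlgebra (Loc M) G) := by rw [he, ← hA', coe_redZ]
    rw [coe_redZ]
    show redG M (G ⧸ N) (π' (A : MonoidAlgebra (Loc M) G)) = π e
    rw [he']
    generalize (A : MonoidAlgebra (Loc M) G) = a
    induction a using MonoidAlgebra.induction_linear with
    | zero => simp
    | add x y hx hy => simp only [map_add, hx, hy]
    | single g c => simp [π', π, redG]
  rw [← hlift, ← hA', omegaBar_redZ, omegaBar_redZ]
  congr 1
  refine Subtype.ext ?_
  rw [coe_omegaL, coe_omegaL, omega, omega, inflIrr_apply, QuotientGroup.mk_one]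
  congr 1
  haveI := Fintype.ofFinite (G ⧸ N)
  show ev _ (toC M (G ⧸ N) (π' (A : MonoidAlgebra (Loc M) G))) = _
  generalize (A : MonoidAlgebra (Loc M) G) = a
  induction a using MonoidAlgebra.induction_linear with
  | zero => simp
  | add x y hx hy => simp only [map_add, ev_add, hx, hy]
  | single g c => simp [π', toC]

end Cfsg.Agent.Blocks
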