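import Cfsg.Agent.Lib.Blocks.IsoMain
import Cfsg.Agent.Lib.Blocks.Height
import Cfsg.Agent.Lib.Blocks.Inflation
import Cfsg.Agent.Lib.CT.FrobeniusSchur
import Cfsg.Agent.Lib.CoprimeExt.Gallagher

/-!
# Sums over the regular elements of the cosets of a normal subgroup

An extension of a principal-block character lies in the principal block as soon as its sums over
the regular elements of the cosets are congruent.
-/

set_option autoImplicit false
set_option linter.all false

namespace Cfsg.Agent.Blocks.CosetRegular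

open MonoidAlgebra BPairs IsoBlocks
open scoped ComplexConjugate

universe u v

variable {G : Type u} [Group G] [Finite G] {p : ℕ} {M : Ideal AlgInt} [M.IsPrime]

theorem principal_comp {H : Type v} [Group H] [Finite H] (e : H ≃* G) {χ : IrrCharacter G}
    (hχ : χ ∈ principalBlock M G) :
    (⟨fun x => (χ : G → ℂ) (e x), CT.isIrrCharacter_comp e.toMonoidHom e.surjective χ.2⟩ :
      IrrCharacter H) ∈ principalBlock M H := by
  intro x
  have he : (Subgroup.centralizer ({e x} : Set G)).index =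
      (Subgroup.centralizer ({x} : Set H)).index := by
    rw [← Subgroup.index_comap_of_surjective (Subgroup.centralizer ({e x} : Set G))
      (f := e.toMonoidHom) e.surjective]
    congr 1
    ext y
    rw [Subgroup.mem_comap, Subgroup.mem_centralizer_singleton_iff,
      Subgroup.mem_centralizer_singleton_iff]
    show e y * e x = e x * e y ↔ y * x = x * y
    rw [← map_mul, ← map_mul, e.injective.eq_iff]
  have h : MemLocalIdeal M (centralChar (fun _ : G => (1 : ℂ)) (e x) -
      centralChar (χ : G → ℂ) (e x)) := hχ (e x)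
  show MemLocalIdeal M (centralChar (fun _ : H => (1 : ℂ)) x -
      centralChar (fun y : H => (χ : G → ℂ) (e y)) x)
  unfold centralChar at h ⊢
  rw [he] at h
  simp only [map_one]
  exact h

variable [Fintype G]

open Classical in
theorem regS_one_eq (χ : IrrCharacter G) :
    (regS M p χ (CT.trivIrr G) : ℂ) =
      (∑ g : G, if p ∣ orderOf g then 0 else (χ : G → ℂ) g) / (χ : G → ℂ) 1 := by
  rw [eq_div_iff (CT.irr_one_ne_zero χ.2), mul_comm, deg_mul_regS, regPair]
  refine Finset.sum_congr rfl fun g _ => ?_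
  split_ifs <;> simp

theorem red_regS_triv_ne_zero (hM : IsPModular p M) :
    red M (regS M p (CT.trivIrr G) (CT.trivIrr G)) ≠ 0 :=
  (red_regS_ne_zero_iff hM isPBlock_principalBlock trivIrr_mem_principalBlock
    trivIrr_mem_principalBlock).mpr (blockHeight_trivial _)

theorem principal_iff (hM : IsPModular p M) (χ : IrrCharacter G) :
    χ ∈ principalBlock M G ↔ red M (regS M p χ (CT.trivIrr G)) ≠ 0 := by
  have hiff := mem_block_iff (M := M) (ψ := χ) isPBlock_principalBlock
    (trivIrr_mem_principalBlock (M := M) (G := G))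
  constructor
  · intro h
    rw [red_regS_congr (sameBlock_symm (hiff.mp h))]
    exact red_regS_triv_ne_zero hM
  · intro h
    by_contra hne
    exact h (by
      rw [regS_eq_zero hM fun hs => hne (hiff.mpr (sameBlock_symm hs)), map_zero])

variable (N : Subgroup G) [N.Normal]

open Classical in
/-- The normalised sum over the regular elements of a coset. -/
noncomputable def cosetS (p : ℕ) (E : G → ℂ) (c : G ⧸ N) : ℂ :=
  (∑ g : G, if (g : G ⧸ N) = c ∧ ¬ p ∣ orderOf g then E g else 0) / E 1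

theorem cosetS_of_singular (E : G → ℂ) {c : G ⧸ N} (hc : p ∣ orderOf c) :
    cosetS N p E c = 0 := by
  classical
  rw [cosetS, Finset.sum_eq_zero, zero_div]
  intro g _
  rw [if_neg]
  rintro ⟨h1, h2⟩
  exact h2 (hc.trans (h1 ▸ orderOf_map_dvd (QuotientGroup.mk' N) g))

open Classical in
theorem sum_cosetS [Fintype (G ⧸ N)] (E : G → ℂ) :
    ∑ c, cosetS N p E c = (∑ g : G, if p ∣ orderOf g then 0 else E g) / E 1 := by
  simp only [cosetS]
  rw [← Finset.sum_div, Finset.sum_comm]
  congr 1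
  refine Finset.sum_congr rfl fun g _ => ?_
  rw [Finset.sum_eq_single (g : G ⧸ N) (fun c _ hc => if_neg fun h => hc h.1.symm)
    (fun h => absurd (Finset.mem_univ _) h)]
  split_ifs <;> simp_all

theorem cosetS_mul (E : G → ℂ) (β : G ⧸ N → ℂ) (c : G ⧸ N) :
    cosetS N p (fun g => β (g : G ⧸ N) * E g) c = β c / β 1 * cosetS N p E c := by
  classical
  simp only [cosetS]
  have h : ∀ g : G, (if (g : G ⧸ N) = c ∧ ¬ p ∣ orderOf g then β (g : G ⧸ N) * E g else 0) =
      β c * (if (g : G ⧸ N) = c ∧ ¬ p ∣ orderOf g then E g else 0) := fun g => by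
    split_ifs with hg
    · rw [hg.1]
    · rw [mul_zero]
  rw [Finset.sum_congr rfl fun g _ => h g, ← Finset.mul_sum, QuotientGroup.mk_one]
  ring

theorem cosetS_conj {E : G → ℂ} (hE : IsClassFunction G E) (c d : G ⧸ N) :
    cosetS N p E (d * c * d⁻¹) = cosetS N p E c := by
  classical
  obtain ⟨d, rfl⟩ := QuotientGroup.mk_surjective d
  simp only [cosetS]
  congr 1
  refine (Fintype.sum_equiv (MulAut.conj d).toEquiv _ _ fun g => ?_).symm
  have e1 : (((MulAut.conj d).toEquiv g : G) : G ⧸ N) = (d : G ⧸ N) * g * (d : G ⧸ N)⁻¹ := by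
    show ((d * g * d⁻¹ : G) : G ⧸ N) = _
    push_cast; rfl
  have e2 : orderOf ((MulAut.conj d).toEquiv g) = orderOf g := MulEquiv.orderOf_eq (MulAut.conj d) g
  rw [e1, e2, show E ((MulAut.conj d).toEquiv g) = E g from hE g d]
  simp only [mul_left_inj, mul_right_inj]

open Classical in
theorem cosetS_one [Fintype N] (E : IrrCharacter G) (θ : IrrCharacter N)
    (hres : ∀ n : N, (E : G → ℂ) n = (θ : N → ℂ) n) :
    cosetS N p (E : G → ℂ) 1 = (regS M p θ (CT.trivIrr N) : ℂ) := by
  rw [regS_one_eq, cosetS]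
  congr 1
  · rw [← Finset.sum_filter]
    simp only [← hres]
    rw [Finset.sum_subtype (p := fun g : G => g ∈ N ∧ ¬ p ∣ orderOf g) _ (fun g => by simp)]
    rw [← Finset.sum_filter_add_sum_filter_not (Finset.univ : Finset N) (fun n : N => p ∣ orderOf n),
      Finset.sum_eq_zero (s := Finset.univ.filter fun n : N => p ∣ orderOf n) fun n hn => by
        rw [if_pos (Finset.mem_filter.mp hn).2], zero_add,
      Finset.sum_congr rfl fun n hn => if_neg (Finset.mem_filter.mp hn).2,
      Finset.sum_subtype (p := fun n : N => ¬ p ∣ orderOf n) _ (fun g => by simp)]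
    exact Fintype.sum_equiv
      { toFun := fun g => ⟨⟨g.1, g.2.1⟩, by rw [Subgroup.orderOf_mk]; exact g.2.2⟩
        invFun := fun n => ⟨n.1.1, n.1.2, by rw [Subgroup.orderOf_coe]; exact n.2⟩
        left_inv := fun g => rfl
        right_inv := fun n => rfl } _ _ fun g => rfl
  · rw [← hres]; rfl

/-- Over a quotient of order prime to `p` covered by the centralizer of a Sylow subgroup, the
coset sums of an extension in the principal block are congruent. -/
theorem cosetS_const [Fintype N] (hM : IsPModular p M) (hidx : ¬ p ∣ N.index) (P : Sylow p G)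
    (hsup : N ⊔ Subgroup.centralizer ((P : Subgroup G) : Set G) = ⊤) {ψ : IrrCharacter G}
    (hψ : ψ ∈ principalBlock M G) {θ : IrrCharacter N}
    (hres : ∀ n : N, (ψ : G → ℂ) n = (θ : N → ℂ) n) (c : G ⧸ N) :
    ∃ z : Loc M, (z : ℂ) = cosetS N p (ψ : G → ℂ) c ∧ red M z = red M (regS M p θ (CT.trivIrr N)) := by
  classical
  haveI := Fact.mk hM.1
  haveI := charP_res hM
  haveI := Fintype.ofFinite (G ⧸ N)
  obtain ⟨hrestr, hbij⟩ := principal_restrict_bijection hM hidx P hsup
  have hθ : θ ∈ principalBlock M N := by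
    refine constituent_principal hψ θ ?_
    rw [funext hres, CT.irr_inner_self θ.2]
    exact one_ne_zero
  set s : G ⧸ N → ℂ := fun c => cosetS N p (ψ : G → ℂ) c with hs
  -- the twists by nontrivial characters lie outside the principal block
  have hkey : ∀ β : IrrCharacter (G ⧸ N), ∃ z : Loc M,
      (z : ℂ) = ∑ c, (β : G ⧸ N → ℂ) c * s c ∧ (β ≠ CT.trivIrr (G ⧸ N) → red M z = 0) := by
    intro β
    let η : IrrCharacter G := inflIrr β
    have hinner : Cfsg.classInner (fun n : N => (η : G → ℂ) n) (fun _ => (1 : ℂ)) ≠ 0 := by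
      have he : (fun n : N => (η : G → ℂ) n) = fun _ => (β : G ⧸ N → ℂ) 1 := funext fun n => by
        show (β : G ⧸ N → ℂ) ((n : G) : G ⧸ N) = _
        rw [(QuotientGroup.eq_one_iff (n : G)).mpr n.2]
      rw [he]
      rw [show (fun _ : N => (β : G ⧸ N → ℂ) 1) = (β : G ⧸ N → ℂ) 1 • (fun _ : N => (1 : ℂ)) from
          funext fun n => by simp,
        CT.classInner_smul_left,
        show classInner (fun _ : N => (1 : ℂ)) (fun _ : N => (1 : ℂ)) = 1 from
          CT.irr_inner_self (CT.trivIrr N).2, mul_one]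
      exact CT.irr_one_ne_zero β.2
    have hirr : IsIrrCharacter G ((η : G → ℂ) * (ψ : G → ℂ)) :=
      CT.isIrr_of_inner_self (CT.isCharacter_mul (CT.isCharacter_of_isIrr η.2)
        (CT.isCharacter_of_isIrr ψ.2))
        (by rw [CoprimeExt.inner_mul_ext N ψ θ hres η η hinner hinner, if_pos rfl])
    let χ : IrrCharacter G := ⟨_, hirr⟩
    have hsum : ∑ c, (β : G ⧸ N → ℂ) c * s c =
        (β : G ⧸ N → ℂ) 1 * (regS M p χ (CT.trivIrr G) : ℂ) := by
      rw [regS_one_eq, ← sum_cosetS N]
      rw [show (χ : G → ℂ) = fun g : G => (β : G ⧸ N → ℂ) (g : G ⧸ N) * (ψ : G → ℂ) g from rfl]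
      simp only [cosetS_mul, Finset.mul_sum]
      refine Finset.sum_congr rfl fun c _ => ?_
      rw [← mul_assoc, mul_div_cancel₀ _ (CT.irr_one_ne_zero β.2)]
    refine ⟨charL M β 1 * regS M p χ (CT.trivIrr G), by rw [hsum]; simp, fun hne => ?_⟩
    rw [map_mul]
    refine mul_eq_zero_of_right _ ?_
    by_contra h0
    have hχ : χ ∈ principalBlock M G := (principal_iff hM χ).mpr h0
    obtain ⟨θ', -, hθ'⟩ := hrestr χ hχ
    have hval : ∀ n : N, (χ : G → ℂ) n = (β : G ⧸ N → ℂ) 1 * (θ : N → ℂ) n := fun n => by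
      show (β : G ⧸ N → ℂ) ((n : G) : G ⧸ N) * (ψ : G → ℂ) n = _
      rw [(QuotientGroup.eq_one_iff (n : G)).mpr n.2, hres]
    have hβ1 : (β : G ⧸ N → ℂ) 1 * ((β : G ⧸ N → ℂ) 1) = 1 := by
      have h1 := CT.irr_inner_self θ'.2
      rw [← funext hθ', funext hval,
        show (fun n : N => (β : G ⧸ N → ℂ) 1 * (θ : N → ℂ) n) =
          (β : G ⧸ N → ℂ) 1 • (θ : N → ℂ) from rfl,
        CT.classInner_smul_left, CT.classInner_smul_right, CT.irr_inner_self θ.2, mul_one] at h1
      rwa [charDegree_cast β, map_natCast, ← charDegree_cast β] at h1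
    rw [charDegree_cast β, ← Nat.cast_mul, Nat.cast_eq_one] at hβ1
    have hval' : ∀ n : N, (χ : G → ℂ) n = (θ : N → ℂ) n := fun n => by
      rw [hval, charDegree_cast β, Nat.eq_one_of_mul_eq_one_right hβ1, Nat.cast_one, one_mul]
    have heq : χ = ψ := (hbij θ hθ).unique ⟨hχ, hval'⟩ ⟨hψ, hres⟩
    have he := CoprimeExt.inner_mul_ext N ψ θ hres η (inflIrr (CT.trivIrr (G ⧸ N))) hinner (by
      show classInner (fun _ : N => (1 : ℂ)) (fun _ : N => (1 : ℂ)) ≠ 0
      rw [show classInner (fun _ : N => (1 : ℂ)) (fun _ : N => (1 : ℂ)) = 1 from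
        CT.irr_inner_self (CT.trivIrr N).2]
      exact one_ne_zero)
    rw [show ((inflIrr (CT.trivIrr (G ⧸ N)) : IrrCharacter G) : G → ℂ) * (ψ : G → ℂ) = (ψ : G → ℂ)
        from funext fun g => one_mul _,
      show (η : G → ℂ) * (ψ : G → ℂ) = (ψ : G → ℂ) from congrArg Subtype.val heq,
      CT.irr_inner_self ψ.2] at he
    split_ifs at he with e
    · refine hne (Subtype.ext (funext fun x => ?_))
      obtain ⟨g, rfl⟩ := QuotientGroup.mk_surjective x
      exact congrFun (congrArg Subtype.val e) g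
    · exact one_ne_zero he
  have hcf : IsClassFunction (G ⧸ N) s := fun a b =>
    cosetS_conj N (CT.isClassFunction_of_isIrr ψ.2) a b
  choose z hz hz0 using hkey
  have hconjirr : ∀ β : IrrCharacter (G ⧸ N), IsIrrCharacter (G ⧸ N) (fun x => conj ((β : G ⧸ N → ℂ) x)) :=
    fun β => CT.conj_irr β.2
  have hk : red M (((Nat.card (G ⧸ N) : ℕ)) : Loc M) ≠ 0 := by
    rw [map_natCast, Ne, CharP.cast_eq_zero_iff (Res M) p]
    exact hidx
  obtain ⟨w, hw⟩ := (IsLocalRing.residue_ne_zero_iff_isUnit _).mp hk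
  let I : IrrCharacter (G ⧸ N) → Loc M := fun β =>
    ((w⁻¹ : (Loc M)ˣ) : Loc M) * z ⟨_, hconjirr β⟩
  have hI : ∀ β, (I β : ℂ) = classInner s (β : G ⧸ N → ℂ) := by
    intro β
    have hw' : (((w⁻¹ : (Loc M)ˣ) : Loc M) : ℂ) = (Nat.card (G ⧸ N) : ℂ)⁻¹ := by
      have h1 := congrArg Subtype.val (Units.inv_mul w)
      rw [MulMemClass.coe_mul, hw] at h1
      exact eq_inv_of_mul_eq_one_left (by simpa using h1)
    show ((((w⁻¹ : (Loc M)ˣ) : Loc M) * z ⟨_, hconjirr β⟩ : Loc M) : ℂ) = _
    rw [MulMemClass.coe_mul, hw', hz, classInner]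
    congr 1
    exact Finset.sum_congr rfl fun x _ => mul_comm _ _
  have hI0 : ∀ β, β ≠ CT.trivIrr (G ⧸ N) → red M (I β) = 0 := by
    intro β hne
    rw [map_mul, hz0 ⟨_, hconjirr β⟩ fun e => hne (Subtype.ext (funext fun x => ?_)), mul_zero]
    have h1 : conj ((β : G ⧸ N → ℂ) x) = 1 := congrFun (congrArg Subtype.val e) x
    rw [← Complex.conj_conj ((β : G ⧸ N → ℂ) x), h1, map_one]
    rfl
  have hexp : ∀ d, ∃ t : Loc M, (t : ℂ) = s d ∧ red M t = red M (I (CT.trivIrr (G ⧸ N))) := by
    intro d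
    refine ⟨∑ β, I β * charL M β d, ?_, ?_⟩
    · rw [AddSubmonoidClass.coe_finsetSum]
      conv_rhs => rw [CT.classFunction_eq_sum hcf]
      rw [Finset.sum_apply]
      exact Finset.sum_congr rfl fun β _ => by simp [hI]
    · rw [map_sum, Finset.sum_eq_single (CT.trivIrr (G ⧸ N))]
      · rw [map_mul]
        rw [show charL M (CT.trivIrr (G ⧸ N)) d = 1 from Subtype.ext (by simp), map_one, mul_one]
      · intro β _ hne; rw [map_mul, hI0 β hne, zero_mul]
      · exact fun h => absurd (Finset.mem_univ _) h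
  obtain ⟨t, ht, htr⟩ := hexp c
  obtain ⟨t1, ht1, ht1r⟩ := hexp 1
  have e1 : t1 = regS M p θ (CT.trivIrr N) := Subtype.ext (by
    rw [ht1]; exact cosetS_one N ψ θ hres)
  exact ⟨t, ht, by rw [htr, ← ht1r, e1]⟩

end Cfsg.Agent.Blocks.CosetRegular
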