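import Cfsg.Agent.Lib.Blocks.Covering
import Cfsg.Agent.Lib.Blocks.FirstMain

/-!
# Transport along isomorphisms and the extended first main theorem
-/

namespace Cfsg.Agent.Blocks

open MonoidAlgebra
open scoped ComplexConjugate

universe u v w

variable {G : Type u} [Group G] [Finite G] {p : ℕ} {M : Ideal AlgInt} [M.IsPrime]

set_option linter.unusedSectionVars false

/-- The pullback of an irreducible character along an isomorphism. -/
noncomputable def compIrr {H : Type v} [Group H] (e : H ≃* G) (θ : IrrCharacter G) :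
    IrrCharacter H :=
  ⟨fun x => (θ : G → ℂ) (e x), CT.isIrrCharacter_comp e.toMonoidHom e.surjective θ.2⟩

@[simp] theorem coe_compIrr {H : Type v} [Group H] (e : H ≃* G) (θ : IrrCharacter G) (x : H) :
    (compIrr e θ : H → ℂ) x = (θ : G → ℂ) (e x) := rfl

theorem sameBlock_compIrr {H : Type v} [Group H] (e : H ≃* G) {θ θ' : IrrCharacter G}
    (h : SameBlock M (θ : G → ℂ) (θ' : G → ℂ)) :
    SameBlock M (compIrr e θ : H → ℂ) (compIrr e θ' : H → ℂ) := fun x => by
  show MemLocalIdeal M (centralChar (fun y => (θ : G → ℂ) (e y)) x -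
    centralChar (fun y => (θ' : G → ℂ) (e y)) x)
  rw [centralChar_comp_equiv e, centralChar_comp_equiv e]
  exact h (e x)

theorem sameBlock_of_compIrr {H : Type v} [Group H] (e : H ≃* G) {θ θ' : IrrCharacter G}
    (h : SameBlock M (compIrr e θ : H → ℂ) (compIrr e θ' : H → ℂ)) :
    SameBlock M (θ : G → ℂ) (θ' : G → ℂ) := fun x => by
  have h' : MemLocalIdeal M (centralChar (fun y => (θ : G → ℂ) (e y)) (e.symm x) -
    centralChar (fun y => (θ' : G → ℂ) (e y)) (e.symm x)) := h (e.symm x)
  rwa [centralChar_comp_equiv e, centralChar_comp_equiv e, e.apply_symm_apply] at h'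

/-- For `η` over `θ`, central elements supported in the normal subgroup take the same value modulo
the local ideal. -/
theorem omegaBar_eq_of_cover {N : Subgroup G} [Fintype N] [hN : N.Normal] (η : IrrCharacter G)
    {θ : IrrCharacter N} (hcon : classInner (fun n : N => (η : G → ℂ) n) (θ : N → ℂ) ≠ 0)
    {z : ZG (Res M) G} (hz : ∀ u ∉ N, (z : MonoidAlgebra (Res M) G).coeff u = 0) :
    omegaBar M η z = omegaBar M θ (resZ N z) := by
  rw [← indBar_apply, zg_eq_sum z, map_sum, map_sum]
  refine Finset.sum_congr rfl fun K _ => ?_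
  rw [map_mul, omegaBar_scalarZ, indBar_scalar_mul]
  by_cases hK : (z : MonoidAlgebra (Res M) G).coeff (rep K) = 0
  · rw [hK, zero_mul, zero_mul]
  have hKN : rep K ∈ N := by
    by_contra h
    exact hK (hz _ h)
  rw [omegaBar_classSumZ, indBar_classSumZ]
  congr 2
  exact Subtype.ext (centralChar_eq_inducedCentralChar η hcon ⟨rep K, hKN⟩)

variable {Q L : Subgroup G}

/-- A block of `L` and a character of `N(Q)` over a transport of a member induce the same block. -/
theorem induced_of_cover (hM : IsPModular p M) [Fact p.Prime] (hQ : IsPGroup p Q) (hQL : Q ≤ L)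
    (hCL : Subgroup.centralizer (Q : Set G) ≤ L) (hLN : L ≤ Subgroup.normalizer (Q : Set G))
    [Fintype (L.subgroupOf (Subgroup.normalizer (Q : Set G)))]
    [(L.subgroupOf (Subgroup.normalizer (Q : Set G))).Normal]
    {b : Set (IrrCharacter L)} {B : Set (IrrCharacter G)} (hind : IsInducedBlock M L b B)
    {ξ : IrrCharacter L} (hξ : ξ ∈ b) {η : IrrCharacter (Subgroup.normalizer (Q : Set G))}
    (hcon : classInner (fun n : L.subgroupOf (Subgroup.normalizer (Q : Set G)) =>
        (η : Subgroup.normalizer (Q : Set G) → ℂ) n)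
      (compIrr (Subgroup.subgroupOfEquivOfLe hLN) ξ :
        L.subgroupOf (Subgroup.normalizer (Q : Set G)) → ℂ) ≠ 0) :
    IsInducedBlock M (Subgroup.normalizer (Q : Set G))
      (blockOf M (η : Subgroup.normalizer (Q : Set G) → ℂ)) B := by
  classical
  haveI := charP_res hM
  obtain ⟨χ, hχ⟩ := block_nonempty hind.2.1
  refine (isInducedBlock_iff (isPBlock_blockOf η) hind.2.1 (self_mem_blockOf η) hχ).mpr fun a =>
    indBar_eq_of_classSum _ η χ (fun g => ?_) a
  have hQN : Q ≤ Subgroup.normalizer (Q : Set G) := Subgroup.le_normalizer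
  rw [← indBar_eq_of_isInducedBlock hind hξ hχ, indBar_eq_brH hM hQ hQL hCL hLN,
    indBar_eq_brH hM hQ hQN (Subgroup.centralizer_le_normalizer _) le_rfl]
  set c := brH Q (Subgroup.normalizer (Q : Set G)) hQ (Subgroup.centralizer_le_normalizer _) le_rfl
    (classSumZ (Res M) g) with hc
  rw [omegaBar_eq_of_cover η hcon fun u hu => ?_]
  · set eL := Subgroup.subgroupOfEquivOfLe hLN
    let aL : ZG (Loc M) L := ⟨resH L (trunc (Subgroup.centralizer (Q : Set G) : Set G) (classSum (Loc M) g)),
      resH_trunc_mem_center hLN (classSum_mem_center g)⟩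
    let a' : ZG (Loc M) (L.subgroupOf (Subgroup.normalizer (Q : Set G))) :=
      ⟨ofFun fun u => (aL : MonoidAlgebra (Loc M) L).coeff (eL u), by
        rw [mem_center_iff_isClassFn]
        intro u v
        simp only [coeff_ofFun, map_mul, map_inv]
        exact (mem_center_iff_isClassFn _).mp aL.2 (eL u) (eL v)⟩
    have e1 : brH Q L hQ hCL hLN (classSumZ (Res M) g) = redZ M L aL := by
      refine Subtype.ext ?_
      simp only [coe_brH, coe_classSumZ, coe_redZ, aL, map_resH, map_trunc, map_classSum]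
    have e2 : resZ (L.subgroupOf (Subgroup.normalizer (Q : Set G))) c = redZ M _ a' := by
      refine Subtype.ext ?_
      ext u
      rw [coe_resZ, coeff_resH, hc, coe_brH, coeff_resH, coe_redZ, coeff_map']
      simp only [a', coeff_ofFun, aL, coeff_resH]
      rw [show (eL u : G) = ((u : Subgroup.normalizer (Q : Set G)) : G) from rfl]
      by_cases hu : ((u : Subgroup.normalizer (Q : Set G)) : G) ∈
          (Subgroup.centralizer (Q : Set G) : Set G)
      · rw [coeff_trunc_of_mem _ hu, coeff_trunc_of_mem _ hu, ← coeff_map' (red M), map_classSum]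
        rfl
      · rw [coeff_trunc_of_notMem _ hu, coeff_trunc_of_notMem _ hu, map_zero]
    rw [e1, e2, omegaBar_redZ, omegaBar_redZ]
    congr 1
    refine Subtype.ext ?_
    letI := Fintype.ofFinite L
    simp only [coe_omegaL, omega, ev_eq_sum, coe_compIrr, map_one, a', toC, coeff_map', coeff_ofFun,
      Subring.subtype_apply]
    congr 1
    exact Fintype.sum_equiv eL.toEquiv _ _ fun u => rfl
  · rw [hc, coe_brH, coeff_resH, coeff_trunc_of_notMem]
    exact fun h => hu (Subgroup.mem_subgroupOf.mpr (hCL h))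

theorem normalizer_le_normalizer_sup (P : Subgroup G) :
    Subgroup.normalizer (P : Set G) ≤
      Subgroup.normalizer ((P ⊔ Subgroup.centralizer (P : Set G) : Subgroup G) : Set G) := by
  have key : ∀ n ∈ Subgroup.normalizer (P : Set G),
      ∀ x ∈ P ⊔ Subgroup.centralizer (P : Set G), n * x * n⁻¹ ∈ P ⊔ Subgroup.centralizer (P : Set G) := by
    intro n hn x hx
    have hle : P ⊔ Subgroup.centralizer (P : Set G) ≤
        (P ⊔ Subgroup.centralizer (P : Set G)).comap (MulAut.conj n).toMonoidHom :=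
      sup_le (fun y hy => Subgroup.mem_sup_left ((Subgroup.mem_normalizer_iff.mp hn y).mp hy))
        fun y hy => Subgroup.mem_sup_right ((centralizer_conj_mem hn).mpr hy)
    exact hle hx
  intro n hn
  refine Subgroup.mem_normalizer_iff.mpr fun x => ⟨key n hn x, fun h => ?_⟩
  have := key n⁻¹ (inv_mem hn) _ h
  simpa [mul_assoc] using this

set_option maxHeartbeats 1000000 in
/-- The extended first main theorem. -/
theorem extended_first_main (hM : IsPModular p M) {B : Set (IrrCharacter G)} (hB : IsPBlock M B)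
    {P : Subgroup G} (hP : IsDefectGroup p M B P) :
    (∃ b : Set (IrrCharacter ↥(P ⊔ Subgroup.centralizer (P : Set G))),
      IsDefectGroup p M b (P.subgroupOf (P ⊔ Subgroup.centralizer (P : Set G))) ∧
      IsInducedBlock M (P ⊔ Subgroup.centralizer (P : Set G)) b B) ∧
    ∀ b b' : Set (IrrCharacter ↥(P ⊔ Subgroup.centralizer (P : Set G))),
      IsInducedBlock M (P ⊔ Subgroup.centralizer (P : Set G)) b B →
      IsInducedBlock M (P ⊔ Subgroup.centralizer (P : Set G)) b' B →
      ∃ n ∈ Subgroup.normalizer (P : Set G), ∀ θ ∈ b, ∃ θ' ∈ b',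
        ∀ x : ↥(P ⊔ Subgroup.centralizer (P : Set G)),
        ∀ hx : n * (x : G) * n⁻¹ ∈ P ⊔ Subgroup.centralizer (P : Set G),
          (θ' : ↥(P ⊔ Subgroup.centralizer (P : Set G)) → ℂ) x =
            (θ : ↥(P ⊔ Subgroup.centralizer (P : Set G)) → ℂ) ⟨n * (x : G) * n⁻¹, hx⟩ := by
  classical
  haveI : Fact p.Prime := ⟨hM.1⟩
  haveI := charP_res hM
  letI := Fintype.ofFinite G
  obtain ⟨-, -, -, hPp, -⟩ := defectGroup_spec hP
  set L := P ⊔ Subgroup.centralizer (P : Set G) with hLdef
  have hPL : P ≤ L := le_sup_left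
  have hCL : Subgroup.centralizer (P : Set G) ≤ L := le_sup_right
  have hLN : L ≤ Subgroup.normalizer (P : Set G) :=
    sup_le Subgroup.le_normalizer (Subgroup.centralizer_le_normalizer _)
  haveI hn' : (L.subgroupOf (Subgroup.normalizer (P : Set G))).Normal :=
    (Subgroup.normal_subgroupOf_iff_le_normalizer hLN).mpr (normalizer_le_normalizer_sup P)
  letI := Fintype.ofFinite (L.subgroupOf (Subgroup.normalizer (P : Set G)))
  refine ⟨?_, fun b b' hb hb' => ?_⟩
  · obtain ⟨ξ, hξ⟩ := exists_block_inducing hM hPp hPL hCL hLN hB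
      ((br_bBar_ne_zero_iff hM hB hP hPp).mpr ⟨1, by rw [map_conj_one]⟩)
    exact ⟨_, defect_of_induced hM hPL hCL hLN hξ hP, hξ⟩
  obtain ⟨ξ, hξ⟩ := block_nonempty hb.1
  obtain ⟨ξ', hξ'⟩ := block_nonempty hb'.1
  set eL := Subgroup.subgroupOfEquivOfLe hLN with heL
  obtain ⟨η, hη⟩ := CT.exists_irr_over (L.subgroupOf (Subgroup.normalizer (P : Set G))) (compIrr eL ξ).2
  obtain ⟨η', hη'⟩ := CT.exists_irr_over (L.subgroupOf (Subgroup.normalizer (P : Set G))) (compIrr eL ξ').2
  have hi := induced_of_cover hM hPp hPL hCL hLN hb hξ hη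
  have hi' := induced_of_cover hM hPp hPL hCL hLN hb' hξ' hη'
  have hββ' := induced_normalizer_unique hM hPp (defect_of_induced_normalizer hM hi hP) hi hi'
  obtain ⟨n, hn⟩ := covered_conj (isPBlock_blockOf η) (isPBlock_blockOf (compIrr eL ξ))
    (self_mem_blockOf η) (self_mem_blockOf (compIrr eL ξ)) hη
    (hββ' ▸ self_mem_blockOf η') hη'
  let m : L ≃* L := eL.symm.trans ((MulAut.conjNormal n⁻¹).trans eL)
  refine ⟨(n⁻¹ : Subgroup.normalizer (P : Set G)), (n⁻¹).2, fun θ hθ =>
    ⟨compIrr m θ, ?_, fun x hx => ?_⟩⟩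
  · refine (mem_block_iff hb'.1 hξ').mpr (sameBlock_of_compIrr eL ?_)
    have h1 : SameBlock M (compIrr eL ξ : L.subgroupOf (Subgroup.normalizer (P : Set G)) → ℂ)
        (compIrr eL θ : L.subgroupOf (Subgroup.normalizer (P : Set G)) → ℂ) :=
      sameBlock_compIrr eL ((mem_block_iff hb.1 hξ).mp hθ)
    have h2 := sameBlock_conjIrr (n⁻¹) (sameBlock_trans (sameBlock_symm hn) h1)
    rw [← conjIrr_mul, mul_inv_cancel, conjIrr_one] at h2
    have e : conjIrr n⁻¹ (compIrr eL θ) = compIrr eL (compIrr m θ) := by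
      refine Subtype.ext (funext fun u => ?_)
      simp only [coe_conjIrr, CT.conjFun_eq_comp, coe_compIrr, m, MulEquiv.trans_apply,
        MulEquiv.symm_apply_apply]
    rwa [e] at h2
  · show (θ : L → ℂ) (m x) = _
    refine congrArg _ (Subtype.ext ?_)
    simp only [m, MulEquiv.trans_apply]
    show (((MulAut.conjNormal n⁻¹) (eL.symm x) : L.subgroupOf (Subgroup.normalizer (P : Set G))) :
      Subgroup.normalizer (P : Set G)) = (_ : G)
    rw [MulAut.conjNormal_apply]
    rfl

end Cfsg.Agent.Blocks
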