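import Cfsg.Agent.Lib.Blocks.Fong
import Cfsg.Agent.Lib.Blocks.Extended

/-!
# Defect groups of covering blocks meet a normal subgroup in a defect group (Knörr)
-/

namespace Cfsg.Agent.Blocks

open MonoidAlgebra

universe u v

variable {G : Type u} [Group G] [Finite G] {p : ℕ}

set_option linter.unusedSectionVars false

section Graded

variable {k : Type v} [CommRing k] {N : Subgroup G} [hN : N.Normal]

/-- Support in one coset. -/
def InCoset (a : MonoidAlgebra k G) (x : G ⧸ N) : Prop :=
  ∀ u : G, (u : G ⧸ N) ≠ x → a.coeff u = 0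

theorem inCoset_one : InCoset (1 : MonoidAlgebra k G) (1 : G ⧸ N) := by
  classical
  intro u hu
  have : u ≠ 1 := fun e => hu (e ▸ rfl)
  simp [one_def, Finsupp.single_eq_of_ne this]

theorem inCoset_mul {a b : MonoidAlgebra k G} {x y : G ⧸ N} (ha : InCoset a x)
    (hb : InCoset b y) : InCoset (a * b) (x * y) := by
  haveI := Fintype.ofFinite G
  intro u hu
  rw [coeff_mul_sum]
  refine Finset.sum_eq_zero fun v _ => ?_
  by_cases hv : (v : G ⧸ N) = x
  · rw [hb (v⁻¹ * u), mul_zero]
    intro h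
    apply hu
    rw [← hv, ← h, ← QuotientGroup.mk_mul, mul_inv_cancel_left]
  · rw [ha v hv, zero_mul]

theorem inCoset_trunc (a : MonoidAlgebra k G) (x : G ⧸ N) :
    InCoset (trunc {u : G | (u : G ⧸ N) = x} a) x := fun _ hu => coeff_trunc_of_notMem _ hu

theorem sum_trunc_cosets (a : MonoidAlgebra k G) :
    haveI := Fintype.ofFinite (G ⧸ N)
    a = ∑ x : G ⧸ N, trunc {u : G | (u : G ⧸ N) = x} a := by
  classical
  letI := Fintype.ofFinite (G ⧸ N)
  ext u
  simp only [coeff_sum, Finsupp.coe_finsetSum, Finset.sum_apply]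
  rw [Finset.sum_eq_single (u : G ⧸ N)]
  · rw [coeff_trunc_of_mem _ (by exact rfl)]
  · exact fun x _ hx => coeff_trunc_of_notMem _ (fun h => hx (Eq.symm h))
  · exact fun h => absurd (Finset.mem_univ _) h

theorem isInv_one : IsInv N (1 : MonoidAlgebra k G) :=
  isInv_of_mem_center N (Subring.one_mem _)

theorem isInv_zero : IsInv N (0 : MonoidAlgebra k G) :=
  isInv_of_mem_center N (Subring.zero_mem _)

theorem isInv_add {a b : MonoidAlgebra k G} (ha : IsInv N a) (hb : IsInv N b) :
    IsInv N (a + b) := fun q hq u => by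
  simp [ha q hq u, hb q hq u]

theorem isInv_trunc_coset {a : MonoidAlgebra k G} (ha : IsInv N a) (x : G ⧸ N) :
    IsInv N (trunc {u : G | (u : G ⧸ N) = x} a) := by
  intro q hq u
  have e : ((q * u * q⁻¹ : G) : G ⧸ N) = (u : G ⧸ N) := by
    simp [(QuotientGroup.eq_one_iff q).mpr hq]
  by_cases hu : (u : G ⧸ N) = x
  · rw [coeff_trunc_of_mem _ (show u ∈ {u : G | (u : G ⧸ N) = x} from hu),
      coeff_trunc_of_mem _ (show q * u * q⁻¹ ∈ {u : G | (u : G ⧸ N) = x} from e.trans hu), ha q hq]
  · rw [coeff_trunc_of_notMem _ (show u ∉ {u : G | (u : G ⧸ N) = x} from hu),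
      coeff_trunc_of_notMem _ (show q * u * q⁻¹ ∉ {u : G | (u : G ⧸ N) = x} from
        fun h => hu (e.symm.trans h))]

theorem commute_embH {a : MonoidAlgebra k G} (ha : IsInv N a) (z : MonoidAlgebra k N) :
    Commute a (embH N z) := by
  induction z using MonoidAlgebra.induction_linear with
  | zero => simp
  | add x y hx hy => rw [map_add]; exact hx.add_right hy
  | single n r =>
      rw [embH_single, show (single (n : G) r : MonoidAlgebra k G) =
        single 1 r * single (n : G) 1 by simp]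
      exact Commute.mul_right ((single_one_comm r a).symm : Commute a (single 1 r))
        (isInv_iff_commute.mp ha n n.2)

theorem isInv_embH_of_center {z : MonoidAlgebra k N}
    (hz : z ∈ Subring.center (MonoidAlgebra k N)) : IsInv N (embH N z) :=
  isInv_embH le_rfl hz

theorem resH_mem_center_of_isInv {a : MonoidAlgebra k G} (ha : IsInv N a) :
    resH N a ∈ Subring.center (MonoidAlgebra k N) := by
  rw [mem_center_iff_isClassFn]
  intro u c
  simp only [coeff_resH]
  exact ha c c.2 u

theorem resH_trunc_mul (a y : MonoidAlgebra k G) (x : G ⧸ N) :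
    resH N (trunc {u : G | (u : G ⧸ N) = x} a * y) =
      resH N (a * trunc {u : G | (u : G ⧸ N) = x⁻¹} y) := by
  haveI := Fintype.ofFinite G
  ext n
  rw [coeff_resH, coeff_resH, coeff_mul_sum, coeff_mul_sum]
  refine Finset.sum_congr rfl fun u _ => ?_
  have e : ((u⁻¹ * (n : G) : G) : G ⧸ N) = (u : G ⧸ N)⁻¹ := by
    simp [(QuotientGroup.eq_one_iff (n : G)).mpr n.2]
  by_cases hu : (u : G ⧸ N) = x
  · rw [coeff_trunc_of_mem _ (show u ∈ {u : G | (u : G ⧸ N) = x} from hu),
      coeff_trunc_of_mem _ (show u⁻¹ * (n : G) ∈ {u : G | (u : G ⧸ N) = x⁻¹} from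
        e.trans (congrArg (·⁻¹) hu))]
  · rw [coeff_trunc_of_notMem _ (show u ∉ {u : G | (u : G ⧸ N) = x} from hu),
      coeff_trunc_of_notMem _ (show u⁻¹ * (n : G) ∉ {u : G | (u : G ⧸ N) = x⁻¹} from
        fun h => hu (inv_injective (e.symm.trans h))), zero_mul, mul_zero]

/-- Every product with an invariant element has nilpotent component at the subgroup. -/
def Good (N : Subgroup G) (v : MonoidAlgebra k G) : Prop :=
  ∀ y, IsInv N y → IsNilpotent (resH N (v * y))

theorem good_mul {v z : MonoidAlgebra k G} (hv : Good N v) (hz : IsInv N z) : Good N (v * z) :=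
  fun y hy => by rw [mul_assoc]; exact hv _ (isInv_mul hz hy)

theorem good_trunc {w : MonoidAlgebra k G} (hw : Good N w) (x : G ⧸ N) :
    Good N (trunc {u : G | (u : G ⧸ N) = x} w) := fun y hy => by
  rw [resH_trunc_mul]; exact hw _ (isInv_trunc_coset hy _)

variable (N) in
/-- Sums of `z r` with `z` central in an ideal and `r` invariant. -/
noncomputable def idealSpan (I : Ideal (ZG k N)) : AddSubmonoid (MonoidAlgebra k G) :=
  AddSubmonoid.closure
    {q | ∃ z ∈ I, ∃ r, IsInv N r ∧ q = embH N (z : MonoidAlgebra k N) * r}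

theorem idealSpan_mono {I J : Ideal (ZG k N)} (h : I ≤ J) : idealSpan N I ≤ idealSpan N J :=
  AddSubmonoid.closure_mono (by rintro q ⟨z, hz, r, hr, rfl⟩; exact ⟨z, h hz, r, hr, rfl⟩)

theorem idealSpan_mul {I J : Ideal (ZG k N)} {a b : MonoidAlgebra k G} (ha : a ∈ idealSpan N I)
    (hb : b ∈ idealSpan N J) : a * b ∈ idealSpan N (I * J) := by
  induction ha using AddSubmonoid.closure_induction with
  | zero => rw [zero_mul]; exact zero_mem _
  | add x y _ _ hx hy => rw [add_mul]; exact add_mem hx hy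
  | mem x hx =>
    obtain ⟨z, hz, r, hr, rfl⟩ := hx
    induction hb using AddSubmonoid.closure_induction with
    | zero => rw [mul_zero]; exact zero_mem _
    | add x y _ _ hx hy => rw [mul_add]; exact add_mem hx hy
    | mem x hx =>
      obtain ⟨z', hz', r', hr', rfl⟩ := hx
      refine AddSubmonoid.subset_closure ⟨z * z', Ideal.mul_mem_mul hz hz', r * r',
        isInv_mul hr hr', ?_⟩
      rw [Subring.coe_mul, map_mul]
      simp only [mul_assoc]
      rw [← mul_assoc r, (commute_embH hr _).eq, mul_assoc]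

theorem idealSpan_bot {a : MonoidAlgebra k G} (ha : a ∈ idealSpan N (⊥ : Ideal (ZG k N))) :
    a = 0 := by
  induction ha using AddSubmonoid.closure_induction with
  | zero => rfl
  | add x y _ _ hx hy => rw [hx, hy, add_zero]
  | mem x hx =>
    obtain ⟨z, hz, r, -, rfl⟩ := hx
    rw [show z = 0 from hz]
    simp

variable (N) in
/-- Products of components whose prefix cosets are distinct. -/
def Prefixes (m : ℕ) (q : MonoidAlgebra k G) : Prop :=
  ∃ (D : Finset (G ⧸ N)) (d : G ⧸ N), D.card = m + 1 ∧ d ∈ D ∧ InCoset q d ∧ IsInv N q ∧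
    ∀ c ∈ D, c ≠ d → ∃ a v, IsInv N a ∧ IsInv N v ∧ q = a * v ∧ InCoset v (c⁻¹ * d) ∧ Good N v

variable (N) in
/-- Multiples of central nilpotent elements. -/
def nilMultiples : Set (MonoidAlgebra k G) :=
  {q | ∃ z : ZG k N, IsNilpotent z ∧ ∃ r, IsInv N r ∧ q = embH N (z : MonoidAlgebra k N) * r}

theorem eq_embH_of_inCoset {v : MonoidAlgebra k G} (hv : InCoset v (1 : G ⧸ N))
    (hgood : Good N v) (hinv : IsInv N v) :
    ∃ z : ZG k N, IsNilpotent z ∧ v = embH N (z : MonoidAlgebra k N) := by
  refine ⟨⟨resH N v, resH_mem_center_of_isInv hinv⟩, ?_, ?_⟩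
  · obtain ⟨n, hn⟩ := hgood 1 isInv_one
    rw [mul_one] at hn
    exact ⟨n, Subtype.ext (by simpa using hn)⟩
  · exact (embH_resH fun u hu => hv u fun h => hu ((QuotientGroup.eq_one_iff u).mp h)).symm

theorem pow_mem_closure_prefixes {w : MonoidAlgebra k G} (hinv : IsInv N w) (hgood : Good N w)
    (m : ℕ) : w ^ m ∈ AddSubmonoid.closure (nilMultiples N ∪ {q | Prefixes N m q}) := by
  classical
  letI := Fintype.ofFinite (G ⧸ N)
  induction m with
  | zero =>
    refine AddSubmonoid.subset_closure (Or.inr ⟨{1}, 1, by simp, by simp, ?_, ?_, ?_⟩)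
    · rw [pow_zero]; exact inCoset_one
    · rw [pow_zero]; exact isInv_one
    · intro c hc hne
      exact absurd (Finset.mem_singleton.mp hc) hne
  | succ m ih =>
    rw [pow_succ]
    generalize w ^ m = a at ih ⊢
    induction ih using AddSubmonoid.closure_induction with
    | zero => rw [zero_mul]; exact zero_mem _
    | add x y _ _ hx hy => rw [add_mul]; exact add_mem hx hy
    | mem q hq =>
      rcases hq with ⟨z, hz, r, hr, rfl⟩ | ⟨D, d, hcard, hd, hdeg, hqinv, hD⟩
      · exact AddSubmonoid.subset_closure (Or.inl ⟨z, hz, r * w, isInv_mul hr hinv, mul_assoc _ _ _⟩)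
      rw [show q * w = q * ∑ x : G ⧸ N, trunc {u : G | (u : G ⧸ N) = x} w from
        congrArg (q * ·) (sum_trunc_cosets w), Finset.mul_sum]
      refine AddSubmonoid.sum_mem _ fun x _ => AddSubmonoid.subset_closure ?_
      set u := trunc {u : G | (u : G ⧸ N) = x} w
      have huinv : IsInv N u := isInv_trunc_coset hinv x
      have hug : Good N u := good_trunc hgood x
      have hux : InCoset u x := inCoset_trunc w x
      by_cases hdD : d * x ∈ D
      · refine Or.inl ?_
        by_cases hdd : d * x = d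
        · rw [mul_eq_left] at hdd
          obtain ⟨z, hz, hu⟩ := eq_embH_of_inCoset (hdd ▸ hux) hug huinv
          exact ⟨z, hz, q, hqinv, by rw [hu, (commute_embH hqinv _).eq]⟩
        · obtain ⟨a', v, ha, hv, rfl, hvdeg, hvg⟩ := hD _ hdD hdd
          obtain ⟨z, hz, he⟩ := eq_embH_of_inCoset
            (by have := inCoset_mul hvdeg hux
                rwa [mul_assoc, inv_mul_cancel] at this)
            (good_mul hvg huinv) (isInv_mul hv huinv)
          exact ⟨z, hz, a', ha, by rw [mul_assoc, he, (commute_embH ha _).eq]⟩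
      · refine Or.inr ⟨insert (d * x) D, d * x, ?_, Finset.mem_insert_self _ _,
          inCoset_mul hdeg hux, isInv_mul hqinv huinv, fun c hc hne => ?_⟩
        · rw [Finset.card_insert_of_notMem hdD, hcard]
        rcases Finset.mem_insert.mp hc with rfl | hc
        · exact absurd rfl hne
        by_cases hcd : c = d
        · exact ⟨q, u, hqinv, huinv, rfl, by rwa [hcd, inv_mul_cancel_left], hug⟩
        · obtain ⟨a', v, ha, hv, rfl, hvdeg, hvg⟩ := hD c hc hcd
          exact ⟨a', v * u, ha, isInv_mul hv huinv, mul_assoc _ _ _,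
            by rw [← mul_assoc]; exact inCoset_mul hvdeg hux, good_mul hvg huinv⟩

/-- An invariant idempotent all whose products with invariant elements have nilpotent component
at the subgroup is zero. -/
theorem eq_zero_of_good {w : MonoidAlgebra k G} (hinv : IsInv N w) (hidem : w * w = w)
    (hgood : Good N w) : w = 0 := by
  classical
  haveI := Fintype.ofFinite (G ⧸ N)
  set m := Fintype.card (G ⧸ N) + 1
  have hw : w ∈ AddSubmonoid.closure (nilMultiples N) := by
    have h := pow_mem_closure_prefixes hinv hgood m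
    rw [IsIdempotentElem.pow_eq hidem (Nat.succ_ne_zero _)] at h
    refine (AddSubmonoid.closure_le.mpr ?_) h
    rintro q (hq | ⟨D, d, hcard, -⟩)
    · exact AddSubmonoid.subset_closure hq
    · have := D.card_le_univ
      omega
  have hI : ∃ I : Ideal (ZG k N), I.FG ∧ I ≤ (⊥ : Ideal (ZG k N)).radical ∧ w ∈ idealSpan N I := by
    clear hidem hgood hinv
    induction hw using AddSubmonoid.closure_induction with
    | zero => exact ⟨⊥, Submodule.fg_bot, bot_le, zero_mem _⟩
    | add x y _ _ hx hy =>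
      obtain ⟨I, hI1, hI2, hI3⟩ := hx
      obtain ⟨J, hJ1, hJ2, hJ3⟩ := hy
      exact ⟨I ⊔ J, Submodule.FG.sup hI1 hJ1, sup_le hI2 hJ2,
        add_mem (idealSpan_mono le_sup_left hI3) (idealSpan_mono le_sup_right hJ3)⟩
    | mem q hq =>
      obtain ⟨z, ⟨n, hn⟩, r, hr, rfl⟩ := hq
      refine ⟨Ideal.span {z}, Submodule.fg_span_singleton z, ?_,
        AddSubmonoid.subset_closure ⟨z, Ideal.mem_span_singleton_self z, r, hr, rfl⟩⟩
      rw [Ideal.span_singleton_le_iff_mem]
      exact ⟨n, by simp [hn]⟩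
  obtain ⟨I, hI1, hI2, hI3⟩ := hI
  obtain ⟨n, hn⟩ := Ideal.exists_pow_le_of_le_radical_of_fg hI2 hI1
  have hpow : ∀ j : ℕ, w ∈ idealSpan N (I ^ (j + 1)) := by
    intro j
    induction j with
    | zero => simpa using hI3
    | succ j ih =>
      rw [pow_succ]
      exact hidem ▸ idealSpan_mul ih hI3
  exact idealSpan_bot (idealSpan_mono ((Ideal.pow_le_pow_right (Nat.le_succ n)).trans hn) (hpow n))

end Graded

variable {M : Ideal AlgInt} [M.IsPrime]

/-- Transport of reduced central characters along an isomorphism. -/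
theorem omegaBar_compIrr {H : Type u} [Group H] [Finite H] (e : H ≃* G) (θ : IrrCharacter G)
    {a : ZG (Res M) H} {a' : ZG (Res M) G}
    (h : ∀ x : H, (a' : MonoidAlgebra (Res M) G).coeff (e x) =
      (a : MonoidAlgebra (Res M) H).coeff x) :
    omegaBar M (compIrr e θ) a = omegaBar M θ a' := by
  classical
  haveI := Fintype.ofFinite G
  haveI := Fintype.ofFinite H
  obtain ⟨l, hl⟩ := redZ_surjective (M := M) (G := H) a
  let l' : ZG (Loc M) G := ⟨ofFun fun u => (l : MonoidAlgebra (Loc M) H).coeff (e.symm u), by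
    rw [mem_center_iff_isClassFn]
    intro u v
    simp only [coeff_ofFun, map_mul, map_inv]
    exact (mem_center_iff_isClassFn _).mp l.2 (e.symm u) (e.symm v)⟩
  have hl' : redZ M G l' = a' := by
    refine Subtype.ext (MonoidAlgebra.ext (Finsupp.ext fun u => ?_))
    rw [← e.apply_symm_apply u, h (e.symm u), ← hl]
    simp [l']
  rw [← hl, ← hl', omegaBar_redZ, omegaBar_redZ]
  congr 1
  refine Subtype.ext ?_
  simp only [coe_omegaL, omega, ev_eq_sum, coe_compIrr, map_one, l', toC, coeff_map', coeff_ofFun,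
    Subring.subtype_apply]
  congr 1
  exact Fintype.sum_equiv e.toEquiv _ _ fun u => by simp

variable {N : Subgroup G} [Fintype N] [hN : N.Normal]

theorem resH_embH_mul {k : Type v} [CommRing k] (F : MonoidAlgebra k N)
    (a : MonoidAlgebra k G) : resH N (embH N F * a) = F * resH N a := by
  haveI := Fintype.ofFinite G
  induction F using MonoidAlgebra.induction_linear with
  | zero => simp [resH_zero]
  | add x y hx hy => rw [map_add, add_mul, resH_add, hx, hy, add_mul]
  | single n r =>
    ext m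
    rw [coeff_resH, embH_single, coeff_single_mul', coeff_single_mul', coeff_resH]
    rfl

/-- A conjugate block of a normal subgroup has the same defect. -/
theorem blockDefect_conj {b b' : Set (IrrCharacter N)} (hb : IsPBlock M b)
    (hb' : IsPBlock M b') {ψ₀ : IrrCharacter N} (h0 : ψ₀ ∈ b') {g : G} (hg : conjIrr g ψ₀ ∈ b) :
    blockDefect p b' = blockDefect p b := by
  have hdeg : ∀ (g : G) (φ : IrrCharacter N),
      charDegree (conjIrr g φ : N → ℂ) = charDegree (φ : N → ℂ) := fun g φ => by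
    have : (charDegree (conjIrr g φ : N → ℂ) : ℂ) = (charDegree (φ : N → ℂ) : ℂ) := by
      rw [← charDegree_cast, ← charDegree_cast, coe_conjIrr]
      exact congrArg (φ : N → ℂ) (Subtype.ext (by simp))
    exact_mod_cast this
  simp only [blockDefect]
  congr 2
  ext d
  constructor
  · rintro ⟨ψ, hψ, rfl⟩
    exact ⟨conjIrr g ψ, (mem_block_iff hb hg).mpr (sameBlock_conjIrr g ((mem_block_iff hb' h0).mp hψ)),
      by simp only [hdeg]⟩
  · rintro ⟨φ, hφ, rfl⟩
    refine ⟨conjIrr g⁻¹ φ, (mem_block_iff hb' h0).mpr ?_, by simp only [hdeg]⟩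
    have h := sameBlock_conjIrr g⁻¹ ((mem_block_iff hb hg).mp hφ)
    rwa [← conjIrr_mul, mul_inv_cancel, conjIrr_one] at h

/-- Knörr: some defect group of a covering block meets the normal subgroup in the given defect
group of the covered block. -/
theorem knorr_cover (hM : IsPModular p M) {b : Set (IrrCharacter N)} (hb : IsPBlock M b)
    {Q : Subgroup G} (hQN : Q ≤ N) (hQ : IsDefectGroup p M b (Q.subgroupOf N))
    {B : Set (IrrCharacter G)} (hB : IsPBlock M B)
    (hcov : ∃ χ ∈ B, ∃ θ ∈ b, classInner (fun n : N => (χ : G → ℂ) n) (θ : N → ℂ) ≠ 0) :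
    ∃ P : Subgroup G, IsDefectGroup p M B P ∧ P ⊓ N = Q := by
  classical
  haveI : Fact p.Prime := ⟨hM.1⟩
  haveI := charP_res hM
  letI := Fintype.ofFinite G
  have hA := blockCoeff_mem_loc hB
  have hS := blockCoeff_conjSet_mem_loc (G := G) hb
  set F := bBar M (conjSet (G := G) b) with hF
  let f : ZG (Res M) G := redZ M G (coverIdem (G := G) hb)
  have hfF : resZ N f = F := by
    refine Subtype.ext (MonoidAlgebra.ext (Finsupp.ext fun n => ?_))
    simp only [f, hF, bBar, coe_resZ, coeff_resH, coe_redZ, coeff_map']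
    rw [coeff_bIdem hS]
    simp only [coverIdem]
    rw [coeff_embH N _ n, coeff_ofFun]
  have hfsupp : ∀ u ∉ N, (f : MonoidAlgebra (Res M) G).coeff u = 0 := fun u hu => by
    simp [f, coverIdem, coeff_embH_of_notMem _ _ hu]
  have hfemb : (f : MonoidAlgebra (Res M) G) = embH N (F : MonoidAlgebra (Res M) N) := by
    rw [← hfF, coe_resZ, embH_resH hfsupp]
  have hff : f * f = f := by
    refine Subtype.ext ?_
    rw [Subring.coe_mul, hfemb, ← map_mul]
    exact congrArg (embH N) (congrArg Subtype.val (bBar_mul_self hS))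
  obtain ⟨χ₀, hχ₀, θ₀, hθ₀, hcon⟩ := hcov
  -- the idempotent of the covering block absorbs that of the conjugates
  have hef : bBar M B * f = bBar M B := by
    refine idem_ext hM (by rw [mul_mul_mul_comm, bBar_mul_self hA, hff]) (bBar_mul_self hA)
      fun χ => ?_
    rw [map_mul, omegaBar_bBar hA]
    split_ifs with hχ
    · obtain ⟨θ, hθ, hθc⟩ := (hasConstituent_iff_of_sameBlock' hS (blockCoeff_conjSet_stable b)
        ((mem_block_iff hB hχ₀).mp hχ)).mp ((hasConstituent_conjSet_iff b χ₀).mpr ⟨θ₀, hθ₀, hcon⟩)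
      rw [one_mul, omegaBar_eq_of_cover χ ((mult_ne_zero_iff χ θ).mp hθc) hfsupp, hfF,
        omegaBar_bBar hS, if_pos hθ]
    · rw [zero_mul]
  obtain ⟨u, hu, huQ, hQp', -⟩ := defectGroup_spec hQ
  have hQp : IsPGroup p Q := hQp'.of_equiv (Subgroup.subgroupOfEquivOfLe hQN)
  have hbQ : br (Q.subgroupOf N) hQp' (bBar M b) ≠ 0 :=
    (br_bBar_ne_zero_iff hM hb hQ hQp').mpr ⟨1, by rw [map_conj_one]⟩
  -- the Brauer map at the given defect group does not kill the covering block
  have hBQ : br Q hQp (bBar M B) ≠ 0 := by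
    intro h0
    refine bBar_ne_zero hB (Subtype.ext ?_)
    refine eq_zero_of_good (N := N) (isInv_of_mem_center N (bBar M B).2)
      (congrArg Subtype.val (bBar_mul_self hA)) fun y hy => ?_
    -- vanishing on the block itself
    have key : ∀ (y : MonoidAlgebra (Res M) G) (hy : IsInv N y), ∀ ψ ∈ b,
        omegaBar M ψ ⟨resH N ((bBar M B : MonoidAlgebra (Res M) G) * y),
          resH_mem_center_of_isInv (isInv_mul (isInv_of_mem_center N (bBar M B).2) hy)⟩ = 0 := by
      intro y hy ψ hψ
      by_contra hne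
      refine br_ne_zero hM hQp' hb hψ hne hbQ ?_
      rw [br_apply, trunc_eq_zero_iff]
      intro n hn
      have hnQ : (n : G) ∈ Subgroup.centralizer (Q : Set G) := fun q hq =>
        congrArg Subtype.val (Subgroup.mem_centralizer_iff.mp hn ⟨q, hQN hq⟩ hq)
      show (resH N ((bBar M B : MonoidAlgebra (Res M) G) * y)).coeff n = 0
      rw [coeff_resH, ← coeff_trunc_of_mem _ hnQ,
        trunc_mul hQp (isInv_of_mem_center Q (bBar M B).2) (fun q hq => hy q (hQN hq)),
        ← br_apply Q hQp, h0, zero_mul]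
      rfl
    let z : ZG (Res M) N := ⟨resH N ((bBar M B : MonoidAlgebra (Res M) G) * y),
      resH_mem_center_of_isInv (isInv_mul (isInv_of_mem_center N (bBar M B).2) hy)⟩
    suffices hz : IsNilpotent z by
      obtain ⟨j, hj⟩ := hz
      exact ⟨j, by simpa [z] using congrArg Subtype.val hj⟩
    refine isNilpotent_of_omegaBar hM z fun φ => ?_
    by_cases hφ : φ ∈ conjSet (G := G) b
    · obtain ⟨g, hg⟩ := hφ
      have hy' : IsInv N (single g⁻¹ (1 : Res M) * y * single g 1) := by
        intro q hq v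
        simp only [coeff_mul_single', coeff_single_mul', one_mul, mul_one, inv_inv]
        rw [show g * (q * v * q⁻¹ * g⁻¹) = (g * q * g⁻¹) * (g * (v * g⁻¹)) * (g * q * g⁻¹)⁻¹ by
          group]
        exact hy _ (hN.conj_mem _ hq g) _
      have e : conjIrr g φ = compIrr (MulAut.conjNormal g) φ :=
        Subtype.ext (CT.conjFun_eq_comp N g _)
      have h2 := key _ hy' _ hg
      rw [e, omegaBar_compIrr (MulAut.conjNormal g) φ (a' := z)] at h2
      · exact h2
      intro n
      show (z : MonoidAlgebra (Res M) N).coeff (MulAut.conjNormal g n) = _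
      have hc : (bBar M B : MonoidAlgebra (Res M) G) * (single g⁻¹ (1 : Res M) * y * single g 1) =
          single g⁻¹ 1 * ((bBar M B : MonoidAlgebra (Res M) G) * y) * single g 1 := by
        rw [← mul_assoc, ← mul_assoc, ← Subring.mem_center_iff.mp (bBar M B).2 (single g⁻¹ 1),
          mul_assoc (single g⁻¹ (1 : Res M))]
      simp only [z, coeff_resH]
      rw [hc, coeff_mul_single', coeff_single_mul', one_mul, mul_one, inv_inv,
        MulAut.conjNormal_apply]
      simp only [mul_assoc]
    · have ez : z = F * z := by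
        refine Subtype.ext ?_
        simp only [z, Subring.coe_mul]
        conv_lhs => rw [← hef]
        rw [Subring.coe_mul, Subring.mem_center_iff.mp f.2, mul_assoc, hfemb, resH_embH_mul]
      rw [ez, map_mul, hF, omegaBar_bBar hS, if_neg hφ, zero_mul]
  obtain ⟨D₀, hD₀⟩ := exists_defectGroup (p := p) hB
  obtain ⟨x, hx⟩ := (br_bBar_ne_zero_iff hM hB hD₀ hQp).mp hBQ
  refine ⟨_, isDefectGroup_conj hD₀ x⁻¹, ?_⟩
  set P := D₀.map (MulAut.conj x⁻¹).toMonoidHom with hP
  have hQP : Q ≤ P := fun q hq => by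
    rw [hP, mem_map_conj]
    exact hx (mem_map_conj.mpr (by simpa [mul_assoc] using hq))
  refine (Subgroup.eq_of_le_of_card_ge (le_inf hQP hQN) ?_).symm
  obtain ⟨-, -, -, hPp, -⟩ := defectGroup_spec (isDefectGroup_conj hD₀ x⁻¹)
  rw [← hP] at hPp
  have hRp : IsPGroup p (P ⊓ N : Subgroup G) := hPp.to_le inf_le_left
  have hBR : br (P ⊓ N) hRp (bBar M B) ≠ 0 :=
    (br_bBar_ne_zero_iff hM hB (isDefectGroup_conj hD₀ x⁻¹) hRp).mpr
      ⟨1, by rw [map_conj_one]; exact inf_le_left⟩
  have hfR : br (P ⊓ N) hRp f ≠ 0 := fun h => hBR (by rw [← hef, map_mul, h, mul_zero])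
  rw [br_apply, ne_eq, trunc_eq_zero_iff] at hfR
  push Not at hfR
  obtain ⟨v, hv, hv0⟩ := hfR
  have hvN : v ∈ N := by by_contra h; exact hv0 (hfsupp v h)
  have hF0 : ¬ MemLocalIdeal M (blockCoeff (conjSet (G := G) b) ⟨v, hvN⟩) := by
    rw [← coeff_bBar_ne_zero_iff hS, ← hF, ← hfF, coe_resZ, coeff_resH]
    exact hv0
  -- some conjugate block has a unit coefficient there
  obtain ⟨ψ₀, hψ₀, hunit⟩ : ∃ ψ₀ ∈ conjSet (G := G) b,
      ¬ MemLocalIdeal M (blockCoeff (blockOf M (ψ₀ : N → ℂ)) ⟨v, hvN⟩) := by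
    by_contra hne
    push Not at hne
    apply hF0
    rw [blockCoeff, finsum_mem_irr,
      ← Finset.sum_fiberwise_of_maps_to (g := fun ψ : IrrCharacter N => blockOf M (ψ : N → ℂ))
        (t := Finset.univ.image fun ψ : IrrCharacter N => blockOf M (ψ : N → ℂ))
        (fun ψ _ => Finset.mem_image_of_mem _ (Finset.mem_univ ψ)), Finset.mul_sum]
    refine Finset.sum_induction _ (MemLocalIdeal M) (fun _ _ => memLocalIdeal_add)
      memLocalIdeal_zero fun b' hb' => ?_
    obtain ⟨ψ₀, -, rfl⟩ := Finset.mem_image.mp hb'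
    have hsat : ∀ ψ ∈ blockOf M (ψ₀ : N → ℂ),
        ψ ∈ conjSet (G := G) b ↔ ψ₀ ∈ conjSet (G := G) b := fun ψ hψ =>
      ⟨fun h => blockOf_subset_conjSet hb h (sameBlock_symm hψ),
        fun h => blockOf_subset_conjSet hb h hψ⟩
    by_cases h0 : ψ₀ ∈ conjSet (G := G) b
    · convert hne ψ₀ h0 using 1
      rw [blockCoeff, finsum_mem_irr, Finset.sum_filter]
      congr 1
      refine Finset.sum_congr rfl fun ψ _ => ?_
      by_cases hψ : ψ ∈ blockOf M (ψ₀ : N → ℂ)
      · rw [if_pos ((block_eq_blockOf (isPBlock_blockOf ψ₀) hψ).symm), if_pos hψ,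
          if_pos ((hsat ψ hψ).mpr h0)]
      · rw [if_neg (fun h : blockOf M (ψ : N → ℂ) = blockOf M (ψ₀ : N → ℂ) =>
          hψ (h ▸ self_mem_blockOf ψ)), if_neg hψ]
    · convert memLocalIdeal_zero (M := M) using 1
      rw [Finset.sum_eq_zero, mul_zero]
      intro ψ hψ
      rw [Finset.mem_filter] at hψ
      rw [if_neg]
      intro h
      exact h0 ((hsat ψ (hψ.2 ▸ self_mem_blockOf ψ)).mp h)
  obtain ⟨g, hg⟩ := hψ₀
  have hb'' : IsPBlock M (blockOf M (ψ₀ : N → ℂ)) := isPBlock_blockOf ψ₀
  obtain ⟨Q', hQ'⟩ := exists_defectGroup (p := p) hb''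
  obtain ⟨y, hy⟩ := conj_le_defect hM hb'' hQ'
    (hRp.of_equiv (Subgroup.subgroupOfEquivOfLe (inf_le_right : P ⊓ N ≤ N)).symm) hunit
    (le_centralizer_singleton.mpr fun r hr =>
      Subtype.ext (Subgroup.mem_centralizer_iff.mp hv (r : G) hr))
  have h1 := Subgroup.card_le_of_le hy
  rw [card_map_conj, card_defectGroup hM hb'' hQ',
    blockDefect_conj hb hb'' (self_mem_blockOf ψ₀) hg, ← card_defectGroup hM hb hQ,
    Nat.card_congr (Subgroup.subgroupOfEquivOfLe (inf_le_right : P ⊓ N ≤ N)).toEquiv,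
    Nat.card_congr (Subgroup.subgroupOfEquivOfLe hQN).toEquiv] at h1
  exact h1

end Cfsg.Agent.Blocks
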