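import Cfsg.Agent.Lib.Blocks.CoverDefect

/-!
# Every character of a covered block lies under the covering block
-/

namespace Cfsg.Agent.Blocks

open MonoidAlgebra

universe u

variable {G : Type u} [Group G] [Finite G] {p : ℕ} {M : Ideal AlgInt} [M.IsPrime]
  {N : Subgroup G} [Fintype N] [hN : N.Normal]

set_option linter.unusedSectionVars false

/-- Some invariant element gives a unit central value to a covering block's idempotent at every
character of the covered block. -/
theorem exists_inv_value (hM : IsPModular p M) {b : Set (IrrCharacter N)} (hb : IsPBlock M b)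
    {B : Set (IrrCharacter G)} (hB : IsPBlock M B)
    (hcov : ∃ χ ∈ B, ∃ θ ∈ b, classInner (fun n : N => (χ : G → ℂ) n) (θ : N → ℂ) ≠ 0)
    {θ : IrrCharacter N} (hθ : θ ∈ b) :
    ∃ (y : MonoidAlgebra (Res M) G) (hy : IsInv N y),
      omegaBar M θ ⟨resH N ((bBar M B : MonoidAlgebra (Res M) G) * y),
        resH_mem_center_of_isInv (isInv_mul (isInv_of_mem_center N (bBar M B).2) hy)⟩ ≠ 0 := by
  classical
  haveI : Fact p.Prime := ⟨hM.1⟩
  haveI := charP_res hM
  letI := Fintype.ofFinite G
  by_contra hno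
  push Not at hno
  have hA := blockCoeff_mem_loc hB
  have hS := blockCoeff_conjSet_mem_loc (G := G) hb
  set F := bBar M (conjSet (G := G) b) with hF
  let f : ZG (Res M) G := redZ M G (coverIdem (G := G) hb)
  have hfF : resZ N f = F := by
    refine Subtype.ext (MonoidAlgebra.ext (Finsupp.ext fun n => ?_))
    simp only [f, hF, bBar, coe_resZ, coeff_resH, coe_redZ, coeff_map']
    rw [coeff_bIdem hS]
    simp only [coverIdem]
    rw [coeff_embH N _ n, coeff_ofFun]
  have hfsupp : ∀ u ∉ N, (f : MonoidAlgebra (Res M) G).coeff u = 0 := fun u hu => by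
    simp [f, coverIdem, coeff_embH_of_notMem _ _ hu]
  have hfemb : (f : MonoidAlgebra (Res M) G) = embH N (F : MonoidAlgebra (Res M) N) := by
    rw [← hfF, coe_resZ, embH_resH hfsupp]
  have hff : f * f = f := by
    refine Subtype.ext ?_
    rw [Subring.coe_mul, hfemb, ← map_mul]
    exact congrArg (embH N) (congrArg Subtype.val (bBar_mul_self hS))
  obtain ⟨χ₀, hχ₀, θ₀, hθ₀, hcon⟩ := hcov
  have hef : bBar M B * f = bBar M B := by
    refine idem_ext hM (by rw [mul_mul_mul_comm, bBar_mul_self hA, hff]) (bBar_mul_self hA)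
      fun χ => ?_
    rw [map_mul, omegaBar_bBar hA]
    split_ifs with hχ
    · obtain ⟨θ', hθ', hθc⟩ := (hasConstituent_iff_of_sameBlock' hS (blockCoeff_conjSet_stable b)
        ((mem_block_iff hB hχ₀).mp hχ)).mp ((hasConstituent_conjSet_iff b χ₀).mpr ⟨θ₀, hθ₀, hcon⟩)
      rw [one_mul, omegaBar_eq_of_cover χ ((mult_ne_zero_iff χ θ').mp hθc) hfsupp, hfF,
        omegaBar_bBar hS, if_pos hθ']
    · rw [zero_mul]
  -- all characters of `b` give the value zero
  have key : ∀ (y : MonoidAlgebra (Res M) G) (hy : IsInv N y), ∀ ψ ∈ b,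
      omegaBar M ψ ⟨resH N ((bBar M B : MonoidAlgebra (Res M) G) * y),
        resH_mem_center_of_isInv (isInv_mul (isInv_of_mem_center N (bBar M B).2) hy)⟩ = 0 :=
    fun y hy ψ hψ => by
      rw [← omegaBar_eq_of_sameBlock ((mem_block_iff hb hθ).mp hψ)]
      exact hno y hy
  refine bBar_ne_zero hB (Subtype.ext ?_)
  refine eq_zero_of_good (N := N) (isInv_of_mem_center N (bBar M B).2)
    (congrArg Subtype.val (bBar_mul_self hA)) fun y hy => ?_
  let z : ZG (Res M) N := ⟨resH N ((bBar M B : MonoidAlgebra (Res M) G) * y),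
    resH_mem_center_of_isInv (isInv_mul (isInv_of_mem_center N (bBar M B).2) hy)⟩
  suffices hz : IsNilpotent z by
    obtain ⟨j, hj⟩ := hz
    exact ⟨j, by simpa [z] using congrArg Subtype.val hj⟩
  refine isNilpotent_of_omegaBar hM z fun φ => ?_
  by_cases hφ : φ ∈ conjSet (G := G) b
  · obtain ⟨g, hg⟩ := hφ
    have hy' : IsInv N (single g⁻¹ (1 : Res M) * y * single g 1) := by
      intro q hq v
      simp only [coeff_mul_single', coeff_single_mul', one_mul, mul_one, inv_inv]
      rw [show g * (q * v * q⁻¹ * g⁻¹) = (g * q * g⁻¹) * (g * (v * g⁻¹)) * (g * q * g⁻¹)⁻¹ by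
        group]
      exact hy _ (hN.conj_mem _ hq g) _
    have e : conjIrr g φ = compIrr (MulAut.conjNormal g) φ :=
      Subtype.ext (CT.conjFun_eq_comp N g _)
    have h2 := key _ hy' _ hg
    rw [e, omegaBar_compIrr (MulAut.conjNormal g) φ (a' := z)] at h2
    · exact h2
    intro n
    show (z : MonoidAlgebra (Res M) N).coeff (MulAut.conjNormal g n) = _
    have hc : (bBar M B : MonoidAlgebra (Res M) G) * (single g⁻¹ (1 : Res M) * y * single g 1) =
        single g⁻¹ 1 * ((bBar M B : MonoidAlgebra (Res M) G) * y) * single g 1 := by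
      rw [← mul_assoc, ← mul_assoc, ← Subring.mem_center_iff.mp (bBar M B).2 (single g⁻¹ 1),
        mul_assoc (single g⁻¹ (1 : Res M))]
    simp only [z, coeff_resH]
    rw [hc, coeff_mul_single', coeff_single_mul', one_mul, mul_one, inv_inv,
      MulAut.conjNormal_apply]
    simp only [mul_assoc]
  · have ez : z = F * z := by
      refine Subtype.ext ?_
      simp only [z, Subring.coe_mul]
      conv_lhs => rw [← hef]
      rw [Subring.coe_mul, Subring.mem_center_iff.mp f.2, mul_assoc, hfemb, resH_embH_mul]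
    rw [ez, map_mul, hF, omegaBar_bBar hS, if_neg hφ, zero_mul]

/-- Every character of a covered block is a constituent of some character of the covering block. -/
theorem exists_over_of_cover (hM : IsPModular p M) {b : Set (IrrCharacter N)} (hb : IsPBlock M b)
    {B : Set (IrrCharacter G)} (hB : IsPBlock M B)
    (hcov : ∃ χ ∈ B, ∃ θ ∈ b, classInner (fun n : N => (χ : G → ℂ) n) (θ : N → ℂ) ≠ 0)
    {θ : IrrCharacter N} (hθ : θ ∈ b) :
    ∃ χ ∈ B, classInner (fun n : N => (χ : G → ℂ) n) (θ : N → ℂ) ≠ 0 := by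
  classical
  obtain ⟨y, hy, hne⟩ := exists_inv_value hM hb hB hcov hθ
  by_contra hno
  push Not at hno
  refine hne ?_
  choose s hs using red_surjective (M := M)
  let yl : MonoidAlgebra (Loc M) G := ofFun fun u => s (y.coeff u)
  have hyl : IsInv N yl := fun q hq u => by
    simp only [yl, coeff_ofFun]
    rw [hy q hq u]
  have hyr : mapRingHom G (red M) yl = y :=
    MonoidAlgebra.ext (Finsupp.ext fun u => by rw [coeff_map']; simp [yl, hs])
  have hA := blockCoeff_mem_loc (M := M) hB
  let zl : ZG (Loc M) N := ⟨resH N ((bIdem M B : MonoidAlgebra (Loc M) G) * yl),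
    resH_mem_center_of_isInv (isInv_mul (isInv_of_mem_center N (bIdem M B).2) hyl)⟩
  have hzl : redZ M N zl = ⟨resH N ((bBar M B : MonoidAlgebra (Res M) G) * y),
      resH_mem_center_of_isInv (isInv_mul (isInv_of_mem_center N (bBar M B).2) hy)⟩ :=
    Subtype.ext (by
      rw [coe_redZ]
      simp only [zl]
      rw [map_resH, map_mul, hyr]
      rfl)
  rw [← hzl, omegaBar_redZ]
  suffices h0 : omegaL M θ zl = 0 by rw [h0, map_zero]
  refine Subtype.ext ?_
  rw [coe_omegaL, ZeroMemClass.coe_zero]
  show omega (θ : N → ℂ) (mapRingHom N (Loc M).subtype (resH N _)) = 0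
  rw [map_resH, map_mul, show mapRingHom G (Loc M).subtype (bIdem M B : MonoidAlgebra (Loc M) G) =
    idemC B from toC_bIdem hA]
  set A := conjSet (G := G) ({θ} : Set (IrrCharacter N))
  set Y := mapRingHom G (Loc M).subtype yl
  have hE : embH N (idemC A) ∈ Subring.center (MonoidAlgebra ℂ G) :=
    embH_idemC_mem_center (blockCoeff_conjSet_stable _)
  have hzero : embH N (idemC A) * idemC B = 0 := by
    refine central_ext (Subring.mul_mem _ hE (idemC_mem_center B)) (Subring.zero_mem _) fun χ => ?_
    rw [omega_mul χ.2 hE, omega_zero, omega_idemC]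
    split_ifs with hχ
    · rw [mul_one, omega_stable_eq_zero_iff]
      intro hc
      obtain ⟨θ', hθ', hcon⟩ := (hasConstituent_conjSet_iff _ χ).mp hc
      rw [Set.mem_singleton_iff] at hθ'
      subst hθ'
      exact hcon (hno χ hχ)
    · rw [mul_zero]
  have h1 : idemC A * resH N (idemC B * Y) = 0 := by
    rw [← resH_embH_mul, ← mul_assoc, hzero, zero_mul, resH_zero]
  have h2 := congrArg (omega (θ : N → ℂ)) h1
  rwa [omega_mul θ.2 (idemC_mem_center A), omega_zero, omega_idemC,
    if_pos (subset_conjSet ({θ} : Set (IrrCharacter N)) (Set.mem_singleton θ)), one_mul] at h2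

end Cfsg.Agent.Blocks

namespace Cfsg.Agent.Blocks

open CT

universe v

variable {G : Type v} [Group G] [Fintype G] {p : ℕ} {M : Ideal AlgInt} [M.IsPrime]
  {H : Subgroup G} [Fintype H] [hH : H.Normal]

/-- The degree of a character as a sum over the constituents of its restriction. -/
theorem deg_eq_sum_mult (χ : IrrCharacter G) :
    deg (χ : G → ℂ) = ∑ θ : IrrCharacter H, mult (fun h : H => (χ : G → ℂ) h) θ * deg (θ : H → ℂ) := by
  have hc := isCharacter_restrict H (isCharacter_of_isIrr χ.2)
  have h := congrFun (character_eq_sum hc) 1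
  simp only [OneMemClass.coe_one, Finset.sum_apply, Pi.smul_apply, smul_eq_mul,
    deg_eq (isCharacter_of_isIrr χ.2)] at h
  rw [← Nat.cast_inj (R := ℂ), h]
  push_cast
  exact Finset.sum_congr rfl fun θ _ => by rw [deg_eq (isCharacter_of_isIrr θ.2)]

/-- The induced degree as a sum over the characters above. -/
theorem index_mul_deg_eq_sum (θ : IrrCharacter H) :
    H.index * deg (θ : H → ℂ) =
      ∑ χ : IrrCharacter G, mult (fun h : H => (χ : G → ℂ) h) θ * deg (χ : G → ℂ) := by
  have hθ := isCharacter_of_isIrr θ.2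
  have hi := isCharacter_indFun H hθ
  have h := congrFun (character_eq_sum hi) 1
  rw [indFun_one_eval, deg_eq hθ] at h
  simp only [Finset.sum_apply, Pi.smul_apply, smul_eq_mul] at h
  rw [← Nat.cast_inj (R := ℂ)]
  push_cast
  rw [h]
  refine Finset.sum_congr rfl fun χ _ => ?_
  have hm : mult (indFun H (θ : H → ℂ)) χ = mult (fun h : H => (χ : G → ℂ) h) θ := by
    have hr := isCharacter_restrict H (isCharacter_of_isIrr χ.2)
    rw [← Nat.cast_inj (R := ℂ), ← mult_spec hi (isCharacter_of_isIrr χ.2), ← mult_spec hr hθ,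
      frobenius_reciprocity H _ (isClassFunction_of_isIrr χ.2), classInner_comm_of_char hθ hr]
  rw [hm, deg_eq (isCharacter_of_isIrr χ.2)]

/-- The square sums of the degrees in the principal blocks of a normal subgroup and of the group. -/
theorem principal_degree_sq_bounds (hM : IsPModular p M) :
    (∑ᶠ θ ∈ principalBlock M H, charDegree (θ : H → ℂ) ^ 2) ≤
      (∑ᶠ χ ∈ principalBlock M G, charDegree (χ : G → ℂ) ^ 2) ∧
    (∑ᶠ χ ∈ principalBlock M G, charDegree (χ : G → ℂ) ^ 2) ≤
      H.index * ∑ᶠ θ ∈ principalBlock M H, charDegree (θ : H → ℂ) ^ 2 := by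
  classical
  set B := principalBlock M G
  set b := principalBlock M H
  have hB : IsPBlock M B := isPBlock_principalBlock
  have hb : IsPBlock M b := isPBlock_principalBlock
  have htriv : classInner (fun n : H => ((trivIrr G : IrrCharacter G) : G → ℂ) n)
      ((trivIrr H : IrrCharacter H) : H → ℂ) ≠ 0 := by
    have := irr_inner_self (trivIrr H).2
    show classInner (fun n : H => (1 : ℂ)) (fun n : H => (1 : ℂ)) ≠ 0
    rw [show classInner (fun n : H => (1 : ℂ)) (fun n : H => (1 : ℂ)) = 1 from this]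
    exact one_ne_zero
  have hin : ∀ χ ∈ B, ∀ θ : IrrCharacter H,
      mult (fun h : H => (χ : G → ℂ) h) θ ≠ 0 → θ ∈ b := by
    intro χ hχ θ hm
    obtain ⟨g, hg⟩ := covered_conj hB hb trivIrr_mem_principalBlock trivIrr_mem_principalBlock
      htriv hχ ((mult_ne_zero_iff χ θ).mp hm)
    have h1 := sameBlock_conjIrr g⁻¹ ((mem_block_iff hb trivIrr_mem_principalBlock).mp hg)
    rw [← conjIrr_mul, mul_inv_cancel, conjIrr_one,
      show conjIrr g⁻¹ (trivIrr H) = trivIrr H from Subtype.ext rfl] at h1
    exact (mem_block_iff hb trivIrr_mem_principalBlock).mpr h1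
  have hsum : ∀ (X : Type v) [Group X] [Fintype X] (A : Set (IrrCharacter X)),
      ∑ᶠ χ ∈ A, charDegree (χ : X → ℂ) ^ 2 =
        ∑ χ ∈ Finset.univ.filter (· ∈ A), deg (χ : X → ℂ) ^ 2 := fun X _ _ A => by
    rw [finsum_mem_eq_sum_of_inter_support_eq _ (t := Finset.univ.filter (· ∈ A)) (by ext; simp)]
    rfl
  rw [hsum, hsum]
  constructor
  · choose f hfB hf using fun θ : {θ // θ ∈ b} => exists_over_of_cover hM hb hB
      ⟨_, trivIrr_mem_principalBlock, _, trivIrr_mem_principalBlock, htriv⟩ θ.2
    let F : IrrCharacter H → IrrCharacter G := fun θ => if h : θ ∈ b then f ⟨θ, h⟩ else trivIrr G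
    rw [← Finset.sum_fiberwise_of_maps_to (s := Finset.univ.filter (· ∈ b))
      (t := Finset.univ.filter (· ∈ B)) (g := F) (fun θ hθ => by
        simp only [F, dif_pos (Finset.mem_filter.mp hθ).2]
        exact Finset.mem_filter.mpr ⟨Finset.mem_univ _, hfB _⟩)]
    refine Finset.sum_le_sum fun χ _ => ?_
    refine le_trans (Finset.sum_sq_le_sq_sum_of_nonneg fun θ _ => Nat.zero_le _) ?_
    refine Nat.pow_le_pow_left ?_ 2
    rw [deg_eq_sum_mult (H := H) χ]
    refine le_trans (Finset.sum_le_sum fun θ hθ => ?_)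
      (Finset.sum_le_sum_of_subset (Finset.subset_univ _))
    obtain ⟨hb', he⟩ := Finset.mem_filter.mp hθ
    simp only [F, dif_pos (Finset.mem_filter.mp hb').2] at he
    refine Nat.le_mul_of_pos_left _ (Nat.pos_of_ne_zero ?_)
    rw [mult_ne_zero_iff, ← he]
    exact hf _
  · calc ∑ χ ∈ Finset.univ.filter (· ∈ B), deg (χ : G → ℂ) ^ 2
        = ∑ χ ∈ Finset.univ.filter (· ∈ B), ∑ θ ∈ Finset.univ.filter (· ∈ b),
            deg (θ : H → ℂ) * (mult (fun h : H => (χ : G → ℂ) h) θ * deg (χ : G → ℂ)) := by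
          refine Finset.sum_congr rfl fun χ hχ => ?_
          rw [sq]
          nth_rewrite 2 [deg_eq_sum_mult (H := H) χ]
          rw [Finset.mul_sum, Finset.sum_filter]
          refine Finset.sum_congr rfl fun θ _ => ?_
          split_ifs with hθ
          · ring
          · have : mult (fun h : H => (χ : G → ℂ) h) θ = 0 := by
              by_contra hm; exact hθ (hin χ (Finset.mem_filter.mp hχ).2 θ hm)
            rw [this]; ring
      _ = ∑ θ ∈ Finset.univ.filter (· ∈ b), deg (θ : H → ℂ) *
            ∑ χ ∈ Finset.univ.filter (· ∈ B), mult (fun h : H => (χ : G → ℂ) h) θ * deg (χ : G → ℂ) := by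
          rw [Finset.sum_comm]; simp only [Finset.mul_sum]
      _ ≤ ∑ θ ∈ Finset.univ.filter (· ∈ b), deg (θ : H → ℂ) * (H.index * deg (θ : H → ℂ)) := by
          refine Finset.sum_le_sum fun θ _ => Nat.mul_le_mul_left _ ?_
          rw [index_mul_deg_eq_sum]
          exact Finset.sum_le_sum_of_subset (Finset.subset_univ _)
      _ = H.index * ∑ θ ∈ Finset.univ.filter (· ∈ b), deg (θ : H → ℂ) ^ 2 := by
          rw [Finset.mul_sum]; exact Finset.sum_congr rfl fun θ _ => by ring

end Cfsg.Agent.Blocks
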