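import Cfsg.Agent.Lib.Blocks.CentralDefectChars
import Cfsg.Agent.Lib.Blocks.FirstMain

/-!
# Blocks with a defect group of order two
-/

set_option linter.unusedSectionVars false

namespace Cfsg.Agent.Blocks

open scoped ComplexConjugate
open CT

universe u

variable {G : Type u} [Group G] [Fintype G] {M : Ideal AlgInt} [M.IsPrime]

theorem normalizer_zpowers_of_involution {x : G} (hx : orderOf x = 2) :
    Subgroup.normalizer ((Subgroup.zpowers x : Subgroup G) : Set G) =
      Subgroup.centralizer ({x} : Set G) := by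
  refine le_antisymm (fun n hn => Subgroup.mem_centralizer_singleton_iff.mpr ?_) ?_
  · have h := (Subgroup.mem_normalizer_iff.mp hn x).mp (Subgroup.mem_zpowers x)
    obtain ⟨j, hj⟩ := Subgroup.mem_zpowers_iff.mp h
    have hj2 : x ^ j = x ^ (j % 2) := by
      rw [← zpow_mod_orderOf, hx]; rfl
    rcases Int.emod_two_eq_zero_or_one j with h0 | h0
    · rw [hj2, h0, zpow_zero, eq_comm, mul_inv_eq_one] at hj
      have : x = 1 := by simpa using hj
      rw [this, orderOf_one] at hx
      norm_num at hx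
    · rw [hj2, h0, zpow_one] at hj
      nth_rewrite 2 [hj]
      group
  · rw [← centralizer_zpowers_eq]
    exact Subgroup.centralizer_le_normalizer _

theorem induced_unique_of_eq (hM : IsPModular 2 M) [Fact (Nat.Prime 2)] {D H : Subgroup G}
    (hH : H = Subgroup.normalizer (D : Set G)) (hDp : IsPGroup 2 D)
    {b b' : Set (IrrCharacter H)} {B : Set (IrrCharacter G)}
    (hb : IsDefectGroup 2 M b (D.subgroupOf H))
    (hind : IsInducedBlock M H b B) (hind' : IsInducedBlock M H b' B) : b = b' := by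
  subst hH
  exact induced_normalizer_unique hM hDp hb hind hind'

/-- A block with defect group generated by an involution. -/
theorem defect_order_two (hM : IsPModular 2 M) {x : G} (hx : orderOf x = 2)
    [Fintype (Subgroup.centralizer ({x} : Set G))]
    {B : Set (IrrCharacter G)} (hB : IsPBlock M B)
    (hBD : IsDefectGroup 2 M B (Subgroup.zpowers x))
    {b : Set (IrrCharacter (Subgroup.centralizer ({x} : Set G)))}
    (hb : IsInducedBlock M (Subgroup.centralizer ({x} : Set G)) b B)
    {θ : IrrCharacter (Subgroup.centralizer ({x} : Set G))} (hθ : θ ∈ b) :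
    Nat.card B = 2 ∧ (∀ χ ∈ B, ∀ ψ ∈ B, ∀ g : G, ¬ 2 ∣ orderOf g →
      (χ : G → ℂ) g = (ψ : G → ℂ) g) ∧
      ∃ χ₁ ∈ B, ∃ χ₂ ∈ B, χ₁ ≠ χ₂ ∧ ∃ ε₁ ε₂ : ℤ, (ε₁ = 1 ∨ ε₁ = -1) ∧ (ε₂ = 1 ∨ ε₂ = -1) ∧
        ε₁ * ε₂ = -1 ∧ ∀ y : Subgroup.centralizer ({x} : Set G), ¬ 2 ∣ orderOf y →
          (χ₁ : G → ℂ) (x * y) = (ε₁ : ℂ) * (θ : Subgroup.centralizer ({x} : Set G) → ℂ) y ∧
          (χ₂ : G → ℂ) (x * y) = (ε₂ : ℂ) * (θ : Subgroup.centralizer ({x} : Set G) → ℂ) y := by
  classical
  haveI : Fact (Nat.Prime 2) := ⟨Nat.prime_two⟩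
  have hy : ∃ k : ℕ, x ^ 2 ^ k = 1 := ⟨1, by rw [pow_one, ← hx, pow_orderOf_eq_one]⟩
  have hxC : x ∈ Subgroup.centralizer ({x} : Set G) := Subgroup.mem_centralizer_singleton_iff.mpr rfl
  have hNC := normalizer_zpowers_of_involution hx
  have hDC : Subgroup.zpowers x ≤ Subgroup.centralizer ({x} : Set G) := Subgroup.zpowers_le.mpr hxC
  have hDp : IsPGroup 2 (Subgroup.zpowers x) := isPGroup_zpowers hy
  have hcard2 : Nat.card (Subgroup.zpowers x) = 2 := by rw [Nat.card_zpowers, hx]
  have hd : blockDefect 2 B = 1 := by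
    have := card_defectGroup hM hB hBD
    rw [hcard2] at this
    exact Nat.pow_right_injective le_rfl (by simpa using this.symm)
  have hdefect : ∀ b' : Set (IrrCharacter (Subgroup.centralizer ({x} : Set G))), IsInducedBlock M (Subgroup.centralizer ({x} : Set G)) b' B →
      IsDefectGroup 2 M b' ((Subgroup.zpowers x).subgroupOf (Subgroup.centralizer ({x} : Set G))) := fun b' hb' =>
    defect_of_induced hM hDC (centralizer_zpowers_eq x).le hNC.ge hb' hBD
  have hbD := hdefect b hb
  have huniq : ∀ b' : Set (IrrCharacter (Subgroup.centralizer ({x} : Set G))), IsInducedBlock M (Subgroup.centralizer ({x} : Set G)) b' B → b' = b := fun b' hb' =>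
    (induced_unique_of_eq hM hNC.symm hDp hbD hb hb').symm
  have hZ : (Subgroup.zpowers x).subgroupOf (Subgroup.centralizer ({x} : Set G)) ≤ Subgroup.center (Subgroup.centralizer ({x} : Set G)) := fun u hu =>
    Subgroup.mem_center_iff.mpr fun w => Subtype.ext (by
      obtain ⟨j, hj⟩ := Subgroup.mem_zpowers_iff.mp (Subgroup.mem_subgroupOf.mp hu)
      have hw : Commute (w : G) x := Subgroup.mem_centralizer_singleton_iff.mp w.2
      simp only [Subgroup.coe_mul, ← hj]
      exact (hw.zpow_right j).eq)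
  obtain ⟨hkb, hagree, hpair⟩ := central_block hM hb.1 hbD hZ
  have hdb : blockDefect 2 b = 1 := by
    have := card_defectGroup hM hb.1 hbD
    rw [card_subgroupOf hDC, hcard2] at this
    exact Nat.pow_right_injective le_rfl (by simpa using this.symm)
  rw [hdb, pow_one] at hkb hpair
  have hr : ∀ η ∈ b, ∀ η' ∈ b, bfPair 2 η η' = 1 / 2 := fun η h η' h' => by
    have := hpair η h η' h'
    push_cast at this
    linear_combination this / 2
  set S : IrrCharacter G → ℂ := fun χ => ∑ η : IrrCharacter (Subgroup.centralizer ({x} : Set G)), secC b χ η with hS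
  have hgB : ∀ χ η, gB 2 b χ η = if η ∈ b then S χ / 2 else 0 := fun χ η => by
    rw [gB, hS]
    split_ifs with hη
    · simp only [Finset.sum_div]
      refine Finset.sum_congr rfl fun η' _ => ?_
      by_cases h' : η' ∈ b
      · rw [hr η' h' η hη]; ring
      · rw [secC, if_neg h']; ring
    · refine Finset.sum_eq_zero fun η' _ => ?_
      by_cases h' : η' ∈ b
      · rw [bfPair_zero_of_mem hM hb.1 h' hη, mul_zero]
      · rw [secC, if_neg h', zero_mul]
  have hSint : ∀ χ, ∃ z : ℤ, S χ = (z : ℂ) := fun χ => by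
    have : ∀ η : IrrCharacter (Subgroup.centralizer ({x} : Set G)), ∃ z : ℤ, secC b χ η = (z : ℂ) := fun η => by
      rw [secC]
      split_ifs
      · have h2 := (omC_spec (y := x) η).2 2 (Subtype.ext (by
          rw [Subgroup.coe_pow, Subgroup.coe_one]
          show x ^ 2 = 1
          rw [← hx, pow_orderOf_eq_one]))
        rcases sq_eq_one_iff.mp h2 with h | h
        · exact ⟨CT.mult (fun h : Subgroup.centralizer ({x} : Set G) => (χ : G → ℂ) h) (η : Subgroup.centralizer ({x} : Set G) → ℂ), by rw [h]; simp⟩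
        · exact ⟨-(CT.mult (fun h : Subgroup.centralizer ({x} : Set G) => (χ : G → ℂ) h) (η : Subgroup.centralizer ({x} : Set G) → ℂ) : ℤ), by rw [h]; simp⟩
      · exact ⟨0, by simp⟩
    choose z hz using this
    exact ⟨∑ η, z η, by rw [Int.cast_sum, hS]; exact Finset.sum_congr rfl fun η _ => hz η⟩
  choose s hs using hSint
  have hkbF : (Finset.univ.filter fun η : IrrCharacter (Subgroup.centralizer ({x} : Set G)) => η ∈ b).card = 2 := by
    rw [← Fintype.card_subtype, Fintype.card_eq_nat_card]; exact hkb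
  -- values on the section of `x`
  have hval : ∀ χ ∈ B, ∀ c : Subgroup.centralizer ({x} : Set G), ¬ 2 ∣ orderOf c →
      (χ : G → ℂ) (x * (c : G)) = (s χ : ℂ) * (θ : Subgroup.centralizer ({x} : Set G) → ℂ) c := by
    intro χ hχ c hc
    have e := congrFun (classFunction_eq_sum (secFun_class (p := 2) (y := x) χ)) c
    simp only [secFun, if_neg hc, Finset.sum_apply, Pi.smul_apply, smul_eq_mul] at e
    rw [e]
    have hco : ∀ η : IrrCharacter (Subgroup.centralizer ({x} : Set G)),
        classInner (secFun 2 χ x) (η : Subgroup.centralizer ({x} : Set G) → ℂ) = if η ∈ b then S χ / 2 else 0 := by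
      intro η
      by_cases hη : η ∈ b
      · rw [if_pos hη, ← (hgB χ η).trans (if_pos hη), gB_eq hM hb.1, if_pos hη]
        rfl
      · rw [if_neg hη]
        obtain ⟨B', hB'⟩ := exists_inducedBlock hM (isPGroup_zpowers hy)
          hDC (centralizer_zpowers_eq x).le hNC.ge (isPBlock_blockOf (M := M) η)
        have hne : χ ∉ B' := fun h => hη (by
          have := huniq _ (block_eq_of_mem hB'.2.1 hB h hχ ▸ hB')
          rw [← this]; exact self_mem_blockOf η)
        have h := gB_eq_zero hM hy hB' hne η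
        rwa [gB_eq hM (isPBlock_blockOf η), if_pos (self_mem_blockOf η)] at h
    rw [Finset.sum_congr rfl (g := fun η : IrrCharacter (Subgroup.centralizer ({x} : Set G)) =>
        if η ∈ b then S χ / 2 * (θ : Subgroup.centralizer ({x} : Set G) → ℂ) c else 0) fun η _ => by
      rw [hco η]
      split_ifs with hη
      · rw [hagree η hη θ hθ c hc]
      · rw [zero_mul], ← Finset.sum_filter, Finset.sum_const, hkbF, nsmul_eq_mul, hs]
    push_cast; ring
  have hnorm : ∑ χ ∈ Finset.univ.filter (fun χ : IrrCharacter G => χ ∈ B), s χ * s χ = 2 := by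
    have hrk : (blockRank 2 b : ℂ) = 1 := by
      rw [← sum_bfPair_self hM hb.1, Finset.sum_congr rfl (g := fun η : IrrCharacter (Subgroup.centralizer ({x} : Set G)) =>
        if η ∈ b then (1 / 2 : ℂ) else 0) (fun η _ => by
          split_ifs with h
          · exact hr η h η h
          · rfl), ← Finset.sum_filter, Finset.sum_const, hkbF]
      norm_num
    have h := blockRank_eq_sum_gB hM hy hb
    rw [hrk, finsum_mem_irr, ← Finset.sum_filter, Finset.sum_congr rfl
      (g := fun χ : IrrCharacter G => ((s χ * s χ : ℤ) : ℂ) / 2) (fun χ _ => by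
        rw [Finset.sum_congr rfl (g := fun η : IrrCharacter (Subgroup.centralizer ({x} : Set G)) =>
          if η ∈ b then ((s χ : ℂ) / 2) * ((s χ : ℂ) / 2) else 0) (fun η _ => by
            rw [hgB, hs]
            split_ifs
            · rw [map_div₀, map_intCast, map_ofNat]
            · simp), ← Finset.sum_filter, Finset.sum_const, hkbF, nsmul_eq_mul]
        push_cast; ring), ← Finset.sum_div, ← Int.cast_sum] at h
    have h2 : ((∑ χ ∈ Finset.univ.filter (fun χ : IrrCharacter G => χ ∈ B), s χ * s χ : ℤ) : ℂ) =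
        2 := by linear_combination -2 * h
    exact_mod_cast h2
  obtain ⟨χ₀, hχ₀, h0⟩ := exists_height_zero (p := 2) hB
  -- every character of the block is nonzero on the section
  have hs0 : ∀ χ ∈ B, s χ ≠ 0 := by
    intro χ hχ hz
    have hvan : ∀ g : G, 2 ∣ orderOf g → (χ : G → ℂ) g = 0 := by
      intro g hg
      obtain ⟨t, ht, -⟩ := exists_isPPart (p := 2) g
      by_cases hc : IsConj x t
      · obtain ⟨c, rfl⟩ := isConj_iff.mp hc
        obtain ⟨y, hy1, hy2, -, hy4⟩ := ht
        have hyC : c⁻¹ * y * c ∈ Subgroup.centralizer ({x} : Set G) := Subgroup.mem_centralizer_singleton_iff.mpr (by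
          have hh := congrArg (fun u => c⁻¹ * u * c) hy2.eq
          simp only [mul_assoc, inv_mul_cancel_left, inv_mul_cancel, mul_one] at hh ⊢
          exact hh.symm)
        have h := hval χ hχ ⟨_, hyC⟩ (by
          rw [← Subgroup.orderOf_coe]
          have : orderOf (c⁻¹ * y * c) = orderOf y := by
            simpa using (MulAut.conj c⁻¹).orderOf_eq y
          simpa [this] using hy4)
        rw [hz, Int.cast_zero, zero_mul] at h
        rw [← isClassFn_irr χ (x * (c⁻¹ * y * c)) c, ] at h
        rw [← hy1]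
        simpa [mul_assoc] using h
      · refine apply_eq_zero_of_ppart_notConj hM hB hBD hχ ht fun d hd hdt => ?_
        obtain ⟨j, rfl⟩ := Subgroup.mem_zpowers_iff.mp hd
        rw [← zpow_mod_orderOf, hx] at hdt
        rcases Int.emod_two_eq_zero_or_one j with h | h
        · rw [show ((2 : ℕ) : ℤ) = 2 from rfl, h, zpow_zero, isConj_one_right] at hdt
          exact (isPPart_one_iff.mp (hdt ▸ ht)) hg
        · rw [show ((2 : ℕ) : ℤ) = 2 from rfl, h, zpow_one] at hdt
          exact hc hdt
    have hreg : regFun 2 χ = (χ : G → ℂ) := funext fun g => by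
      simp only [regFun]
      split_ifs with h
      · exact (hvan g h).symm
      · rfl
    have hr1 : ∀ ψ, bfPair 2 χ ψ = if χ = ψ then 1 else 0 := fun ψ => by
      rw [bfPair, hreg, irr_inner_subtype]
    have hne := bfPair_ne_zero hM hB hχ₀ hχ h0
    rw [bfPair_symm, hr1] at hne
    have he : χ = χ₀ := by by_contra h; exact hne (if_neg h)
    subst he
    have hsub : ∀ ψ ∈ B, ψ = χ := fun ψ hψ => by
      have := bfPair_ne_zero hM hB hχ₀ hψ h0
      rw [hr1] at this
      by_contra h; exact this (if_neg (Ne.symm h))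
    rw [Finset.sum_eq_zero fun ψ hψ => by rw [hsub ψ (Finset.mem_filter.mp hψ).2, hz]; simp] at hnorm
    norm_num at hnorm
  have hone : ∀ χ ∈ Finset.univ.filter (fun χ : IrrCharacter G => χ ∈ B), 1 ≤ s χ * s χ :=
    fun χ hχ => mul_self_pos.mpr (hs0 χ (Finset.mem_filter.mp hχ).2)
  have hcardB : (Finset.univ.filter fun χ : IrrCharacter G => χ ∈ B).card = 2 := by
    have h1 := Finset.card_nsmul_le_sum _ _ _ hone
    rw [hnorm, nsmul_eq_mul, mul_one] at h1
    have hle : (Finset.univ.filter fun χ : IrrCharacter G => χ ∈ B).card ≤ 2 := by exact_mod_cast h1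
    clear h1
    interval_cases hn : (Finset.univ.filter fun χ : IrrCharacter G => χ ∈ B).card
    · rw [Finset.card_eq_zero] at hn
      rw [hn, Finset.sum_empty] at hnorm
      norm_num at hnorm
    · obtain ⟨a, ha⟩ := Finset.card_eq_one.mp hn
      rw [ha, Finset.sum_singleton] at hnorm
      have : s a ^ 2 = 2 := by rw [sq]; exact hnorm
      rcases lt_trichotomy (|s a|) 1 with h | h | h
      · rw [Int.abs_lt_one_iff] at h; rw [h] at this; norm_num at this
      · rw [← sq_abs, h] at this; norm_num at this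
      · nlinarith [sq_abs (s a)]
    · rfl
  obtain ⟨χ₁, χ₂, hne, hBe⟩ := Finset.card_eq_two.mp hcardB
  have hmem : ∀ χ, χ ∈ B ↔ χ = χ₁ ∨ χ = χ₂ := fun χ => by
    have := Finset.ext_iff.mp hBe χ
    simpa using this
  have h1B : χ₁ ∈ B := (hmem _).mpr (Or.inl rfl)
  have h2B : χ₂ ∈ B := (hmem _).mpr (Or.inr rfl)
  rw [hBe, Finset.sum_pair hne] at hnorm
  have hp1 := mul_self_pos.mpr (hs0 χ₁ h1B)
  have hp2 := mul_self_pos.mpr (hs0 χ₂ h2B)
  have hu1 : s χ₁ = 1 ∨ s χ₁ = -1 := mul_self_eq_one_iff.mp (by omega)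
  have hu2 : s χ₂ = 1 ∨ s χ₂ = -1 := mul_self_eq_one_iff.mp (by omega)
  -- orthogonality of the section with the regular elements
  have horth : ∀ g : G, ¬ 2 ∣ orderOf g →
      (s χ₁ : ℂ) * (χ₁ : G → ℂ) g + (s χ₂ : ℂ) * (χ₂ : G → ℂ) g = 0 := by
    intro g hg
    have h := weak_orthogonality hM (blockCoeff_mem_loc hB) hg (h := x) (by rw [hx])
    rw [finsum_mem_irr, ← Finset.sum_filter, hBe, Finset.sum_pair hne] at h
    have e : ∀ χ ∈ B, conj ((χ : G → ℂ) x) = (s χ : ℂ) * (θ : Subgroup.centralizer ({x} : Set G) → ℂ) 1 := fun χ hχ => by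
      have h' := hval χ hχ 1 (by rw [orderOf_one]; norm_num)
      rw [Subgroup.coe_one, mul_one] at h'
      rw [h', map_mul, map_intCast, charDegree_cast θ, map_natCast]
    rw [e χ₁ h1B, e χ₂ h2B] at h
    apply mul_right_cancel₀ (irr_one_ne_zero θ.2)
    rw [zero_mul]
    linear_combination h
  have hprod : s χ₁ * s χ₂ = -1 := by
    have h := horth 1 (by rw [orderOf_one]; norm_num)
    rw [charDegree_cast, charDegree_cast] at h
    have h' : s χ₁ * (charDegree (χ₁ : G → ℂ) : ℤ) + s χ₂ * (charDegree (χ₂ : G → ℂ) : ℤ) = 0 := by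
      exact_mod_cast h
    have := charDegree_pos χ₁
    have := charDegree_pos χ₂
    rcases hu1 with a | a <;> rcases hu2 with c | c <;> rw [a, c] at h' ⊢ <;> omega
  have hagree12 : ∀ g : G, ¬ 2 ∣ orderOf g → (χ₁ : G → ℂ) g = (χ₂ : G → ℂ) g := fun g hg => by
    have h := horth g hg
    rcases hu1 with a | a <;> rcases hu2 with c | c <;> rw [a, c] at h hprod <;>
      first
      | (norm_num at hprod; done)
      | (push_cast at h; linear_combination h)
      | (push_cast at h; linear_combination -h)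
  refine ⟨?_, ?_, χ₁, h1B, χ₂, h2B, hne, s χ₁, s χ₂, hu1, hu2, hprod,
    fun y hy => ⟨hval χ₁ h1B y hy, hval χ₂ h2B y hy⟩⟩
  · rw [Nat.card_eq_fintype_card, ← hcardB, ← Fintype.card_subtype]
  · intro χ hχ ψ hψ g hg
    rcases (hmem χ).mp hχ with rfl | rfl <;> rcases (hmem ψ).mp hψ with rfl | rfl
    · rfl
    · exact hagree12 g hg
    · exact (hagree12 g hg).symm
    · rfl

end Cfsg.Agent.Blocks
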