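import Cfsg.Agent.Lib.Blocks.InflationRank
import Cfsg.Agent.Lib.Blocks.DefectOrderTwo
import Cfsg.Agent.Lib.Blocks.BlockCount

/-!
# Elementary facts about ranks of blocks

Ranks of blocks of defect at most one for `p = 2`, defects of blocks of centralizers, and the
block of the whole group seen as a subgroup.
-/

set_option linter.unusedSectionVars false

namespace Cfsg.Agent.Blocks

open CT

universe u

variable {G : Type u} [Group G] [Fintype G] {p : ℕ} {M : Ideal AlgInt} [M.IsPrime]

/-- A nonempty set of characters agreeing on regular elements has rank one. -/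
theorem blockRank_eq_one_of_agree {B : Set (IrrCharacter G)} {θ : IrrCharacter G} (hθ : θ ∈ B)
    (hp : p ≠ 1) (h : ∀ χ ∈ B, ∀ g : G, ¬ p ∣ orderOf g → (χ : G → ℂ) g = (θ : G → ℂ) g) :
    blockRank p B = 1 := by
  have himg : (fun χ : IrrCharacter G => pRegularPart p (χ : G → ℂ)) '' B =
      {pRegularPart p (θ : G → ℂ)} := by
    refine Set.eq_singleton_iff_unique_mem.mpr ⟨⟨θ, hθ, rfl⟩, ?_⟩
    rintro _ ⟨χ, hχ, rfl⟩
    dsimp only
    rw [pRegularPart_eq_regFun, pRegularPart_eq_regFun]
    funext g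
    simp only [regFun]
    split_ifs with hg
    · rfl
    · exact h χ hχ g hg
  rw [blockRank, himg]
  refine finrank_span_singleton fun hz => CT.irr_one_ne_zero θ.2 ?_
  have := congrFun hz (1 : G)
  rw [pRegularPart_eq_regFun] at this
  simpa [regFun, hp] using this

/-- A `2`-block of defect at most one has rank one. -/
theorem blockRank_of_defect_le_one {M : Ideal AlgInt} [M.IsPrime] (hM : IsPModular 2 M)
    {B : Set (IrrCharacter G)} (hB : IsPBlock M B) (hd : blockDefect 2 B ≤ 1) :
    blockRank 2 B = 1 := by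
  classical
  haveI : Fact (Nat.Prime 2) := ⟨Nat.prime_two⟩
  obtain ⟨θ, hθ⟩ := block_nonempty hB
  obtain ⟨D, hD⟩ := exists_defectGroup (p := 2) hB
  have hcard := card_defectGroup hM hB hD
  refine blockRank_eq_one_of_agree hθ (by norm_num) fun χ hχ g hg => ?_
  rcases Nat.le_one_iff_eq_zero_or_eq_one.mp hd with h | h
  · rw [h, pow_zero] at hcard
    have hbot : D = ⊥ := Subgroup.card_eq_one.mp hcard
    exact (central_block hM hB hD (hbot ▸ bot_le)).2.1 χ hχ θ hθ g hg
  · rw [h, pow_one] at hcard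
    obtain ⟨x, hxD, hx1⟩ := D.ne_bot_iff_exists_ne_one.mp (fun hb => by
      rw [hb, Subgroup.card_bot] at hcard; omega) |> fun ⟨a, ha⟩ => (⟨(a : G), a.2, by
        simpa using ha⟩ : ∃ x : G, x ∈ D ∧ x ≠ 1)
    have hle : Subgroup.zpowers x ≤ D := Subgroup.zpowers_le.mpr hxD
    have hx : orderOf x = 2 := by
      have h2 : orderOf x ∣ 2 := by
        rw [← hcard, ← Nat.card_zpowers]; exact Subgroup.card_dvd_of_le hle
      rcases (Nat.dvd_prime Nat.prime_two).mp h2 with h' | h'
      · exact absurd (orderOf_eq_one_iff.mp h') hx1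
      · exact h'
    have hDx : D = Subgroup.zpowers x :=
      (Subgroup.eq_of_le_of_card_ge hle (by rw [hcard, Nat.card_zpowers, hx])).symm
    obtain ⟨b, hb, -, hind⟩ := exists_normalizer_block hM hB hD
    subst hDx
    have key : ∀ H : Subgroup G, H = Subgroup.normalizer ((Subgroup.zpowers x : Subgroup G) : Set G) →
        ∃ b : Set (IrrCharacter H), IsInducedBlock M H b B := fun H hH => by
      subst hH; exact ⟨b, hind⟩
    obtain ⟨b', hb'⟩ := key _ (normalizer_zpowers_of_involution hx).symm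
    obtain ⟨θ', hθ'⟩ := block_nonempty hb'.1
    haveI := Fintype.ofFinite (Subgroup.centralizer ({x} : Set G))
    exact (defect_order_two hM hx hB hD hb' hθ').2.1 χ hχ θ hθ g hg

/-- The defect of a block of a `p`-local subgroup is at most the defect of the induced block. -/
theorem blockDefect_le_of_induced (hM : IsPModular p M) {Q H : Subgroup G}
    (hQ : IsPGroup p Q) (hQH : Q ≤ H) (hCH : Subgroup.centralizer (Q : Set G) ≤ H)
    (hHN : H ≤ Subgroup.normalizer (Q : Set G)) {b : Set (IrrCharacter H)}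
    {B : Set (IrrCharacter G)} (hind : IsInducedBlock M H b B) :
    blockDefect p b ≤ blockDefect p B := by
  haveI : Fact p.Prime := ⟨hM.1⟩
  obtain ⟨ξ, hξ⟩ := block_nonempty hind.1
  obtain ⟨u, -, huB, huξ⟩ := exists_support_of_induced hM hQ hQH hCH hHN hind hξ
  obtain ⟨E, hE⟩ := exists_defectGroup (p := p) hind.1
  obtain ⟨D, hD⟩ := exists_defectGroup (p := p) hind.2.1
  obtain ⟨-, -, -, hEp, -⟩ := defectGroup_spec hE
  obtain ⟨x, hx⟩ := defect_conj_le_centralizer hM hind.1 hE hξ huξ
  set E' : Subgroup G := (E.map (MulAut.conj x).toMonoidHom).map H.subtype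
  have hE'u : E' ≤ Subgroup.centralizer ({(u : G)} : Set G) := by
    rintro _ ⟨w, hw, rfl⟩
    exact Subgroup.mem_centralizer_singleton_iff.mpr
      (congrArg Subtype.val (Subgroup.mem_centralizer_singleton_iff.mp (hx hw)))
  obtain ⟨y, hy⟩ := conj_le_defect hM hind.2.1 hD ((isPGroup_map_conj hEp x).map _) huB hE'u
  have h1 := Subgroup.card_le_of_le hy
  rw [card_map_conj, Subgroup.card_map_of_injective H.subtype_injective, card_map_conj,
    card_defectGroup hM hind.1 hE, card_defectGroup hM hind.2.1 hD] at h1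
  exact (Nat.pow_le_pow_iff_right hM.1.one_lt).mp h1

/-- Inflation from a nontrivial `p`-group quotient lowers the defect. -/
theorem blockDefect_inflation_lt (hp : p.Prime) {N : Subgroup G} [N.Normal]
    (hN : p ∣ Nat.card N) {b : Set (IrrCharacter G)} {b' : Set (IrrCharacter (G ⧸ N))}
    (hb' : b'.Nonempty) (hsub : ∀ χ ∈ b', inflIrr χ ∈ b) :
    blockDefect p b' + 1 ≤ blockDefect p b := by
  classical
  haveI : Fact p.Prime := ⟨hp⟩
  haveI := Fintype.ofFinite (G ⧸ N)
  obtain ⟨χ, hχ⟩ := hb'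
  obtain ⟨χ₀, hχ₀, hmin⟩ : ∃ χ₀ ∈ b', (charDegree (χ₀ : G ⧸ N → ℂ)).factorization p =
      sInf ((fun χ : IrrCharacter (G ⧸ N) => (charDegree (χ : G ⧸ N → ℂ)).factorization p) '' b') :=
    Nat.sInf_mem (Set.Nonempty.image _ ⟨χ, hχ⟩)
  have hdeg : charDegree (inflIrr χ₀ : G → ℂ) = charDegree (χ₀ : G ⧸ N → ℂ) := by
    simp [charDegree, inflIrr_apply]
  have hle : sInf ((fun η : IrrCharacter G => (charDegree (η : G → ℂ)).factorization p) '' b) ≤
      (charDegree (χ₀ : G ⧸ N → ℂ)).factorization p :=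
    hdeg ▸ Nat.sInf_le ⟨_, hsub _ hχ₀, rfl⟩
  have hfac := factorization_deg_le (p := p) χ₀
  have hcard : (Nat.card G).factorization p =
      (Nat.card (G ⧸ N)).factorization p + (Nat.card N).factorization p := by
    rw [Subgroup.card_eq_card_quotient_mul_card_subgroup N,
      Nat.factorization_mul Nat.card_pos.ne' Nat.card_pos.ne']
    rfl
  have hN1 : 1 ≤ (Nat.card N).factorization p := hp.factorization_pos_of_dvd Nat.card_pos.ne' hN
  rw [blockDefect, blockDefect, ← hmin]
  omega

/-- A block over a central subgroup of order two with defect at most two has rank one. -/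
theorem blockRank_of_central_two {M : Ideal AlgInt} [M.IsPrime] (hM : IsPModular 2 M)
    (N : Subgroup G) [N.Normal] (hN : Nat.card N = 2) (hcen : N ≤ Subgroup.center G)
    {b : Set (IrrCharacter G)} (hb : IsPBlock M b) (hd : blockDefect 2 b ≤ 2) :
    blockRank 2 b = 1 := by
  classical
  haveI : Fact (Nat.Prime 2) := ⟨Nat.prime_two⟩
  have hPN : IsPGroup 2 N := IsPGroup.of_card (n := 1) (by rw [hN, pow_one])
  have hidx : ∃ k : ℕ, (Subgroup.centralizer (N : Set G)).index = 2 ^ k := by
    refine ⟨0, ?_⟩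
    rw [pow_zero, Subgroup.index_eq_one, Subgroup.centralizer_eq_top_iff_subset]
    exact hcen
  haveI := Fintype.ofFinite (G ⧸ N)
  obtain ⟨χ, hχ⟩ := exists_trivial_on_pGroup hM hPN hb
  have hb' : IsPBlock M (blockOf M (χ : G ⧸ N → ℂ)) := isPBlock_blockOf χ
  have hsub : ∀ ψ ∈ blockOf M (χ : G ⧸ N → ℂ), inflIrr ψ ∈ b := fun ψ hψ =>
    (mem_block_iff hb hχ).mpr (sameBlock_inflIrr hψ)
  rw [blockRank_inflation hM hPN hidx hb hb' hsub]
  refine blockRank_of_defect_le_one hM hb' ?_
  have := blockDefect_inflation_lt (p := 2) Nat.prime_two (by rw [hN]) ⟨χ, self_mem_blockOf χ⟩ hsub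
  omega

/-- The block of `C(Q)`, `Q` of order two, inducing a block of defect at most two has rank one. -/
theorem blockRank_of_involution {M : Ideal AlgInt} [M.IsPrime] (hM : IsPModular 2 M) {x : G}
    (hx : orderOf x = 2) (H : Subgroup G)
    (hH : Subgroup.centralizer ((Subgroup.zpowers x : Subgroup G) : Set G) = H)
    {b : Set (IrrCharacter H)} {B : Set (IrrCharacter G)} (hind : IsInducedBlock M H b B)
    (hd : blockDefect 2 B ≤ 2) : blockRank 2 b = 1 := by
  subst hH
  classical
  haveI : Fact (Nat.Prime 2) := ⟨Nat.prime_two⟩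
  have hQC : Subgroup.zpowers x ≤ Subgroup.centralizer ((Subgroup.zpowers x : Subgroup G) : Set G) :=
    Subgroup.le_centralizer _
  have hle := blockDefect_le_of_induced hM
    (isPGroup_zpowers ⟨1, by rw [pow_one, ← hx, pow_orderOf_eq_one]⟩) hQC le_rfl
    (Subgroup.centralizer_le_normalizer _) hind
  haveI := Fintype.ofFinite (Subgroup.centralizer ((Subgroup.zpowers x : Subgroup G) : Set G))
  have hcen : (Subgroup.zpowers x).subgroupOf
      (Subgroup.centralizer ((Subgroup.zpowers x : Subgroup G) : Set G)) ≤ Subgroup.center _ :=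
    fun u hu => Subgroup.mem_center_iff.mpr fun w => Subtype.ext
      (Subgroup.mem_centralizer_iff.mp w.2 _ (Subgroup.mem_subgroupOf.mp hu)).symm
  haveI : ((Subgroup.zpowers x).subgroupOf
      (Subgroup.centralizer ((Subgroup.zpowers x : Subgroup G) : Set G))).Normal := ⟨fun u hu w => by
    rw [Subgroup.mem_center_iff.mp (hcen hu) w, mul_inv_cancel_right]; exact hu⟩
  exact blockRank_of_central_two hM _ (by rw [card_subgroupOf hQC, Nat.card_zpowers, hx]) hcen
    hind.1 (hle.trans hd)

open BPairs in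
/-- Blocks of the whole group, seen as a subgroup. -/
theorem finsum_rank_top {B : Set (IrrCharacter G)} (hB : IsPBlock M B) (H : Subgroup G)
    (hH : H = ⊤) :
    ∑ᶠ b ∈ {b : Set (IrrCharacter H) | IsInducedBlock M H b B}, blockRank p b = blockRank p B := by
  classical
  subst hH
  set e : (⊤ : Subgroup G) ≃* G := Subgroup.topEquiv
  have hbij : ∀ (g : G), {h : (⊤ : Subgroup G) | IsConj g (h : G)} = e.symm '' {z : G | IsConj g z} := by
    intro g
    ext h
    exact ⟨fun hh => ⟨(h : G), hh, Subtype.ext rfl⟩, fun ⟨z, hz, hzh⟩ => hzh ▸ hz⟩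
  have hind : ∀ (ξ : IrrCharacter (⊤ : Subgroup G)) (g : G),
      inducedCentralChar ⊤ (ξ : (⊤ : Subgroup G) → ℂ) g =
        centralChar (Glauberman.compIrr e.symm ξ : G → ℂ) g := by
    intro ξ g
    rw [inducedCentralChar, hbij, finsum_mem_image (fun _ _ _ _ h => e.symm.injective h), centralChar]
    have hz : ∀ z ∈ {z : G | IsConj g z}, (ξ : (⊤ : Subgroup G) → ℂ) (e.symm z) / (ξ : (⊤ : Subgroup G) → ℂ) 1 =
        (Glauberman.compIrr e.symm ξ : G → ℂ) g / (ξ : (⊤ : Subgroup G) → ℂ) 1 := by
      intro z hz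
      obtain ⟨c, rfl⟩ := isConj_iff.mp hz
      congr 1
      simp only [Glauberman.compIrr_apply, map_mul, map_inv]
      exact isClassFn_irr ξ _ _
    rw [finsum_mem_congr rfl hz, finsum_mem_eq_finite_toFinset_sum _ (Set.toFinite _),
      Finset.sum_const, nsmul_eq_mul, ← Set.ncard_eq_toFinset_card _ (Set.toFinite _),
      ← Nat.card_coe_set_eq, ← CT.card_conj_class]
    simp only [Glauberman.compIrr_apply, map_one]
    rw [mul_div_assoc]
    rfl
  have hset : {b : Set (IrrCharacter (⊤ : Subgroup G)) | IsInducedBlock M ⊤ b B} = {pullSet e B} := by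
    refine Set.eq_singleton_iff_unique_mem.mpr ⟨⟨isPBlock_pullSet e hB, hB, ?_⟩, ?_⟩
    · intro ξ hξ χ hχ g
      rw [hind]
      exact (mem_block_iff hB (show Glauberman.compIrr e.symm ξ ∈ B from hξ)).mp hχ g
    · rintro b ⟨hb, -, hbB⟩
      obtain ⟨ξ, hξ⟩ := block_nonempty hb
      obtain ⟨χ, hχ⟩ := block_nonempty hB
      refine block_eq_of_mem hb (isPBlock_pullSet e hB) hξ ?_
      show Glauberman.compIrr e.symm ξ ∈ B
      refine (mem_block_iff hB hχ).mpr fun g => ?_
      rw [← hind]
      simpa [neg_sub] using memLocalIdeal_neg (hbB ξ hξ χ hχ g)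
  rw [hset, finsum_mem_singleton]
  have himg : (fun ξ : IrrCharacter (⊤ : Subgroup G) => pRegularPart p (ξ : (⊤ : Subgroup G) → ℂ)) ''
      pullSet e B = LinearMap.funLeft ℂ ℂ e ''
        ((fun χ : IrrCharacter G => pRegularPart p (χ : G → ℂ)) '' B) := by
    rw [Set.image_image]
    have hval : ∀ χ : IrrCharacter G,
        LinearMap.funLeft ℂ ℂ e (pRegularPart p (χ : G → ℂ)) =
          pRegularPart p (Glauberman.compIrr e χ : (⊤ : Subgroup G) → ℂ) := by
      intro χ
      funext h
      simp only [LinearMap.funLeft_apply, pRegularPart, IsPRegular, MulEquiv.orderOf_eq e h,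
        Glauberman.compIrr_apply]
      congr
    ext f
    constructor
    · rintro ⟨ξ, hξ, rfl⟩
      refine ⟨Glauberman.compIrr e.symm ξ, hξ, ?_⟩
      dsimp only
      rw [hval]
      congr 1
    · rintro ⟨χ, hχ, rfl⟩
      exact ⟨Glauberman.compIrr e χ, (compIrr_mem_pullSet e).mpr hχ, (hval χ).symm⟩
  rw [blockRank, blockRank, himg, Submodule.span_image]
  exact (Submodule.equivMapOfInjective _
    (LinearMap.funLeft_injective_of_surjective ℂ ℂ e e.surjective) _).finrank_eq.symm

end Cfsg.Agent.Blocks
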