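import Cfsg.Agent.Lib.Blocks.NilMain
import Cfsg.Agent.Lib.Blocks.BrauerBlock
import Cfsg.Agent.Lib.Blocks.BlockDims
import Cfsg.Agent.Lib.Blocks.RankBasics
import Cfsg.Agent.Lib.CT.Kernel

/-!
# Nilpotent blocks with cyclic defect groups

Such a block has as many characters as the defect group has elements, all agreeing on the regular
elements, and its reduced algebra is a matrix algebra over a truncated polynomial ring.
-/

set_option linter.unusedSectionVars false

namespace Cfsg.Agent.Blocks.CycNil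

open MonoidAlgebra BPairs
open scoped ComplexConjugate

universe u

variable {H : Type u} [Group H] [Fintype H] {p : ℕ} [hp : Fact p.Prime] {M : Ideal AlgInt}
  [M.IsPrime] {b : Set (IrrCharacter H)} {P : Subgroup H}
  {c : Set (IrrCharacter (Subgroup.centralizer (P : Set H)))}

theorem comm_of_cyclic (hcyc : IsCyclic P) (a d : P) : a * d = d * a := by
  haveI := hcyc
  letI : CommGroup P := IsCyclic.commGroup
  exact mul_comm a d

theorem card_hom (hcyc : IsCyclic P) : Nat.card (P →* ℂˣ) = Nat.card P := by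
  letI : CommGroup P :=
    { (inferInstance : Group P) with mul_comm := comm_of_cyclic hcyc }
  exact CommGroup.card_monoidHom_of_hasEnoughRootsOfUnity P ℂ

theorem sum_hom (hcyc : IsCyclic P) [Fintype (P →* ℂˣ)] {w : P} (hw : w ≠ 1) :
    ∑ f : P →* ℂˣ, (f w : ℂ) = 0 := by
  letI : CommGroup P :=
    { (inferInstance : Group P) with mul_comm := comm_of_cyclic hcyc }
  obtain ⟨φ, hφ⟩ := CommGroup.exists_apply_ne_one_of_hasEnoughRootsOfUnity P ℂ hw
  have h : ((φ w : ℂˣ) : ℂ) * ∑ f : P →* ℂˣ, (f w : ℂ) = ∑ f : P →* ℂˣ, (f w : ℂ) := by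
    rw [Finset.mul_sum]
    exact Fintype.sum_equiv (Equiv.mulLeft φ) _ _ fun f => by simp
  by_contra hne
  exact hφ (Units.val_eq_one.mp ((mul_eq_right₀ hne).mp h))

/-- The weight of a linear character of the defect group. -/
noncomputable def lw (P : Subgroup H) (c : Set (IrrCharacter (Subgroup.centralizer (P : Set H))))
    (p : ℕ) (M : Ideal AlgInt) [M.IsPrime] (f : P →* ℂˣ) : H → MonoidAlgebra (Res M) H → ℂ :=
  weight (M := M) p P c (extendByZero P fun u => (f u : ℂ))

theorem stable_lw (hM : IsPModular p M) (hnil : IsNilpotentBlock p M b)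
    (hmax : IsMaximalBrauerPair p M b P c) (f : P →* ℂˣ) :
    Stable p M P c (extendByZero P fun u => (f u : ℂ)) :=
  stable_of_nilpotent hM hnil hmax fun g h => by
    simp only [map_mul, map_inv, mul_comm (f h) (f g), mul_inv_cancel_right]

theorem norm_one (f : P →* ℂˣ) (u : P) : (f u : ℂ) * conj ((f u : ℂ)) = 1 := by
  have hn : ‖(f u : ℂ)‖ = 1 := by
    refine Complex.norm_eq_one_of_pow_eq_one (n := orderOf u) ?_ (orderOf_pos u).ne'
    rw [← Units.val_pow_eq_pow_val, ← map_pow, pow_orderOf_eq_one, map_one, Units.val_one]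
  rw [Complex.mul_conj', hn]; simp

theorem exists_lam (hM : IsPModular p M) (hnil : IsNilpotentBlock p M b)
    (hmax : IsMaximalBrauerPair p M b P c) {χ₀ : IrrCharacter H} (hχ₀ : χ₀ ∈ b) (f : P →* ℂˣ) :
    ∃ η ∈ b, (η : H → ℂ) = psi p (lw P c p M f) χ₀ ∧
      ∀ g : H, ¬ p ∣ orderOf g → (η : H → ℂ) g = (χ₀ : H → ℂ) g := by
  haveI := Fintype.ofFinite P
  have hst := stable_lw hM hnil hmax f
  refine exists_star hM hnil.1 (isWeight_weight hM hmax hst ?_) (fun x hx a hi ha => ?_)
    (fun a hi ha => ?_) hχ₀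
  · rw [show (fun x : P => extendByZero P (fun u => (f u : ℂ)) (x : H)) = fun x => (f x : ℂ) from
      funext fun x => CT.extendByZero_coe P _ x]
    exact CT.isGen_of_isIrr (CT.isIrrCharacter_lin f)
  · obtain ⟨g, hg⟩ := exists_belAt_of_inB hM hmax hx ha hi
    rw [weight_eq hst hg, CT.extendByZero_mem P _ (belAt_mem hg)]
    exact norm_one f _
  · obtain ⟨g, hg⟩ := exists_belAt_of_inB hM hmax ⟨0, one_pow _⟩ ha hi
    rw [weight_eq hst hg, CT.extendByZero_mem P _ (belAt_mem hg),
      show (⟨g * 1 * g⁻¹, belAt_mem hg⟩ : P) = 1 from Subtype.ext (by simp), map_one, Units.val_one]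

/-- The characters of a nilpotent block with cyclic defect group. -/
theorem basic (hM : IsPModular p M) (hnil : IsNilpotentBlock p M b)
    (hmax : IsMaximalBrauerPair p M b P c) (hcyc : IsCyclic P) :
    ∃ χ₀ ∈ b, blockHeight p b (χ₀ : H → ℂ) = 0 ∧ Nat.card b = Nat.card P ∧
      (∀ η ∈ b, ∀ g : H, ¬ p ∣ orderOf g → (η : H → ℂ) g = (χ₀ : H → ℂ) g) ∧
      (∀ η ∈ b, blockHeight p b (η : H → ℂ) = 0) ∧
      (Nat.card P : ℂ) * bfPair p χ₀ χ₀ = 1 := by
  haveI := Fintype.ofFinite P
  have hlin : ∀ ζ : IrrCharacter P, charDegree (ζ : P → ℂ) = 1 := fun ζ => by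
    have h : (ζ : P → ℂ) 1 = 1 := CT.irr_degree_one_of_comm (comm_of_cyclic hcyc) ζ.2
    rw [charDegree_cast] at h
    exact_mod_cast h
  obtain ⟨χ₀, hχ₀, h0, Φ, hΦ, hh⟩ := exists_nilpotent_equiv hM hnil hmax
  have hag : ∀ η ∈ b, ∀ g : H, ¬ p ∣ orderOf g → (η : H → ℂ) g = (χ₀ : H → ℂ) g := by
    intro η hη g hg
    have := hΦ (Φ.symm ⟨η, hη⟩) g hg
    rw [Equiv.apply_symm_apply, charDegree_cast, hlin, Nat.cast_one, one_mul] at this
    exact this
  refine ⟨χ₀, hχ₀, h0, ?_, hag, fun η hη => ?_, ?_⟩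
  · rw [← Nat.card_congr Φ]
    have hbot : commutator P = ⊥ := by
      rw [commutator_def, Subgroup.commutator_eq_bot_iff_le_centralizer]
      exact fun a _ b _ => comm_of_cyclic hcyc b a
    rw [← Subgroup.index_bot (G := P), ← hbot, ← CT.card_linear_irr,
      Nat.card_congr (Equiv.subtypeUnivEquiv fun ζ => CT.irr_degree_one_of_comm
        (comm_of_cyclic hcyc) ζ.2)]
  · have := hh (Φ.symm ⟨η, hη⟩)
    rw [Equiv.apply_symm_apply, hlin, Nat.factorization_one] at this
    simpa using this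
  · obtain ⟨ξ₀, hξ₀, hnorm, -⟩ := nilData hM (Nat.card H) H rfl b hnil
    have hpd : Nat.card P = p ^ blockDefect p b :=
      card_defectGroup hM hnil.1 (isDefectGroup_of_maximal hM hmax)
    rw [hpd, Nat.cast_pow, ← hnorm]
    congr 1
    rw [bfPair_eq, bfPair_eq]
    congr 1
    refine Finset.sum_congr rfl fun g _ => ?_
    split_ifs with hg
    · rfl
    · rw [hag ξ₀ hξ₀ g hg]

section Elements

variable (hM : IsPModular p M) (hnil : IsNilpotentBlock p M b)
  (hmax : IsMaximalBrauerPair p M b P c) (hcyc : IsCyclic P) {χ₀ : IrrCharacter H} (hχ₀ : χ₀ ∈ b)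
  (h0 : blockHeight p b (χ₀ : H → ℂ) = 0) (hcard : Nat.card b = Nat.card P)

include hM hnil hmax hcyc hχ₀ h0 hcard in
/-- The star products enumerate the block. -/
theorem exists_param : ∃ Λ : (P →* ℂˣ) ≃ b, ∀ f,
    ((Λ f : IrrCharacter H) : H → ℂ) = psi p (lw P c p M f) χ₀ ∧
      ∀ g : H, ¬ p ∣ orderOf g → ((Λ f : IrrCharacter H) : H → ℂ) g = (χ₀ : H → ℂ) g := by
  choose Λ hΛb hΛ hΛr using exists_lam hM hnil hmax hχ₀
  have hinj : Function.Injective fun f => (⟨Λ f, hΛb f⟩ : b) := by
    intro f f' h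
    have he : Λ f = Λ f' := congrArg Subtype.val h
    refine MonoidHom.ext fun u => ?_
    obtain ⟨k, ⟨hk, hle⟩, -⟩ := existsUnique_below hM hmax.1.1 (Subgroup.zpowers_le.mpr u.2)
    have hbel : BelAt p M P c (u : H) (bel M (cz (u : H)) k) := ⟨k, hle, rfl⟩
    have hu : ∃ j : ℕ, (u : H) ^ p ^ j = 1 := exists_pow_eq_one_of_isPGroup hmax.1.1.1 u.2
    have hi := inB_of_belAt hM hmax hbel
    haveI := Fintype.ofFinite (cz (u : H))
    obtain ⟨y, hy, hne⟩ := exists_phi_ne_zero hM hu
      (isInducedBlock_of_brauerPair hM (isBrauerPairOf_of_inB hM hnil.1 hu hk hi)) hχ₀ h0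
    have hpp : pPart p ((u : H) * (y : H)) = (u : H) :=
      pPart_fiber hu y.2 (by rwa [Subgroup.orderOf_coe])
    have hmem : bel M (cz (u : H)) k ∈ blkIdem M (pPart p ((u : H) * (y : H))) := by
      rw [hpp]; exact mem_blkIdemS.mpr ⟨k, hk, rfl⟩
    have h1 := phi_of_eq_psi hM (hΛ f) hmem
    have h2 := phi_of_eq_psi hM (hΛ f') hmem
    rw [he, h2, hpp, lw, lw, weight_self (stable_lw hM hnil hmax f') hbel,
      weight_self (stable_lw hM hnil hmax f) hbel, CT.extendByZero_coe, CT.extendByZero_coe] at h1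
    exact Units.ext (mul_right_cancel₀ hne h1).symm
  have hfin : Finite (P →* ℂˣ) :=
    Nat.finite_of_card_ne_zero (card_hom hcyc ▸ Nat.card_pos.ne')
  refine ⟨Equiv.ofBijective _ ((Nat.bijective_iff_injective_and_card _).mpr
    ⟨hinj, by rw [card_hom hcyc, hcard]⟩), fun f => ⟨hΛ f, hΛr f⟩⟩

end Elements

set_option maxHeartbeats 1600000 in
/-- The reduced algebra of the block, as a matrix algebra. -/
theorem exists_algebra (hM : IsPModular p M) (hnil : IsNilpotentBlock p M b)
    (hmax : IsMaximalBrauerPair p M b P c) (hcyc : IsCyclic P) (hP : 2 ≤ Nat.card P) :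
    ∃ (x f : MonoidAlgebra (Res M) H) (m : ℕ) (u v : Fin m → MonoidAlgebra (Res M) H) (j₀ : Fin m),
      (∀ a, Commute x a) ∧ x * (bBar M b : MonoidAlgebra (Res M) H) = x ∧ x ^ Nat.card P = 0 ∧
      x ^ (Nat.card P - 1) * f ≠ 0 ∧ f * f = f ∧
      (bBar M b : MonoidAlgebra (Res M) H) * f = f ∧
      (∀ j l, u j * v l = if j = l then f else 0) ∧
      ∑ j, v j * u j = (bBar M b : MonoidAlgebra (Res M) H) ∧
      (∀ j, f * u j = u j) ∧ (∀ j, v j * f = v j) ∧ u j₀ = f ∧ v j₀ = f ∧
      ∀ a, ∃ c : ℕ → Res M, f * a * f =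
        ∑ i ∈ Finset.range (Nat.card P), c i • (x ^ i * f) := by
  classical
  haveI := charP_res hM
  haveI := isAlgClosed_res hM
  haveI : Module.Finite (Res M) (MonoidAlgebra (Res M) H) :=
    Module.Finite.of_basis (MonoidAlgebra.basis H (Res M))
  have hB := hnil.1
  have hA := blockCoeff_mem_loc (M := M) hB
  obtain ⟨χ₀, hχ₀, h0, hcard, hag, -, -⟩ := basic hM hnil hmax hcyc
  obtain ⟨Λ, hΛ⟩ := exists_param hM hnil hmax hcyc hχ₀ h0 hcard
  have hfinP : Finite (P →* ℂˣ) := Nat.finite_of_card_ne_zero (card_hom hcyc ▸ Nat.card_pos.ne')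
  letI := Fintype.ofFinite (P →* ℂˣ)
  letI := Fintype.ofFinite P
  -- the block elements of the points of `P`
  let Y : P → MonoidAlgebra ℂ H := fun w =>
    ∑ f : P →* ℂˣ, (f w : ℂ) • idemC ({(Λ f : IrrCharacter H)} : Set (IrrCharacter H))
  have hYc : ∀ w, Y w ∈ Subring.center (MonoidAlgebra ℂ H) := fun w =>
    Subring.sum_mem _ fun f _ => Subring.mem_center_iff.mpr fun a => by
      rw [mul_smul_comm, smul_mul_assoc, Subring.mem_center_iff.mp (idemC_mem_center _) a]
  have hYω : ∀ (w : P) (f : P →* ℂˣ),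
      omega ((Λ f : IrrCharacter H) : H → ℂ) (Y w) = (f w : ℂ) := fun w f => by
    simp only [Y, omega_sum, omega_smul, omega_idemC]
    rw [Finset.sum_eq_single f (fun g _ hne => by
      rw [if_neg (fun h => hne (Λ.injective (Subtype.ext (Set.mem_singleton_iff.mp h))).symm),
        mul_zero]) (by simp)]
    simp
  have hYω0 : ∀ (w : P) (χ : IrrCharacter H), χ ∉ b → omega (χ : H → ℂ) (Y w) = 0 := fun w χ hχ => by
    simp only [Y, omega_sum, omega_smul, omega_idemC]
    exact Finset.sum_eq_zero fun f _ => by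
      rw [if_neg (fun h => hχ (by rw [Set.mem_singleton_iff.mp h]; exact (Λ f).2)), mul_zero]
  have hYmul : ∀ w w', Y w * Y w' = Y (w * w') := fun w w' => by
    refine central_ext (Subring.mul_mem _ (hYc w) (hYc w')) (hYc _) fun χ => ?_
    rw [omega_mul χ.2 (hYc w)]
    by_cases hχ : χ ∈ b
    · obtain ⟨f, hf⟩ := Λ.surjective ⟨χ, hχ⟩
      have hf' : χ = (Λ f : IrrCharacter H) := by rw [hf]
      rw [hf', hYω, hYω, hYω, map_mul, Units.val_mul]
    · rw [hYω0 _ _ hχ, hYω0 _ _ hχ, hYω0 _ _ hχ, zero_mul]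
  have hY1 : Y 1 = idemC b := by
    refine central_ext (hYc 1) (idemC_mem_center b) fun χ => ?_
    rw [omega_idemC]
    by_cases hχ : χ ∈ b
    · obtain ⟨f, hf⟩ := Λ.surjective ⟨χ, hχ⟩
      have hf' : χ = (Λ f : IrrCharacter H) := by rw [hf]
      rw [if_pos hχ, hf', hYω, map_one, Units.val_one]
    · rw [if_neg hχ, hYω0 _ _ hχ]
  -- the common scalar
  have hpd : Nat.card P = p ^ blockDefect p b :=
    card_defectGroup hM hB (isDefectGroup_of_maximal hM hmax)
  obtain ⟨n1, hn1d⟩ : ∃ n1, n1 = Nat.card H / p ^ (Nat.card H).factorization p := ⟨_, rfl⟩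
  obtain ⟨m0, hm0d⟩ : ∃ m0, m0 = charDegree (χ₀ : H → ℂ) /
      p ^ (charDegree (χ₀ : H → ℂ)).factorization p := ⟨_, rfl⟩
  have hn1 : ¬ p ∣ n1 := hn1d ▸ Nat.not_dvd_ordCompl hp.out Nat.card_pos.ne'
  have hm0 : ¬ p ∣ m0 := hm0d ▸ Nat.not_dvd_ordCompl hp.out (charDegree_pos χ₀).ne'
  have hH : (Nat.card H : ℂ) = (p : ℂ) ^ (Nat.card H).factorization p * (n1 : ℂ) := by
    rw [hn1d]; exact_mod_cast (Nat.ordProj_mul_ordCompl_eq_self (Nat.card H) p).symm
  have hdeg : (Nat.card P : ℂ) * (χ₀ : H → ℂ) 1 =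
      (p : ℂ) ^ (Nat.card H).factorization p * (m0 : ℂ) := by
    have he : (charDegree (χ₀ : H → ℂ) : ℂ) =
        (p : ℂ) ^ (charDegree (χ₀ : H → ℂ)).factorization p * (m0 : ℂ) := by
      rw [hm0d]; exact_mod_cast (Nat.ordProj_mul_ordCompl_eq_self (charDegree (χ₀ : H → ℂ)) p).symm
    have := height_add (p := p) hχ₀
    rw [h0, zero_add] at this
    rw [charDegree_cast, he, hpd, Nat.cast_pow, this, pow_add]
    ring
  obtain ⟨r0, hr0⟩ : ∃ r0 : Loc M, r0 = invL M n1 * (m0 : Loc M) := ⟨_, rfl⟩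
  have hr0C : (r0 : ℂ) = (Nat.card P : ℂ) * (χ₀ : H → ℂ) 1 * (Nat.card H : ℂ)⁻¹ := by
    have h1 := congrArg (fun z : Loc M => (z : ℂ)) (invL_mul hM hn1)
    simp only [MulMemClass.coe_mul, SubringClass.coe_natCast, OneMemClass.coe_one] at h1
    have hn0 : (n1 : ℂ) ≠ 0 := Nat.cast_ne_zero.mpr fun h => hn1 (h ▸ dvd_zero p)
    have hp0 : (p : ℂ) ^ (Nat.card H).factorization p ≠ 0 :=
      pow_ne_zero _ (Nat.cast_ne_zero.mpr hp.out.ne_zero)
    rw [hr0, MulMemClass.coe_mul, SubringClass.coe_natCast, hdeg, hH]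
    field_simp
    linear_combination (m0 : ℂ) * h1
  have hr0u : red M r0 ≠ 0 := by
    rw [hr0, map_mul, map_natCast]
    refine mul_ne_zero (fun h => ?_) fun h => hm0 ((CharP.cast_eq_zero_iff (Res M) p m0).mp h)
    have := congrArg (red M) (invL_mul hM hn1)
    rw [map_mul, h, zero_mul, map_one] at this
    exact zero_ne_one this
  -- integrality
  have hblockCoeff : ∀ (f : P →* ℂˣ) (g : H),
      blockCoeff ({(Λ f : IrrCharacter H)} : Set (IrrCharacter H)) g =
        (Nat.card H : ℂ)⁻¹ * ((χ₀ : H → ℂ) 1 * psi p (lw P c p M f) χ₀ g⁻¹) := fun f g => by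
    rw [blockCoeff, finsum_mem_singleton, (hΛ f).2 1 (by rw [orderOf_one]; exact hp.out.not_dvd_one),
      ← CT.char_inv_eq_conj (CT.isCharacter_of_isIrr (Λ f : IrrCharacter H).2), (hΛ f).1]
  have hYint : ∀ (w : P) (g : H), ∃ r : Loc M, (r : ℂ) = (Y w).coeff g := by
    intro w g
    let W : MonoidAlgebra (Res M) H → ℂ := fun a =>
      ∑ f : P →* ℂˣ, (f w : ℂ) * lw P c p M f (pPart p g⁻¹) a
    have hcoeff : (Y w).coeff g = (Nat.card H : ℂ)⁻¹ * (χ₀ : H → ℂ) 1 *
        ∑ a ∈ blkIdem M (pPart p g⁻¹), W a * phi p χ₀ g⁻¹ a := by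
      simp only [Y, MonoidAlgebra.coeff_sum, Finsupp.finsetSum_apply, MonoidAlgebra.coeff_smul,
        Finsupp.smul_apply, smul_eq_mul, idemC, coeff_ofFun, hblockCoeff, psi, W, Finset.sum_mul,
        Finset.mul_sum]
      rw [Finset.sum_comm]
      exact Finset.sum_congr rfl fun a _ => Finset.sum_congr rfl fun f _ => by ring
    have hphi : ∀ a : MonoidAlgebra (Res M) H, phi p χ₀ g⁻¹ a ∈ Loc M := fun a => by
      unfold phi liftVal
      split_ifs with h
      · exact SetLike.coe_mem _
      · exact zero_mem _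
    have hW : ∀ a ∈ blkIdem M (pPart p g⁻¹), ∃ r : Loc M,
        (r : ℂ) = (Nat.card H : ℂ)⁻¹ * (χ₀ : H → ℂ) 1 * (W a * phi p χ₀ g⁻¹ a) := by
      intro a ha
      by_cases hi : InB M b (pPart p g⁻¹) a
      · obtain ⟨k, hk⟩ := exists_belAt_of_inB hM hmax (ppart_pow_eq_one (pPart_spec g⁻¹)) ha hi
        have hWa : W a = if w * ⟨_, belAt_mem hk⟩ = 1 then (Nat.card P : ℂ) else 0 := by
          simp only [W, lw]
          rw [Finset.sum_congr rfl fun f _ => show (f w : ℂ) *
              weight (M := M) p P c (extendByZero P fun u => (f u : ℂ)) (pPart p g⁻¹) a =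
              ((f (w * ⟨_, belAt_mem hk⟩) : ℂˣ) : ℂ) by
            rw [weight_eq (stable_lw hM hnil hmax f) hk, CT.extendByZero_mem P _ (belAt_mem hk),
              map_mul, Units.val_mul]]
          split_ifs with h1
          · rw [h1]; simp [Finset.card_univ, ← Nat.card_eq_fintype_card, card_hom hcyc]
          · exact sum_hom hcyc h1
        rw [hWa]
        split_ifs
        · exact ⟨r0 * ⟨_, hphi a⟩, by rw [MulMemClass.coe_mul, hr0C]; ring⟩
        · exact ⟨0, by simp⟩
      · exact ⟨0, by rw [phi_eq_zero_of_not_inB hM hB hχ₀ ha hi]; simp⟩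
    choose r hr using hW
    refine ⟨(blkIdem M (pPart p g⁻¹)).attach.sum fun a : {a // a ∈ blkIdem M (pPart p g⁻¹)} =>
      r a.1 a.2, ?_⟩
    rw [hcoeff, Finset.mul_sum, AddSubmonoidClass.coe_finsetSum, ← Finset.sum_attach (blkIdem M (pPart p g⁻¹))]
    exact Finset.sum_congr rfl fun a _ => hr a.1 a.2
  choose r hr using hYint
  let L : P → MonoidAlgebra (Loc M) H := fun w => ofFun (r w)
  have hL : ∀ w, toC M H (L w) = Y w := fun w => by
    ext g
    rw [toC, coeff_map', coeff_ofFun]
    exact hr w g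
  have hLmul : ∀ w w', L w * L w' = L (w * w') := fun w w' =>
    toC_injective (M := M) (by rw [map_mul, hL, hL, hL, hYmul])
  have hL1 : L 1 = (bIdem M b : MonoidAlgebra (Loc M) H) :=
    toC_injective (M := M) (by rw [hL, hY1, toC_bIdem hA])
  have hLc : ∀ w a, Commute (L w) a := fun w a =>
    toC_injective (M := M) (by
      rw [map_mul, map_mul, hL]; exact (Subring.mem_center_iff.mp (hYc w) _).symm)
  obtain ⟨β, hβ⟩ : ∃ β, β = (bBar M b : MonoidAlgebra (Res M) H) := ⟨_, rfl⟩
  rw [← hβ]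
  let Z : P → MonoidAlgebra (Res M) H := fun w => redG M H (L w)
  have hZ1 : Z 1 = β := by rw [hβ]; simp only [Z, hL1]; rfl
  have hZmul : ∀ w w', Z w * Z w' = Z (w * w') := fun w w' => by
    simp only [Z, ← map_mul, hLmul]
  have hlift : ∀ a : MonoidAlgebra (Res M) H, ∃ a', redG M H a' = a := fun a => by
    choose s hs using red_surjective (M := M)
    exact ⟨ofFun fun g => s (a.coeff g), by ext g; simp [hs]⟩
  have hZc : ∀ w a, Commute (Z w) a := fun w a => by
    obtain ⟨a', rfl⟩ := hlift a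
    exact (hLc w a').map (redG M H)
  have hββ : β * β = β := by rw [← hZ1, hZmul, one_mul]
  obtain ⟨w₀, hw₀⟩ := hcyc.exists_generator (α := P)
  have hord : orderOf w₀ = Nat.card P := orderOf_eq_card_of_forall_mem_zpowers hw₀
  obtain ⟨x, hx⟩ : ∃ x, x = Z w₀ - β := ⟨_, rfl⟩
  obtain ⟨y, hy⟩ : ∃ y, y = x + 1 := ⟨_, rfl⟩
  have hxβ : x * β = x := by rw [hx, sub_mul, hββ, ← hZ1, hZmul, mul_one]
  have hxc : ∀ a, Commute x a := fun a => hx ▸ (hZc w₀ a).sub_left (hZ1 ▸ hZc 1 a)
  have hyβ : y * β = Z w₀ := by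
    rw [hy, add_mul, hxβ, one_mul, hx, sub_add_cancel]
  have hypow : ∀ i, y ^ i * β = Z (w₀ ^ i) := by
    intro i
    induction i with
    | zero => rw [pow_zero, one_mul, pow_zero, hZ1]
    | succ i ih =>
      rw [pow_succ, mul_assoc, hyβ, show Z w₀ = β * Z w₀ by rw [← hZ1, hZmul, one_mul], ← mul_assoc,
        ih, hZmul, pow_succ]
  haveI : CharP (MonoidAlgebra (Res M) H) p :=
    charP_of_injective_algebraMap (algebraMap (Res M) (MonoidAlgebra (Res M) H)).injective p
  have hxq : x ^ Nat.card P = 0 := by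
    have hq0 : Nat.card P ≠ 0 := Nat.card_pos.ne'
    rw [← show x * β = x from hxβ, (hxc β).mul_pow, IsIdempotentElem.pow_eq hββ hq0,
      show x = y - 1 by rw [hy, add_sub_cancel_right], hpd,
      sub_pow_char_pow_of_commute _ _ (Commute.one_right y), one_pow, sub_mul, ← hpd, hypow, ← hord,
      pow_orderOf_eq_one, hZ1, one_mul, sub_self]
  have hxtop : x ^ (Nat.card P - 1) * β = ∑ i ∈ Finset.range (Nat.card P), Z (w₀ ^ i) := by
    have key : ((Polynomial.X - 1 : Polynomial (Res M))) ^ (Nat.card P - 1) =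
        ∑ i ∈ Finset.range (Nat.card P), Polynomial.X ^ i := by
      refine mul_left_cancel₀ (sub_ne_zero.mpr (by simpa using Polynomial.X_ne_C (R := Res M) 1)) ?_
      rw [← pow_succ', Nat.sub_add_cancel Nat.card_pos, mul_geom_sum, hpd,
        sub_pow_char_pow, one_pow]
    have := congrArg (Polynomial.aeval y) key
    rw [map_pow, map_sub, Polynomial.aeval_X, map_one, map_sum, hy, add_sub_cancel_right] at this
    rw [this, Finset.sum_mul]
    refine Finset.sum_congr rfl fun i _ => ?_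
    rw [map_pow, Polynomial.aeval_X, ← hy, hypow]
  have hxne : x ^ (Nat.card P - 1) * β ≠ 0 := by
    rw [hxtop]
    intro h
    have hall : ∑ w : P, Z w = 0 := by
      rw [← h]
      symm
      refine Finset.sum_bij (fun i _ => w₀ ^ i) (fun _ _ => Finset.mem_univ _) (fun i hi j hj e => ?_)
        (fun w _ => ?_) (fun _ _ => rfl)
      · rw [Finset.mem_range, ← hord] at hi hj
        exact pow_injOn_Iio_orderOf hi hj e
      · obtain ⟨i, hi, e⟩ := Finset.mem_image.mp
          (mem_zpowers_iff_mem_range_orderOf.mp (hw₀ w))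
        exact ⟨i, by rw [← hord]; exact hi, e⟩
    have hC : ∑ w : P, Y w =
        (Nat.card P : ℂ) • idemC ({(Λ 1 : IrrCharacter H)} : Set (IrrCharacter H)) := by
      simp only [Y]
      rw [Finset.sum_comm, Finset.sum_eq_single 1]
      · rw [← Finset.sum_smul]; simp [Finset.card_univ, ← Nat.card_eq_fintype_card]
      · intro f _ hne
        obtain ⟨v, hv⟩ := DFunLike.ne_iff.mp hne
        rw [← Finset.sum_smul, show ∑ w : P, (f w : ℂ) = 0 from ?_, zero_smul]
        have h1 : (f v : ℂ) * ∑ w : P, (f w : ℂ) = ∑ w : P, (f w : ℂ) := by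
          rw [Finset.mul_sum]
          exact Fintype.sum_equiv (Equiv.mulLeft v) _ _ fun w => by simp
        by_contra hne'
        exact hv (Units.val_eq_one.mp ((mul_eq_right₀ hne').mp h1))
      · simp
    have hΛ1 : psi p (lw P c p M 1) χ₀ = (χ₀ : H → ℂ) := by
      have := psi_weight_one hM hB hnil hmax hχ₀
      rw [lw]
      convert this using 4
      funext u
      simp
    refine (red_regS_ne_zero_iff hM hB hχ₀ hχ₀).mpr h0 ?_
    rw [regS, ← omegaBar_redZ]
    have hzero : redZ M H (regConj M p χ₀) = 0 := by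
      refine Subtype.ext (MonoidAlgebra.ext (Finsupp.ext fun g => ?_))
      rw [coe_redZ, coeff_map', ZeroMemClass.coe_zero]
      show red M _ = 0
      obtain ⟨z, hz⟩ : ∃ z : Loc M, z =
          ((regConj M p χ₀ : ZG (Loc M) H) : MonoidAlgebra (Loc M) H).coeff g := ⟨_, rfl⟩
      rw [← hz]
      by_cases hg : p ∣ orderOf g
      · have : z = 0 := Subtype.ext (by rw [hz, coe_coeff_regConj, if_pos hg]; rfl)
        rw [this, map_zero]
      · have e1 : (r0 * z : Loc M) = ∑ w : P, r w g := by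
          refine Subtype.ext ?_
          rw [MulMemClass.coe_mul, hr0C, hz, coe_coeff_regConj, if_neg hg,
            AddSubmonoidClass.coe_finsetSum, Finset.sum_congr rfl fun w _ => hr w g,
            ← Finsupp.finsetSum_apply, ← MonoidAlgebra.coeff_sum, hC, MonoidAlgebra.coeff_smul,
            Finsupp.smul_apply, smul_eq_mul, idemC, coeff_ofFun, hblockCoeff, hΛ1,
            CT.char_inv_eq_conj (CT.isCharacter_of_isIrr χ₀.2)]
          ring
        have e2 : red M (∑ w : P, r w g) = 0 := by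
          have := congrArg (fun a : MonoidAlgebra (Res M) H => a.coeff g) hall
          simpa [Z, L, map_sum] using this
        rw [← e1, map_mul] at e2
        exact (mul_eq_zero.mp e2).resolve_left hr0u
    rw [hzero]
    simp [omegaBar_apply]
  -- matrix units
  obtain ⟨m, d, π, hπ, hd, hker⟩ :=
    Corner.exists_matrix_quotient (K := Res M) (R := MonoidAlgebra (Res M) H)
  obtain ⟨Sp, hSp⟩ : ∃ Sp : GSplit M H, Sp = ⟨m, d, π, hπ, fun z hz => by
      obtain ⟨N, hN⟩ := hker
      refine ⟨N, ?_⟩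
      have := Ideal.pow_mem_pow (show z ∈ RingHom.ker π.toRingHom from hz) N
      rw [hN] at this
      exact this, fun i => (hd i).pos⟩ := ⟨_, rfl⟩
  have hl1 : (inBlk Sp b).card = 1 := by
    rw [← blockRank_eq_card Sp hM hA]
    exact blockRank_eq_one_of_agree hχ₀ hp.out.ne_one hag
  obtain ⟨i, hi⟩ := Finset.card_eq_one.mp hl1
  have hdm : charDegree (χ₀ : H → ℂ) = Sp.d i := by
    refine Nat.dvd_antisymm ?_ ?_
    · refine dvd_deg_brauer Sp hM hA (fun χ hχ => ?_) (hi ▸ Finset.mem_singleton_self i)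
      have := hag χ hχ 1 (by rw [orderOf_one]; exact hp.out.not_dvd_one)
      rw [charDegree_cast, charDegree_cast] at this
      rw [show charDegree (χ : H → ℂ) = charDegree (χ₀ : H → ℂ) by exact_mod_cast this]
    · have h := irr_eq_sum_blk Sp hM hA hχ₀ (g := 1) (by rw [orderOf_one]; exact hp.out.not_dvd_one)
      rw [hi, Finset.sum_singleton, phiB_one Sp hM, charDegree_cast] at h
      refine ⟨dec Sp χ₀ i, ?_⟩
      rw [mul_comm]
      exact_mod_cast h
  have hβc : ∀ a, β * a = a * β := fun a => (hZ1 ▸ hZc 1 a).eq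
  have hπe : Sp.π β = Pi.single i 1 := by
    funext j
    haveI : NeZero (Sp.d j) := ⟨(Sp.pos j).ne'⟩
    obtain ⟨s, hs⟩ := (Matrix.mem_range_scalar_iff_commute_single').mpr
      (fun a a' => by
        obtain ⟨z, hz⟩ := Sp.surj (Pi.single j (Matrix.single a a' 1))
        have := congrArg (fun y => Sp.π y j) (hβc z)
        simp only [map_mul, Pi.mul_apply, hz, Pi.single_eq_same] at this
        exact this.symm : ∀ a a', Commute (Matrix.single a a' (1 : Res M)) (Sp.π β j))
    have hidem : Sp.π β j * Sp.π β j = Sp.π β j := by rw [← Pi.mul_apply, ← map_mul, hββ]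
    rw [← hs] at hidem ⊢
    rw [← map_mul] at hidem
    have h00 := congrFun (congrFun hidem 0) 0
    simp [Matrix.scalar_apply] at h00
    have hβbar : β = redG M H (bIdem M b : MonoidAlgebra (Loc M) H) := hβ
    have hprim : j ∈ inBlk Sp b ↔ β * Sp.prim j = Sp.prim j := by
      simp [inBlk, hβbar]
    have hcomp := congrFun (Sp.map_prim j) j
    rw [Pi.single_eq_same] at hcomp
    have hstd : SplitAlg.stdIdem (K := Res M) (Sp.d j) 1 ≠ 0 := fun h => by
      have := congrFun (congrFun h ⟨0, Sp.pos j⟩) ⟨0, Sp.pos j⟩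
      simp [SplitAlg.stdIdem] at this
    have hmul : Sp.π (β * Sp.prim j) j = s • SplitAlg.stdIdem (Sp.d j) 1 := by
      rw [map_mul, Pi.mul_apply, ← hs, hcomp, Matrix.scalar_apply, ← Matrix.smul_eq_diagonal_mul]
    rcases eq_or_ne j i with rfl | hne
    · rw [Pi.single_eq_same]
      rcases IsIdempotentElem.iff_eq_zero_or_one.mp (show IsIdempotentElem s from h00) with h | h
      · exfalso
        have h1 := hprim.mp (hi ▸ Finset.mem_singleton_self j)
        rw [h1, hcomp, h, zero_smul] at hmul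
        exact hstd hmul
      · rw [h, map_one]
    · rw [Pi.single_eq_of_ne hne]
      rcases IsIdempotentElem.iff_eq_zero_or_one.mp (show IsIdempotentElem s from h00) with h | h
      · rw [h, map_zero]
      · exfalso
        have hnot : ¬ β * Sp.prim j = Sp.prim j := fun h' =>
          hne (Finset.mem_singleton.mp (hi ▸ hprim.mpr h'))
        rcases Sp.eq_prim_or_zero (i := j) (f := β * Sp.prim j)
          (by rw [mul_assoc β (Sp.prim j), ← mul_assoc (Sp.prim j) β, ← hβc (Sp.prim j),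
            mul_assoc β (Sp.prim j) (Sp.prim j), Sp.prim_idem, ← mul_assoc, hββ])
          (by rw [mul_assoc, Sp.prim_idem])
          (by rw [← mul_assoc, ← hβc (Sp.prim j), mul_assoc, Sp.prim_idem]) with h' | h'
        · rw [h', map_zero, h, one_smul] at hmul
          exact hstd hmul.symm
        · exact hnot h'
  subst hSp
  obtain ⟨f, u, v, hff, hef, hπf, hu0, hv0, huv1, huv, hsum⟩ :=
    Corner.exists_matrix_units hβc hββ π hπ hker i hπe ⟨0, (hd i).pos⟩
  have hfu := fun j => (huv1 j).1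
  have hvf := fun j => (huv1 j).2.1
  have hxf : x ^ (Nat.card P - 1) * f ≠ 0 := fun h => by
    refine hxne ?_
    rw [← hsum, Finset.mul_sum]
    refine Finset.sum_eq_zero fun j _ => ?_
    rw [← hvf j, show x ^ (Nat.card P - 1) * (v j * f * u j) =
      v j * (x ^ (Nat.card P - 1) * f) * u j by
      rw [← mul_assoc, ← mul_assoc, ((hxc (v j)).pow_left _).eq]; simp only [mul_assoc], h,
      mul_zero, zero_mul]
  refine ⟨x, f, d i, u, v, ⟨0, (hd i).pos⟩, hxc, hxβ, hxq, hxf, hff, hef, huv, hsum, hfu, hvf,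
    hu0, hv0, ?_⟩
  -- dimensions
  obtain ⟨A, hAdef⟩ : ∃ A, A = LinearMap.range (LinearMap.mulLeft (Res M) β) := ⟨_, rfl⟩
  have hdimA : Module.finrank (Res M) A = Nat.card P * (d i * d i) := by
    have h := finrank_bBar (M := M) hB
    rw [← hβ, ← hAdef] at h
    have h' : (Module.finrank (Res M) A : ℂ) =
        ((Nat.card P * (d i * d i) : ℕ) : ℂ) := by
      rw [h, ← Finset.sum_filter, Finset.sum_congr rfl fun χ hχ => by
        rw [hag χ (Finset.mem_filter.mp hχ).2 1 (by rw [orderOf_one]; exact hp.out.not_dvd_one),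
          charDegree_cast, hdm], Finset.sum_const, ← hcard, Nat.card_eq_fintype_card,
        Fintype.card_subtype, nsmul_eq_mul]
      push_cast; ring
    exact_mod_cast h'
  obtain ⟨E, hE⟩ : ∃ E, E = LinearMap.range
      ((LinearMap.mulLeft (Res M) f).comp (LinearMap.mulRight (Res M) f)) := ⟨_, rfl⟩
  have hmemE : ∀ z, z ∈ E ↔ f * z * f = z := fun z => by
    rw [hE]
    constructor
    · rintro ⟨w, rfl⟩
      simp only [LinearMap.comp_apply, LinearMap.mulLeft_apply, LinearMap.mulRight_apply,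
        ← mul_assoc]
      rw [hff, mul_assoc, hff]
    · intro h
      exact ⟨z, by simp only [LinearMap.comp_apply, LinearMap.mulLeft_apply,
        LinearMap.mulRight_apply, ← mul_assoc, h]⟩
  let Φ : (Fin (d i) × Fin (d i) → E) →ₗ[Res M] A :=
    { toFun := fun a => ⟨∑ j, ∑ l, v j * (a (j, l) : MonoidAlgebra (Res M) H) * u l, by
        rw [hAdef]
        refine Submodule.sum_mem _ fun j _ => Submodule.sum_mem _ fun l _ =>
          ⟨v j * (a (j, l) : MonoidAlgebra (Res M) H) * u l, ?_⟩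
        have hbv : β * v j = v j :=
          calc β * v j = β * (v j * f) := by rw [hvf]
            _ = v j * (β * f) := by rw [← mul_assoc, hβc (v j), mul_assoc]
            _ = v j := by rw [hef, hvf]
        rw [LinearMap.mulLeft_apply, ← mul_assoc, ← mul_assoc, hbv]⟩
      map_add' := fun a a' => Subtype.ext (by
        simp [mul_add, add_mul, Finset.sum_add_distrib])
      map_smul' := fun s a => Subtype.ext (by simp [Finset.smul_sum]) }
  have hΦ : Function.Injective Φ := by
    intro a a' h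
    funext ⟨j, l⟩
    have key : ∀ a : Fin (d i) × Fin (d i) → E,
        u j * ((Φ a : A) : MonoidAlgebra (Res M) H) * v l = (a (j, l) : MonoidAlgebra (Res M) H) := by
      intro a
      show u j * (∑ j', ∑ l', v j' * (a (j', l') : MonoidAlgebra (Res M) H) * u l') * v l = _
      rw [Finset.mul_sum, Finset.sum_mul, Finset.sum_eq_single j, Finset.mul_sum, Finset.sum_mul,
        Finset.sum_eq_single l]
      · calc u j * (v j * (a (j, l) : MonoidAlgebra (Res M) H) * u l) * v l
            = u j * v j * (a (j, l) : MonoidAlgebra (Res M) H) * (u l * v l) := by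
              simp only [mul_assoc]
          _ = _ := by
              rw [huv, huv, if_pos rfl, if_pos rfl]
              exact (hmemE _).mp (a (j, l)).2
      · intro l' _ hne
        rw [mul_assoc, mul_assoc, huv, if_neg hne, mul_zero, mul_zero]
      · simp
      · intro j' _ hne
        rw [Finset.mul_sum, Finset.sum_mul]
        refine Finset.sum_eq_zero fun l' _ => ?_
        rw [← mul_assoc (u j), ← mul_assoc (u j), huv, if_neg hne.symm, zero_mul, zero_mul,
          zero_mul]
      · simp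
    exact Subtype.ext (by rw [← key a, ← key a', h])
  have hdimE : Module.finrank (Res M) E ≤ Nat.card P := by
    have h := LinearMap.finrank_le_finrank_of_injective hΦ
    rw [Module.finrank_pi_fintype, Finset.sum_const, Finset.card_univ, Fintype.card_prod,
      Fintype.card_fin, smul_eq_mul, hdimA, mul_comm (Nat.card P)] at h
    exact Nat.le_of_mul_le_mul_left h (Nat.mul_pos (hd i).pos (hd i).pos)
  let pw : Fin (Nat.card P) → E := fun n => ⟨x ^ (n : ℕ) * f, (hmemE _).mpr (by
    rw [← mul_assoc, ← ((hxc f).pow_left (n : ℕ)).eq, mul_assoc (x ^ (n : ℕ)), hff,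
      mul_assoc, hff])⟩
  have hind : LinearIndependent (Res M) pw := by
    rw [Fintype.linearIndependent_iff]
    intro g hg n
    have hg' : ∑ n, g n • (x ^ (n : ℕ) * f) = 0 := by
      have := congrArg (fun z : E => (z : MonoidAlgebra (Res M) H)) hg
      simpa [pw] using this
    induction hn : (n : ℕ) using Nat.strong_induction_on generalizing n with
    | _ j ih =>
      have h2 := congrArg (fun z => x ^ (Nat.card P - 1 - j) * z) hg'
      simp only [mul_zero, Finset.mul_sum, mul_smul_comm, ← mul_assoc, ← pow_add] at h2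
      rw [Finset.sum_eq_single n] at h2
      · rw [hn, show Nat.card P - 1 - j + j = Nat.card P - 1 by omega] at h2
        exact (smul_eq_zero.mp h2).resolve_right hxf
      · intro n' _ hne
        rcases lt_or_gt_of_ne (fun h => hne (Fin.ext h) : (n' : ℕ) ≠ n) with h' | h'
        · rw [ih _ (hn ▸ h') n' rfl, zero_smul]
        · obtain ⟨s, hs⟩ : ∃ s, Nat.card P - 1 - j + (n' : ℕ) = Nat.card P + s :=
            Nat.exists_eq_add_of_le (by omega)
          rw [hs, pow_add, hxq, zero_mul, zero_mul, smul_zero]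
      · simp
  intro a
  have hspan : Submodule.span (Res M) (Set.range pw) = ⊤ := by
    refine Submodule.eq_top_of_finrank_eq (le_antisymm (Submodule.finrank_le _) ?_)
    rw [finrank_span_eq_card hind, Fintype.card_fin]
    exact hdimE
  have hmem : (⟨f * a * f, (hmemE _).mpr (by rw [← mul_assoc, ← mul_assoc, hff, mul_assoc _ f f,
      hff])⟩ : E) ∈ Submodule.span (Res M) (Set.range pw) := hspan ▸ Submodule.mem_top
  obtain ⟨g, hg⟩ := (Submodule.mem_span_range_iff_exists_fun (Res M)).mp hmem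
  refine ⟨fun n => if hn : n < Nat.card P then g ⟨n, hn⟩ else 0, ?_⟩
  rw [Finset.sum_range]
  have := congrArg (fun z : E => (z : MonoidAlgebra (Res M) H)) hg
  simp only [pw, Submodule.coe_sum, Submodule.coe_smul] at this
  rw [← this]
  exact Finset.sum_congr rfl fun n _ => by beta_reduce; rw [dif_pos n.2]

end Cfsg.Agent.Blocks.CycNil
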