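import Cfsg.Agent.Lib.Blocks.CycSetting
import Cfsg.Agent.Lib.Blocks.CycAlgebra

/-!
# Characters at the sections of a cyclic defect group

The parts of the characters of `G` at the sections of the defect group, seen in the centralizer
`C` of the element of order `p`.
-/

set_option linter.unusedSectionVars false

namespace Cfsg.Agent.Blocks.Cyclic

open MonoidAlgebra BPairs
open scoped ComplexConjugate

universe u

variable {G : Type u} [Group G] [Finite G] {p : ℕ} [hp : Fact p.Prime] {M : Ideal AlgInt}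
  [M.IsPrime]

section Sub

variable {H : Subgroup G}

theorem pPart_coe (h : H) : pPart p (h : G) = ((pPart p h : H) : G) := by
  obtain ⟨y, hxy, hcom, ⟨k, hk⟩, hy⟩ := id (pPart_spec (p := p) h)
  exact pPart_eq ⟨(y : G), congrArg Subtype.val hxy, hcom.map H.subtype,
    ⟨k, by rw [Subgroup.orderOf_coe]; exact hk⟩, by rwa [Subgroup.orderOf_coe]⟩

theorem mem_cz_coe {x v : H} : (v : G) ∈ cz (x : G) ↔ v ∈ cz x := by
  rw [mem_cz, mem_cz]
  exact ⟨fun h => Subtype.ext h.eq, fun h => h.map H.subtype⟩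

theorem trunc_embH {R : Type*} [CommRing R] (x : H) (a : MonoidAlgebra R H) :
    trunc (cz (x : G) : Set G) (embH H a) = embH H (trunc (cz x : Set H) a) := by
  refine MonoidAlgebra.ext (Finsupp.ext fun v => ?_)
  by_cases hv : v ∈ H
  · rw [show v = ((⟨v, hv⟩ : H) : G) from rfl, coeff_embH]
    by_cases hc : (⟨v, hv⟩ : H) ∈ cz x
    · rw [coeff_trunc_of_mem _ hc, coeff_trunc_of_mem _ (mem_cz_coe.mpr hc), coeff_embH]
    · rw [coeff_trunc_of_notMem _ hc, coeff_trunc_of_notMem _ fun h => hc (mem_cz_coe.mp h)]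
  · rw [coeff_embH_of_notMem _ _ hv]
    by_cases hc : v ∈ cz (x : G)
    · rw [coeff_trunc_of_mem _ hc, coeff_embH_of_notMem _ _ hv]
    · rw [coeff_trunc_of_notMem _ hc]

theorem zpowers_map_coe (x : H) :
    (Subgroup.zpowers x).map H.subtype = Subgroup.zpowers (x : G) :=
  MonoidHom.map_zpowers H.subtype x

theorem embH_mem_blkIdem {x : H} (hx : cz (x : G) ≤ H) {a : MonoidAlgebra (Res M) H}
    (ha : a ∈ blkIdem M x) : embH H a ∈ blkIdem M (x : G) := by
  obtain ⟨f, hf, rfl⟩ := mem_blkIdemS.mp ha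
  obtain ⟨b, -, hb, hsub, hbel⟩ := exists_push (M := M)
    (⟨Subgroup.zpowers x, f⟩ : BrauerPairIdx H) hf (by rw [zpowers_map_coe]; exact hx)
  obtain ⟨Q, g⟩ := b
  dsimp only at hb hsub hbel
  rw [zpowers_map_coe] at hsub
  subst hsub
  exact mem_blkIdemS.mpr ⟨g, hb, hbel.symm⟩

theorem exists_embH_eq {x : H} (hx : cz (x : G) ≤ H) {a : MonoidAlgebra (Res M) G}
    (ha : a ∈ blkIdem M (x : G)) : ∃ a' ∈ blkIdem M x, embH H a' = a := by
  obtain ⟨g, hg, rfl⟩ := mem_blkIdemS.mp ha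
  obtain ⟨b, hb', -, hsub, hbel⟩ := exists_pull (M := M)
    (⟨Subgroup.zpowers (x : G), g⟩ : BrauerPairIdx G) hg (Subgroup.zpowers_le.mpr x.2) hx
  obtain ⟨Q, f⟩ := b
  dsimp only at hb' hsub hbel
  have hQ : Q = Subgroup.zpowers x := by
    apply Subgroup.map_injective H.subtype_injective
    rw [hsub, zpowers_map_coe]
  subst hQ
  exact ⟨bel M (cz x) f, mem_blkIdemS.mpr ⟨f, hb', rfl⟩, hbel⟩

variable [Fintype H]

/-- The multiplicity of a character of the subgroup in a restriction. -/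
noncomputable def mult (χ : IrrCharacter G) (θ : IrrCharacter H) : ℂ :=
  classInner (fun h : H => (χ : G → ℂ) h) (θ : H → ℂ)

theorem res_eq_sum (χ : IrrCharacter G) (h : H) :
    (χ : G → ℂ) h = ∑ θ : IrrCharacter H, mult χ θ * (θ : H → ℂ) h := by
  have := congrFun (CT.classFunction_eq_sum (f := fun h : H => (χ : G → ℂ) h)
    fun a b => by simpa using (CT.isClassFunction_of_isIrr χ.2) (a : G) (b : G)) h
  simpa [mult] using this

theorem exists_int_mult (χ : IrrCharacter G) (θ : IrrCharacter H) : ∃ n : ℤ, mult χ θ = n :=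
  CT.isGen_inner_int (CT.isGen_restrict H (CT.isGen_of_isIrr χ.2)) (CT.isGen_of_isIrr θ.2)

theorem ev_res (χ : IrrCharacter G) (a : MonoidAlgebra ℂ H) :
    ev (χ : G → ℂ) (embH H a) = ∑ θ : IrrCharacter H, mult χ θ * ev (θ : H → ℂ) a := by
  rw [ev_embH, show (fun h : H => (χ : G → ℂ) h) = ∑ θ : IrrCharacter H, mult χ θ • (θ : H → ℂ)
    from funext fun h => by simpa using res_eq_sum χ h, ev_sum_smul_fun]

/-- The part at a section of a character of `G` in terms of the parts in the subgroup. -/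
theorem phi_embH (hM : IsPModular p M) (χ : IrrCharacter G) {h : H}
    {a : MonoidAlgebra (Res M) H} (ha : a ∈ blkIdem M (pPart p h)) :
    phi p χ (h : G) (embH H a) = ∑ θ : IrrCharacter H, mult χ θ * phi p θ h a := by
  obtain ⟨ε, h1, h2, h3⟩ := exists_inv_idem_lift (M := M) (Subgroup.zpowers h) (blkIdem_mul_self ha)
    (isInv_zpowers_iff.mpr (blk_commute ha))
  have hc : Commute ε (single h 1) := isInv_zpowers_iff.mp h3
  have hc' : Commute (embH H ε) (single (h : G) 1) := by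
    rw [← embH_single]; exact hc.map _
  rw [phi_eq_of_red hM χ (ε := embH H ε) (by rw [← map_mul, h1]) hc'
    (by rw [redG, map_embH, ← h2]), ev_charL_toC, ← embH_single, ← map_mul, toC, map_embH,
    ← toC, ev_res]
  refine Finset.sum_congr rfl fun θ _ => ?_
  rw [phi_eq_of_red hM θ h1 hc h2, ev_charL_toC]

end Sub

namespace Setting

variable (S : Setting p M G)

theorem cz_conj_le {x : S.C} (y : S.C) (hd : ((y * x * y⁻¹ : S.C) : G) ∈ S.D) (hx1 : x ≠ 1) :
    cz (x : G) ≤ S.C := by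
  intro g hg
  have hne : ((y * x * y⁻¹ : S.C) : G) ≠ 1 := fun h =>
    hx1 (conj_eq_one_iff.mp (Subtype.ext h))
  have h1 : (y : G) * g * (y : G)⁻¹ ∈ S.C := S.hcz hd hne (by
    simpa using (mem_cz.mp hg).symm.map (MulAut.conj (y : G)))
  have h2 := mul_mem (mul_mem (inv_mem y.2) h1) y.2
  simpa [mul_assoc] using h2

/-- A member of `b` not vanishing at `h` has the `p`-part of `h` conjugate into `D`. -/
theorem exists_conj_D {θ : IrrCharacter S.C} (hθ : θ ∈ S.b) {h : S.C} (hne : (θ : S.C → ℂ) h ≠ 0) :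
    ∃ y : S.C, ((y * pPart p h * y⁻¹ : S.C) : G) ∈ S.D := by
  obtain ⟨c', hmax'⟩ := S.exists_pair_b
  by_contra hcon
  refine hne ?_
  rw [← sum_phi S.hM θ h]
  refine Finset.sum_eq_zero fun a ha => phi_eq_zero_of_not_inB S.hM S.hb hθ ha fun hin => hcon ?_
  obtain ⟨y, hy⟩ := exists_belAt_of_inB S.hM hmax' (ppart_pow_eq_one (pPart_spec h)) ha hin
  exact ⟨y, Subgroup.mem_subgroupOf.mp (belAt_mem hy)⟩

theorem cz_pPart_le {θ : IrrCharacter S.C} (hθ : θ ∈ S.b) {h : S.C} (hh : p ∣ orderOf h)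
    (hne : (θ : S.C → ℂ) h ≠ 0) : cz ((pPart p h : S.C) : G) ≤ S.C := by
  obtain ⟨y, hy⟩ := S.exists_conj_D hθ hne
  refine S.cz_conj_le y hy fun h1 => ?_
  exact (isPPart_one_iff.mp (h1 ▸ pPart_spec (p := p) h)) hh

theorem trunc_B_mul_β :
    trunc (S.C : Set G) (bBar M S.B : MonoidAlgebra (Res M) G) * bel M S.C S.b = bel M S.C S.b :=
  inB_of_belAt S.hM S.hmax ⟨S.b, S.hle, rfl⟩

/-- A section of `b` is a section of `B`. -/
theorem inB_embH {x : S.C} (hx : cz (x : G) ≤ S.C) (hxp : ∃ k : ℕ, (x : G) ^ p ^ k = 1)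
    {a : MonoidAlgebra (Res M) S.C} (hin : InB M S.b x a) :
    InB M S.B (x : G) (embH S.C a) := by
  haveI := charP_res S.hM
  obtain ⟨E, hE⟩ : ∃ E, E = (bBar M S.B : MonoidAlgebra (Res M) G) := ⟨_, rfl⟩
  have h1 : trunc (cz (x : G) : Set G) (bel M S.C S.b) * embH S.C a = embH S.C a := by
    rw [bel, trunc_embH, ← map_mul, hin]
  have hxC : Subgroup.zpowers (x : G) ≤ S.C := Subgroup.zpowers_le.mpr x.2
  have h2 : trunc (cz (x : G) : Set G) E * trunc (cz (x : G) : Set G) (bel M S.C S.b) =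
      trunc (cz (x : G) : Set G) (bel M S.C S.b) := by
    rw [← trunc_mul (isPGroup_zpowers hxp) (hE ▸ isInv_of_mem_center _ (bBar M S.B).2)
      (isInv_mono hxC (isInv_bel _ _))]
    conv_rhs => rw [← S.trunc_B_mul_β]
    rw [← hE]
    refine MonoidAlgebra.ext (Finsupp.ext fun v => ?_)
    by_cases hv : v ∈ cz (x : G)
    · rw [coeff_trunc_of_mem _ hv, coeff_trunc_of_mem _ hv]
      haveI := Fintype.ofFinite G
      rw [coeff_mul_sum, coeff_mul_sum]
      refine Finset.sum_congr rfl fun w _ => ?_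
      by_cases hw : w ∈ S.C
      · rw [coeff_trunc_of_mem _ hw]
      · rw [coeff_bel_of_notMem (M := M) S.C S.b fun h => hw (by
          simpa using mul_mem (hx hv) (inv_mem h)), mul_zero, mul_zero]
    · rw [coeff_trunc_of_notMem _ hv, coeff_trunc_of_notMem _ hv]
  rw [InB, ← hE, ← h1, ← mul_assoc, h2]

/-- A section of `B` at an element of `D` below the maximal pair comes from one of `b`. -/
theorem exists_of_belAt {u : S.C} (hu : (u : G) ∈ S.D) (hu1 : (u : G) ≠ 1)
    {a : MonoidAlgebra (Res M) G} (h : BelAt p M S.D S.c (u : G) a) :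
    ∃ a' ∈ blkIdem M u, InB M S.b u a' ∧ embH S.C a' = a := by
  obtain ⟨f, hle, rfl⟩ := h
  have hQ : Subgroup.zpowers (u : G) ≤ S.D := Subgroup.zpowers_le.mpr hu
  have hpair := isBrauerPair_of_subpair hle S.hmax.1.1
  have hZQ : Subgroup.zpowers S.z ≤ Subgroup.zpowers (u : G) :=
    Subgroup.zpowers_le.mpr (S.z_mem_zpowers hu hu1)
  obtain ⟨a', ha', he⟩ := exists_embH_eq (S.cz_le hu hu1)
    (mem_blkIdemS.mpr ⟨f, hpair.2, rfl⟩)
  refine ⟨a', ha', ?_, he⟩
  obtain ⟨g, ⟨hg, hgle⟩, -⟩ := existsUnique_below S.hM hpair hZQ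
  obtain rfl := S.unique_b hg (hgle.trans hle)
  have hu' : ∀ k ∈ Subgroup.zpowers (u : G), k ∈ S.C := fun k hk => S.hDC (hQ hk)
  have hrel := rel_of_below S.hM hpair hgle hZQ
    (fun k hk => Subgroup.centralizer_le_normalizer _ (hu' k hk)) Relation.ReflTransGen.refl
  have h1 : trunc (cz (u : G) : Set G) (bel M S.C S.b) * bel M (cz (u : G)) f =
      bel M (cz (u : G)) f := by
    refine trunc_mul_of_occ S.hM hpair.1 hpair.2 ⟨isInv_mono hu' (isInv_bel _ _), ?_⟩
      (bel_mul_self _ S.hb) (isNormalSubpair_iff.mp hrel).2.2.2.2.2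
    exact isInv_mono (S.cz_le hu hu1) (isInv_bel _ _)
  rw [← he, bel, trunc_embH, ← map_mul] at h1
  exact embH_injective S.C h1

/-- The part of a character at a section of `b`. -/
theorem phi_section [Fintype S.C] [DecidablePred (· ∈ S.b)] (χ : IrrCharacter G) {h : S.C}
    {a : MonoidAlgebra (Res M) S.C} (ha : a ∈ blkIdem M (pPart p h))
    (hin : InB M S.b (pPart p h) a) :
    phi p χ (h : G) (embH S.C a) =
      ∑ θ ∈ Finset.univ.filter (· ∈ S.b), mult χ θ * phi p θ h a := by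
  rw [phi_embH S.hM χ ha]
  refine (Finset.sum_subset (Finset.filter_subset _ _) fun θ _ hθ => ?_).symm
  rw [phi_eq_zero_of_inB S.hM S.hb (fun hb => hθ (Finset.mem_filter.mpr ⟨Finset.mem_univ _, hb⟩))
    ha hin, mul_zero]

/-- The degree-weighted sum of the block is regular. -/
theorem sum_deg_phi [Fintype S.C] [DecidablePred (· ∈ S.b)] {h : S.C} (hh : p ∣ orderOf h)
    {θ₀ : IrrCharacter S.C} (hθ₀ : θ₀ ∈ S.b)
    (hag : ∀ η ∈ S.b, ∀ g : S.C, ¬ p ∣ orderOf g → (η : S.C → ℂ) g = (θ₀ : S.C → ℂ) g)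
    {a : MonoidAlgebra (Res M) S.C} (ha : a ∈ blkIdem M (pPart p h)) :
    ∑ θ ∈ Finset.univ.filter (· ∈ S.b), phi p θ h a = 0 := by
  classical
  obtain ⟨ε, h1, h2, h3⟩ := exists_inv_idem_lift (M := M) (Subgroup.zpowers h) (blkIdem_mul_self ha)
    (isInv_zpowers_iff.mpr (blk_commute ha))
  have hc : Commute ε (single h 1) := isInv_zpowers_iff.mp h3
  obtain ⟨R, hR⟩ : ∃ R : S.C → Loc M,
      R = fun v => ∑ θ ∈ Finset.univ.filter (· ∈ S.b), charL M θ v := ⟨_, rfl⟩
  have hRc : IsClassFn R := fun g k => by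
    simp only [hR]
    exact Finset.sum_congr rfl fun θ _ => isClassFn_charL θ g k
  have hR0 : ∀ v, p ∣ orderOf v → R v = 0 := fun v hv => by
    refine Subtype.ext ?_
    have hw := weak_orthogonality' S.hM (blockCoeff_mem_loc (M := M) S.hb) (g := v) (h := 1) hv
      (by rw [orderOf_one]; exact hp.out.not_dvd_one)
    rw [finsum_mem_irr] at hw
    have hd : ∀ θ ∈ Finset.univ.filter (· ∈ S.b), conj ((θ : S.C → ℂ) 1) = (θ₀ : S.C → ℂ) 1 :=
      fun θ hθ => by
        rw [hag θ (Finset.mem_filter.mp hθ).2 1 (by rw [orderOf_one]; exact hp.out.not_dvd_one),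
          charDegree_cast, Complex.conj_natCast]
    rw [← Finset.sum_filter, Finset.sum_congr rfl fun θ hθ => by rw [hd θ hθ],
      ← Finset.sum_mul] at hw
    simp only [hR, AddSubmonoidClass.coe_finsetSum, coe_charL, ZeroMemClass.coe_zero]
    exact (mul_eq_zero.mp hw).resolve_right (CT.irr_one_ne_zero θ₀.2)
  have h0 := ev_idem_eq_zero_of_ppart S.hM hRc h1 (pPart_spec (p := p) h)
    (fun c _ hc' => commute_single_of_mem_zpowers hc hc') (fun u hu => hR0 u (by
      by_contra hn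
      have h' := pPart_eq hu
      rw [pPart_eq (isPPart_one hn)] at h'
      exact (isPPart_one_iff.mp (h' ▸ pPart_spec (p := p) h)) hh))
  have := congrArg (fun z : Loc M => (z : ℂ)) h0
  simp only [coe_ev, ZeroMemClass.coe_zero] at this
  rw [← this, Finset.sum_congr rfl fun θ _ => by rw [phi_eq_of_red S.hM θ h1 hc h2, coe_ev]]
  simp only [hR, AddSubmonoidClass.coe_finsetSum]
  haveI := Fintype.ofFinite S.C
  simp only [ev_eq_sum, Finset.mul_sum]
  rw [Finset.sum_comm]

end Setting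

end Cfsg.Agent.Blocks.Cyclic
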