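import Cfsg.Agent.Lib.Blocks.CycOrbit

/-!
# The multiplicity vectors of a block with cyclic defect group

For a character `χ` of `G` and a representative `ρ` of an inertial orbit on `b`, the integer
`⟨χ, ρ - η⟩` on `C`. These vectors have Gram matrix `1 + e J`.
-/

set_option linter.unusedSectionVars false

namespace Cfsg.Agent.Blocks.Cyclic

open MonoidAlgebra BPairs
open scoped ComplexConjugate

universe u

variable {G : Type u} [Group G] [Fintype G] {p : ℕ} [hp : Fact p.Prime] {M : Ideal AlgInt}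
  [M.IsPrime]

open Classical in
/-- The number of elements conjugating `k` to `h`. -/
theorem sum_transport (k h : G) :
    (∑ g : G, if g * k * g⁻¹ = h then (1 : ℂ) else 0) =
      ∑ χ : IrrCharacter G, (χ : G → ℂ) k * conj ((χ : G → ℂ) h) := by
  rw [CT.column_orthogonality, Finset.sum_boole]
  split_ifs with hc
  · obtain ⟨g₀, rfl⟩ := isConj_iff.mp hc
    congr 1
    rw [Nat.card_eq_fintype_card, ← Finset.card_univ]
    refine Finset.card_bij' (fun g _ => (⟨g₀⁻¹ * g, ?_⟩ : Subgroup.centralizer ({k} : Set G)))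
      (fun c _ => g₀ * (c : G)) (fun _ _ => Finset.mem_univ _) (fun c _ => ?_) (fun g _ => ?_)
      (fun c _ => ?_)
    · rename_i hg
      simp only [Finset.mem_filter, Finset.mem_univ, true_and] at hg
      rw [Subgroup.mem_centralizer_singleton_iff]
      calc g₀⁻¹ * g * k = g₀⁻¹ * (g * k * g⁻¹) * g := by group
        _ = g₀⁻¹ * (g₀ * k * g₀⁻¹) * g := by rw [hg]
        _ = _ := by group
    · simp only [Finset.mem_filter, Finset.mem_univ, true_and]
      have := Subgroup.mem_centralizer_singleton_iff.mp c.2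
      calc g₀ * (c : G) * k * (g₀ * (c : G))⁻¹ = g₀ * ((c : G) * k) * (c : G)⁻¹ * g₀⁻¹ := by group
        _ = _ := by rw [this]; group
    · simp
    · exact Subtype.ext (by simp)
  · rw [Finset.filter_eq_empty_iff.mpr, Finset.card_empty, Nat.cast_zero]
    exact fun g _ hg => hc (isConj_iff.mpr ⟨g, hg⟩)

namespace Setting

variable (S : Setting p M G)

open Classical in
noncomputable instance fintypeC : Fintype S.C := inferInstance

open Classical in
/-- The characters of `b` as a finset. -/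
noncomputable def bF : Finset (IrrCharacter S.C) := Finset.univ.filter (· ∈ S.b)

theorem mem_bF {θ : IrrCharacter S.C} : θ ∈ S.bF ↔ θ ∈ S.b := by simp [bF]

open Classical in
/-- The characters of `B` as a finset. -/
noncomputable def BF : Finset (IrrCharacter G) := Finset.univ.filter (· ∈ S.B)

theorem mem_BF {χ : IrrCharacter G} : χ ∈ S.BF ↔ χ ∈ S.B := by simp [BF]

/-- The multiplicity difference. -/
noncomputable def av (χ : IrrCharacter G) (θ : S.b) : ℂ :=
  mult χ (θ : IrrCharacter S.C) - mult χ (S.η : IrrCharacter S.C)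

/-- The function `θ - η`. -/
noncomputable def alpha (θ : S.b) (v : S.C) : ℂ :=
  ((θ : IrrCharacter S.C) : S.C → ℂ) v - ((S.η : IrrCharacter S.C) : S.C → ℂ) v

theorem av_eq (χ : IrrCharacter G) (θ : S.b) :
    S.av χ θ = (Nat.card S.C : ℂ)⁻¹ * ∑ v : S.C, (χ : G → ℂ) v * conj (S.alpha θ v) := by
  simp only [av, mult, classInner, alpha, map_sub, mul_sub, Finset.sum_sub_distrib]

theorem av_η (χ : IrrCharacter G) : S.av χ S.η = 0 := sub_self _

theorem av_smul (χ : IrrCharacter G) (s : S.T) (θ : S.b) : S.av χ (s • θ) = S.av χ θ := by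
  rw [av, av, S.mult_smul]

/-- The integer vector. -/
noncomputable def A (χ : IrrCharacter G) (j : S.J) : ℤ :=
  (exists_int_mult χ (S.rho j : IrrCharacter S.C)).choose -
    (exists_int_mult χ (S.η : IrrCharacter S.C)).choose

theorem coe_A (χ : IrrCharacter G) (j : S.J) : (S.A χ j : ℂ) = S.av χ (S.rho j) := by
  rw [av, (exists_int_mult χ (S.rho j : IrrCharacter S.C)).choose_spec,
    (exists_int_mult χ (S.η : IrrCharacter S.C)).choose_spec, A]
  push_cast
  rfl

theorem conj_av (χ : IrrCharacter G) (θ : S.b) : conj (S.av χ θ) = S.av χ θ := by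
  obtain ⟨a, ha⟩ := exists_int_mult χ (θ : IrrCharacter S.C)
  obtain ⟨b, hb⟩ := exists_int_mult χ (S.η : IrrCharacter S.C)
  rw [av, ha, hb]
  simp

theorem av_eq_A (χ : IrrCharacter G) (θ : S.b) :
    S.av χ θ = 0 ∨ ∃ j, S.av χ θ = S.A χ j := by
  by_cases h : θ = S.η
  · exact Or.inl (h ▸ S.av_η χ)
  · obtain ⟨s, j, rfl⟩ := S.exists_rho h
    exact Or.inr ⟨j, by rw [S.av_smul, S.coe_A]⟩

theorem alpha_regular (θ : S.b) {v : S.C} (hv : ¬ p ∣ orderOf v) : S.alpha θ v = 0 := by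
  rw [alpha, S.agree θ.2 hv, S.agree S.η.2 hv, sub_self]

theorem alpha_conj_D (θ : S.b) {v : S.C} (hv : S.alpha θ v ≠ 0) :
    p ∣ orderOf v ∧ ∃ y : S.C, ((y * pPart p v * y⁻¹ : S.C) : G) ∈ S.D := by
  refine ⟨by_contra fun h => hv (S.alpha_regular θ h), ?_⟩
  by_cases h1 : ((θ : IrrCharacter S.C) : S.C → ℂ) v = 0
  · exact S.exists_conj_D S.η.2 fun h2 => hv (by rw [alpha, h1, h2, sub_self])
  · exact S.exists_conj_D θ.2 h1

/-- The block sum vanishes at singular elements. -/
theorem sum_bF_singular {v : S.C} (hv : p ∣ orderOf v) :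
    ∑ θ ∈ S.bF, (θ : S.C → ℂ) v = 0 := by
  classical
  have hw := weak_orthogonality' S.hM (blockCoeff_mem_loc (M := M) S.hb) (g := v) (h := 1) hv
    (by rw [orderOf_one]; exact hp.out.not_dvd_one)
  rw [finsum_mem_irr, ← Finset.sum_filter] at hw
  have hd : ∀ θ ∈ S.bF, conj ((θ : S.C → ℂ) 1) = (S.θ₀ : S.C → ℂ) 1 := fun θ hθ => by
    rw [S.agree (S.mem_bF.mp hθ) (by rw [orderOf_one]; exact hp.out.not_dvd_one), charDegree_cast,
      Complex.conj_natCast]
  change ∑ θ ∈ S.bF, _ = 0 at hw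
  rw [Finset.sum_congr rfl fun θ hθ => by rw [hd θ hθ], ← Finset.sum_mul] at hw
  exact (mul_eq_zero.mp hw).resolve_right (CT.irr_one_ne_zero S.θ₀.2)

/-- A combination of the block vanishing at singular elements has constant coefficients. -/
theorem const_of_vanish (m : IrrCharacter S.C → ℂ)
    (h : ∀ v : S.C, p ∣ orderOf v → ∑ θ ∈ S.bF, m θ * (θ : S.C → ℂ) v = 0)
    {θ' : IrrCharacter S.C} (hθ' : θ' ∈ S.b) :
    m θ' = (∑ θ ∈ S.bF, m θ) * bfPair p S.θ₀ S.θ₀ := by
  classical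
  have h1 : classInner (fun v => ∑ θ ∈ S.bF, m θ * (θ : S.C → ℂ) v) (θ' : S.C → ℂ) = m θ' := by
    rw [show (fun v => ∑ θ ∈ S.bF, m θ * (θ : S.C → ℂ) v) =
      ∑ θ ∈ S.bF, m θ • (θ : S.C → ℂ) from funext fun v => by simp]
    rw [CT.classInner_sum_left, Finset.sum_congr rfl fun θ _ => by
      rw [CT.classInner_smul_left, CT.irr_inner_subtype], Finset.sum_eq_single θ']
    · simp
    · intro θ _ hne; rw [if_neg hne, mul_zero]
    · intro h; exact absurd (S.mem_bF.mpr hθ') h
  rw [← h1, classInner, bfPair_eq, regPair, mul_left_comm, Finset.mul_sum, Finset.mul_sum,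
    Finset.mul_sum]
  refine Finset.sum_congr rfl fun v _ => ?_
  split_ifs with hv
  · rw [h v hv]; simp
  · rw [Finset.sum_congr rfl fun θ hθ => by rw [S.agree (S.mem_bF.mp hθ) hv], ← Finset.sum_mul,
      S.agree hθ' hv]
    ring

theorem sum_mult_phi (χ : IrrCharacter G) {v : S.C} {a : MonoidAlgebra (Res M) S.C}
    (ha : a ∈ blkIdem M (pPart p v)) (hin : InB M S.b (pPart p v) a) :
    phi p χ (v : G) (embH S.C a) = ∑ θ ∈ S.bF, mult χ θ * phi p θ v a := by
  classical
  convert S.phi_section χ ha hin using 2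
  ext θ
  simp [S.mem_bF]

/-- The multiplicity differences of a character outside `B` vanish. -/
theorem av_not_mem {χ : IrrCharacter G} (hχ : χ ∉ S.B) (θ : S.b) : S.av χ θ = 0 := by
  classical
  have h : ∀ v : S.C, p ∣ orderOf v → ∑ θ ∈ S.bF, mult χ θ * (θ : S.C → ℂ) v = 0 := by
    intro v hv
    by_cases hz : ∀ θ ∈ S.bF, (θ : S.C → ℂ) v = 0
    · exact Finset.sum_eq_zero fun θ hθ => by rw [hz θ hθ, mul_zero]
    push Not at hz
    obtain ⟨θ₁, hθ₁, hne⟩ := hz
    have hle := S.cz_pPart_le (S.mem_bF.mp hθ₁) hv hne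
    rw [Finset.sum_congr rfl fun θ _ => by rw [← sum_phi S.hM θ v, Finset.mul_sum],
      Finset.sum_comm]
    refine Finset.sum_eq_zero fun a ha => ?_
    by_cases hin : InB M S.b (pPart p v) a
    · rw [← S.sum_mult_phi χ ha hin]
      refine phi_eq_zero_of_inB S.hM S.hB hχ ?_ ?_
      · rw [pPart_coe]; exact embH_mem_blkIdem hle ha
      · rw [pPart_coe]
        exact S.inB_embH hle (by rw [← pPart_coe]; exact ppart_pow_eq_one (pPart_spec _)) hin
    · exact Finset.sum_eq_zero fun θ hθ => by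
        rw [phi_eq_zero_of_not_inB S.hM S.hb (S.mem_bF.mp hθ) ha hin, mul_zero]
  rw [av, S.const_of_vanish _ h θ.2, S.const_of_vanish _ h S.η.2, sub_self]

theorem blockDefect_eq : blockDefect p S.b = blockDefect p S.B := by
  refine Nat.pow_right_injective hp.out.two_le ?_
  show p ^ blockDefect p S.b = p ^ blockDefect p S.B
  rw [← card_defectGroup S.hM S.hb S.defect_b, ← card_defectGroup S.hM S.hB S.hPD, S.card_D']

/-- Some multiplicity difference of a character of `B` is not zero. -/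
theorem exists_A_ne {χ : IrrCharacter G} (hχ : χ ∈ S.B) : ∃ j, S.A χ j ≠ 0 := by
  classical
  by_contra hall
  push Not at hall
  have hm : ∀ θ ∈ S.bF, mult χ θ = mult χ (S.η : IrrCharacter S.C) := fun θ hθ => by
    have h : S.av χ ⟨θ, S.mem_bF.mp hθ⟩ = 0 := by
      rcases S.av_eq_A χ ⟨θ, S.mem_bF.mp hθ⟩ with h | ⟨j, h⟩
      · exact h
      · rw [h, hall j, Int.cast_zero]
    exact sub_eq_zero.mp h
  obtain ⟨z', hz'⟩ : ∃ z' : S.C, (z' : G) = S.z := ⟨⟨S.z, mem_cz_self S.z⟩, rfl⟩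
  have hzp : ∃ k : ℕ, z' ^ p ^ k = 1 := by
    obtain ⟨k, hk⟩ := S.z_pow
    exact ⟨k, Subtype.ext (by simpa [hz'] using hk)⟩
  have hpz : pPart p z' = z' := pPart_self hzp
  have hzd : p ∣ orderOf z' := by rw [← Subgroup.orderOf_coe, hz', S.orderOf_z]
  have hbel : BelAt p M S.D S.c (z' : G) (bel M S.C S.b) := hz'.symm ▸ ⟨S.b, S.hle, rfl⟩
  obtain ⟨a, ha, hin, he⟩ := S.exists_of_belAt (hz'.symm ▸ S.z_mem) (hz'.symm ▸ S.z_ne) hbel
  have hab : a = (bBar M S.b : MonoidAlgebra (Res M) S.C) := embH_injective S.C he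
  have ha' : a ∈ blkIdem M (pPart p z') := hpz.symm ▸ ha
  have hin' : InB M S.b (pPart p z') a := hpz.symm ▸ hin
  have hval : ∀ θ ∈ S.bF, phi p θ z' a = (θ : S.C → ℂ) z' := by
    intro θ hθ
    rw [← sum_phi S.hM θ z', Finset.sum_eq_single a]
    · intro a' ha'' hne
      refine phi_eq_zero_of_not_inB S.hM S.hb (S.mem_bF.mp hθ) ha'' fun hi => ?_
      have h0 : a * a' = 0 := blkIdem_mul_of_ne S.hM ha' ha'' hne.symm
      rw [InB, hpz] at hi
      have htop : ∀ v : S.C, v ∈ cz z' := fun v => mem_cz_coe.mp (by rw [hz']; exact v.2)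
      rw [show trunc (cz z' : Set S.C) (bBar M S.b : MonoidAlgebra (Res M) S.C) = a from by
        rw [hab]; exact trunc_eq_self fun v hv => absurd (htop v) hv, h0] at hi
      exact blkIdem_ne_zero ha'' hi.symm
    · exact fun h => absurd ha' h
  have h1 : phi p χ (z' : G) (embH S.C a) = 0 := by
    rw [S.sum_mult_phi χ ha' hin', Finset.sum_congr rfl fun θ hθ => by rw [hm θ hθ, hval θ hθ],
      ← Finset.mul_sum, S.sum_bF_singular hzd, mul_zero]
  rw [he, hz'] at h1
  exact phi_ne_zero_of_full_defect S.hM S.z_pow (isInducedBlock_of_brauerPair S.hM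
    ((pairOf_iff_of_subpair S.hM S.hB ⟨_, S.b⟩ ⟨S.D, S.c⟩ S.hle).mp S.hmax.1))
    S.blockDefect_eq hχ h1

/-- Combinations killing all multiplicity vectors vanish at singular elements. -/
theorem vanish (c : IrrCharacter G → ℂ) (hc : ∀ j, ∑ χ ∈ S.BF, c χ * (S.A χ j : ℂ) = 0)
    {g : G} (hg : p ∣ orderOf g) : ∑ χ ∈ S.BF, c χ * (χ : G → ℂ) g = 0 := by
  classical
  rw [Finset.sum_congr rfl fun χ _ => by rw [← sum_phi S.hM χ g, Finset.mul_sum], Finset.sum_comm]
  refine Finset.sum_eq_zero fun a ha => ?_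
  by_cases hin : InB M S.B (pPart p g) a
  swap
  · exact Finset.sum_eq_zero fun χ hχ => by
      rw [phi_eq_zero_of_not_inB S.hM S.hB (S.mem_BF.mp hχ) ha hin, mul_zero]
  obtain ⟨y, hy⟩ := exists_belAt_of_inB S.hM S.hmax (ppart_pow_eq_one (pPart_spec g)) ha hin
  have hu : y * pPart p g * y⁻¹ ∈ S.D := belAt_mem hy
  have hu1 : y * pPart p g * y⁻¹ ≠ 1 := fun h =>
    (isPPart_one_iff.mp (conj_eq_one_iff.mp h ▸ pPart_spec (p := p) g)) hg
  have hg'C : y * g * y⁻¹ ∈ S.C := S.hcz hu hu1 (by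
    have := (mem_cz.mp (mem_cz_pPart (p := p) g)).map (MulAut.conj y)
    simpa using this.symm)
  obtain ⟨v, hv⟩ : ∃ v : S.C, (v : G) = y * g * y⁻¹ := ⟨⟨_, hg'C⟩, rfl⟩
  have hpv : ((pPart p v : S.C) : G) = y * pPart p g * y⁻¹ := by
    rw [← pPart_coe, hv, pPart_conj]
  obtain ⟨a', ha', hin', he⟩ := S.exists_of_belAt (u := pPart p v) (hpv ▸ hu) (hpv ▸ hu1) (hpv ▸ hy)
  have hphi : ∀ χ : IrrCharacter G, phi p χ g a = ∑ θ ∈ S.bF, mult χ θ * phi p θ v a' := fun χ => by
    rw [← S.sum_mult_phi χ ha' hin', he, hv, phi_conjA S.hM χ y (blkIdem_mul_self ha) (blk_commute ha)]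
  rw [Finset.sum_congr rfl fun χ _ => by rw [hphi χ, Finset.mul_sum], Finset.sum_comm]
  have hK : ∀ θ ∈ S.bF, ∑ χ ∈ S.BF, c χ * mult χ θ =
      ∑ χ ∈ S.BF, c χ * mult χ (S.η : IrrCharacter S.C) := fun θ hθ => by
    rw [← sub_eq_zero, ← Finset.sum_sub_distrib]
    simp only [← mul_sub]
    change ∑ χ ∈ S.BF, c χ * S.av χ ⟨θ, S.mem_bF.mp hθ⟩ = 0
    by_cases h : (⟨θ, S.mem_bF.mp hθ⟩ : S.b) = S.η
    · simp [h, S.av_η]
    · obtain ⟨s, j, hj⟩ := S.exists_rho h
      rw [← hj, Finset.sum_congr rfl fun χ _ => by rw [S.av_smul, ← S.coe_A]]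
      exact hc j
  rw [Finset.sum_congr rfl fun θ hθ => show ∑ χ ∈ S.BF, c χ * (mult χ θ * phi p θ v a') =
      (∑ χ ∈ S.BF, c χ * mult χ (S.η : IrrCharacter S.C)) * phi p θ v a' by
    rw [← hK θ hθ, Finset.sum_mul]; exact Finset.sum_congr rfl fun χ _ => by ring,
    ← Finset.mul_sum]
  have hsum := S.sum_deg_phi (h := v) (a := a') (by
      rw [← Subgroup.orderOf_coe, hv, show y * g * y⁻¹ = MulAut.conj y g from rfl,
        MulEquiv.orderOf_eq]
      exact hg) S.θ₀_mem (fun η hη w hw => S.agree hη hw) ha'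
  have : ∑ θ ∈ S.bF, phi p θ v a' = 0 := hsum
  rw [this, mul_zero]

/-- The multiplicity vectors are orthogonal to the values at regular elements. -/
theorem orth_regular (j : S.J) {g : G} (hg : ¬ p ∣ orderOf g) :
    ∑ χ ∈ S.BF, (χ : G → ℂ) g * (S.A χ j : ℂ) = 0 := by
  classical
  rw [Finset.sum_subset (Finset.subset_univ S.BF) fun χ _ hχ => by
    rw [S.coe_A, S.av_not_mem (fun h => hχ (S.mem_BF.mpr h)), mul_zero]]
  rw [Finset.sum_congr rfl fun χ _ => by rw [S.coe_A, ← S.conj_av, S.av_eq, map_mul, map_sum,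
    Finset.mul_sum, Finset.mul_sum]]
  rw [Finset.sum_comm]
  refine Finset.sum_eq_zero fun v _ => ?_
  by_cases hv : S.alpha (S.rho j) v = 0
  · simp [hv]
  have hsing := (S.alpha_conj_D _ hv).1
  have h0 := CT.column_orthogonality g (v : G)
  rw [if_neg fun hc => hg (by
    obtain ⟨w, hw⟩ := isConj_iff.mp hc
    rw [← MulEquiv.orderOf_eq (MulAut.conj w) g, MulAut.conj_apply, hw, Subgroup.orderOf_coe]
    exact hsing)] at h0
  calc ∑ χ : IrrCharacter G, _ = conj (Nat.card S.C : ℂ)⁻¹ * S.alpha (S.rho j) v *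
        ∑ χ : IrrCharacter G, (χ : G → ℂ) g * conj ((χ : G → ℂ) v) := by
        rw [Finset.mul_sum]
        exact Finset.sum_congr rfl fun χ _ => by simp only [map_mul, Complex.conj_conj]; ring
    _ = 0 := by rw [h0, mul_zero]

/-- The conjugate of a character by an element normalizing `C`. -/
noncomputable def cjN {w : G} (hw : w ∈ Subgroup.normalizer (S.C : Set G))
    (θ : IrrCharacter S.C) : IrrCharacter S.C :=
  Glauberman.compIrr (cIso w S.C S.C fun v => Subgroup.mem_normalizer_iff.mp hw v) θ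

theorem mem_T_of_cjN {w : G}
    (hN : w ∈ Subgroup.normalizer ((Subgroup.zpowers S.z : Subgroup G) : Set G))
    {θ : IrrCharacter S.C} (hθ : θ ∈ S.b)
    (h : S.cjN (normalizer_le_normalizer_centralizer _ hN) θ ∈ S.b) : w ∈ S.T := by
  refine (mem_stabSub S.hb).mpr ⟨hN, normalizer_le_normalizer_centralizer _ hN, fun χ hχ => ?_⟩
  obtain ⟨e, he⟩ : ∃ e, e = cIso w S.C S.C
      (fun v => Subgroup.mem_normalizer_iff.mp (normalizer_le_normalizer_centralizer _ hN) v) :=
    ⟨_, rfl⟩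
  have heq : pullSet e S.b = S.b :=
    block_eq_of_mem (isPBlock_pullSet e S.hb) S.hb
      ((compIrr_mem_pullSet e).mpr hθ) (he ▸ h)
  refine ⟨Glauberman.compIrr e χ, heq ▸ (compIrr_mem_pullSet e).mpr hχ, fun k k' hk => ?_⟩
  rw [Glauberman.compIrr_apply, he]
  refine congrArg _ (Subtype.ext ?_)
  show w⁻¹ * (k' : G) * w = (k : G)
  rw [hk]
  group

theorem inner_b (θ θ' : S.b) :
    classInner ((θ : IrrCharacter S.C) : S.C → ℂ) ((θ' : IrrCharacter S.C) : S.C → ℂ) =
      if θ = θ' then 1 else 0 := by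
  classical
  rw [CT.irr_inner_subtype]
  exact if_congr Subtype.coe_inj rfl rfl

open Classical in
/-- The Gram matrix. -/
theorem gram (i j : S.J) :
    ∑ χ ∈ S.BF, S.A χ i * S.A χ j = (S.e : ℤ) + if i = j then 1 else 0 := by
  classical
  suffices h : ∑ χ ∈ S.BF, (S.A χ j : ℂ) * (S.A χ i : ℂ) =
      (S.e : ℂ) + if i = j then 1 else 0 by
    have h' : ((∑ χ ∈ S.BF, S.A χ i * S.A χ j : ℤ) : ℂ) =
        (((S.e : ℤ) + if i = j then 1 else 0 : ℤ) : ℂ) := by
      push_cast
      rw [← h]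
      exact Finset.sum_congr rfl fun χ _ => mul_comm _ _
    exact_mod_cast h'
  rw [Finset.sum_subset (Finset.subset_univ S.BF) fun χ _ hχ => by
    rw [S.coe_A, S.coe_A, S.av_not_mem (fun h => hχ (S.mem_BF.mpr h)), zero_mul]]
  have hexp : ∀ χ : IrrCharacter G, (S.A χ j : ℂ) * (S.A χ i : ℂ) =
      (Nat.card S.C : ℂ)⁻¹ * (Nat.card S.C : ℂ)⁻¹ * ∑ k : S.C, ∑ h : S.C,
        conj (S.alpha (S.rho j) k) * S.alpha (S.rho i) h *
          ((χ : G → ℂ) k * conj ((χ : G → ℂ) h)) := fun χ => by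
    rw [S.coe_A, S.coe_A, ← S.conj_av χ (S.rho i), S.av_eq, S.av_eq, map_mul, map_sum, map_inv₀,
      Complex.conj_natCast, mul_mul_mul_comm, Finset.sum_mul_sum]
    congr 1
    refine Finset.sum_congr rfl fun k _ => Finset.sum_congr rfl fun h _ => ?_
    rw [map_mul, Complex.conj_conj]; ring
  rw [Finset.sum_congr rfl fun χ _ => hexp χ, ← Finset.mul_sum, Finset.sum_comm,
    Finset.sum_congr rfl fun k _ => Finset.sum_comm]
  simp only [← Finset.mul_sum]
  rw [Finset.sum_congr rfl fun k _ => Finset.sum_congr rfl fun h _ => by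
    rw [← sum_transport (k : G) (h : G), Finset.mul_sum], Finset.sum_congr rfl fun k _ => Finset.sum_comm,
    Finset.sum_comm]
  let F : G → ℂ := fun g => ∑ k : S.C, ∑ h : S.C, conj (S.alpha (S.rho j) k) *
    S.alpha (S.rho i) h * if g * (k : G) * g⁻¹ = (h : G) then 1 else 0
  show _ * ∑ g : G, F g = _
  have hF0 : ∀ g : G, g⁻¹ ∉ S.T → F g = 0 := by
    intro g hg
    by_cases hN : g⁻¹ ∈ Subgroup.normalizer ((Subgroup.zpowers S.z : Subgroup G) : Set G)
    · have hNC := normalizer_le_normalizer_centralizer (Subgroup.zpowers S.z) hN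
      have hmem : ∀ k : S.C, g * (k : G) * g⁻¹ ∈ S.C := fun k => by
        have := (Subgroup.mem_normalizer_iff''.mp hNC (k : G)).mp k.2
        simpa using this
      have hcj : ∀ (θ : IrrCharacter S.C) (k : S.C),
          (S.cjN hNC θ : S.C → ℂ) k = (θ : S.C → ℂ) ⟨_, hmem k⟩ := fun θ k => by
        show (θ : S.C → ℂ) _ = _
        exact congrArg _ (Subtype.ext (by simp [cIso]))
      have hne : ∀ θ θ' : S.b, classInner (S.cjN hNC (θ : IrrCharacter S.C) : S.C → ℂ)
          ((θ' : IrrCharacter S.C) : S.C → ℂ) = 0 := fun θ θ' => by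
        rw [CT.irr_inner_subtype, if_neg]
        exact fun h => hg (S.mem_T_of_cjN hN θ.2 (by rw [h]; exact θ'.2))
      have hFk : F g = ∑ k : S.C, conj (S.alpha (S.rho j) k) * S.alpha (S.rho i) ⟨_, hmem k⟩ := by
        refine Finset.sum_congr rfl fun k _ => ?_
        rw [Finset.sum_eq_single ⟨_, hmem k⟩]
        · rw [if_pos rfl, mul_one]
        · intro h _ hne'; rw [if_neg fun e => hne' (Subtype.ext e.symm), mul_zero]
        · simp
      have hC : (Nat.card S.C : ℂ) ≠ 0 := Nat.cast_ne_zero.mpr Nat.card_pos.ne'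
      refine (mul_eq_zero.mp (?_ : (Nat.card S.C : ℂ)⁻¹ * F g = 0)).resolve_left (inv_ne_zero hC)
      rw [hFk]
      have e1 : ∀ k : S.C, conj (S.alpha (S.rho j) k) * S.alpha (S.rho i) ⟨_, hmem k⟩ =
          (((S.cjN hNC (S.rho i : IrrCharacter S.C) : S.C → ℂ) -
            (S.cjN hNC (S.η : IrrCharacter S.C) : S.C → ℂ)) k) *
          conj ((((S.rho j : IrrCharacter S.C) : S.C → ℂ) -
            ((S.η : IrrCharacter S.C) : S.C → ℂ)) k) := fun k => by
        simp only [alpha, Pi.sub_apply, hcj]; ring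
      rw [Finset.sum_congr rfl fun k _ => e1 k, ← classInner, CT.classInner_sub_left,
        CT.classInner_sub_right, CT.classInner_sub_right, hne, hne, hne, hne]
      simp
    · refine Finset.sum_eq_zero fun k _ => Finset.sum_eq_zero fun h _ => ?_
      by_cases hk : S.alpha (S.rho j) k = 0
      · simp [hk]
      by_cases hh : S.alpha (S.rho i) h = 0
      · simp [hh]
      rw [if_neg fun e => hN ?_, mul_zero]
      obtain ⟨hk1, y, hy⟩ := S.alpha_conj_D _ hk
      obtain ⟨-, y', hy'⟩ := S.alpha_conj_D _ hh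
      have hx : ((pPart p h : S.C) : G) = g * ((pPart p k : S.C) : G) * g⁻¹ := by
        rw [← pPart_coe, ← e, pPart_conj, pPart_coe]
      simp only [Subgroup.coe_mul, Subgroup.coe_inv] at hy hy'
      rw [hx] at hy'
      have hd1 : (y : G) * ((pPart p k : S.C) : G) * (y : G)⁻¹ ≠ 1 := fun h1 =>
        (isPPart_one_iff.mp ((Subtype.ext (conj_eq_one_iff.mp h1) : pPart p k = 1) ▸
          pPart_spec (p := p) k)) hk1
      have hg0 := S.mem_normalizer_of_conj (g := (y : G) * g⁻¹ * (y' : G)⁻¹) hy hd1 (by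
        convert hy' using 1; group)
      have hCN : S.C ≤ Subgroup.normalizer ((Subgroup.zpowers S.z : Subgroup G) : Set G) :=
        Subgroup.centralizer_le_normalizer _
      have := mul_mem (mul_mem (inv_mem (hCN y.2)) hg0) (hCN y'.2)
      simpa [mul_assoc] using this
  have hFT : ∀ s : S.T, F ((s : G)⁻¹) =
      (Nat.card S.C : ℂ) * ((if s • S.rho i = S.rho j then 1 else 0) + 1) := by
    intro s
    have hFk : F ((s : G)⁻¹) = ∑ k : S.C, conj (S.alpha (S.rho j) k) *
        S.alpha (S.rho i) ⟨_, S.inv_conj_mem s k⟩ := by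
      refine Finset.sum_congr rfl fun k _ => ?_
      rw [Finset.sum_eq_single ⟨_, S.inv_conj_mem s k⟩]
      · rw [if_pos (by rw [inv_inv]), mul_one]
      · intro h _ hne'
        rw [if_neg fun e => hne' (Subtype.ext (by rw [← e, inv_inv])), mul_zero]
      · simp
    have e1 : ∀ k : S.C, conj (S.alpha (S.rho j) k) * S.alpha (S.rho i) ⟨_, S.inv_conj_mem s k⟩ =
        (((((s • S.rho i : S.b) : IrrCharacter S.C) : S.C → ℂ) -
          (((s • S.η : S.b) : IrrCharacter S.C) : S.C → ℂ)) k) *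
        conj ((((S.rho j : IrrCharacter S.C) : S.C → ℂ) -
          ((S.η : IrrCharacter S.C) : S.C → ℂ)) k) := fun k => by
      simp only [alpha, Pi.sub_apply, smul_apply]; ring
    have hC : (Nat.card S.C : ℂ) ≠ 0 := Nat.cast_ne_zero.mpr Nat.card_pos.ne'
    rw [← inv_mul_eq_iff_eq_mul₀ hC, hFk, Finset.sum_congr rfl fun k _ => e1 k, ← classInner,
      CT.classInner_sub_left, CT.classInner_sub_right, CT.classInner_sub_right, inner_b, inner_b,
      inner_b, inner_b, S.smul_η, if_neg (S.smul_rho_ne s i), if_neg (S.rho_ne j).symm, if_pos rfl]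
    ring
  have hsum : ∑ g : G, F g = ∑ s : S.T, F ((s : G)⁻¹) := by
    rw [← Equiv.sum_comp (Equiv.inv G) F]
    simp only [Equiv.inv_apply]
    rw [← Finset.sum_subset (Finset.subset_univ (Finset.univ.filter (· ∈ S.T))) fun g _ hg =>
      hF0 g⁻¹ (by rw [inv_inv]; exact fun h => hg (Finset.mem_filter.mpr ⟨Finset.mem_univ _, h⟩))]
    exact Finset.sum_subtype (Finset.univ.filter (· ∈ S.T)) (by simp) fun g => F g⁻¹
  rw [hsum, Finset.sum_congr rfl fun s _ => hFT s, ← Finset.mul_sum, Finset.sum_add_distrib,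
    Finset.sum_boole, Finset.sum_const, Finset.card_univ, ← Nat.card_eq_fintype_card, S.card_T,
    nsmul_eq_mul, mul_one]
  have hC : (Nat.card S.C : ℂ) ≠ 0 := Nat.cast_ne_zero.mpr Nat.card_pos.ne'
  have hcard : (Finset.univ.filter fun s : S.T => s • S.rho i = S.rho j).card =
      if i = j then Nat.card S.C else 0 := by
    split_ifs with hij
    · subst hij
      rw [Nat.card_eq_fintype_card, ← Finset.card_univ]
      refine Finset.card_bij' (fun s hs => (⟨s.1, S.smul_rho_iff.mp (Finset.mem_filter.mp hs).2⟩ : S.C))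
        (fun k _ => (⟨k.1, S.hCT k.2⟩ : S.T)) (fun _ _ => Finset.mem_univ _)
        (fun k _ => Finset.mem_filter.mpr ⟨Finset.mem_univ _, S.smul_rho_iff.mpr k.2⟩)
        (fun _ _ => rfl) (fun _ _ => rfl)
    · exact Finset.card_eq_zero.mpr (Finset.filter_eq_empty_iff.mpr fun s _ h =>
        hij (S.eq_of_smul_rho h))
  rw [hcard]
  push_cast
  split_ifs <;> field_simp <;> ring

end Setting

end Cfsg.Agent.Blocks.Cyclic
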