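import Cfsg.Agent.Lib.Blocks.CornerAlgebra
import Mathlib.LinearAlgebra.Matrix.Rank
import Mathlib.LinearAlgebra.Matrix.Basis
import Mathlib.LinearAlgebra.Projection

/-!
# Additive functions on the idempotents of a finite dimensional algebra

Every additive function on idempotents that is constant on conjugates is a combination of the ranks
in the simple components.
-/

set_option linter.unusedSectionVars false

namespace Cfsg.Agent.SplitAlg

open Module Matrix

universe u v w

variable {K : Type u} [Field K]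

/-- The diagonal idempotent matrix of rank `k`. -/
noncomputable def stdIdem (n k : ℕ) : Matrix (Fin n) (Fin n) K :=
  Matrix.diagonal fun j => if (j : ℕ) < k then 1 else 0

theorem stdIdem_mul_self (n k : ℕ) : stdIdem (K := K) n k * stdIdem n k = stdIdem n k := by
  rw [stdIdem, Matrix.diagonal_mul_diagonal]
  congr 1
  funext j
  split_ifs <;> simp

theorem rank_stdIdem {n k : ℕ} (h : k ≤ n) : (stdIdem (K := K) n k).rank = k := by
  classical
  rw [stdIdem, Matrix.rank_diagonal]
  refine Fintype.card_of_subtype ((Finset.univ : Finset (Fin k)).map (Fin.castLEEmb h))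
    (fun j => ?_) |>.trans (by simp)
  simp only [Finset.mem_map, Finset.mem_univ, true_and, Fin.castLEEmb_apply, ne_eq,
    ite_eq_right_iff, one_ne_zero, imp_false, not_not]
  exact ⟨fun ⟨a, ha⟩ => ha ▸ a.2, fun hj => ⟨⟨j, hj⟩, rfl⟩⟩

/-- An idempotent matrix is similar to the standard one of the same rank. -/
theorem exists_conj_stdIdem {n : ℕ} (E : Matrix (Fin n) (Fin n) K) (hE : E * E = E) :
    ∃ P : (Matrix (Fin n) (Fin n) K)ˣ,
      (P : Matrix (Fin n) (Fin n) K) * E * (↑P⁻¹ : Matrix (Fin n) (Fin n) K) = stdIdem n E.rank := by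
  classical
  set f := Matrix.toLin' E with hf
  have hff : IsIdempotentElem f := by
    rw [IsIdempotentElem, hf, Module.End.mul_eq_comp, ← Matrix.toLin'_mul, hE]
  have hc : IsCompl (LinearMap.range f) (LinearMap.ker f) :=
    LinearMap.IsProj.isCompl (LinearMap.IsIdempotentElem.isProj_range f hff)
  have hr : finrank K (LinearMap.range f) = E.rank := by
    rw [hf, Matrix.toLin'_apply', Matrix.rank]
  have hk : finrank K (LinearMap.ker f) = n - E.rank := by
    have := LinearMap.finrank_range_add_finrank_ker f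
    rw [hr, Module.finrank_fin_fun] at this
    omega
  have hle : E.rank ≤ n := (Matrix.rank_le_card_width E).trans_eq (Fintype.card_fin n)
  let b : Basis (Fin n) K (Fin n → K) :=
    ((((finBasisOfFinrankEq K _ hr).prod (finBasisOfFinrankEq K _ hk)).map
      (Submodule.prodEquivOfIsCompl _ _ hc)).reindex
      (finSumFinEquiv.trans (finCongr (Nat.add_sub_cancel' hle))))
  have hb : ∀ j : Fin n, f (b j) = (if (j : ℕ) < E.rank then (1 : K) else 0) • b j := by
    intro j
    obtain ⟨s, rfl⟩ := (finSumFinEquiv.trans (finCongr (Nat.add_sub_cancel' hle))).surjective j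
    rcases s with a | a
    · rw [if_pos (by simp), one_smul]
      have hmem : b ((finSumFinEquiv.trans (finCongr (Nat.add_sub_cancel' hle))) (Sum.inl a)) ∈
          LinearMap.range f := by
        simp [b]
      exact (LinearMap.IsIdempotentElem.isProj_range f hff).map_id _ hmem
    · rw [if_neg (by simp), zero_smul]
      have hmem : b ((finSumFinEquiv.trans (finCongr (Nat.add_sub_cancel' hle))) (Sum.inr a)) ∈
          LinearMap.ker f := by
        simp [b]
      exact LinearMap.mem_ker.1 hmem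
  let s := Pi.basisFun K (Fin n)
  let P : (Matrix (Fin n) (Fin n) K)ˣ :=
    ⟨b.toMatrix s, s.toMatrix b, b.toMatrix_mul_toMatrix_flip s, s.toMatrix_mul_toMatrix_flip b⟩
  refine ⟨P, ?_⟩
  show b.toMatrix s * E * s.toMatrix b = _
  have h1 : E = LinearMap.toMatrix s s f := by
    rw [LinearMap.toMatrix_eq_toMatrix', hf, LinearMap.toMatrix'_toLin']
  conv_lhs => rw [h1]
  rw [basis_toMatrix_mul_linearMap_toMatrix_mul_basis_toMatrix]
  ext i j
  rw [LinearMap.toMatrix_apply, hb, map_smul, Basis.repr_self, Finsupp.smul_apply, smul_eq_mul,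
    Finsupp.single_apply, stdIdem, Matrix.diagonal_apply]
  rcases eq_or_ne i j with h | h
  · subst h; simp
  · simp [h, h.symm]

theorem rank_conj {n : ℕ} (P : (Matrix (Fin n) (Fin n) K)ˣ) (E : Matrix (Fin n) (Fin n) K) :
    ((P : Matrix (Fin n) (Fin n) K) * E * (↑P⁻¹ : Matrix (Fin n) (Fin n) K)).rank = E.rank := by
  rw [Matrix.rank_mul_eq_left_of_isUnit_det _ _ ((Matrix.isUnit_iff_isUnit_det _).1 P⁻¹.isUnit),
    Matrix.rank_mul_eq_right_of_isUnit_det _ _ ((Matrix.isUnit_iff_isUnit_det _).1 P.isUnit)]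

/-- Idempotent matrices of the same rank are similar. -/
theorem exists_conj_of_rank_eq {n : ℕ} {E F : Matrix (Fin n) (Fin n) K} (hE : E * E = E)
    (hF : F * F = F) (h : E.rank = F.rank) : ∃ P : (Matrix (Fin n) (Fin n) K)ˣ,
      (P : Matrix (Fin n) (Fin n) K) * E * (↑P⁻¹ : Matrix (Fin n) (Fin n) K) = F := by
  obtain ⟨P, hP⟩ := exists_conj_stdIdem E hE
  obtain ⟨Q, hQ⟩ := exists_conj_stdIdem F hF
  refine ⟨Q⁻¹ * P, ?_⟩
  rw [h, ← hQ] at hP
  calc (↑(Q⁻¹ * P) : Matrix (Fin n) (Fin n) K) * E * ↑(Q⁻¹ * P)⁻¹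
      = (↑Q⁻¹ : Matrix (Fin n) (Fin n) K) * (↑P * E * ↑P⁻¹) * ↑Q := by
        simp [mul_assoc]
    _ = F := by
        rw [hP]
        simp [← mul_assoc, mul_assoc _ (↑Q⁻¹ : Matrix (Fin n) (Fin n) K) ↑Q]

/-- Ranks of orthogonal idempotents add. -/
theorem rank_add_of_orth {n : ℕ} {E F : Matrix (Fin n) (Fin n) K} (hE : E * E = E)
    (hF : F * F = F) (hEF : E * F = 0) (hFE : F * E = 0) : (E + F).rank = E.rank + F.rank := by
  classical
  simp only [Matrix.rank]
  have key : LinearMap.range (E + F).mulVecLin =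
      LinearMap.range E.mulVecLin ⊔ LinearMap.range F.mulVecLin := by
    refine le_antisymm ?_ (sup_le ?_ ?_)
    · rintro _ ⟨v, rfl⟩
      rw [Matrix.mulVecLin_add, LinearMap.add_apply]
      exact Submodule.add_mem_sup ⟨v, rfl⟩ ⟨v, rfl⟩
    · rintro _ ⟨v, rfl⟩
      exact ⟨E *ᵥ v, by simp [Matrix.mulVec_mulVec, add_mul, hE, hFE]⟩
    · rintro _ ⟨v, rfl⟩
      exact ⟨F *ᵥ v, by simp [Matrix.mulVec_mulVec, add_mul, hF, hEF]⟩
  have hd : LinearMap.range E.mulVecLin ⊓ LinearMap.range F.mulVecLin = ⊥ := by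
    rw [eq_bot_iff]
    rintro x ⟨⟨v, rfl⟩, ⟨w, hw⟩⟩
    simp only [Matrix.mulVecLin_apply] at hw ⊢
    rw [Submodule.mem_bot]
    calc E *ᵥ v = E *ᵥ (E *ᵥ v) := by rw [Matrix.mulVec_mulVec, hE]
      _ = E *ᵥ (F *ᵥ w) := by rw [hw]
      _ = 0 := by rw [Matrix.mulVec_mulVec, hEF, Matrix.zero_mulVec]
  have h := Submodule.finrank_sup_add_finrank_inf_eq (LinearMap.range E.mulVecLin)
    (LinearMap.range F.mulVecLin)
  rw [hd, finrank_bot, add_zero] at h
  rw [key, h]

variable (K) in
/-- A splitting of the semisimple quotient of an algebra. -/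
structure Split (S : Type v) [Ring S] [Algebra K S] where
  /-- the number of simple components -/
  r : ℕ
  /-- their degrees -/
  d : Fin r → ℕ
  /-- the quotient map -/
  π : S →ₐ[K] Π i, Matrix (Fin (d i)) (Fin (d i)) K
  surj : Function.Surjective π
  nil : ∀ x, π x = 0 → IsNilpotent x
  pos : ∀ i, 0 < d i

variable {S : Type v} [Ring S] [Algebra K S]

theorem nonempty_split [IsAlgClosed K] [FiniteDimensional K S] : Nonempty (Split K S) := by
  obtain ⟨r, d, π, hπ, hd, N, hN⟩ := Corner.exists_matrix_quotient (K := K) (R := S)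
  refine ⟨⟨r, d, π, hπ, fun x hx => ⟨N, ?_⟩, fun i => (hd i).pos⟩⟩
  have := Ideal.pow_mem_pow (show x ∈ RingHom.ker π.toRingHom from hx) N
  rw [hN] at this
  exact this

namespace Split

variable (Sp : Split K S)

/-- The rank of an element in a simple component. -/
noncomputable def rk (x : S) (i : Fin Sp.r) : ℕ := (Sp.π x i).rank

/-- The trace of an element in a simple component. -/
noncomputable def tra (x : S) (i : Fin Sp.r) : K := (Sp.π x i).trace

theorem tra_add (x y : S) (i : Fin Sp.r) : Sp.tra (x + y) i = Sp.tra x i + Sp.tra y i := by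
  simp [tra, Matrix.trace_add]

theorem tra_smul (c : K) (x : S) (i : Fin Sp.r) : Sp.tra (c • x) i = c * Sp.tra x i := by
  simp [tra, Matrix.trace_smul]

theorem tra_mul_comm (x y : S) (i : Fin Sp.r) : Sp.tra (x * y) i = Sp.tra (y * x) i := by
  simp only [tra, map_mul, Pi.mul_apply]
  exact Matrix.trace_mul_comm _ _

theorem idem_eq_zero {x : S} (hx : x * x = x) (h : Sp.π x = 0) : x = 0 := by
  obtain ⟨n, hn⟩ := Sp.nil x h
  rcases n with - | n
  · rw [pow_zero] at hn
    rw [← mul_one x, hn, mul_zero]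
  · rwa [IsIdempotentElem.pow_succ_eq n hx] at hn

theorem isUnit_of_map_eq_one {x : S} (h : Sp.π x = 1) : IsUnit x := by
  have := (Sp.nil (x - 1) (by rw [map_sub, h, map_one, sub_self])).isUnit_one_add
  rwa [add_sub_cancel] at this

theorem exists_unit_lift (U : (Π i, Matrix (Fin (Sp.d i)) (Fin (Sp.d i)) K)ˣ) :
    ∃ v : Sˣ, Sp.π v = U := by
  obtain ⟨a, ha⟩ := Sp.surj (U : Π i, Matrix (Fin (Sp.d i)) (Fin (Sp.d i)) K)
  obtain ⟨b, hb⟩ := Sp.surj (↑U⁻¹ : Π i, Matrix (Fin (Sp.d i)) (Fin (Sp.d i)) K)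
  obtain ⟨u, hu⟩ := Sp.isUnit_of_map_eq_one (x := a * b) (by rw [map_mul, ha, hb, Units.mul_inv])
  obtain ⟨u', hu'⟩ := Sp.isUnit_of_map_eq_one (x := b * a) (by rw [map_mul, ha, hb, Units.inv_mul])
  have hinv : b * (↑u⁻¹ : S) = (↑u'⁻¹ : S) * b := by
    rw [Units.eq_inv_mul_iff_mul_eq, ← mul_assoc, Units.mul_inv_eq_iff_eq_mul, hu, hu', mul_assoc]
  refine ⟨⟨a, b * (↑u⁻¹ : S), ?_, ?_⟩, ha⟩
  · rw [← mul_assoc, ← hu, Units.mul_inv]
  · rw [hinv, mul_assoc, ← hu', Units.inv_mul]

/-- Idempotents with similar images are conjugate. -/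
theorem exists_conj_of_map {f g : S} (hf : f * f = f) (hg : g * g = g)
    (h : ∀ i, Sp.rk f i = Sp.rk g i) : ∃ v : Sˣ, f = (v : S) * g * (↑v⁻¹ : S) := by
  classical
  have hi : ∀ x : S, x * x = x → ∀ i, Sp.π x i * Sp.π x i = Sp.π x i := fun x hx i => by
    rw [← Pi.mul_apply, ← map_mul, hx]
  choose P hP using fun i => exists_conj_of_rank_eq (hi g hg i) (hi f hf i) (h i).symm
  obtain ⟨w, hw⟩ := Sp.exists_unit_lift ⟨fun i => (P i : Matrix (Fin (Sp.d i)) (Fin (Sp.d i)) K),
    fun i => (↑(P i)⁻¹ : Matrix (Fin (Sp.d i)) (Fin (Sp.d i)) K), funext fun i => (P i).mul_inv,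
    funext fun i => (P i).inv_mul⟩
  obtain ⟨g', hg'⟩ : ∃ g' : S, g' = (w : S) * g * (↑w⁻¹ : S) := ⟨_, rfl⟩
  have hg'' : g' * g' = g' := by
    rw [hg']
    calc (w : S) * g * ↑w⁻¹ * (↑w * g * ↑w⁻¹) = ↑w * (g * (↑w⁻¹ * ↑w) * g) * ↑w⁻¹ := by
          simp only [mul_assoc]
      _ = _ := by rw [Units.inv_mul, mul_one, hg]
  have e : Sp.π f = Sp.π g' := by
    funext i
    have hwi : (Sp.π (↑w⁻¹ : S)) i = (↑(P i)⁻¹ : Matrix (Fin (Sp.d i)) (Fin (Sp.d i)) K) := by
      have h2 : Sp.π (↑w⁻¹ : S) * Sp.π (w : S) = 1 := by rw [← map_mul, Units.inv_mul, map_one]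
      rw [hw] at h2
      have h3 := congrFun h2 i
      rw [Pi.mul_apply, Pi.one_apply] at h3
      exact (Units.inv_eq_of_mul_eq_one_left h3).symm
    rw [hg', map_mul, map_mul, Pi.mul_apply, Pi.mul_apply, hw, hwi, ← hP i]
  have hf1 : Sp.π f * Sp.π f = Sp.π f := by rw [← map_mul, hf]
  obtain ⟨v, hv⟩ := Sp.isUnit_of_map_eq_one (x := f * g' + (1 - f) * (1 - g')) (by
    simp only [map_add, map_mul, map_sub, map_one, ← e, mul_sub, sub_mul, one_mul, mul_one, hf1]
    abel)
  have h1 : f * (v : S) = f * g' := by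
    rw [hv, mul_add, ← mul_assoc, hf, ← mul_assoc f (1 - f), mul_sub f 1 f, mul_one, hf, sub_self,
      zero_mul, add_zero]
  have h2 : (v : S) * g' = f * g' := by
    rw [hv, add_mul, mul_assoc f, hg'', mul_assoc (1 - f), sub_mul 1 g', one_mul, hg'', sub_self,
      mul_zero, add_zero]
  refine ⟨v * w, ?_⟩
  have h3 : f = (v : S) * g' * (↑v⁻¹ : S) := by rw [h2, ← h1, Units.mul_inv_cancel_right]
  rw [h3, hg', Units.val_mul, _root_.mul_inv_rev, Units.val_mul]
  simp only [mul_assoc]

theorem rk_conj (v : Sˣ) (f : S) (i : Fin Sp.r) :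
    Sp.rk ((v : S) * f * (↑v⁻¹ : S)) i = Sp.rk f i := by
  simp only [rk, map_mul, Pi.mul_apply]
  exact rank_conj (Units.map (((Pi.evalRingHom _ i).comp Sp.π.toRingHom).toMonoidHom) v) _

theorem rk_add {f g : S} (hf : f * f = f) (hg : g * g = g) (hfg : f * g = 0) (hgf : g * f = 0)
    (i : Fin Sp.r) : Sp.rk (f + g) i = Sp.rk f i + Sp.rk g i := by
  simp only [rk, map_add, Pi.add_apply]
  refine rank_add_of_orth ?_ ?_ ?_ ?_ <;> rw [← Pi.mul_apply, ← map_mul]
  · rw [hf]
  · rw [hg]
  · rw [hfg, map_zero, Pi.zero_apply]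
  · rw [hgf, map_zero, Pi.zero_apply]

theorem rk_one (i : Fin Sp.r) : Sp.rk 1 i = Sp.d i := by
  simp [rk, Matrix.rank_one]

theorem rk_zero (i : Fin Sp.r) : Sp.rk 0 i = 0 := by
  simp [rk, Matrix.rank_zero]

/-- The trace of an idempotent is its rank. -/
theorem tra_idem {f : S} (hf : f * f = f) (i : Fin Sp.r) : Sp.tra f i = (Sp.rk f i : K) := by
  classical
  have hi : Sp.π f i * Sp.π f i = Sp.π f i := by rw [← Pi.mul_apply, ← map_mul, hf]
  obtain ⟨P, hP⟩ := exists_conj_stdIdem _ hi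
  have hle : (Sp.π f i).rank ≤ Sp.d i :=
    (Matrix.rank_le_card_width _).trans_eq (Fintype.card_fin _)
  rw [tra, ← Matrix.trace_units_conj P, hP, rk, stdIdem, Matrix.trace_diagonal,
    Finset.sum_boole]
  congr 1
  rw [← Fintype.card_subtype]
  refine Fintype.card_of_subtype ((Finset.univ : Finset (Fin _)).map (Fin.castLEEmb hle))
    (fun j => ?_) |>.trans (by simp)
  simp only [Finset.mem_map, Finset.mem_univ, true_and, Fin.castLEEmb_apply]
  exact ⟨fun ⟨a, ha⟩ => ha ▸ a.2, fun hj => ⟨⟨j, hj⟩, rfl⟩⟩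

theorem exists_prim (i : Fin Sp.r) : ∃ e : S, e * e = e ∧
    Sp.π e = Pi.single i (stdIdem (K := K) (Sp.d i) 1) := by
  classical
  obtain ⟨e, he, hπe⟩ := exists_isIdempotentElem_eq_of_ker_isNilpotent Sp.π.toRingHom
    (fun x hx => Sp.nil x hx) (Pi.single i (stdIdem (K := K) (Sp.d i) 1)) (Sp.surj _) (by
      rw [IsIdempotentElem, ← Pi.single_mul, stdIdem_mul_self])
  exact ⟨e, he, hπe⟩

/-- A primitive idempotent of the given component. -/
noncomputable def prim (i : Fin Sp.r) : S := (Sp.exists_prim i).choose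

theorem prim_idem (i : Fin Sp.r) : Sp.prim i * Sp.prim i = Sp.prim i :=
  (Sp.exists_prim i).choose_spec.1

theorem map_prim (i : Fin Sp.r) : Sp.π (Sp.prim i) = Pi.single i (stdIdem (Sp.d i) 1) :=
  (Sp.exists_prim i).choose_spec.2

theorem rk_prim (i k : Fin Sp.r) : Sp.rk (Sp.prim i) k = if k = i then 1 else 0 := by
  classical
  simp only [rk, map_prim]
  split_ifs with h
  · subst h
    rw [Pi.single_eq_same, rank_stdIdem (Sp.pos k)]
  · rw [Pi.single_eq_of_ne h, Matrix.rank_zero]

/-- An idempotent below a primitive one is zero or equal to it. -/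
theorem eq_prim_or_zero {f : S} (hf : f * f = f) {i : Fin Sp.r} (h1 : f * Sp.prim i = f)
    (h2 : Sp.prim i * f = f) : f = 0 ∨ f = Sp.prim i := by
  classical
  have hg : (Sp.prim i - f) * (Sp.prim i - f) = Sp.prim i - f := by
    rw [sub_mul, mul_sub, mul_sub, prim_idem, h1, h2, hf, sub_self, sub_zero]
  have hz : ∀ x : S, x * x = x → (∀ k, Sp.rk x k = 0) → x = 0 := fun x hx h => by
    refine Sp.idem_eq_zero hx (funext fun k => ?_)
    obtain ⟨P, hP⟩ := exists_conj_stdIdem (Sp.π x k) (by rw [← Pi.mul_apply, ← map_mul, hx])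
    have h0 : (Sp.π x k).rank = 0 := h k
    have hs : stdIdem (K := K) (Sp.d k) 0 = 0 := by simp [stdIdem]
    rw [h0, hs] at hP
    have := congrArg (fun A => (↑P⁻¹ : Matrix (Fin (Sp.d k)) (Fin (Sp.d k)) K) * A *
      (P : Matrix (Fin (Sp.d k)) (Fin (Sp.d k)) K)) hP
    simpa [mul_assoc] using this
  have hsum : ∀ k, Sp.rk f k + Sp.rk (Sp.prim i - f) k = if k = i then 1 else 0 := fun k => by
    rw [← Sp.rk_add hf hg (by rw [mul_sub, h1, hf, sub_self]) (by rw [sub_mul, h2, hf, sub_self]),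
      add_sub_cancel, rk_prim]
  rcases Nat.eq_zero_or_pos (Sp.rk f i) with h | h
  · refine Or.inl (hz f hf fun k => ?_)
    have := hsum k
    rcases eq_or_ne k i with rfl | hk
    · exact h
    · rw [if_neg hk] at this; omega
  · refine Or.inr (sub_eq_zero.1 (hz _ hg fun k => ?_)).symm
    have := hsum k
    rcases eq_or_ne k i with rfl | hk
    · rw [if_pos rfl] at this; omega
    · rw [if_neg hk] at this; omega

/-- Additive conjugation invariant functions are combinations of the ranks. -/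
theorem additive_eq {A : Type w} [AddCancelCommMonoid A] (m : S → A)
    (hadd : ∀ f g, f * f = f → g * g = g → f * g = 0 → g * f = 0 → m (f + g) = m f + m g)
    (hconj : ∀ (f : S) (v : Sˣ), f * f = f → m ((v : S) * f * (↑v⁻¹ : S)) = m f)
    {f : S} (hf : f * f = f) : m f = ∑ i, Sp.rk f i • m (Sp.prim i) := by
  classical
  obtain ⟨n, hn⟩ : ∃ n, ∑ i, Sp.rk f i = n := ⟨_, rfl⟩
  induction n using Nat.strong_induction_on generalizing f with
  | _ n ih =>
    have hm0 : m 0 = 0 := by
      have := hadd 0 0 (by simp) (by simp) (by simp) (by simp)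
      rw [add_zero] at this
      exact left_eq_add.1 this
    by_cases hz : ∀ i, Sp.rk f i = 0
    · obtain ⟨v, hv⟩ := Sp.exists_conj_of_map hf (g := 0) (by simp)
        (fun i => (hz i).trans (Sp.rk_zero i).symm)
      rw [hv, mul_zero, zero_mul, hm0]
      exact (Finset.sum_eq_zero fun i _ => by simp [Sp.rk_zero]).symm
    · push Not at hz
      obtain ⟨i, hi⟩ := hz
      -- split off a conjugate of a primitive idempotent
      obtain ⟨k, hk⟩ : ∃ k, Sp.rk f i = k + 1 := Nat.exists_eq_succ_of_ne_zero hi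
      have hfi : ∀ j, Sp.π f j * Sp.π f j = Sp.π f j := fun j => by
        rw [← Pi.mul_apply, ← map_mul, hf]
      obtain ⟨P, hP⟩ := exists_conj_stdIdem (Sp.π f i) (hfi i)
      let B : Matrix (Fin (Sp.d i)) (Fin (Sp.d i)) K :=
        (↑P⁻¹ : Matrix (Fin (Sp.d i)) (Fin (Sp.d i)) K) * stdIdem (Sp.d i) 1 * (P : Matrix (Fin (Sp.d i)) (Fin (Sp.d i)) K)
      have hstd : stdIdem (K := K) (Sp.d i) (k + 1) * stdIdem (Sp.d i) 1 = stdIdem (Sp.d i) 1 ∧
          stdIdem (K := K) (Sp.d i) 1 * stdIdem (Sp.d i) (k + 1) = stdIdem (Sp.d i) 1 := by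
        constructor <;>
        · rw [stdIdem, stdIdem, Matrix.diagonal_mul_diagonal]
          congr 1
          funext j
          split_ifs <;> first | (exfalso; omega) | simp
      rw [show (Sp.π f i).rank = k + 1 from hk] at hP
      have hPf : Sp.π f i = (↑P⁻¹ : Matrix (Fin (Sp.d i)) (Fin (Sp.d i)) K) *
          stdIdem (Sp.d i) (k + 1) * (P : Matrix (Fin (Sp.d i)) (Fin (Sp.d i)) K) := by
        rw [← hP]; simp [mul_assoc]
      have hB : B * B = B ∧ Sp.π f i * B = B ∧ B * Sp.π f i = B := by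
        refine ⟨?_, ?_, ?_⟩
        · simp only [B, mul_assoc, Units.mul_inv_cancel_left]
          rw [← mul_assoc (stdIdem _ _) (stdIdem _ _), stdIdem_mul_self]
        · rw [hPf]
          simp only [B, mul_assoc, Units.mul_inv_cancel_left]
          rw [← mul_assoc (stdIdem _ _) (stdIdem _ _), hstd.1]
        · rw [hPf]
          simp only [B, mul_assoc, Units.mul_inv_cancel_left]
          rw [← mul_assoc (stdIdem _ _) (stdIdem _ _), hstd.2]
      obtain ⟨y, hy⟩ := Sp.surj (Pi.single i B)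
      obtain ⟨x, hx⟩ : ∃ x : S, x = f * y * f := ⟨_, rfl⟩
      have hπx : Sp.π x = Pi.single i B := by
        rw [hx, map_mul, map_mul, hy]
        funext j
        rcases eq_or_ne j i with rfl | hj
        · simp [hB.2.1, hB.2.2]
        · simp [Pi.single_eq_of_ne hj]
      -- lift inside the corner
      have hxc : f * x = x ∧ x * f = x := by
        constructor
        · rw [hx, ← mul_assoc, ← mul_assoc, hf]
        · rw [hx, mul_assoc, hf]
      obtain ⟨e, he, hef, hfe, hπe⟩ : ∃ e : S, e * e = e ∧ e * f = e ∧ f * e = e ∧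
          Sp.π e = Pi.single i B := by
        obtain ⟨e', he', hπe', h1, h2⟩ := exists_isIdempotentElem_mul_eq_zero_of_ker_isNilpotent
          Sp.π.toRingHom (fun x hx => Sp.nil x hx) (Pi.single i B) ⟨x, hπx⟩
          (by rw [IsIdempotentElem, ← Pi.single_mul, hB.1]) (1 - f)
          (IsIdempotentElem.one_sub hf) (by
            show Pi.single i B * Sp.π (1 - f) = 0
            rw [← hπx, ← map_mul, mul_sub, mul_one, hxc.2, sub_self, map_zero]) (by
            show Sp.π (1 - f) * Pi.single i B = 0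
            rw [← hπx, ← map_mul, sub_mul, one_mul, hxc.1, sub_self, map_zero])
        refine ⟨e', he', ?_, ?_, hπe'⟩
        · rw [mul_sub, mul_one, sub_eq_zero] at h1; exact h1.symm
        · rw [sub_mul, one_mul, sub_eq_zero] at h2; exact h2.symm
      have hre : ∀ j, Sp.rk e j = Sp.rk (Sp.prim i) j := fun j => by
        rw [rk_prim]
        simp only [rk, hπe]
        rcases eq_or_ne j i with rfl | hj
        · rw [Pi.single_eq_same, if_pos rfl]
          have := rank_conj P⁻¹ (stdIdem (K := K) (Sp.d j) 1)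
          rw [inv_inv] at this
          rw [show B = _ from rfl, this, rank_stdIdem (Sp.pos j)]
        · rw [Pi.single_eq_of_ne hj, if_neg hj, Matrix.rank_zero]
      obtain ⟨v, hv⟩ := Sp.exists_conj_of_map he (Sp.prim_idem i) hre
      have hg : (f - e) * (f - e) = f - e := by
        rw [sub_mul, mul_sub, mul_sub, hf, hef, hfe, he, sub_self, sub_zero]
      have h1 : e * (f - e) = 0 := by rw [mul_sub, hef, he, sub_self]
      have h2 : (f - e) * e = 0 := by rw [sub_mul, hfe, he, sub_self]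
      have hsum : ∀ j, Sp.rk f j = Sp.rk e j + Sp.rk (f - e) j := fun j => by
        rw [← Sp.rk_add he hg h1 h2, add_sub_cancel]
      have hlt : ∑ j, Sp.rk (f - e) j < n := by
        rw [← hn, Finset.sum_congr rfl fun j _ => hsum j, Finset.sum_add_distrib]
        have : 0 < ∑ j, Sp.rk e j := Finset.sum_pos' (fun j _ => Nat.zero_le _)
          ⟨i, Finset.mem_univ _, by rw [hre, rk_prim, if_pos rfl]; exact one_pos⟩
        omega
      have hme : m e = m (Sp.prim i) := by rw [hv, hconj _ v (Sp.prim_idem i)]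
      conv_lhs => rw [show f = e + (f - e) from (add_sub_cancel e f).symm]
      rw [hadd _ _ he hg h1 h2, ih _ hlt hg rfl, hme]
      simp only [hsum, add_smul, Finset.sum_add_distrib, hre, rk_prim]
      congr 1
      simp

end Split

end Cfsg.Agent.SplitAlg
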