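import Cfsg.Agent.Lib.Blocks.CycModularEigen
import Cfsg.Agent.Lib.Blocks.SplitAlg
import Mathlib.FieldTheory.Separable
import Mathlib.FieldTheory.IsAlgClosed.Basic

/-!
# The inertial index bounds the number of simple modules of a block with cyclic defect group
-/

set_option linter.unusedSectionVars false

namespace Cfsg.Agent.Blocks.CycMod

open MonoidAlgebra BPairs SplitAlg Polynomial

universe u v

variable {k : Type v} [Field k] {G : Type u} [Group G] [Finite G]

namespace Data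

variable (Q : Data k G) (Sp : Split k (MonoidAlgebra k G))

/-- The action on a simple module. -/
noncomputable def act (i : Fin Sp.r) :
    MonoidAlgebra k G →ₐ[k] Module.End k (Fin (Sp.d i) → k) :=
  (Matrix.toLinAlgEquiv' (R := k) (n := Fin (Sp.d i))).toAlgHom.comp
    ((Pi.evalAlgHom k (fun i => Matrix (Fin (Sp.d i)) (Fin (Sp.d i)) k) i).comp Sp.π)

theorem act_apply (i : Fin Sp.r) (a : MonoidAlgebra k G) (v : Fin (Sp.d i) → k) :
    act Sp i a v = Matrix.mulVec (Sp.π a i) v := rfl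

theorem act_surj (i : Fin Sp.r) : Function.Surjective (act Sp i) := by
  classical
  intro L
  obtain ⟨a, ha⟩ := Sp.surj (Pi.single i ((Matrix.toLinAlgEquiv' (R := k)).symm L))
  refine ⟨a, ?_⟩
  show Matrix.toLinAlgEquiv' (Sp.π a i) = L
  rw [ha, Pi.single_eq_same, AlgEquiv.apply_symm_apply]

/-- The eigenvalue `ξ` is seen on the socle of a simple module. -/
def Seen (y : MonoidAlgebra k G) (ξ : k) (i : Fin Sp.r) : Prop :=
  ∃ σ : Fin (Sp.d i) → k, act Sp i Q.f σ = σ ∧ act Sp i Q.x σ = 0 ∧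
    act Sp i (single Q.t 1 * y) σ = ξ • σ ∧ ∀ v, σ ≠ act Sp i (Q.x ^ (Q.q - 1) * Q.f) v

section Ideal

variable {y : MonoidAlgebra k G} (hy : y ∈ SC k Q.C)
  (hfy : Q.f * (single Q.t 1 * y) = single Q.t 1 * y)
  (hyf : (single Q.t 1 * y) * Q.f = single Q.t 1 * y)
  {c₀ : k} {b₀ : MonoidAlgebra k G}
  (hRe : (single Q.t 1 * y) ^ Q.e * Q.f = c₀ • Q.f + b₀ * Q.x)
  {ξ : k} (hξ0 : ξ ≠ 0) (hξ : ξ ^ Q.e = c₀)

/-- The projector to the eigenvalue. -/
noncomputable def proj (y : MonoidAlgebra k G) (ξ : k) : MonoidAlgebra k G :=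
  (Q.e : k)⁻¹ • ∑ i ∈ Finset.range Q.e, (ξ ^ i)⁻¹ • ((single Q.t 1 * y) ^ i * Q.f)

include hy hyf hfy in
theorem x_R_pow (i : ℕ) : ∃ a, Q.x * ((single Q.t 1 * y) ^ i * Q.f) = a * Q.x := by
  induction i with
  | zero => exact ⟨Q.f, by rw [pow_zero, one_mul, (commute_SC Q.x_comm Q.f_mem).eq]⟩
  | succ i ih =>
    obtain ⟨z, hz, hzc, he⟩ := Q.x_conj _ (inv_mem Q.ht)
    obtain ⟨a, ha⟩ := ih
    have h1 : Q.x * single Q.t 1 = single Q.t 1 * (Q.x * z) := by rw [mul_single_eq, he]
    refine ⟨single Q.t 1 * y * z * a, ?_⟩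
    calc Q.x * ((single Q.t 1 * y) ^ (i + 1) * Q.f)
        = Q.x * single Q.t 1 * y * ((single Q.t 1 * y) ^ i * Q.f) := by
          rw [pow_succ']; simp only [mul_assoc]
      _ = single Q.t 1 * (Q.x * z * y) * ((single Q.t 1 * y) ^ i * Q.f) := by
          rw [h1]; simp only [mul_assoc]
      _ = single Q.t 1 * y * z * (Q.x * ((single Q.t 1 * y) ^ i * Q.f)) := by
          rw [show Q.x * z * y = y * z * Q.x by
            rw [(commute_SC Q.x_comm hz).eq, mul_assoc, (commute_SC Q.x_comm hy).eq, ← mul_assoc,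
              (commute_SC hzc hy).eq]]
          simp only [mul_assoc]
      _ = _ := by rw [ha]; simp only [mul_assoc]

include hy hfy hyf in
theorem f_proj : Q.f * Q.proj y ξ = Q.proj y ξ := by
  rw [proj, mul_smul_comm, Finset.mul_sum]
  congr 1
  refine Finset.sum_congr rfl fun i _ => ?_
  rw [mul_smul_comm]
  congr 1
  rcases i with - | i
  · rw [pow_zero, one_mul, Q.f_idem]
  · rw [pow_succ', ← mul_assoc, ← mul_assoc, hfy]

include hy hfy hyf in
theorem x_proj : ∃ a, Q.x * Q.proj y ξ = a * Q.x := by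
  choose a ha using Q.x_R_pow hy hfy hyf
  refine ⟨(Q.e : k)⁻¹ • ∑ i ∈ Finset.range Q.e, (ξ ^ i)⁻¹ • a i, ?_⟩
  simp only [proj, mul_smul_comm, smul_mul_assoc, Finset.mul_sum, Finset.sum_mul, ha]

include hy hfy hyf hRe hξ0 hξ in
theorem R_proj : ∃ a, single Q.t 1 * y * Q.proj y ξ = ξ • Q.proj y ξ + a * Q.x := by
  refine ⟨((Q.e : k)⁻¹ * ξ * (ξ ^ Q.e)⁻¹) • b₀, ?_⟩
  let g : ℕ → MonoidAlgebra k G := fun i => (ξ ^ i)⁻¹ • ((single Q.t 1 * y) ^ i * Q.f)
  have e1 : ∀ i, single Q.t 1 * y * g i = ξ • g (i + 1) := fun i => by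
    simp only [g]
    rw [mul_smul_comm, ← mul_assoc, ← pow_succ', smul_smul]
    congr 1
    rw [pow_succ ξ i, mul_inv_rev, ← mul_assoc, mul_inv_cancel₀ hξ0, one_mul]
  have hend : g Q.e = g 0 + (ξ ^ Q.e)⁻¹ • (b₀ * Q.x) := by
    simp only [g]
    rw [hRe, smul_add, smul_smul, hξ, inv_mul_cancel₀ (hξ ▸ pow_ne_zero _ hξ0), one_smul, pow_zero,
      pow_zero, inv_one, one_smul, one_mul]
  have e3 := (Finset.sum_range_succ g Q.e).symm.trans (Finset.sum_range_succ' g Q.e)
  rw [hend, ← add_assoc, add_comm _ (g 0), add_assoc, add_comm _ (g 0)] at e3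
  have e4 := add_left_cancel e3
  rw [proj, mul_smul_comm, Finset.mul_sum, Finset.sum_congr rfl fun i _ => e1 i, ← Finset.smul_sum,
    ← e4]
  simp only [smul_add, smul_smul, smul_mul_assoc, g]
  rw [mul_comm ξ ((Q.e : k)⁻¹)]
  congr 2
  ring

/-- Elements congruent to eigenvectors are fixed by the projector. -/
theorem proj_congr (hξ0 : ξ ≠ 0) (W' : Submodule (MonoidAlgebra k G) (MonoidAlgebra k G))
    {σ : MonoidAlgebra k G} (hf : Q.f * σ - σ ∈ W')
    (hR : single Q.t 1 * y * σ - ξ • σ ∈ W') : Q.proj y ξ * σ - σ ∈ W' := by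
  have hs : ∀ (c : k) {a : MonoidAlgebra k G}, a ∈ W' → c • a ∈ W' := fun c a ha => by
    have := W'.smul_mem (algebraMap k (MonoidAlgebra k G) c) ha
    rwa [smul_eq_mul, ← Algebra.smul_def] at this
  have hl : ∀ (c : MonoidAlgebra k G) {a : MonoidAlgebra k G}, a ∈ W' → c * a ∈ W' :=
    fun c a ha => W'.smul_mem c ha
  have key : ∀ i : ℕ, (single Q.t 1 * y) ^ i * Q.f * σ - ξ ^ i • σ ∈ W' := by
    intro i
    induction i with
    | zero => simpa using hf
    | succ i ih =>
      have h1 := add_mem (hl (single Q.t 1 * y) ih) (hs (ξ ^ i) hR)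
      rw [mul_sub, mul_smul_comm, smul_sub, smul_smul, ← mul_assoc (single Q.t 1 * y),
        ← mul_assoc (single Q.t 1 * y), ← pow_succ', ← pow_succ] at h1
      simpa using h1
  have hsum := hs (Q.e : k)⁻¹ (Submodule.sum_mem W' (t := Finset.range Q.e)
    (f := fun i => (ξ ^ i)⁻¹ • ((single Q.t 1 * y) ^ i * Q.f * σ - ξ ^ i • σ))
    fun i _ => hs _ (key i))
  have e : (Q.e : k)⁻¹ • ∑ i ∈ Finset.range Q.e,
      (ξ ^ i)⁻¹ • ((single Q.t 1 * y) ^ i * Q.f * σ - ξ ^ i • σ) = Q.proj y ξ * σ - σ := by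
    simp only [smul_sub, smul_smul, inv_mul_cancel₀ (pow_ne_zero _ hξ0), one_smul,
      Finset.sum_sub_distrib, Finset.sum_const, Finset.card_range, proj, smul_mul_assoc,
      Finset.sum_mul]
    rw [← Nat.cast_smul_eq_nsmul k, smul_smul, inv_mul_cancel₀ Q.e_ne, one_smul]
  rwa [e] at hsum

include hy hfy hyf hRe hξ0 hξ in
/-- If the eigenvalue is not seen by the simple modules, it is not seen by left ideals. -/
theorem mem_of_not_seen (hno : ∀ i, ¬ Q.Seen Sp y ξ i) :
    ∀ (n : ℕ) (W' W : Submodule (MonoidAlgebra k G) (MonoidAlgebra k G)), W' ≤ W →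
      Module.finrank k (W.restrictScalars k) ≤ Module.finrank k (W'.restrictScalars k) + n →
      ∀ σ ∈ W, Q.f * σ - σ ∈ W' → Q.x * σ ∈ W' → single Q.t 1 * y * σ - ξ • σ ∈ W' →
      ∃ w ∈ W, σ - Q.x ^ (Q.q - 1) * Q.f * w ∈ W' := by
  classical
  haveI : Module.Finite k (MonoidAlgebra k G) := Module.Finite.of_basis (MonoidAlgebra.basis G k)
  intro n
  induction n with
  | zero =>
    intro W' W hle hrk σ hσ _ _ _
    have : W'.restrictScalars k = W.restrictScalars k :=
      Submodule.eq_of_le_of_finrank_le (fun a ha => hle ha) (by simpa using hrk)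
    refine ⟨0, zero_mem _, ?_⟩
    rw [mul_zero, sub_zero]
    show σ ∈ W'.restrictScalars k
    rw [this]
    exact hσ
  | succ n ih =>
    intro W' W hle hrk σ hσ hf hx hR
    by_cases hmid : ∃ W'', W' < W'' ∧ W'' < W
    · obtain ⟨W'', h1, h2⟩ := hmid
      have hl1 : Module.finrank k (W'.restrictScalars k) < Module.finrank k (W''.restrictScalars k) :=
        Submodule.finrank_lt_finrank_of_lt h1
      have hl2 : Module.finrank k (W''.restrictScalars k) < Module.finrank k (W.restrictScalars k) :=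
        Submodule.finrank_lt_finrank_of_lt h2
      obtain ⟨w, hw, hρ⟩ := ih W'' W h2.le (by omega) σ hσ (h1.le hf) (h1.le hx) (h1.le hR)
      obtain ⟨a, ha⟩ := Q.x_proj hy hfy hyf (ξ := ξ)
      obtain ⟨a', ha'⟩ := Q.R_proj hy hfy hyf hRe hξ0 hξ
      have hl : ∀ (c : MonoidAlgebra k G) {b : MonoidAlgebra k G}, b ∈ W' → c * b ∈ W' :=
        fun c b hb => W'.smul_mem c hb
      have hxρ : Q.x * (σ - Q.x ^ (Q.q - 1) * Q.f * w) ∈ W' := by
        rw [mul_sub, ← mul_assoc Q.x, ← mul_assoc Q.x, ← pow_succ',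
          Q.x_pow_of_le (n := Q.q - 1 + 1) (by have := Q.hq; omega), zero_mul, zero_mul, sub_zero]
        exact hx
      have hρf : Q.f * (Q.proj y ξ * (σ - Q.x ^ (Q.q - 1) * Q.f * w)) -
          Q.proj y ξ * (σ - Q.x ^ (Q.q - 1) * Q.f * w) ∈ W' := by
        rw [← mul_assoc, Q.f_proj hy hfy hyf, sub_self]; exact zero_mem _
      have hρx : Q.x * (Q.proj y ξ * (σ - Q.x ^ (Q.q - 1) * Q.f * w)) ∈ W' := by
        rw [← mul_assoc, ha, mul_assoc]; exact hl _ hxρ
      have hρR : single Q.t 1 * y * (Q.proj y ξ * (σ - Q.x ^ (Q.q - 1) * Q.f * w)) -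
          ξ • (Q.proj y ξ * (σ - Q.x ^ (Q.q - 1) * Q.f * w)) ∈ W' := by
        rw [← mul_assoc, ha', add_mul, smul_mul_assoc, add_sub_cancel_left, mul_assoc]
        exact hl _ hxρ
      obtain ⟨w', hw', hfin⟩ := ih W' W'' h1.le (by omega) _ (W''.smul_mem (Q.proj y ξ) hρ)
        hρf hρx hρR
      -- move the first correction past the projector
      have hrw : ∃ b, Q.proj y ξ * (Q.x ^ (Q.q - 1) * Q.f) = Q.x ^ (Q.q - 1) * Q.f * b := by
        have h1 : ∀ i, ∃ b, (single Q.t 1 * y) ^ i * Q.f * (Q.x ^ (Q.q - 1) * Q.f) =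
            Q.x ^ (Q.q - 1) * Q.f * b := by
          intro i
          induction i with
          | zero =>
            refine ⟨Q.f, ?_⟩
            rw [pow_zero, one_mul, ← mul_assoc, ← (Q.x_pow_comm _ Q.f_mem).eq]
          | succ i ih =>
            obtain ⟨b, hb⟩ := ih
            obtain ⟨z, hz, hzc, hRx⟩ := Q.R_pow_x hy (Q.q - 1)
            refine ⟨z * (single Q.t 1 * y) * Q.f * b, ?_⟩
            calc (single Q.t 1 * y) ^ (i + 1) * Q.f * (Q.x ^ (Q.q - 1) * Q.f)
                = single Q.t 1 * y * Q.x ^ (Q.q - 1) * Q.f * b := by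
                  rw [pow_succ', mul_assoc, mul_assoc, ← mul_assoc ((single Q.t 1 * y) ^ i), hb]
                  simp only [mul_assoc]
              _ = Q.x ^ (Q.q - 1) * (z * (Q.f * (single Q.t 1 * y))) * Q.f * b := by
                  rw [hRx, hfy]; simp only [mul_assoc]
              _ = _ := by
                  rw [← mul_assoc z, (commute_SC hzc Q.f_mem).eq]; simp only [mul_assoc]
        choose b hb using h1
        exact ⟨(Q.e : k)⁻¹ • ∑ i ∈ Finset.range Q.e, (ξ ^ i)⁻¹ • b i, by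
          simp only [proj, smul_mul_assoc, mul_smul_comm, Finset.sum_mul, Finset.mul_sum, hb]⟩
      obtain ⟨b, hb⟩ := hrw
      refine ⟨b * w + w', add_mem (W.smul_mem b hw) (h2.le hw'), ?_⟩
      have hP := Q.proj_congr hξ0 W' hf hR
      have := sub_mem hfin hP
      rw [smul_eq_mul, mul_sub, ← mul_assoc (Q.proj y ξ), hb] at this
      have e : σ - Q.x ^ (Q.q - 1) * Q.f * (b * w + w') = Q.proj y ξ * σ -
          Q.x ^ (Q.q - 1) * Q.f * b * w - Q.x ^ (Q.q - 1) * Q.f * w' - (Q.proj y ξ * σ - σ) := by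
        rw [mul_add, ← mul_assoc]; abel
      rw [e]
      exact this
    -- a simple quotient
    push Not at hmid
    by_cases hσ' : σ ∈ W'
    · exact ⟨0, zero_mem _, by rwa [mul_zero, sub_zero]⟩
    have hl : ∀ (c : MonoidAlgebra k G) {b : MonoidAlgebra k G}, b ∈ W' → c * b ∈ W' :=
      fun c b hb => W'.smul_mem c hb
    have hcover : ∀ (N : Submodule (MonoidAlgebra k G) (MonoidAlgebra k G)) {a : MonoidAlgebra k G},
        W' ≤ N → N ≤ W → a ∈ N → a ∉ W' → N = W := fun N a h1 h2 ha ha' => by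
      rcases h2.eq_or_lt with h | h
      · exact h
      · exact absurd h (hmid N (lt_of_le_of_ne h1 fun e => ha' (e ▸ ha)))
    have hJ : ∀ j w, Sp.π j = 0 → w ∈ W → j * w ∈ W' := by
      intro j w hj hw
      by_contra hjw
      have hN := hcover (W' ⊔ Submodule.span _ {j * w}) le_sup_left
        (sup_le hle ((Submodule.span_singleton_le_iff_mem _ _).mpr (W.smul_mem j hw)))
        (Submodule.mem_sup_right (Submodule.mem_span_singleton_self _)) hjw
      obtain ⟨w', hw', s, hs, he⟩ := Submodule.mem_sup.mp (hN ▸ hw)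
      obtain ⟨a, rfl⟩ := Submodule.mem_span_singleton.mp hs
      have hu : IsUnit (1 - a * j) := (Sp.nil _ (by rw [map_mul, hj, mul_zero])).isUnit_one_sub
      obtain ⟨u, hu⟩ := hu
      have h1 : (1 - a * j) * w ∈ W' := by
        rw [sub_mul, one_mul, mul_assoc]
        have : w - a • (j * w) = w' := by rw [sub_eq_iff_eq_add, he]
        rw [smul_eq_mul] at this
        rwa [this]
      have h2 := hl (↑u⁻¹) h1
      rw [← hu, ← mul_assoc, Units.inv_mul, one_mul] at h2
      exact hjw (hl j h2)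
    -- matrix units
    choose E hE using fun (i : Fin Sp.r) (a b : Fin (Sp.d i)) =>
      Sp.surj (Pi.single i (Matrix.single a b 1))
    obtain ⟨i, a, hia⟩ : ∃ i a, E i a a * σ ∉ W' := by
      by_contra h
      push Not at h
      have h1 : Sp.π (1 - ∑ i, ∑ a, E i a a) = 0 := by
        rw [map_sub, map_one, map_sum, sub_eq_zero]
        funext i'
        simp only [map_sum, hE, Finset.sum_apply]
        rw [Finset.sum_eq_single i' (fun i _ hne => Finset.sum_eq_zero fun a _ => by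
          rw [Pi.single_eq_of_ne hne.symm]) (by simp)]
        simp only [Pi.single_eq_same, Pi.one_apply]
        ext a b
        simp [Matrix.sum_apply, Matrix.single_apply, Matrix.one_apply, ite_and]
      have h2 := hJ _ σ h1 hσ
      rw [sub_mul, one_mul, Finset.sum_mul] at h2
      refine hσ' ?_
      have h3 := add_mem h2 (Submodule.sum_mem W' (t := Finset.univ)
        (f := fun i => (∑ a, E i a a) * σ) fun i _ => by
          rw [Finset.sum_mul]; exact Submodule.sum_mem _ fun a _ => h i a)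
      rwa [sub_add_cancel] at h3
    let Ψ : (Fin (Sp.d i) → k) → MonoidAlgebra k G := fun v => ∑ b, v b • (E i b a * σ)
    have hks : ∀ (N : Submodule (MonoidAlgebra k G) (MonoidAlgebra k G)) (c : k)
        {b : MonoidAlgebra k G}, b ∈ N → c • b ∈ N := fun N c b hb => by
      have := N.smul_mem (algebraMap k (MonoidAlgebra k G) c) hb
      rwa [smul_eq_mul, ← Algebra.smul_def] at this
    have hΨW : ∀ v, Ψ v ∈ W := fun v =>
      Submodule.sum_mem _ fun b _ => hks W _ (W.smul_mem _ hσ)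
    have hmul : ∀ g v, g * Ψ v - Ψ (act Sp i g v) ∈ W' := by
      intro g v
      have h1 : ∀ b, (g * E i b a - ∑ c, Sp.π g i c b • E i c a) * σ ∈ W' := fun b => by
        refine hJ _ σ ?_ hσ
        simp only [map_sub, map_mul, map_sum, map_smul, hE, sub_eq_zero]
        funext i'
        rcases eq_or_ne i' i with rfl | hne
        · simp only [Pi.mul_apply, Pi.single_eq_same, Finset.sum_apply, Pi.smul_apply]
          ext c d
          simp [Matrix.mul_apply, Matrix.sum_apply, Matrix.single_apply, ite_and]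
        · simp [Pi.single_eq_of_ne hne]
      have h2 : g * Ψ v - Ψ (act Sp i g v) =
          ∑ b, v b • ((g * E i b a - ∑ c, Sp.π g i c b • E i c a) * σ) := by
        simp only [Ψ, act_apply, Matrix.mulVec, dotProduct, Finset.mul_sum, mul_smul_comm, sub_mul,
          Finset.sum_mul, smul_sub, Finset.smul_sum, smul_mul_assoc, smul_smul, Finset.sum_smul,
          Finset.sum_sub_distrib, ← mul_assoc]
        congr 1
        rw [Finset.sum_comm]
        exact Finset.sum_congr rfl fun b _ => Finset.sum_congr rfl fun c _ => by rw [mul_comm]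
      rw [h2]
      exact Submodule.sum_mem _ fun b _ => hks W' _ (h1 b)
    have hadd : ∀ v v', Ψ (v + v') = Ψ v + Ψ v' := fun v v' => by
      simp [Ψ, add_smul, Finset.sum_add_distrib]
    have hsm : ∀ (c : k) v, Ψ (c • v) = c • Ψ v := fun c v => by
      simp [Ψ, Finset.smul_sum, smul_smul]
    have hinj : ∀ v, Ψ v ∈ W' → v = 0 := by
      intro v hv
      funext b'
      by_contra hne
      refine hia ?_
      have h1 := hmul (E i a b') v
      have e : act Sp i (E i a b') v = fun c => if c = a then v b' else 0 := by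
        funext c
        rw [act_apply, hE, Pi.single_eq_same]
        simp [Matrix.mulVec, dotProduct, Matrix.single_apply, ite_and, eq_comm]
      rw [e, show Ψ (fun c => if c = a then v b' else 0) = v b' • (E i a a * σ) by simp [Ψ]] at h1
      have h2 := sub_mem (hl (E i a b') hv) h1
      rw [sub_sub_cancel] at h2
      have h3 := hks W' (v b')⁻¹ h2
      rwa [inv_smul_smul₀ hne] at h3
    let N : Submodule (MonoidAlgebra k G) (MonoidAlgebra k G) :=
      { carrier := {u | ∃ v, u - Ψ v ∈ W'}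
        add_mem' := fun {u u'} ⟨v, hv⟩ ⟨v', hv'⟩ => ⟨v + v', by
          rw [hadd, show u + u' - (Ψ v + Ψ v') = (u - Ψ v) + (u' - Ψ v') by abel]
          exact add_mem hv hv'⟩
        zero_mem' := ⟨0, by simp [Ψ]⟩
        smul_mem' := fun g u ⟨v, hv⟩ => ⟨act Sp i g v, by
          have := add_mem (hl g hv) (hmul g v)
          rwa [mul_sub, sub_add_sub_cancel] at this⟩ }
    have hN : N = W := hcover N (a := E i a a * σ)
      (fun u hu => ⟨0, by simpa [Ψ] using hu⟩)
      (fun u ⟨v, hv⟩ => by simpa using add_mem (hle hv) (hΨW v))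
      ⟨Pi.single a 1, by simp [Ψ, Pi.single_apply]⟩ hia
    obtain ⟨v, hv⟩ := (hN ▸ hσ : σ ∈ N)
    have hmap : ∀ g, Ψ (act Sp i g v) - g * σ ∈ W' := fun g => by
      have := neg_mem (add_mem (hl g hv) (hmul g v))
      rwa [mul_sub, sub_add_sub_cancel, neg_sub] at this
    have hvf : act Sp i Q.f v = v := sub_eq_zero.mp (hinj _ (by
      have : Ψ (act Sp i Q.f v - v) =
          (Ψ (act Sp i Q.f v) - Q.f * σ) + (Q.f * σ - σ) + (σ - Ψ v) := by
        rw [sub_eq_add_neg (act Sp i Q.f v), hadd, ← neg_one_smul k v, hsm, neg_one_smul]; abel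
      rw [this]
      exact add_mem (add_mem (hmap _) hf) hv))
    have hvx : act Sp i Q.x v = 0 := hinj _ (by
      have := add_mem (hmap Q.x) hx
      rwa [sub_add_cancel] at this)
    have hvR : act Sp i (single Q.t 1 * y) v = ξ • v := sub_eq_zero.mp (hinj _ (by
      have : Ψ (act Sp i (single Q.t 1 * y) v - ξ • v) =
          (Ψ (act Sp i (single Q.t 1 * y) v) - single Q.t 1 * y * σ) +
            (single Q.t 1 * y * σ - ξ • σ) + ξ • (σ - Ψ v) := by
        rw [sub_eq_add_neg (act Sp i (single Q.t 1 * y) v), hadd, ← neg_one_smul k (ξ • v), hsm,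
          hsm, neg_one_smul, smul_sub]
        abel
      rw [this]
      exact add_mem (add_mem (hmap _) hR) (hks W' ξ hv)))
    have hnot := hno i
    simp only [Seen, not_exists, not_and, not_forall, not_not] at hnot
    obtain ⟨v', hv'⟩ := hnot v hvf hvx hvR
    refine ⟨Ψ v', hΨW v', ?_⟩
    have := sub_mem hv (hmul (Q.x ^ (Q.q - 1) * Q.f) v')
    rw [← hv'] at this
    simpa using this

end Ideal

set_option maxHeartbeats 1600000 in
/-- Every eigenvalue is seen by some simple module. -/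
theorem exists_seen {y : MonoidAlgebra k G} (hy : y ∈ SC k Q.C)
    (hfy : Q.f * (single Q.t 1 * y) = single Q.t 1 * y)
    (hyf : (single Q.t 1 * y) * Q.f = single Q.t 1 * y)
    {c₀ : k} {b₀ : MonoidAlgebra k G}
    (hRe : (single Q.t 1 * y) ^ Q.e * Q.f = c₀ • Q.f + b₀ * Q.x)
    {ξ : k} (hξ0 : ξ ≠ 0) (hξ : ξ ^ Q.e = c₀) : ∃ i, Q.Seen Sp y ξ i := by
  classical
  haveI := Fintype.ofFinite G
  by_contra hno
  push Not at hno
  obtain ⟨σ, hσ⟩ : ∃ σ, σ = Q.proj y ξ * (Q.x ^ (Q.q - 1) * Q.f) := ⟨_, rfl⟩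
  have htop : Q.x * (Q.x ^ (Q.q - 1) * Q.f) = 0 := by
    rw [← mul_assoc, ← pow_succ', Q.x_pow_of_le (n := Q.q - 1 + 1) (by have := Q.hq; omega),
      zero_mul]
  obtain ⟨b, hb⟩ := Q.x_proj hy hfy hyf (ξ := ξ)
  obtain ⟨b', hb'⟩ := Q.R_proj hy hfy hyf hRe hξ0 hξ
  have hxσ : Q.x * σ = 0 := by rw [hσ, ← mul_assoc, hb, mul_assoc, htop, mul_zero]
  obtain ⟨W, hW⟩ : ∃ W : Submodule (MonoidAlgebra k G) (MonoidAlgebra k G),
      W = Submodule.span (MonoidAlgebra k G) {σ} := ⟨_, rfl⟩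
  obtain ⟨w, hw, h0⟩ := Q.mem_of_not_seen Sp hy hfy hyf hRe hξ0 hξ hno
    (Module.finrank k (W.restrictScalars k)) ⊥ W bot_le (by simp) σ
    (hW ▸ Submodule.mem_span_singleton_self σ)
    (by rw [hσ, ← mul_assoc Q.f, Q.f_proj hy hfy hyf, sub_self]; exact zero_mem _)
    (by rw [hxσ]; exact zero_mem _)
    (by rw [hσ, ← mul_assoc, hb', add_mul, smul_mul_assoc, mul_assoc, htop, mul_zero, add_zero,
      sub_self]; exact zero_mem _)
  rw [Submodule.mem_bot, sub_eq_zero] at h0
  rw [hW] at hw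
  obtain ⟨g, rfl⟩ := Submodule.mem_span_singleton.mp hw
  -- the coefficients on `C`
  have hR : ∀ i : ℕ, ∃ r, r ∈ SC k Q.C ∧
      (single Q.t 1 * y) ^ i = single (Q.t ^ i) 1 * r := by
    intro i
    induction i with
    | zero => exact ⟨1, one_mem _, by simp [← one_def]⟩
    | succ i ih =>
      obtain ⟨r, hr, he⟩ := ih
      refine ⟨conjA Q.t⁻¹ r * y, mul_mem (conjA_mem_SC (Q.inv_conj_mem Q.ht) hr) hy, ?_⟩
      rw [pow_succ, he, pow_succ, mul_assoc, ← mul_assoc r, mul_single_eq]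
      simp only [← mul_assoc, single_mul_single, one_mul]
  have hmem : Q.x ^ (Q.q - 1) * Q.f ∈ SC k Q.C := mul_mem (pow_mem Q.x_mem _) Q.f_mem
  have hσC : ∀ v : G, v ∈ Q.C → σ.coeff v = (Q.e : k)⁻¹ * (Q.x ^ (Q.q - 1) * Q.f).coeff v := by
    intro v hv
    rw [hσ, proj, smul_mul_assoc, Finset.sum_mul, MonoidAlgebra.coeff_smul, Finsupp.smul_apply,
      smul_eq_mul, MonoidAlgebra.coeff_sum, Finsupp.finsetSum_apply,
      Finset.sum_eq_single 0]
    · rw [pow_zero, pow_zero, inv_one, one_smul, one_mul, ← mul_assoc,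
        ← (Q.x_pow_comm _ Q.f_mem).eq, mul_assoc, Q.f_idem]
    · intro j hj hne
      rw [Finset.mem_range] at hj
      obtain ⟨r, hr, he⟩ := hR j
      rw [smul_mul_assoc, MonoidAlgebra.coeff_smul, Finsupp.smul_apply, he, mul_assoc, mul_assoc,
        coeff_single_mul', one_mul, (mul_mem hr (mul_mem Q.f_mem hmem)) _ ?_, smul_zero]
      intro h
      have : Q.t ^ j ∈ Q.C := by simpa using inv_mem (mul_mem h (inv_mem hv))
      exact absurd (Nat.le_of_dvd (Nat.pos_of_ne_zero hne) ((Q.hte j).mp this)) (by omega)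
    · intro h; exact absurd (Finset.mem_range.mpr Q.e_pos) h
  have hσT : ∀ v : G, v ∉ Q.T → σ.coeff v = 0 := by
    have hTs : σ ∈ SC k Q.T := by
      have hle : ∀ {b}, b ∈ SC k Q.C → b ∈ SC k Q.T := fun {b} hb v hv =>
        hb v fun h => hv (Q.hCT h)
      rw [hσ, proj]
      exact mul_mem (Subalgebra.smul_mem _ (Subalgebra.sum_mem _ fun i _ =>
        Subalgebra.smul_mem _ (mul_mem (pow_mem (mul_mem (single_mem_SC Q.ht 1) (hle hy)) i)
          (hle Q.f_mem)) _) _) (hle hmem)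
    exact fun v hv => hTs v hv
  have hzero : ∀ v ∈ Q.C, (Q.x ^ (Q.q - 1) * Q.f * (g • σ)).coeff v = 0 := by
    intro v hv
    rw [smul_eq_mul, eq_sum_single g, Finset.sum_mul, Finset.mul_sum, MonoidAlgebra.coeff_sum,
      Finsupp.finsetSum_apply]
    refine Finset.sum_eq_zero fun u _ => ?_
    by_cases hu : u ∈ Q.T
    · have hxu : Q.x ^ (Q.q - 1) * (single u (g.coeff u) * σ) = 0 := by
        obtain ⟨z, hz, hzc, he⟩ := Q.x_conj _ (inv_mem hu)
        obtain ⟨n, hn⟩ : ∃ n, Q.q - 1 = n + 1 := ⟨Q.q - 2, by have := Q.hq; omega⟩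
        rw [hn, pow_succ, show single u (g.coeff u) = g.coeff u • single u (1 : k) by simp,
          smul_mul_assoc, mul_smul_comm, mul_assoc, ← mul_assoc Q.x, mul_single_eq, he,
          mul_assoc (single u 1), (commute_SC Q.x_comm hz).eq, mul_assoc z, hxσ, mul_zero,
          mul_zero, mul_zero, smul_zero]
      rw [mul_assoc, ← mul_assoc Q.f] at *
      rw [← mul_assoc, ← mul_assoc, (Q.x_pow_comm _ Q.f_mem).eq, mul_assoc Q.f,
        mul_assoc Q.f, mul_assoc (Q.x ^ (Q.q - 1)), hxu, mul_zero]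
      rfl
    · have : ∀ w, w ∈ Q.T → (single u (g.coeff u) * σ).coeff w = 0 := fun w hw => by
        rw [coeff_single_mul', hσT _ fun h => hu (by
          simpa using inv_mem (mul_mem h (inv_mem hw))), mul_zero]
      rw [coeff_mul_sum]
      refine Finset.sum_eq_zero fun w _ => ?_
      by_cases hw : w ∈ Q.C
      · rw [this _ (Q.hCT (mul_mem (inv_mem hw) hv)), mul_zero]
      · rw [hmem w hw, zero_mul]
  apply Q.x_top
  ext v
  by_cases hv : v ∈ Q.C
  · have := hσC v hv
    rw [h0, hzero v hv] at this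
    simpa [Q.e_ne] using this.symm
  · simpa using hmem v hv

/-- The number of simple modules of the block is at least the inertial index. -/
theorem le_card [IsAlgClosed k] {a : MonoidAlgebra k G} (ha : ∀ g : G, Commute a (single g 1))
    (haa : a * a = a) (haβ : trunc (Q.C : Set G) a * Q.β = Q.β) :
    Q.e ≤ Nat.card {i : Fin Sp.r // Sp.π a i = 1} := by
  classical
  haveI := Fintype.ofFinite G
  obtain ⟨y, hy, hfy, hyf, c₀, hc₀, b₀, hRe⟩ := Q.exists_R
  have hroot : ∀ ξ : k, ξ ^ Q.e = c₀ → ∃ i : Fin Sp.r, Sp.π a i = 1 ∧ Q.Seen Sp y ξ i := by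
    intro ξ hξ
    have hξ0 : ξ ≠ 0 := fun h => hc₀ (by rw [← hξ, h, zero_pow Q.e_pos.ne'])
    obtain ⟨i, hi⟩ := Q.exists_seen Sp hy hfy hyf hRe hξ0 hξ
    obtain ⟨σ, hf, hx, hR, hn⟩ := hi
    refine ⟨i, ?_, σ, hf, hx, hR, hn⟩
    haveI : NeZero (Sp.d i) := ⟨(Sp.pos i).ne'⟩
    obtain ⟨r, hr⟩ := (Matrix.mem_range_scalar_iff_commute_single').mpr
      (fun c d => by
        obtain ⟨b, hb⟩ := Sp.surj (Pi.single i (Matrix.single c d 1))
        have h1 : Commute a b := by
          rw [eq_sum_single b]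
          refine Commute.sum_right _ _ _ fun g _ => ?_
          rw [show single g (b.coeff g) = b.coeff g • single g (1 : k) by simp]
          exact (ha g).smul_right _
        have := congrArg (fun z => z i) (congrArg Sp.π h1.eq)
        simp only [map_mul, Pi.mul_apply, hb, Pi.single_eq_same] at this
        exact this.symm : ∀ c d, Commute (Matrix.single c d (1 : k)) (Sp.π a i))
    have hidem : Sp.π a i * Sp.π a i = Sp.π a i := by rw [← Pi.mul_apply, ← map_mul, haa]
    rw [← hr] at hidem ⊢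
    rw [← map_mul] at hidem
    have h00 := congrFun (congrFun hidem 0) 0
    simp [Matrix.scalar_apply] at h00
    rcases IsIdempotentElem.iff_eq_zero_or_one.mp (show IsIdempotentElem r from h00) with h | h
    · exfalso
      have hφ : act Sp i a = 0 := LinearMap.ext fun v => by
        rw [act_apply, ← hr, h, map_zero, Matrix.zero_mulVec, LinearMap.zero_apply]
      obtain ⟨v, hv⟩ := Q.socle_killed (act Sp i) ha haβ hφ (σ := σ) (by
        conv_lhs => rw [← hf]
        rw [← Module.End.mul_apply, ← map_mul, Q.βf, hf]) hx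
      refine hn v ?_
      rw [(Q.x_pow_comm _ Q.f_mem).eq, map_mul, Module.End.mul_apply, ← hv, hf]
    · rw [h, map_one]
  -- distinct roots give distinct modules
  let P : k[X] := X ^ Q.e - Polynomial.C c₀
  have hsep : P.Separable := separable_X_pow_sub_C c₀ Q.e_ne hc₀
  have hcard : Fintype.card (P.rootSet k) = Q.e := by
    rw [card_rootSet_eq_natDegree hsep (IsAlgClosed.splits _)]
    exact natDegree_X_pow_sub_C
  have hmem : ∀ ξ : P.rootSet k, (ξ : k) ^ Q.e = c₀ := fun ξ => by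
    have := (mem_rootSet.mp ξ.2).2
    simpa [P, sub_eq_zero] using this
  choose F hF1 hF2 using fun ξ : P.rootSet k => hroot ξ (hmem ξ)
  rw [← hcard, ← Nat.card_eq_fintype_card]
  refine Nat.card_le_card_of_injective (fun ξ => ⟨F ξ, hF1 ξ⟩) fun ξ ξ' h => ?_
  by_contra hne
  obtain ⟨σ₁, hf₁, hx₁, hR₁, hn₁⟩ := hF2 ξ
  have h2 := hF2 ξ'
  rw [← show F ξ = F ξ' from congrArg Subtype.val h] at h2
  obtain ⟨σ₂, hf₂, hx₂, hR₂, hn₂⟩ := h2
  have hne0 : ∀ ξ : P.rootSet k, (ξ : k) ≠ 0 := fun ξ h0 => hc₀ (by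
    rw [← hmem ξ, h0, zero_pow Q.e_pos.ne'])
  haveI : NeZero (Sp.d (F ξ)) := ⟨(Sp.pos _).ne'⟩
  exact Q.eigen_unique (act Sp (F ξ)) (act_surj Sp _) hy hfy (hne0 ξ) (hne0 ξ')
    (fun e => hne (Subtype.ext e)) hf₁ hf₂ hx₁ hx₂ hR₁ hR₂ hn₁ hn₂

end Data

end Cfsg.Agent.Blocks.CycMod
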