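import Cfsg.Agent.Lib.Blocks.CycSetting
import Cfsg.Agent.Lib.Blocks.CycAlgebra
import Cfsg.Agent.Lib.Blocks.CycModularMain
import Cfsg.Agent.Lib.Blocks.Defect

/-!
# The rank of a block with cyclic defect group is at least its inertial index
-/

set_option linter.unusedSectionVars false

namespace Cfsg.Agent.Blocks.Cyclic

open MonoidAlgebra BPairs

universe u v

section Trace

variable {k : Type v} [Field k] {H : Type u} [Group H] [Finite H]

open Classical in
/-- A class function supported on elements of defect inside `D` is a relative trace from `D`. -/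
theorem exists_trace {D : Subgroup H} [Fintype (H ⧸ D)] {a : MonoidAlgebra k H}
    (hcl : ∀ u c : H, a.coeff (c * u * c⁻¹) = a.coeff u)
    (hdef : ∀ u, a.coeff u ≠ 0 → ∃ u₀ : H, IsConj u u₀ ∧
      ((D.subgroupOf (Subgroup.centralizer ({u₀} : Set H))).index : k) ≠ 0) :
    ∃ w : MonoidAlgebra k H, (∀ d ∈ D, Commute w (single d 1)) ∧
      ∑ o : H ⧸ D, conjA (o.out : H) w = a := by
  classical
  haveI := Fintype.ofFinite H
  let good : ConjClasses H → H → Prop := fun K u₀ =>
    ConjClasses.mk u₀ = K ∧ ((D.subgroupOf (Subgroup.centralizer ({u₀} : Set H))).index : k) ≠ 0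
  let r : ConjClasses H → H := fun K => if h : ∃ u₀, good K u₀ then h.choose else 1
  let lamK : H → H → k := fun u₀ v => if ∃ d ∈ D, d * u₀ * d⁻¹ = v then
    ((D.subgroupOf (Subgroup.centralizer ({u₀} : Set H))).index : k)⁻¹ else 0
  let lam : H → k := fun v => lamK (r (ConjClasses.mk v)) v
  have hmk : ∀ x v : H, ConjClasses.mk (x * v * x⁻¹) = ConjClasses.mk v := fun x v =>
    ConjClasses.mk_eq_mk_iff_isConj.mpr (isConj_iff.mpr ⟨x⁻¹, by group⟩)
  have hlam : ∀ d ∈ D, ∀ v, lam (d * v * d⁻¹) = lam v := by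
    intro d hd v
    show lamK (r (ConjClasses.mk _)) _ = lamK (r (ConjClasses.mk v)) v
    rw [hmk]
    refine if_congr ⟨?_, ?_⟩ rfl rfl
    · rintro ⟨d', hd', h⟩
      exact ⟨d⁻¹ * d', mul_mem (inv_mem hd) hd', by
        calc d⁻¹ * d' * r (ConjClasses.mk v) * (d⁻¹ * d')⁻¹
            = d⁻¹ * (d' * r (ConjClasses.mk v) * d'⁻¹) * d := by group
          _ = v := by rw [h]; group⟩
    · rintro ⟨d', hd', h⟩
      exact ⟨d * d', mul_mem hd hd', by
        calc d * d' * r (ConjClasses.mk v) * (d * d')⁻¹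
            = d * (d' * r (ConjClasses.mk v) * d'⁻¹) * d⁻¹ := by group
          _ = _ := by rw [h]⟩
  refine ⟨ofFun fun v => a.coeff v * lam v, fun d hd => ?_, ?_⟩
  · refine isInv_iff_commute.mp (isInv_iff_conjA.mpr fun x hx => ?_) d hd
    rw [conjA_eq_self_iff]
    intro v
    have h1 := hcl v x⁻¹
    rw [inv_inv] at h1
    have h2 := hlam x⁻¹ (inv_mem hx) v
    rw [inv_inv] at h2
    rw [coeff_ofFun, coeff_ofFun, h1, h2]
  · refine MonoidAlgebra.ext (Finsupp.ext fun u => ?_)
    rw [MonoidAlgebra.coeff_sum, Finsupp.finsetSum_apply]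
    have hterm : ∀ o : H ⧸ D, (conjA (o.out : H) (ofFun fun v => a.coeff v * lam v)).coeff u =
        a.coeff u * lam (o.out⁻¹ * u * o.out) := fun o => by
      have h1 := hcl u (o.out : H)⁻¹
      rw [inv_inv] at h1
      rw [coeff_conjA, coeff_ofFun, h1]
    rw [Finset.sum_congr rfl fun o _ => hterm o, ← Finset.mul_sum]
    by_cases hu : a.coeff u = 0
    · rw [hu, zero_mul]
    obtain ⟨u₁, hc₁, hm₁⟩ := hdef u hu
    have hex : ∃ u₀, good (ConjClasses.mk u) u₀ :=
      ⟨u₁, ConjClasses.mk_eq_mk_iff_isConj.mpr hc₁.symm, hm₁⟩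
    have hr : good (ConjClasses.mk u) (r (ConjClasses.mk u)) := by
      simp only [r, dif_pos hex]
      exact hex.choose_spec
    obtain ⟨u₀, hu₀⟩ : ∃ u₀, u₀ = r (ConjClasses.mk u) := ⟨_, rfl⟩
    rw [← hu₀] at hr
    obtain ⟨hcls, hm⟩ := hr
    obtain ⟨h₀, hh₀⟩ := isConj_iff.mp (ConjClasses.mk_eq_mk_iff_isConj.mp hcls)
    let Cu := Subgroup.centralizer ({u₀} : Set H)
    have hlamu : ∀ x : H, lam (x⁻¹ * u * x) =
        if ∃ d ∈ D, d * u₀ * d⁻¹ = x⁻¹ * u * x then
          ((D.subgroupOf Cu).index : k)⁻¹ else 0 := fun x => by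
      have h := hmk x⁻¹ u
      rw [inv_inv] at h
      show lamK (r (ConjClasses.mk _)) _ = _
      rw [h, ← hu₀]
    let ψ : Cu ⧸ D.subgroupOf Cu → H ⧸ D := Quotient.lift
      (fun c : Cu => (QuotientGroup.mk (h₀ * (c : H)) : H ⧸ D)) fun c c' hcc => by
        have h := QuotientGroup.leftRel_apply.mp hcc
        rw [Subgroup.mem_subgroupOf] at h
        rw [QuotientGroup.eq]
        simpa [mul_assoc] using h
    have hψ : Function.Injective ψ := by
      intro q q'
      induction q using QuotientGroup.induction_on with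
      | _ c =>
        induction q' using QuotientGroup.induction_on with
        | _ c' =>
          intro h
          rw [QuotientGroup.eq, Subgroup.mem_subgroupOf]
          have h' : (QuotientGroup.mk (h₀ * (c : H)) : H ⧸ D) = QuotientGroup.mk (h₀ * c') := h
          rw [QuotientGroup.eq] at h'
          simpa [mul_assoc] using h'
    have hmem : ∀ o : H ⧸ D,
        (∃ d ∈ D, d * u₀ * d⁻¹ = o.out⁻¹ * u * o.out) ↔ ∃ q, ψ q = o := by
      intro o
      constructor
      · rintro ⟨d, hd, he⟩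
        have hmem : h₀⁻¹ * (o.out * d) ∈ Cu := by
          rw [Subgroup.mem_centralizer_singleton_iff]
          have : o.out * d * u₀ * (o.out * d)⁻¹ = u := by
            calc o.out * d * u₀ * (o.out * d)⁻¹ = o.out * (d * u₀ * d⁻¹) * o.out⁻¹ := by group
              _ = u := by rw [he]; group
          calc h₀⁻¹ * (o.out * d) * u₀
              = h₀⁻¹ * (o.out * d * u₀ * (o.out * d)⁻¹) * (o.out * d) := by group
            _ = h₀⁻¹ * (h₀ * u₀ * h₀⁻¹) * (o.out * d) := by rw [this, hh₀]
            _ = _ := by group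
        refine ⟨QuotientGroup.mk ⟨_, hmem⟩, ?_⟩
        show QuotientGroup.mk (h₀ * (h₀⁻¹ * (o.out * d))) = o
        conv_rhs => rw [← QuotientGroup.out_eq' o]
        rw [QuotientGroup.eq]
        simpa [mul_assoc] using hd
      · rintro ⟨q, rfl⟩
        induction q using QuotientGroup.induction_on with
        | _ c =>
          obtain ⟨d, hd⟩ := QuotientGroup.mk_out_eq_mul D (h₀ * (c : H))
          refine ⟨(d : H)⁻¹, inv_mem d.2, ?_⟩
          show _ = (QuotientGroup.mk (h₀ * (c : H)) : H ⧸ D).out⁻¹ * u *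
            (QuotientGroup.mk (h₀ * (c : H)) : H ⧸ D).out
          rw [hd]
          have hc : (c : H)⁻¹ * u₀ * c = u₀ := by
            have := Subgroup.mem_centralizer_singleton_iff.mp c.2
            rw [mul_assoc, ← this, inv_mul_cancel_left]
          calc (d : H)⁻¹ * u₀ * (d : H)⁻¹⁻¹ = (d : H)⁻¹ * ((c : H)⁻¹ * u₀ * c) * d := by
                rw [hc, inv_inv]
            _ = (d : H)⁻¹ * ((c : H)⁻¹ * (h₀⁻¹ * (h₀ * u₀ * h₀⁻¹) * h₀) * c) * d := by group
            _ = (h₀ * (c : H) * d)⁻¹ * u * (h₀ * c * d) := by rw [hh₀]; group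
    rw [Finset.sum_congr rfl fun o _ => hlamu o.out, ← Finset.sum_filter, Finset.sum_const,
      nsmul_eq_mul]
    have hcard : (Finset.univ.filter fun o : H ⧸ D =>
        ∃ d ∈ D, d * u₀ * d⁻¹ = o.out⁻¹ * u * o.out).card = (D.subgroupOf Cu).index := by
      haveI := Fintype.ofFinite (Cu ⧸ D.subgroupOf Cu)
      rw [Subgroup.index, Nat.card_eq_fintype_card, ← Finset.card_univ,
        ← Finset.card_image_of_injective Finset.univ hψ]
      congr 1
      ext o
      simp [hmem o]
    rw [hcard, mul_inv_cancel₀ hm, mul_one]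

end Trace

variable {G : Type u} [Group G] [Finite G] {p : ℕ} [hp : Fact p.Prime] {M : Ideal AlgInt}
  [M.IsPrime]

namespace Setting

variable (S : Setting p M G)

theorem isInv_β : IsInv S.T (bel M S.C S.b) := isInv_iff_conjA.mpr fun _ hx => hx.2

theorem embH_smul {H : Subgroup G} (r : Res M) (a : MonoidAlgebra (Res M) H) :
    embH H (r • a) = r • embH H a := by
  refine MonoidAlgebra.ext (Finsupp.ext fun u => ?_)
  by_cases hu : u ∈ H
  · rw [show u = ((⟨u, hu⟩ : H) : G) from rfl, coeff_embH, MonoidAlgebra.coeff_smul,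
      MonoidAlgebra.coeff_smul, Finsupp.smul_apply, Finsupp.smul_apply, coeff_embH]
  · rw [coeff_embH_of_notMem _ _ hu, MonoidAlgebra.coeff_smul, Finsupp.smul_apply,
      coeff_embH_of_notMem _ _ hu, smul_zero]

theorem exists_w : ∃ w : MonoidAlgebra (Res M) S.C,
    (∀ d ∈ S.D.subgroupOf S.C, Commute w (single d 1)) ∧
      haveI := Fintype.ofFinite (S.C ⧸ S.D.subgroupOf S.C)
      ∑ o : S.C ⧸ S.D.subgroupOf S.C, conjA (o.out : S.C) w =
        (bBar M S.b : MonoidAlgebra (Res M) S.C) := by
  letI := Fintype.ofFinite (S.C ⧸ S.D.subgroupOf S.C)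
  haveI := charP_res S.hM
  refine exists_trace (fun u c => ?_) fun u hu => ?_
  · exact ((mem_center_iff_isClassFn _).mp (bBar M S.b).2) u c
  · rw [coeff_bBar (blockCoeff_mem_loc S.hb)] at hu
    obtain ⟨Q⟩ : Nonempty (Sylow p (Subgroup.centralizer ({u} : Set S.C))) := inferInstance
    obtain ⟨x, hx⟩ := conj_le_defect S.hM S.hb S.defect_b
      (Q := (Q : Subgroup (Subgroup.centralizer ({u} : Set S.C))).map (Subgroup.subtype _))
      (Q.2.map _) (u := u) (fun h => hu (red_eq_zero_iff.mpr h)) (Subgroup.map_subtype_le _)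
    refine ⟨x * u * x⁻¹, isConj_iff.mpr ⟨x, rfl⟩, fun h => ?_⟩
    obtain ⟨L, hL⟩ : ∃ L, L = ((Q : Subgroup (Subgroup.centralizer ({u} : Set S.C))).map
        (Subgroup.subtype _)).map (MulAut.conj x).toMonoidHom := ⟨_, rfl⟩
    have hLC : L ≤ Subgroup.centralizer ({x * u * x⁻¹} : Set S.C) := by
      rw [hL]
      rintro _ ⟨_, ⟨v, -, rfl⟩, rfl⟩
      rw [Subgroup.mem_centralizer_singleton_iff]
      have := Subgroup.mem_centralizer_singleton_iff.mp v.2
      show x * (v : S.C) * x⁻¹ * (x * u * x⁻¹) = x * u * x⁻¹ * (x * (v : S.C) * x⁻¹)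
      calc _ = x * ((v : S.C) * u) * x⁻¹ := by group
        _ = _ := by rw [this]; group
    have hmap : (Subgroup.centralizer ({u} : Set S.C)).map (MulAut.conj x).toMonoidHom =
        Subgroup.centralizer ({x * u * x⁻¹} : Set S.C) := by
      ext v
      simp only [Subgroup.mem_map, Subgroup.mem_centralizer_singleton_iff]
      constructor
      · rintro ⟨v, hv, rfl⟩
        show x * v * x⁻¹ * (x * u * x⁻¹) = x * u * x⁻¹ * (x * v * x⁻¹)
        calc _ = x * (v * u) * x⁻¹ := by group
          _ = _ := by rw [hv]; group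
      · intro hv
        refine ⟨x⁻¹ * v * x, ?_, show x * (x⁻¹ * v * x) * x⁻¹ = v by group⟩
        calc x⁻¹ * v * x * u = x⁻¹ * (v * (x * u * x⁻¹)) * x := by group
          _ = _ := by rw [hv]; group
    have hidx : ¬ p ∣ (L.subgroupOf (Subgroup.centralizer ({x * u * x⁻¹} : Set S.C))).index := by
      rw [← Subgroup.relIndex, hL, ← hmap, Subgroup.relIndex_map_map_of_injective _ _
        (MulAut.conj x).injective, Subgroup.relIndex, Subgroup.subgroupOf, Subgroup.comap_map_eq_self_of_injective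
        (Subgroup.subtype_injective _)]
      exact Q.not_dvd_index
    exact hidx (((CharP.cast_eq_zero_iff (Res M) p _).mp h).trans
      (Subgroup.index_dvd_of_le (Subgroup.comap_mono (hL ▸ hx))))

open Classical in
/-- The configuration of the abstract bound. -/
theorem exists_data : ∃ Q : CycMod.Data (Res M) G,
    Q.C = S.C ∧ Q.β = bel M S.C S.b ∧ Q.e = S.e := by
  haveI := charP_res S.hM
  haveI := Fintype.ofFinite S.C
  obtain ⟨c', hmax'⟩ := S.exists_pair_b
  obtain ⟨x, f, m, u, v, j₀, hxc, hxβ, hxq, hxf, hff, hef, huv, hsum, hfu, hvf, hu0, hv0, hcor⟩ :=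
    CycNil.exists_algebra S.hM S.nilpotent hmax' S.cyclic_D' (by rw [S.card_D']; exact S.two_le_card)
  rw [S.card_D'] at hxq hxf
  have hcor' : ∀ a, ∃ c : ℕ → Res M, f * a * f =
      ∑ i ∈ Finset.range (Nat.card S.D), c i • (x ^ i * f) := by
    rw [← S.card_D']; exact hcor
  obtain ⟨w, hw, hwt⟩ := S.exists_w
  have hmem : ∀ a : MonoidAlgebra (Res M) S.C, embH S.C a ∈ CycMod.SC (Res M) S.C :=
    fun a g hg => coeff_embH_of_notMem _ _ hg
  have hsc : ∀ {a}, a ∈ CycMod.SC (Res M) S.C → embH S.C (resH S.C a) = a :=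
    fun {a} ha => embH_resH ha
  have hcomm : ∀ (a : MonoidAlgebra (Res M) S.C), (∀ b, Commute a b) → ∀ g ∈ S.C,
      Commute (embH S.C a) (single g 1) := fun a ha g hg => by
    rw [show (single g (1 : Res M) : MonoidAlgebra (Res M) G) = embH S.C (single ⟨g, hg⟩ 1) by
      rw [embH_single]]
    exact (ha _).map _
  have hbel : bel M S.C S.b = embH S.C (bBar M S.b : MonoidAlgebra (Res M) S.C) := rfl
  let β := bel M S.C S.b
  have hxE : embH S.C x * β = embH S.C x := by
    simp only [β, hbel, ← map_mul, hxβ]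
  -- the central nilpotent elements are multiples of `x`
  have hnil : ∀ a : MonoidAlgebra (Res M) S.C, (∀ b, Commute a b) →
      a * (bBar M S.b : MonoidAlgebra (Res M) S.C) = a → a ^ Nat.card S.D = 0 →
      ∃ z : MonoidAlgebra (Res M) S.C, (∀ b, Commute z b) ∧ a = x * z := by
    intro a ha haβ hq
    obtain ⟨c, hc⟩ := hcor' a
    obtain ⟨N, hN⟩ : ∃ N, Nat.card S.D = N + 1 := ⟨Nat.card S.D - 1, by
      have := S.two_le_card; omega⟩
    rw [hN] at hc hxq hxf hq
    rw [Nat.add_sub_cancel] at hxf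
    have haf : f * a * f = a * f := by rw [← (ha f).eq, mul_assoc, hff]
    have hc0 : c 0 = 0 := by
      have h1 : a * (x ^ N * f) = c 0 • (x ^ N * f) := by
        rw [← mul_assoc, ← ((hxc a).pow_left N).eq, mul_assoc, ← haf, hc, Finset.mul_sum,
          Finset.sum_range_succ']
        rw [Finset.sum_eq_zero fun i _ => ?_, zero_add, pow_zero, one_mul, mul_smul_comm]
        rw [mul_smul_comm, ← mul_assoc, ← pow_add, show N + (i + 1) = N + 1 + i by omega, pow_add,
          hxq, zero_mul, zero_mul, smul_zero]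
      have h2 : ∀ n : ℕ, a ^ n * (x ^ N * f) = c 0 ^ n • (x ^ N * f) := by
        intro n
        induction n with
        | zero => rw [pow_zero, one_mul, pow_zero, one_smul]
        | succ n ih =>
          rw [pow_succ, mul_assoc, h1, mul_smul_comm, ih, smul_smul, pow_succ']
      have h3 := h2 (N + 1)
      rw [hq, zero_mul] at h3
      exact eq_zero_of_pow_eq_zero ((smul_eq_zero.mp h3.symm).resolve_right hxf)
    refine ⟨∑ i ∈ Finset.range N, c (i + 1) • (x ^ i * (bBar M S.b : MonoidAlgebra (Res M) S.C)),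
      fun b => Commute.sum_left _ _ _ fun i _ => (((hxc b).pow_left i).mul_left
        (Subring.mem_center_iff.mp (bBar M S.b).2 b).symm).smul_left _, ?_⟩
    have hva : ∀ j, v j * (f * a * f) * u j = a * (v j * u j) := fun j => by
      calc v j * (f * a * f) * u j = (v j * f) * a * (f * u j) := by simp only [mul_assoc]
        _ = v j * a * u j := by rw [hvf, hfu]
        _ = _ := by rw [← (ha (v j)).eq, mul_assoc]
    have hvx : ∀ (i : ℕ) j, v j * (x ^ i * f) * u j = x ^ i * (v j * u j) := fun i j => by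
      rw [← mul_assoc, ← ((hxc (v j)).pow_left i).eq, mul_assoc, mul_assoc, hfu]
    conv_lhs => rw [← haβ, ← hsum, Finset.mul_sum, Finset.sum_congr rfl fun j _ => (hva j).symm]
    rw [hc, Finset.sum_range_succ', hc0, zero_smul, add_zero, Finset.mul_sum]
    simp only [Finset.mul_sum, Finset.sum_mul, mul_smul_comm, smul_mul_assoc, hvx]
    rw [Finset.sum_comm]
    refine Finset.sum_congr rfl fun i _ => ?_
    rw [← Finset.smul_sum, ← Finset.mul_sum, hsum, ← mul_assoc, ← pow_succ']
  refine ⟨{
    C := S.C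
    T := S.T
    D := S.D
    hDC := S.hDC
    hCT := S.hCT
    e := S.e
    e_ne := fun h => S.not_dvd_e ((CharP.cast_eq_zero_iff (Res M) p _).mp h)
    t := S.t
    ht := S.t_mem
    hT := fun s hs => S.hT hs
    hte := S.hte
    hnC := fun s hs g hg => S.hnC hs hg
    hcz := fun d hd hd1 g hg => S.hcz hd hd1 hg
    q := Nat.card S.D
    hq := S.two_le_card
    β := β
    x := embH S.C x
    f := embH S.C f
    m := m
    u := fun j => embH S.C (u j)
    v := fun j => embH S.C (v j)
    w := embH S.C w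
    β_mem := hmem _
    β_idem := bel_mul_self _ S.hb
    β_comm := fun s hs => isInv_iff_commute.mp S.isInv_β s hs
    x_mem := hmem _
    x_comm := hcomm x hxc
    xβ := hxE
    x_pow := by rw [← map_pow, hxq, map_zero]
    x_top := fun h => hxf (embH_injective S.C (by rw [map_mul, map_pow, h, map_zero]))
    x_conj := ?_
    f_mem := hmem _
    f_idem := by rw [← map_mul, hff]
    βf := by simp only [β, hbel, ← map_mul, hef]
    u_mem := fun j => hmem _
    v_mem := fun j => hmem _
    uv := fun j l => by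
      rw [← map_mul, huv]
      split_ifs
      · rfl
      · rw [map_zero]
    vu := by simp only [β, hbel, ← map_mul, ← map_sum, hsum]
    fu := fun j => by rw [← map_mul, hfu]
    vf := fun j => by rw [← map_mul, hvf]
    j₀ := j₀
    u₀ := by rw [hu0]
    v₀ := by rw [hv0]
    corner := fun a ha => by
      obtain ⟨c, hc⟩ := hcor' (resH S.C a)
      refine ⟨c, ?_⟩
      conv_lhs => rw [← hsc ha, ← map_mul, ← map_mul, hc, map_sum]
      exact Finset.sum_congr rfl fun i _ => by rw [embH_smul, map_mul, map_pow]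
    w_mem := hmem _
    w_comm := fun d hd => by
      rw [show (single d (1 : Res M) : MonoidAlgebra (Res M) G) =
        embH S.C (single ⟨d, S.hDC hd⟩ 1) by rw [embH_single]]
      exact (hw ⟨d, S.hDC hd⟩ (Subgroup.mem_subgroupOf.mpr hd)).map _
    trace := by
      simp only [β, hbel, conjA_embH]
      rw [← map_sum]
      exact congrArg _ hwt
    far := fun g hg hne d hd hgd => S.far hg hne hd hgd }, rfl, rfl, rfl⟩
  -- conjugates of `x`
  intro s hs
  have hsa : conjA s (embH S.C x) ∈ CycMod.SC (Res M) S.C :=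
    CycMod.conjA_mem_SC (fun g hg => S.hnC hs hg) (hmem x)
  obtain ⟨a, ha⟩ : ∃ a, a = resH S.C (conjA s (embH S.C x)) := ⟨_, rfl⟩
  have hae : embH S.C a = conjA s (embH S.C x) := ha ▸ hsc hsa
  have hac : ∀ b, Commute a b := fun b => by
    refine embH_injective (R := Res M) S.C ?_
    rw [map_mul, map_mul, hae]
    refine (CycMod.commute_SC (fun g hg => ?_) (hmem b)).eq
    have h1 := hcomm x hxc _ (S.hnC (inv_mem hs) hg)
    have h2 := h1.eq
    rw [inv_inv] at h2
    have h3 := congrArg (conjA s) h2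
    rw [conjA_mul, conjA_mul, conjA_single, show s * (s⁻¹ * g * s) * s⁻¹ = g by group] at h3
    exact h3
  have haβ : a * (bBar M S.b : MonoidAlgebra (Res M) S.C) = a := by
    refine embH_injective (R := Res M) S.C ?_
    rw [map_mul, hae, ← hbel]
    conv_lhs => rw [← hs.2, ← conjA_mul, hxE]
  have hpow : ∀ (n : ℕ) (y : MonoidAlgebra (Res M) G), conjA s y ^ n = conjA s (y ^ n) := by
    intro n y
    induction n with
    | zero => rw [pow_zero, pow_zero, conjA, mul_one, CycMod.single_mul_single_inv]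
    | succ n ih => rw [pow_succ, pow_succ, ih, conjA_mul]
  have haq : a ^ Nat.card S.D = 0 := by
    refine embH_injective (R := Res M) S.C ?_
    rw [map_pow, hae, hpow, ← map_pow, hxq, map_zero, conjA_zero]
  obtain ⟨z, hz, he⟩ := hnil a hac haβ haq
  exact ⟨embH S.C z, hmem _, hcomm z hz, by rw [← hae, he, map_mul]⟩

/-- The rank is at least the inertial index. -/
theorem e_le_rank : S.e ≤ blockRank p S.B := by
  classical
  haveI := Fintype.ofFinite G
  haveI := charP_res S.hM
  haveI := isAlgClosed_res S.hM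
  have hA := blockCoeff_mem_loc (M := M) S.hB
  obtain ⟨Sp⟩ := nonempty_gSplit (G := G) S.hM
  obtain ⟨Q, hQC, hQβ, hQe⟩ := S.exists_data
  obtain ⟨E, hE⟩ : ∃ E, E = (bBar M S.B : MonoidAlgebra (Res M) G) := ⟨_, rfl⟩
  have hEE : E * E = E := by rw [hE, ← Subring.coe_mul, bBar_mul_self hA]
  have h := Q.le_card Sp (a := E)
    (fun g => hE ▸ (Subring.mem_center_iff.mp (bBar M S.B).2 _).symm) hEE (by
      rw [hQC, hQβ, hE]
      exact inB_of_belAt S.hM S.hmax ⟨S.b, S.hle, rfl⟩)
  rw [hQe] at h
  refine h.trans ?_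
  rw [blockRank_eq_card Sp S.hM hA, Nat.card_eq_fintype_card, Fintype.card_subtype]
  refine Finset.card_le_card fun i hi => ?_
  simp only [Finset.mem_filter, Finset.mem_univ, true_and] at hi
  simp only [inBlk, Finset.mem_filter, Finset.mem_univ, true_and]
  show (bBar M S.B : MonoidAlgebra (Res M) G) * Sp.prim i = Sp.prim i
  rw [← hE]
  have hEc : E * Sp.prim i = Sp.prim i * E :=
    hE ▸ (Subring.mem_center_iff.mp (bBar M S.B).2 _).symm
  haveI : NeZero (Sp.d i) := ⟨(Sp.pos i).ne'⟩
  rcases Sp.eq_prim_or_zero (i := i) (f := E * Sp.prim i)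
      (by rw [mul_assoc E, ← mul_assoc (Sp.prim i), ← hEc, mul_assoc E (Sp.prim i),
        Sp.prim_idem, ← mul_assoc, hEE])
      (by rw [mul_assoc, Sp.prim_idem])
      (by rw [← mul_assoc, ← hEc, mul_assoc, Sp.prim_idem]) with h' | h'
  · exfalso
    have h1 := congrArg (fun y => Sp.π y i) h'
    simp only [map_mul, map_zero, Pi.mul_apply, hi, one_mul, Pi.zero_apply] at h1
    have hcomp := congrFun (Sp.map_prim i) i
    rw [Pi.single_eq_same, h1] at hcomp
    have := congrFun (congrFun hcomp ⟨0, Sp.pos i⟩) ⟨0, Sp.pos i⟩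
    simp [SplitAlg.stdIdem] at this
  · exact h'

end Setting

end Cfsg.Agent.Blocks.Cyclic
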