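import Mathlib.Algebra.BigOperators.Ring.Finset
import Mathlib.Algebra.Order.BigOperators.Group.Finset
import Mathlib.Data.Fintype.BigOperators
import Mathlib.Data.Fintype.Card
import Mathlib.Tactic.IntervalCases
import Mathlib.Tactic.Linarith
import Mathlib.Tactic.Ring

/-!
# Integer vectors with Gram matrix `I + e J`
-/

set_option linter.unusedSectionVars false

namespace Cfsg.Agent.Blocks.D1.Combi

variable {Φ J : Type*} [Fintype Φ] [Fintype J] [DecidableEq Φ] [DecidableEq J]

/-- A vector of norm two with weighted sum zero. -/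
theorem norm_two {D : Φ → ℤ} (h : ∑ χ, D χ * D χ = 2) (w : Φ → ℤ) (hw : ∀ χ, 0 < w χ)
    (h0 : ∑ χ, w χ * D χ = 0) :
    ∃ a b, a ≠ b ∧ (∀ χ, D χ = (if χ = a then 1 else 0) - (if χ = b then 1 else 0)) ∧ w a = w b := by
  classical
  set F := Finset.univ.filter fun χ => D χ ≠ 0 with hF
  have hsq : ∀ χ ∈ F, 1 ≤ D χ * D χ := fun χ hχ => by
    have := (Finset.mem_filter.mp hχ).2
    have h' := mul_self_pos.mpr this
    omega
  have hsumF : ∑ χ ∈ F, D χ * D χ = 2 := by
    rw [← h]
    exact Finset.sum_filter_of_ne fun χ _ hne h' => hne (by rw [h', mul_zero])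
  have hw0 : ∑ χ ∈ F, w χ * D χ = 0 := by
    rw [← h0]
    exact Finset.sum_filter_of_ne fun χ _ hne h' => hne (by rw [h', mul_zero])
  have hcard : F.card ≤ 2 := by
    have := Finset.sum_le_sum hsq
    rw [hsumF, Finset.sum_const, nsmul_eq_mul, mul_one] at this
    exact_mod_cast this
  interval_cases hc : F.card
  · rw [Finset.card_eq_zero] at hc; rw [hc] at hsumF; simp at hsumF
  · obtain ⟨x, hx⟩ := Finset.card_eq_one.mp hc
    rw [hx, Finset.sum_singleton] at hsumF
    have : D x = 0 ∨ D x = 1 ∨ D x = -1 ∨ 2 ≤ D x ∨ D x ≤ -2 := by omega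
    rcases this with h' | h' | h' | h' | h' <;> nlinarith
  · obtain ⟨x, y, hxy, hx⟩ := Finset.card_eq_two.mp hc
    rw [hx, Finset.sum_pair hxy] at hsumF hw0
    have h1 := hsq x (by rw [hx]; simp)
    have h2 := hsq y (by rw [hx]; simp)
    have hDx : D x = 1 ∨ D x = -1 := mul_self_eq_one_iff.mp (by omega)
    have hDy : D y = 1 ∨ D y = -1 := mul_self_eq_one_iff.mp (by omega)
    have hrest : ∀ χ, χ ≠ x → χ ≠ y → D χ = 0 := fun χ h1 h2 => by
      by_contra hne
      have : χ ∈ F := Finset.mem_filter.mpr ⟨Finset.mem_univ _, hne⟩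
      rw [hx] at this
      simp [h1, h2] at this
    have := hw x
    have := hw y
    rcases hDx with hDx | hDx <;> rcases hDy with hDy | hDy <;> rw [hDx, hDy] at hw0 <;>
      first
        | (exfalso; omega)
        | skip
    · refine ⟨x, y, hxy, fun χ => ?_, by omega⟩
      by_cases hχx : χ = x
      · subst hχx; simp [hDx, hxy]
      by_cases hχy : χ = y
      · subst hχy; simp [hDy, hχx]
      simp [hχx, hχy, hrest χ hχx hχy]
    · refine ⟨y, x, hxy.symm, fun χ => ?_, by omega⟩
      by_cases hχx : χ = x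
      · subst hχx; simp [hDx, hxy]
      by_cases hχy : χ = y
      · subst hχy; simp [hDy, hχx]
      simp [hχx, hχy, hrest χ hχx hχy]

theorem inner_delta (a b a' b' : Φ) :
    ∑ χ, ((if χ = a then (1 : ℤ) else 0) - (if χ = b then 1 else 0)) *
      ((if χ = a' then 1 else 0) - (if χ = b' then 1 else 0)) =
    (if a = a' then 1 else 0) - (if a = b' then 1 else 0) -
      ((if b = a' then 1 else 0) - (if b = b' then 1 else 0)) := by
  simp only [sub_mul, Finset.sum_sub_distrib, ite_mul, one_mul, zero_mul, Finset.sum_ite_eq',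
    Finset.mem_univ, if_true]

theorem sum_sq_shift (f : Φ → ℤ) (x : Φ) (s : ℤ) :
    ∑ χ, (f χ + s * if χ = x then 1 else 0) * (f χ + s * if χ = x then 1 else 0) =
      ∑ χ, f χ * f χ + 2 * s * f x + s * s := by
  have e : ∀ χ, (f χ + s * if χ = x then 1 else 0) * (f χ + s * if χ = x then 1 else 0) =
      f χ * f χ + if χ = x then 2 * s * f x + s * s else 0 := fun χ => by
    by_cases h : χ = x
    · rw [if_pos h, if_pos h, h]; ring
    · rw [if_neg h, if_neg h]; ring
  rw [Finset.sum_congr rfl fun χ _ => e χ, Finset.sum_add_distrib, Finset.sum_ite_eq',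
    if_pos (Finset.mem_univ _), add_assoc]

/-- The exceptional vectors. -/
theorem exists_sunflower {A : Φ → J → ℤ} {e : ℤ}
    (hg : ∀ j k, ∑ χ, A χ j * A χ k = e + if j = k then 1 else 0) (w : Φ → ℤ) (hw : ∀ χ, 0 < w χ)
    (h0 : ∀ j, ∑ χ, w χ * A χ j = 0) (j₀ j₁ : J) (hne : j₁ ≠ j₀) :
    ∃ (c : J → Φ) (ε : ℤ) (b : Φ → ℤ), (ε = 1 ∨ ε = -1) ∧ Function.Injective c ∧
      (∀ χ j, A χ j = b χ + ε * if χ = c j then 1 else 0) ∧
      (∀ j k, b (c j) = b (c k)) ∧ ∀ j k, w (c j) = w (c k) := by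
  classical
  have hD : ∀ k : {k // k ≠ j₀}, ∃ a b, a ≠ b ∧
      (∀ χ, A χ j₀ - A χ k = (if χ = a then 1 else 0) - (if χ = b then 1 else 0)) ∧ w a = w b := by
    intro k
    refine norm_two ?_ w hw ?_
    · simp only [sub_mul, mul_sub, Finset.sum_sub_distrib, hg, if_pos, if_neg k.2,
        if_neg (Ne.symm k.2)]
      ring
    · simp only [mul_sub, Finset.sum_sub_distrib, h0, sub_zero]
  choose a b hab hDe hwab using hD
  have hpair : ∀ k l : {k // k ≠ j₀}, k ≠ l →
      (a k = a l ∧ b k ≠ b l ∧ a k ≠ b l ∧ b k ≠ a l) ∨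
      (b k = b l ∧ a k ≠ a l ∧ a k ≠ b l ∧ b k ≠ a l) := by
    intro k l hkl
    have h1 : ∑ χ, (A χ j₀ - A χ k) * (A χ j₀ - A χ l) = 1 := by
      simp only [sub_mul, mul_sub, Finset.sum_sub_distrib, hg, if_pos, if_neg k.2,
        if_neg (Ne.symm l.2), if_neg (fun h : (k : J) = l => hkl (Subtype.ext h))]
      ring
    simp only [hDe] at h1
    rw [inner_delta] at h1
    by_cases h1a : a k = a l <;> by_cases h1b : b k = b l <;> by_cases h2a : a k = b l <;>
      by_cases h2b : b k = a l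
    all_goals
      first
        | exact Or.inl ⟨h1a, h1b, h2a, h2b⟩
        | exact Or.inr ⟨h1b, h1a, h2a, h2b⟩
        | exact absurd (h1a.symm.trans h2a) (hab l)
        | exact absurd (h2b.symm.trans h1b) (hab l)
        | exact absurd (h1a.trans h2b.symm) (hab k)
        | exact absurd (h2a.trans h1b.symm) (hab k)
        | simp [h1a, h1b, h2a, h2b, hab l, (hab l).symm] at h1
  -- all pairs share the same side
  have hside : (∀ k l, a k = a l) ∨ (∀ k l, b k = b l) := by
    by_contra hcon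
    push Not at hcon
    obtain ⟨⟨k, l, hkl⟩, ⟨m, n, hmn⟩⟩ := hcon
    have hkl' : k ≠ l := fun h => hkl (h ▸ rfl)
    have hb : b k = b l := ((hpair k l hkl').resolve_left fun h => hkl h.1).1
    -- every vector has the same second entry as `k`
    have key : ∀ i, b i = b k := by
      intro i
      by_cases hik : i = k
      · rw [hik]
      by_cases hil : i = l
      · rw [hil, hb]
      rcases hpair i k hik with h | h
      · rcases hpair i l hil with h' | h'
        · exact absurd (h.1.symm.trans h'.1) hkl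
        · exact h'.1.trans hb.symm
      · exact h.1
    exact hmn ((key m).trans (key n).symm)
  rcases hside with hs | hs
  · refine ⟨fun k => if h : k = j₀ then a ⟨j₁, hne⟩ else b ⟨k, h⟩, 1,
      fun χ => A χ j₀ - if χ = a ⟨j₁, hne⟩ then 1 else 0, Or.inl rfl, ?_, ?_, ?_, ?_⟩
    · intro k l h
      simp only at h
      split_ifs at h with hk hl hl
      · exact hk.trans hl.symm
      · rw [hs ⟨j₁, hne⟩ ⟨l, hl⟩] at h
        exact absurd h (hab _)
      · rw [hs ⟨j₁, hne⟩ ⟨k, hk⟩] at h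
        exact absurd h.symm (hab _)
      · by_contra hkl
        rcases hpair ⟨k, hk⟩ ⟨l, hl⟩ (fun e => hkl (congrArg Subtype.val e)) with h' | h'
        · exact h'.2.1 h
        · exact h'.2.1 (hs _ _)
    all_goals
      have hform : ∀ χ j, A χ j = (A χ j₀ - if χ = a ⟨j₁, hne⟩ then 1 else 0) +
          1 * if χ = (if h : j = j₀ then a ⟨j₁, hne⟩ else b ⟨j, h⟩) then 1 else 0 := by
        intro χ j
        by_cases hj : j = j₀
        · rw [hj, dif_pos rfl]; ring
        · rw [dif_neg hj]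
          have := hDe ⟨j, hj⟩ χ
          rw [hs ⟨j, hj⟩ ⟨j₁, hne⟩] at this
          linarith
    · exact hform
    · intro j k
      have hd : ∀ j, _ = e + 1 := fun j =>
        (sum_sq_shift _ _ _).symm.trans (((Finset.sum_congr rfl fun χ _ =>
          by rw [← hform χ j]).trans (hg j j)).trans (by rw [if_pos rfl]))
      linarith [hd j, hd k]
    · intro j k
      have : ∀ j, w (if h : j = j₀ then a ⟨j₁, hne⟩ else b ⟨j, h⟩) = w (a ⟨j₁, hne⟩) := by
        intro j
        by_cases hj : j = j₀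
        · rw [dif_pos hj]
        · rw [dif_neg hj, ← hwab, hs ⟨j, hj⟩ ⟨j₁, hne⟩]
      simp only [this]
  · refine ⟨fun k => if h : k = j₀ then b ⟨j₁, hne⟩ else a ⟨k, h⟩, -1,
      fun χ => A χ j₀ + if χ = b ⟨j₁, hne⟩ then 1 else 0, Or.inr rfl, ?_, ?_, ?_, ?_⟩
    · intro k l h
      simp only at h
      split_ifs at h with hk hl hl
      · exact hk.trans hl.symm
      · rw [hs ⟨j₁, hne⟩ ⟨l, hl⟩] at h
        exact absurd h.symm (hab _)
      · rw [hs ⟨j₁, hne⟩ ⟨k, hk⟩] at h
        exact absurd h (hab _)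
      · by_contra hkl
        rcases hpair ⟨k, hk⟩ ⟨l, hl⟩ (fun e => hkl (congrArg Subtype.val e)) with h' | h'
        · exact h'.2.1 (hs _ _)
        · exact h'.2.1 h
    all_goals
      have hform : ∀ χ j, A χ j = (A χ j₀ + if χ = b ⟨j₁, hne⟩ then 1 else 0) +
          -1 * if χ = (if h : j = j₀ then b ⟨j₁, hne⟩ else a ⟨j, h⟩) then 1 else 0 := by
        intro χ j
        by_cases hj : j = j₀
        · rw [hj, dif_pos rfl]; ring
        · rw [dif_neg hj]
          have := hDe ⟨j, hj⟩ χ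
          rw [hs ⟨j, hj⟩ ⟨j₁, hne⟩] at this
          linarith
    · exact hform
    · intro j k
      have hd : ∀ j, _ = e + 1 := fun j =>
        (sum_sq_shift _ _ _).symm.trans (((Finset.sum_congr rfl fun χ _ =>
          by rw [← hform χ j]).trans (hg j j)).trans (by rw [if_pos rfl]))
      linarith [hd j, hd k]
    · intro j k
      have : ∀ j, w (if h : j = j₀ then b ⟨j₁, hne⟩ else a ⟨j, h⟩) = w (b ⟨j₁, hne⟩) := by
        intro j
        by_cases hj : j = j₀
        · rw [dif_pos hj]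
        · rw [dif_neg hj, hwab, hs ⟨j, hj⟩ ⟨j₁, hne⟩]
      simp only [this]

/-- The standard form of a solution. -/
theorem exists_normal_form {A : Φ → J → ℤ} {e : ℤ}
    (hg : ∀ j k, ∑ χ, A χ j * A χ k = e + if j = k then 1 else 0) (w : Φ → ℤ) (hw : ∀ χ, 0 < w χ)
    (h0 : ∀ j, ∑ χ, w χ * A χ j = 0) (hnz : ∀ χ, ∃ j, A χ j ≠ 0) (j₀ : J) (he : 0 ≤ e)
    (hconst : ∀ (χ : Φ) (v : ℤ), (∀ j, A χ j = v) → |v| ≤ 1)
    (hexc : ∀ (c : J → Φ) (b : ℤ) (ε : ℤ), (ε = 1 ∨ ε = -1) → Function.Injective c →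
      (∀ j k, w (c j) = w (c k)) → (∀ i j, A (c i) j = b + ε * if i = j then 1 else 0) →
      (∀ χ, (∀ i, c i ≠ χ) → ∀ j k, A χ j = A χ k) →
      |(Fintype.card J : ℤ) * b + ε| ≤ 1) :
    ∃ (c : J → Φ) (ε : ℤ) (b : Φ → ℤ), (ε = 1 ∨ ε = -1) ∧ Function.Injective c ∧
      (∀ χ j, A χ j = b χ + ε * if χ = c j then 1 else 0) ∧
      (∀ j, b (c j) = 0) ∧ (∀ χ, (∀ j, c j ≠ χ) → b χ = 1 ∨ b χ = -1) ∧
      ∀ j k, w (c j) = w (c k) := by
  classical
  suffices ∃ (c : J → Φ) (ε : ℤ) (b : Φ → ℤ), (ε = 1 ∨ ε = -1) ∧ Function.Injective c ∧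
      (∀ χ j, A χ j = b χ + ε * if χ = c j then 1 else 0) ∧
      (∀ j, b (c j) = 0) ∧ ∀ j k, w (c j) = w (c k) by
    obtain ⟨c, ε, b, hε, hinj, hform, hb0, hwc⟩ := this
    refine ⟨c, ε, b, hε, hinj, hform, hb0, fun χ hχ => ?_, hwc⟩
    have hc : ∀ j, A χ j = b χ := fun j => by rw [hform, if_neg (fun h => hχ j h.symm), mul_zero, add_zero]
    have h1 := hconst χ (b χ) hc
    obtain ⟨j, hj⟩ := hnz χ
    rw [hc] at hj
    rw [abs_le] at h1
    omega
  by_cases ht : ∃ j₁, j₁ ≠ j₀
  · obtain ⟨j₁, hj₁⟩ := ht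
    obtain ⟨c, ε, b, hε, hinj, hform, hb, hwc⟩ := exists_sunflower hg w hw h0 j₀ j₁ hj₁
    have hm := hexc c (b (c j₀)) ε hε hinj hwc (fun i j => by
        rw [hform, hb i j₀]
        by_cases hij : i = j
        · subst hij; simp
        · rw [if_neg (fun h => hij (hinj h)), if_neg hij])
      (fun χ hχ j k => by
        rw [hform χ j, hform χ k, if_neg (fun h => hχ j h.symm), if_neg (fun h => hχ k h.symm)])
    have hcardJ : (2 : ℤ) ≤ Fintype.card J := by
      exact_mod_cast Fintype.one_lt_card_iff.mpr ⟨j₁, j₀, hj₁⟩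
    set m := b (c j₀)
    have hm0 : m = 0 ∨ (Fintype.card J = 2 ∧ m = -ε) := by
      rw [abs_le] at hm
      rcases hε with rfl | rfl <;> rcases lt_trichotomy m 0 with hlt | heq | hgt <;>
        first
          | exact Or.inl heq
          | (exfalso; nlinarith)
          | (refine Or.inr ⟨?_, ?_⟩ <;> nlinarith)
    rcases hm0 with hm0 | ⟨ht2, hmε⟩
    · exact ⟨c, ε, b, hε, hinj, hform, fun j => (hb j j₀).trans hm0, hwc⟩
    · -- two exceptional vectors: interchange them
      have hex : ∀ j : J, j = j₀ ∨ j = j₁ := by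
        intro j
        by_contra hj
        push Not at hj
        have : ({j, j₀, j₁} : Finset J).card ≤ 2 := (Finset.card_le_univ _).trans (le_of_eq ht2)
        rw [Finset.card_insert_of_notMem (by simp [hj.1, hj.2]), Finset.card_pair (Ne.symm hj₁)] at this
        omega
      let sw : J → J := fun j => if j = j₀ then j₁ else j₀
      have hsw : Function.Injective sw := by
        intro i j h
        rcases hex i with rfl | rfl <;> rcases hex j with rfl | rfl <;>
          simp [sw, hj₁, Ne.symm hj₁] at h ⊢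
      refine ⟨fun j => c (sw j), -ε,
        fun χ => b χ + ε * ((if χ = c j₀ then 1 else 0) + if χ = c j₁ then 1 else 0),
        by omega, hinj.comp hsw, fun χ j => ?_, fun j => ?_, fun j k => hwc _ _⟩
      · rw [hform]
        have hne : ∀ {i l : J}, i ≠ l → c i ≠ c l := fun h e => h (hinj e)
        rcases hex j with rfl | rfl
        · simp only [sw, if_true]; ring
        · simp only [sw, if_neg hj₁]; ring
      · show b (c (sw j)) + ε * ((if c (sw j) = c j₀ then 1 else 0) +
          if c (sw j) = c j₁ then 1 else 0) = 0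
        rcases hex (sw j) with h | h <;> rw [h]
        · simp only [if_true, if_neg (fun e => hj₁ (hinj e).symm)]
          rw [show b (c j₀) = -ε from hmε]; ring
        · simp only [if_true, if_neg (fun e => hj₁ (hinj e))]
          rw [hb j₁ j₀, show b (c j₀) = -ε from hmε]; ring
  · push Not at ht
    have hcardne : ∃ χ, A χ j₀ ≠ 0 := by
      by_contra hall
      push Not at hall
      have h := hg j₀ j₀
      simp only [hall, mul_zero, Finset.sum_const_zero, if_pos] at h
      omega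
    obtain ⟨χ₀, hχ₀⟩ := hcardne
    have hv : |A χ₀ j₀| ≤ 1 := hconst χ₀ _ fun j => by rw [ht j]
    rw [abs_le] at hv
    refine ⟨fun _ => χ₀, A χ₀ j₀, fun χ => if χ = χ₀ then 0 else A χ j₀, by omega,
      fun i j _ => (ht i).trans (ht j).symm, fun χ j => ?_, fun _ => by simp, fun _ _ => rfl⟩
    rw [ht j]
    by_cases h : χ = χ₀ <;> simp [h]

end Cfsg.Agent.Blocks.D1.Combi
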