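import Cfsg.Agent.Lib.Blocks.Inflation
import Cfsg.Agent.Lib.Blocks.CentralDefectChars

/-!
# The rank of a block over a normal p-subgroup
-/

set_option linter.unusedSectionVars false

namespace Cfsg.Agent.Blocks

open CT

universe u

variable {G : Type u} [Group G] [Fintype G] {p : ℕ} {M : Ideal AlgInt} [M.IsPrime]
  {N : Subgroup G} [N.Normal]

open Classical in
theorem pRegularPart_eq_regFun (χ : IrrCharacter G) :
    pRegularPart p (χ : G → ℂ) = regFun p χ := by
  funext x
  simp only [pRegularPart, IsPRegular, regFun]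
  by_cases hx : p ∣ orderOf x <;> simp [hx]

/-- Regular lifts are unique. -/
theorem regular_lift_unique [Fact p.Prime] (hP : IsPGroup p N)
    (hC : ∃ k : ℕ, (Subgroup.centralizer (N : Set G)).index = p ^ k) {g g' : G}
    (hg : ¬ p ∣ orderOf g) (hg' : ¬ p ∣ orderOf g') (h : (g : G ⧸ N) = (g' : G ⧸ N)) : g = g' := by
  haveI := Fintype.ofFinite (Subgroup.centralizer (N : Set G))
  have hgC : g ∈ Subgroup.centralizer (N : Set G) := mem_of_pow_index hC hg
  have hu : g⁻¹ * g' ∈ N := QuotientGroup.eq.mp h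
  have hc : Commute (g⁻¹ * g') g := Subgroup.mem_centralizer_iff.mp hgC _ hu
  obtain ⟨k, hk⟩ := exists_pow_eq_one_of_isPGroup hP hu
  have h1 := isPPart_mk (p := p) hc ⟨k, hk⟩ hg
  have h2 : ¬ p ∣ orderOf (g⁻¹ * g' * g) := by
    rw [hc.eq, mul_inv_cancel_left]; exact hg'
  have h3 := ppart_unique h1 (isPPart_one h2)
  exact inv_mul_eq_one.mp h3

/-- A block and the block of the quotient it contains have the same rank. -/
theorem blockRank_inflation (hM : IsPModular p M) (hP : IsPGroup p N)
    (hC : ∃ k : ℕ, (Subgroup.centralizer (N : Set G)).index = p ^ k)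
    {b : Set (IrrCharacter G)} (hb : IsPBlock M b) {b' : Set (IrrCharacter (G ⧸ N))}
    (hb' : IsPBlock M b') (hsub : ∀ χ ∈ b', inflIrr χ ∈ b) :
    blockRank p b = blockRank p b' := by
  classical
  haveI : Fact p.Prime := ⟨hM.1⟩
  haveI := Fintype.ofFinite (G ⧸ N)
  have hmem : ∀ χ : IrrCharacter (G ⧸ N), inflIrr χ ∈ b → χ ∈ b' := fun χ hχ => by
    obtain ⟨χ₀, hχ₀⟩ := block_nonempty hb'
    exact (mem_block_iff hb' hχ₀).mpr (sameBlock_of_inflIrr_of_pGroup hM hP hC
      ((mem_block_iff hb (hsub χ₀ hχ₀)).mp hχ))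
  choose! l hl hlmk using fun (x : G ⧸ N) (hx : ¬ p ∣ orderOf x) => exists_regular_lift (N := N) hx
  have hreg : ∀ g : G, ¬ p ∣ orderOf g → ¬ p ∣ orderOf (g : G ⧸ N) := fun g hg hd =>
    hg (hd.trans (orderOf_map_dvd (QuotientGroup.mk' N) g))
  let L : (G ⧸ N → ℂ) →ₗ[ℂ] (G → ℂ) :=
    { toFun := fun f g => if p ∣ orderOf g then 0 else f (g : G ⧸ N)
      map_add' := fun a c => funext fun g => by simp only [Pi.add_apply]; split_ifs <;> simp
      map_smul' := fun a f => funext fun g => by
        simp only [Pi.smul_apply, RingHom.id_apply, smul_eq_mul]; split_ifs <;> simp }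
  have hLr : ∀ χ : IrrCharacter (G ⧸ N), L (regFun p χ) = regFun p (inflIrr χ) := fun χ =>
    funext fun g => by
      show (if p ∣ orderOf g then 0 else regFun p χ (g : G ⧸ N)) = _
      simp only [regFun, inflIrr_apply]
      by_cases hg : p ∣ orderOf g
      · rw [if_pos hg, if_pos hg]
      · rw [if_neg hg, if_neg hg, if_neg (hreg g hg)]
  set S : Set (G ⧸ N → ℂ) := (fun χ : IrrCharacter (G ⧸ N) => regFun p χ) '' b' with hS
  have hspan : Submodule.span ℂ ((fun η : IrrCharacter G => regFun p η) '' b) =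
      (Submodule.span ℂ S).map L := by
    rw [Submodule.map_span]
    refine le_antisymm (Submodule.span_le.mpr ?_) (Submodule.span_mono ?_)
    swap
    · rintro _ ⟨_, ⟨χ, hχ, rfl⟩, rfl⟩
      exact ⟨_, hsub χ hχ, (hLr χ).symm⟩
    rintro _ ⟨η, hη, rfl⟩
    let h : G ⧸ N → ℂ := fun x => if p ∣ orderOf x then 0 else (η : G → ℂ) (l x)
    have hcl : IsClassFunction (G ⧸ N) h := by
      intro x c
      have ho : orderOf (c * x * c⁻¹) = orderOf x := by
        rw [← MulAut.conj_apply, MulEquiv.orderOf_eq]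
      simp only [h, ho]
      split_ifs with hx
      · rfl
      obtain ⟨d, rfl⟩ := QuotientGroup.mk_surjective c
      have e : l ((d : G ⧸ N) * x * (d : G ⧸ N)⁻¹) = d * l x * d⁻¹ := by
        refine regular_lift_unique hP hC (hl _ (by rwa [ho])) ?_ ?_
        · rw [← MulAut.conj_apply, MulEquiv.orderOf_eq]; exact hl x hx
        · rw [hlmk _ (by rwa [ho]), QuotientGroup.mk_mul, QuotientGroup.mk_mul, QuotientGroup.mk_inv,
            hlmk x hx]
      rw [e]
      exact isClassFn_irr η (l x) d
    have hf : regFun p η = L h := funext fun g => by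
      show regFun p η g = if p ∣ orderOf g then 0 else h (g : G ⧸ N)
      simp only [regFun, h]
      by_cases hg : p ∣ orderOf g
      · rw [if_pos hg, if_pos hg]
      · rw [if_neg hg, if_neg hg, if_neg (hreg g hg),
          regular_lift_unique hP hC (hl _ (hreg g hg)) hg (hlmk _ (hreg g hg))]
    set a : IrrCharacter (G ⧸ N) → ℂ := fun χ => classInner h (χ : G ⧸ N → ℂ) with ha
    have hsum : regFun p η = ∑ χ : IrrCharacter (G ⧸ N), a χ • regFun p (inflIrr χ) := by
      rw [hf]
      funext g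
      simp only [Finset.sum_apply, Pi.smul_apply, smul_eq_mul, regFun, inflIrr_apply]
      show (if p ∣ orderOf g then 0 else h (g : G ⧸ N)) = _
      split_ifs with hg
      · simp
      · rw [congrFun (classFunction_eq_sum hcl) (g : G ⧸ N)]
        simp [a, Finset.sum_apply]
    set inS := Finset.univ.filter (fun χ : IrrCharacter (G ⧸ N) => inflIrr χ ∈ b) with hin
    set outS := Finset.univ.filter (fun χ : IrrCharacter (G ⧸ N) => ¬ inflIrr χ ∈ b) with hout
    set v := regFun p η - ∑ χ ∈ inS, a χ • regFun p (inflIrr χ) with hv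
    have hv2 : v = ∑ χ ∈ outS, a χ • regFun p (inflIrr χ) := by
      rw [hv, hsum, ← Finset.sum_filter_add_sum_filter_not Finset.univ
        (fun χ : IrrCharacter (G ⧸ N) => inflIrr χ ∈ b), add_sub_cancel_left]
    have hz : classInner v v = 0 := by
      conv_lhs => arg 2; rw [hv2]
      rw [CT.classInner_sum_right]
      refine Finset.sum_eq_zero fun χ hχ => ?_
      have hχb : inflIrr χ ∉ b := (Finset.mem_filter.mp hχ).2
      rw [CT.classInner_smul_right, hv, CT.classInner_sub_left, CT.classInner_sum_left,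
        classInner_regFun, bfPair_zero_of_mem hM hb hη hχb, Finset.sum_eq_zero fun χ' hχ' => by
          rw [CT.classInner_smul_left, classInner_regFun,
            bfPair_zero_of_mem hM hb (Finset.mem_filter.mp hχ').2 hχb, mul_zero]]
      simp
    have hv0 := classInner_self_eq_zero hz
    rw [hv, sub_eq_zero] at hv0
    show regFun p η ∈ Submodule.span ℂ (L '' S)
    rw [hv0]
    refine Submodule.sum_mem _ fun χ hχ => Submodule.smul_mem _ _ (Submodule.subset_span ?_)
    exact ⟨_, ⟨χ, hmem χ (Finset.mem_filter.mp hχ).2, rfl⟩, hLr χ⟩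
  have e1 : (fun η : IrrCharacter G => pRegularPart p (η : G → ℂ)) = fun η => regFun p η :=
    funext pRegularPart_eq_regFun
  have e2 : (fun χ : IrrCharacter (G ⧸ N) => pRegularPart p (χ : G ⧸ N → ℂ)) = fun χ => regFun p χ :=
    funext pRegularPart_eq_regFun
  rw [blockRank, blockRank, e1, e2, hspan, ← hS]
  let R : Submodule ℂ (G ⧸ N → ℂ) :=
    { carrier := {f | ∀ x, p ∣ orderOf x → f x = 0}
      add_mem' := fun ha hc x hx => by simp [ha x hx, hc x hx]
      zero_mem' := fun x _ => rfl
      smul_mem' := fun a f hf x hx => by simp [hf x hx] }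
  have hle : Submodule.span ℂ S ≤ R := Submodule.span_le.mpr fun f hf => by
    obtain ⟨χ, -, rfl⟩ := hf
    intro x hx
    simp [regFun, hx]
  rw [← LinearMap.range_domRestrict]
  refine LinearMap.finrank_range_of_inj fun f f' hff => Subtype.ext (funext fun x => ?_)
  by_cases hx : p ∣ orderOf x
  · rw [hle f.2 x hx, hle f'.2 x hx]
  · have h := congrFun hff (l x)
    simp only [LinearMap.domRestrict_apply] at h
    change (if p ∣ orderOf (l x) then (0 : ℂ) else (f : G ⧸ N → ℂ) (l x : G ⧸ N)) =
      if p ∣ orderOf (l x) then (0 : ℂ) else (f' : G ⧸ N → ℂ) (l x : G ⧸ N) at h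
    rwa [if_neg (hl x hx), if_neg (hl x hx), hlmk x hx] at h

end Cfsg.Agent.Blocks
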