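import Cfsg.Agent.Lib.Blocks.CycGram
import Cfsg.Agent.Lib.Blocks.CycLocal
import Cfsg.Agent.Lib.Blocks.DefectOneCombi
import Cfsg.Agent.Lib.Blocks.InflationRank

/-!
# The characters of a block with cyclic defect group

Such a block has `e` non-exceptional and `(q - 1)/e` exceptional characters, all of height zero,
and its rank is the inertial index `e`.
-/

set_option linter.unusedSectionVars false

namespace Cfsg.Agent.Blocks.Cyclic

open MonoidAlgebra BPairs

universe u

section Combi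

variable {Φ J : Type*} [Fintype Φ] [Fintype J] [DecidableEq Φ] [DecidableEq J]

/-- Vectors with Gram matrix `1 + e J` and at least `e + #J` entries, none zero. -/
theorem exists_form {A : Φ → J → ℤ} {e : ℕ}
    (hg : ∀ j k, ∑ χ, A χ j * A χ k = (e : ℤ) + if j = k then 1 else 0) (w : Φ → ℤ)
    (hw : ∀ χ, 0 < w χ) (h0 : ∀ j, ∑ χ, w χ * A χ j = 0) (hnz : ∀ χ, ∃ j, A χ j ≠ 0)
    (hcard : e + Fintype.card J ≤ Fintype.card Φ) (j₀ : J) :
    ∃ (c : J → Φ) (ε : ℤ) (b : Φ → ℤ), (ε = 1 ∨ ε = -1) ∧ Function.Injective c ∧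
      (∀ χ j, A χ j = b χ + ε * if χ = c j then 1 else 0) ∧ (∀ j, b (c j) = 0) ∧
      (∀ χ, (∀ j, c j ≠ χ) → b χ = 1 ∨ b χ = -1) ∧
      Fintype.card Φ = e + Fintype.card J := by
  classical
  -- it is enough to have the standard shape
  suffices ∃ (c : J → Φ) (ε : ℤ) (b : Φ → ℤ), (ε = 1 ∨ ε = -1) ∧ Function.Injective c ∧
      (∀ χ j, A χ j = b χ + ε * if χ = c j then 1 else 0) ∧ (∀ j, b (c j) = 0) by
    obtain ⟨c, ε, b, hε, hinj, hA, hb⟩ := this
    have hsq : ∑ χ, b χ * b χ = (e : ℤ) := by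
      have h := hg j₀ j₀
      rw [if_pos rfl, Finset.sum_congr rfl fun χ _ => by rw [hA χ j₀],
        D1.Combi.sum_sq_shift, hb, mul_zero, add_zero] at h
      rcases hε with rfl | rfl <;> linarith
    have hX : ∀ χ ∈ (Finset.univ.image c)ᶜ, 1 ≤ b χ * b χ := fun χ hχ => by
      have hne : ∀ j, c j ≠ χ := fun j h => by simp [← h] at hχ
      obtain ⟨j, hj⟩ := hnz χ
      rw [hA, if_neg (fun h => hne j h.symm), mul_zero, add_zero] at hj
      have := mul_self_pos.mpr hj
      omega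
    have hle : ∑ χ ∈ (Finset.univ.image c)ᶜ, b χ * b χ ≤ (e : ℤ) :=
      hsq ▸ Finset.sum_le_univ_sum_of_nonneg fun χ => mul_self_nonneg (b χ)
    have hc : ((Finset.univ.image c)ᶜ).card = Fintype.card Φ - Fintype.card J := by
      rw [Finset.card_compl, Finset.card_image_of_injective _ hinj, Finset.card_univ]
    have hcle := Finset.sum_le_sum hX
    rw [Finset.sum_const, nsmul_eq_mul, mul_one] at hcle
    have hsum : ∑ χ ∈ (Finset.univ.image c)ᶜ, b χ * b χ =
        ∑ χ ∈ (Finset.univ.image c)ᶜ, (1 : ℤ) := by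
      rw [Finset.sum_const, nsmul_eq_mul, mul_one]
      omega
    have hone := (Finset.sum_eq_sum_iff_of_le hX).mp hsum.symm
    refine ⟨c, ε, b, hε, hinj, hA, hb, fun χ hχ => ?_, by omega⟩
    exact mul_self_eq_one_iff.mp (hone χ (by simpa using hχ)).symm
  by_cases ht : ∃ j₁, j₁ ≠ j₀
  · obtain ⟨j₁, hj₁⟩ := ht
    obtain ⟨c, ε, b, hε, hinj, hA, hb, -⟩ := D1.Combi.exists_sunflower hg w hw h0 j₀ j₁ hj₁
    obtain ⟨u, hu⟩ : ∃ u, u = b (c j₀) := ⟨_, rfl⟩
    have hsq : ∑ χ, b χ * b χ = (e : ℤ) - 2 * ε * u := by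
      have h := hg j₀ j₀
      rw [if_pos rfl, Finset.sum_congr rfl fun χ _ => by rw [hA χ j₀], D1.Combi.sum_sq_shift, ← hu]
        at h
      rcases hε with rfl | rfl <;> linarith
    have himg : ∑ χ ∈ Finset.univ.image c, b χ * b χ = (Fintype.card J : ℤ) * (u * u) := by
      rw [Finset.sum_image fun i _ k _ h => hinj h, Finset.sum_congr rfl fun j _ => by
        rw [hb j j₀, ← hu], Finset.sum_const, Finset.card_univ, nsmul_eq_mul]
    have hX : ∀ χ ∈ (Finset.univ.image c)ᶜ, 1 ≤ b χ * b χ := fun χ hχ => by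
      have hne : ∀ j, c j ≠ χ := fun j h => by simp [← h] at hχ
      obtain ⟨j, hj⟩ := hnz χ
      rw [hA, if_neg (fun h => hne j h.symm), mul_zero, add_zero] at hj
      have := mul_self_pos.mpr hj
      omega
    have hc : ((Finset.univ.image c)ᶜ).card = Fintype.card Φ - Fintype.card J := by
      rw [Finset.card_compl, Finset.card_image_of_injective _ hinj, Finset.card_univ]
    have hcle := Finset.sum_le_sum hX
    rw [Finset.sum_const, nsmul_eq_mul, mul_one] at hcle
    rw [← Finset.sum_add_sum_compl (Finset.univ.image c), himg] at hsq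
    have hineq : (Fintype.card J : ℤ) * (u * u) ≤ -(2 * ε * u) := by
      have : (e : ℤ) ≤ (((Finset.univ.image c)ᶜ).card : ℤ) := by omega
      linarith
    have hcardJ : (2 : ℤ) ≤ Fintype.card J := by
      exact_mod_cast Fintype.one_lt_card_iff.mpr ⟨j₁, j₀, hj₁⟩
    have hcases : u = 0 ∨ (u = -ε ∧ (Fintype.card J : ℤ) = 2) := by
      by_cases h : u = 0
      · exact Or.inl h
      · have hu2 := mul_self_pos.mpr h
        rcases hε with rfl | rfl <;> refine Or.inr ?_
        · have h1 : u = -1 := by nlinarith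
          exact ⟨h1, by rw [h1] at hineq; linarith⟩
        · have h1 : u = 1 := by nlinarith
          exact ⟨by rw [h1]; norm_num, by rw [h1] at hineq; linarith⟩
    rcases hcases with hu0 | ⟨huε, hJ⟩
    · exact ⟨c, ε, b, hε, hinj, hA, fun j => by rw [hb j j₀, ← hu, hu0]⟩
    · have hex : ∀ j : J, j = j₀ ∨ j = j₁ := by
        intro j
        by_contra hj
        push Not at hj
        have h3 : ({j, j₀, j₁} : Finset J).card ≤ Fintype.card J := Finset.card_le_univ _
        rw [Finset.card_insert_of_notMem (by simp [hj.1, hj.2]), Finset.card_pair (Ne.symm hj₁)]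
          at h3
        omega
      let sw : J → J := fun j => if j = j₀ then j₁ else j₀
      have hsw : Function.Injective sw := by
        intro i j h
        rcases hex i with rfl | rfl <;> rcases hex j with rfl | rfl <;>
          simp [sw, hj₁, Ne.symm hj₁] at h ⊢
      refine ⟨fun j => c (sw j), -ε,
        fun χ => b χ + ε * ((if χ = c j₀ then 1 else 0) + if χ = c j₁ then 1 else 0),
        by omega, hinj.comp hsw, fun χ j => ?_, fun j => ?_⟩
      · rw [hA]
        rcases hex j with rfl | rfl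
        · simp only [sw, if_true]; ring
        · simp only [sw, if_neg hj₁]; ring
      · show b (c (sw j)) + ε * ((if c (sw j) = c j₀ then 1 else 0) +
          if c (sw j) = c j₁ then 1 else 0) = 0
        rw [hb (sw j) j₀, ← hu, huε]
        rcases hex (sw j) with h | h <;> rw [h]
        · simp only [if_true, if_neg (fun e => hj₁ (hinj e).symm)]; ring
        · simp only [if_true, if_neg (fun e => hj₁ (hinj e))]; ring
  · push Not at ht
    have hall : ∀ χ, 1 ≤ A χ j₀ * A χ j₀ := fun χ => by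
      obtain ⟨j, hj⟩ := hnz χ
      rw [ht j] at hj
      have := mul_self_pos.mpr hj
      omega
    have hJ : Fintype.card J = 1 :=
      Fintype.card_eq_one_iff.mpr ⟨j₀, ht⟩
    have h := hg j₀ j₀
    rw [if_pos rfl] at h
    have hle : ∑ _χ : Φ, (1 : ℤ) ≤ ∑ χ, A χ j₀ * A χ j₀ := Finset.sum_le_sum fun χ _ => hall χ
    have heq : ∑ _χ : Φ, (1 : ℤ) = ∑ χ, A χ j₀ * A χ j₀ := by
      rw [Finset.sum_const, Finset.card_univ, nsmul_eq_mul, mul_one] at hle ⊢
      omega
    have hone := (Finset.sum_eq_sum_iff_of_le fun χ _ => hall χ).mp heq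
    obtain ⟨χ₀⟩ : Nonempty Φ := Fintype.card_pos_iff.mp (by omega)
    refine ⟨fun _ => χ₀, A χ₀ j₀, fun χ => if χ = χ₀ then 0 else A χ j₀,
      mul_self_eq_one_iff.mp (hone χ₀ (Finset.mem_univ _)).symm,
      fun i j _ => (ht i).trans (ht j).symm, fun χ j => ?_, fun _ => by simp⟩
    rw [ht j]
    by_cases h' : χ = χ₀ <;> simp [h']

end Combi

variable {G : Type u} [Group G] [Fintype G] {p : ℕ} [hp : Fact p.Prime] {M : Ideal AlgInt}
  [M.IsPrime]

/-- The stabilizer in the normalizer as the stabilizer of the pair. -/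
theorem eq_stabSub' {P : Subgroup G} {c : Set (IrrCharacter (Subgroup.centralizer (P : Set G)))}
    (hc : IsPBlock M c) {T : Subgroup G}
    (hT : ∀ g : G, g ∈ T ↔ (g ∈ Subgroup.normalizer (P : Set G) ∧
      ∀ θ ∈ c, ∀ θ' : IrrCharacter (Subgroup.centralizer (P : Set G)),
        (∀ h h' : Subgroup.centralizer (P : Set G), (h' : G) = g * h * g⁻¹ →
          (θ' : Subgroup.centralizer (P : Set G) → ℂ) h' =
            (θ : Subgroup.centralizer (P : Set G) → ℂ) h) → θ' ∈ c)) :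
    T = stabSub M P c := by
  refine eq_stabSub hc fun g => (hT g).trans (and_congr_right fun hg => ?_)
  have hgC : g ∈ Subgroup.normalizer ((Subgroup.centralizer (P : Set G)) : Set G) :=
    normalizer_le_normalizer_centralizer P hg
  constructor
  · intro h
    have hh : ∀ u, u ∈ Subgroup.centralizer (P : Set G) ↔
        g * u * g⁻¹ ∈ Subgroup.centralizer (P : Set G) := fun u =>
      Subgroup.mem_normalizer_iff.mp hgC u
    refine ⟨hgC, fun χ hχ => ?_⟩
    have hk : ∀ k k' : Subgroup.centralizer (P : Set G), (k' : G) = g * k * g⁻¹ →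
        (Glauberman.compIrr (cIso g _ _ hh) χ : Subgroup.centralizer (P : Set G) → ℂ) k' =
          (χ : Subgroup.centralizer (P : Set G) → ℂ) k := fun k k' hk => by
      show (χ : Subgroup.centralizer (P : Set G) → ℂ) _ = _
      exact congrArg _ (Subtype.ext (by
        show g⁻¹ * (k' : G) * g = k
        rw [hk]; simp [mul_assoc]))
    exact ⟨_, h χ hχ _ hk, hk⟩
  · intro hs θ hθ θ' hθ'
    obtain ⟨χ', hχ', hcj⟩ := hs.2 θ hθ
    have : θ' = χ' := Subtype.ext (funext fun h' => by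
      have hm : g⁻¹ * (h' : G) * g ∈ Subgroup.centralizer (P : Set G) :=
        (Subgroup.mem_normalizer_iff''.mp hgC _).mp h'.2
      rw [hθ' ⟨_, hm⟩ h' (by group), hcj ⟨_, hm⟩ h' (by group)])
    exact this ▸ hχ'

namespace Setting

variable (S : Setting p M G)

theorem card_D_eq : Nat.card S.D = Nat.card S.J * S.e + 1 := S.card_J.symm

theorem card_J_pos : 0 < Nat.card S.J := by
  refine Nat.pos_of_ne_zero fun h => ?_
  have := S.card_D_eq
  rw [h, zero_mul] at this
  have := S.two_le_card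
  omega

theorem e_dvd_card : S.e ∣ Nat.card S.D - 1 := ⟨Nat.card S.J, by
  rw [S.card_D_eq, Nat.add_sub_cancel, mul_comm]⟩

open Classical in
/-- The rank leaves room for the multiplicity vectors. -/
theorem rank_add_le : blockRank p S.B + Nat.card S.J ≤ Nat.card S.B := by
  let f : S.B → G → ℂ := fun χ => pRegularPart p ((χ : IrrCharacter G) : G → ℂ)
  let L : (S.B → ℂ) →ₗ[ℂ] (G → ℂ) := Fintype.linearCombination ℂ f
  have hrk : blockRank p S.B = Module.finrank ℂ (LinearMap.range L) := by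
    rw [Fintype.range_linearCombination, blockRank, Set.image_eq_range]
  let vec : S.J → (S.B → ℂ) := fun j χ => (S.A (χ : IrrCharacter G) j : ℂ)
  have hker : ∀ j, vec j ∈ LinearMap.ker L := fun j => by
    rw [LinearMap.mem_ker]
    funext g
    simp only [L, Fintype.linearCombination_apply, Finset.sum_apply, Pi.smul_apply, smul_eq_mul,
      Pi.zero_apply, f, vec, pRegularPart_eq_regFun, regFun]
    split_ifs with hg
    · simp
    · have h := S.orth_regular j hg
      rw [Finset.sum_subtype S.BF (fun χ => S.mem_BF) fun χ => (χ : G → ℂ) g * (S.A χ j : ℂ)] at h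
      rw [← h]
      exact Finset.sum_congr rfl fun χ _ => mul_comm _ _
  have hind : LinearIndependent ℂ (fun j => (⟨vec j, hker j⟩ : LinearMap.ker L)) := by
    rw [Fintype.linearIndependent_iff]
    intro c hc
    have hc' : ∀ χ : S.B, ∑ j, c j * (S.A (χ : IrrCharacter G) j : ℂ) = 0 := fun χ => by
      have := congrFun (congrArg Subtype.val hc) χ
      simpa [vec] using this
    have hdot : ∀ i, (S.e : ℂ) * ∑ j, c j + c i = 0 := fun i => by
      have h1 : ∀ j, ∑ χ : S.B, (S.A (χ : IrrCharacter G) i : ℂ) * (S.A χ j : ℂ) =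
          (S.e : ℂ) + if i = j then 1 else 0 := fun j => by
        have h2 := congrArg (fun n : ℤ => (n : ℂ)) (S.gram i j)
        push_cast at h2
        rw [← h2]
        exact (Finset.sum_subtype S.BF (fun χ => S.mem_BF)
          fun χ => (S.A χ i : ℂ) * (S.A χ j : ℂ)).symm
      calc (S.e : ℂ) * ∑ j, c j + c i = ∑ j, c j * ((S.e : ℂ) + if i = j then 1 else 0) := by
            simp [mul_add, Finset.sum_add_distrib, Finset.mul_sum, mul_comm]
        _ = ∑ χ : S.B, (S.A (χ : IrrCharacter G) i : ℂ) *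
              ∑ j, c j * (S.A (χ : IrrCharacter G) j : ℂ) := by
            rw [Finset.sum_congr rfl fun j _ => by rw [← h1 j, Finset.mul_sum], Finset.sum_comm]
            exact Finset.sum_congr rfl fun χ _ => by
              rw [Finset.mul_sum]; exact Finset.sum_congr rfl fun j _ => by ring
        _ = 0 := by simp [hc']
    have hsum : ((Fintype.card S.J : ℂ) * S.e + 1) * ∑ j, c j = 0 := by
      have := Finset.sum_eq_zero (s := Finset.univ) fun i _ => hdot i
      rw [Finset.sum_add_distrib, Finset.sum_const, Finset.card_univ, nsmul_eq_mul] at this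
      linear_combination this
    have hne : ((Fintype.card S.J : ℂ) * S.e + 1) ≠ 0 := by
      exact_mod_cast Nat.succ_ne_zero (Fintype.card S.J * S.e)
    intro i
    have h0 := (mul_eq_zero.mp hsum).resolve_left hne
    have := hdot i
    rw [h0] at this
    simpa using this
  have h1 := hind.fintype_card_le_finrank
  have h2 := LinearMap.finrank_range_add_finrank_ker L
  rw [Module.finrank_pi, ← hrk] at h2
  rw [Nat.card_eq_fintype_card, Nat.card_eq_fintype_card]
  omega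

open Classical in
/-- The shape of the block. -/
theorem exists_shape : ∃ (c : S.J → IrrCharacter G) (ε : ℤ) (b : IrrCharacter G → ℤ),
    (ε = 1 ∨ ε = -1) ∧ Function.Injective c ∧ (∀ j, c j ∈ S.B) ∧
    (∀ χ ∈ S.B, ∀ j, S.A χ j = b χ + ε * if χ = c j then 1 else 0) ∧ (∀ j, b (c j) = 0) ∧
    (∀ χ ∈ S.B, (∀ j, c j ≠ χ) → b χ = 1 ∨ b χ = -1) ∧
    Nat.card S.B = S.e + Nat.card S.J ∧ blockRank p S.B = S.e := by
  have h1 := S.rank_add_le
  have h2 := S.e_le_rank
  obtain ⟨j₀⟩ : Nonempty S.J := Finite.card_pos_iff.mp S.card_J_pos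
  have hsub : ∀ f : IrrCharacter G → ℤ, ∑ χ : S.B, f χ = ∑ χ ∈ S.BF, f χ := fun f =>
    (Finset.sum_subtype S.BF (fun χ => S.mem_BF) f).symm
  obtain ⟨c, ε, b, hε, hinj, hA, hb, hX, hcard⟩ := exists_form (Φ := S.B) (J := S.J)
    (A := fun χ j => S.A χ j) (e := S.e)
    (fun j k => by rw [hsub fun χ => S.A χ j * S.A χ k]; exact S.gram j k)
    (fun χ => (charDegree ((χ : IrrCharacter G) : G → ℂ) : ℤ))
    (fun χ => by exact_mod_cast charDegree_pos (χ : IrrCharacter G))
    (fun j => by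
      rw [hsub fun χ => (charDegree (χ : G → ℂ) : ℤ) * S.A χ j]
      have h := S.orth_regular j (g := 1) (by rw [orderOf_one]; exact hp.out.not_dvd_one)
      simp only [charDegree_cast] at h
      exact_mod_cast h)
    (fun χ => S.exists_A_ne χ.2) (by
      rw [← Nat.card_eq_fintype_card, ← Nat.card_eq_fintype_card]; omega) j₀
  refine ⟨fun j => c j, ε, fun χ => if h : χ ∈ S.B then b ⟨χ, h⟩ else 0, hε,
    Subtype.val_injective.comp hinj, fun j => (c j).2, fun χ hχ j => ?_, fun j => ?_,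
    fun χ hχ hne => ?_, ?_, ?_⟩
  · beta_reduce
    rw [dif_pos hχ]
    convert hA ⟨χ, hχ⟩ j using 3
    simp [Subtype.ext_iff]
  · beta_reduce
    rw [dif_pos (c j).2]; exact hb j
  · beta_reduce
    rw [dif_pos hχ]
    exact hX _ fun j h => hne j (congrArg Subtype.val h)
  · rw [Nat.card_eq_fintype_card, Nat.card_eq_fintype_card (α := S.J)]; exact hcard
  · rw [← Nat.card_eq_fintype_card, ← Nat.card_eq_fintype_card] at hcard
    omega

theorem blockRank_eq : blockRank p S.B = S.e := by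
  obtain ⟨c, ε, b, -, -, -, -, -, -, -, h⟩ := S.exists_shape
  exact h

open Classical in
/-- The structure theorem. -/
theorem structure_thm :
    (∀ χ ∈ S.B, blockHeight p S.B (χ : G → ℂ) = 0) ∧
    ∃ X Y : Set (IrrCharacter G), S.B = X ∪ Y ∧ Disjoint X Y ∧ Nat.card X = S.e ∧
      Nat.card Y = (Nat.card S.D - 1) / S.e ∧
      (∀ ψ ∈ Y, ∀ ψ' ∈ Y, ∀ g : G, ¬ p ∣ orderOf g → (ψ : G → ℂ) g = (ψ' : G → ℂ) g) ∧
      ∃ (δ : IrrCharacter G → ℤ) (δ₀ : ℤ), (∀ χ ∈ X, δ χ = 1 ∨ δ χ = -1) ∧ (δ₀ = 1 ∨ δ₀ = -1) ∧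
        (∀ ψ ∈ Y, ∀ g : G, ¬ p ∣ orderOf g →
          (δ₀ : ℂ) * (ψ : G → ℂ) g + ∑ᶠ χ ∈ X, (δ χ : ℂ) * (χ : G → ℂ) g = 0) ∧
        (∀ χ ∈ X, ∀ χ' ∈ X, δ χ * (charDegree (χ : G → ℂ) : ℤ) ≡
          δ χ' * (charDegree (χ' : G → ℂ) : ℤ) [ZMOD (Nat.card S.D : ℤ)]) ∧
        (∀ ψ ∈ Y, ∀ χ ∈ X, (charDegree (ψ : G → ℂ) : ℤ) ≡
          -((S.e : ℤ) * δ₀ * δ χ * (charDegree (χ : G → ℂ) : ℤ)) [ZMOD (Nat.card S.D : ℤ)]) := by
  obtain ⟨c, ε, b, hε, hinj, hcB, hA, hb, hX, hcard, -⟩ := S.exists_shape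
  have hεε : ε * ε = 1 := by rcases hε with rfl | rfl <;> norm_num
  obtain ⟨Yf, hYf⟩ : ∃ Yf, Yf = (Finset.univ : Finset S.J).image c := ⟨_, rfl⟩
  obtain ⟨Xf, hXf⟩ : ∃ Xf, Xf = S.BF \ Yf := ⟨_, rfl⟩
  have hYsub : Yf ⊆ S.BF := fun χ hχ => by
    rw [hYf] at hχ
    obtain ⟨j, -, rfl⟩ := Finset.mem_image.mp hχ
    exact S.mem_BF.mpr (hcB j)
  have hXne : ∀ χ ∈ Xf, ∀ j, c j ≠ χ := fun χ hχ j h => by
    rw [hXf, Finset.mem_sdiff, hYf] at hχ
    exact hχ.2 (Finset.mem_image.mpr ⟨j, Finset.mem_univ _, h⟩)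
  have hXB : ∀ χ ∈ Xf, χ ∈ S.B := fun χ hχ => by
    rw [hXf, Finset.mem_sdiff] at hχ
    exact S.mem_BF.mp hχ.1
  have hcardX : Xf.card = S.e := by
    have h1 : S.BF.card = Nat.card S.B := by
      rw [Nat.card_eq_fintype_card, Fintype.card_subtype, BF]
    rw [hXf, Finset.card_sdiff_of_subset hYsub, hYf, Finset.card_image_of_injective _ hinj,
      Finset.card_univ, ← Nat.card_eq_fintype_card, h1, hcard, Nat.add_sub_cancel]
  have hcardY : Yf.card = (Nat.card S.D - 1) / S.e := by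
    rw [hYf, Finset.card_image_of_injective _ hinj, Finset.card_univ, ← Nat.card_eq_fintype_card,
      S.card_D_eq, Nat.add_sub_cancel, Nat.mul_div_cancel _ S.e_pos]
  -- relations at regular elements
  have hrel : ∀ (j : S.J) (g : G), ¬ p ∣ orderOf g →
      (ε : ℂ) * (c j : G → ℂ) g + ∑ χ ∈ Xf, (b χ : ℂ) * (χ : G → ℂ) g = 0 := by
    intro j g hg
    have h := S.orth_regular j hg
    rw [← Finset.sum_sdiff hYsub, ← hXf, hYf, Finset.sum_image fun i _ k _ e => hinj e,
      Finset.sum_eq_single j] at h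
    · rw [hA _ (hcB j) j, hb, if_pos rfl] at h
      rw [Finset.sum_congr rfl fun χ hχ => by
        rw [hA _ (hXB χ hχ) j, if_neg fun e => hXne χ hχ j e.symm]] at h
      simp only [mul_zero, add_zero, zero_add, mul_one] at h
      rw [← h, add_comm, mul_comm]
      exact congrArg₂ _ (Finset.sum_congr rfl fun χ _ => mul_comm _ _) rfl
    · intro k _ hne
      rw [hA _ (hcB k) j, hb, if_neg fun e => hne (hinj e)]
      simp
    · simp
  -- congruences modulo the Sylow order
  have hcong : ∀ (d : IrrCharacter G → ℤ), (∀ j, ∑ χ ∈ S.BF, d χ * S.A χ j = 0) →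
      ((p ^ (Nat.card G).factorization p : ℕ) : ℤ) ∣
        ∑ χ ∈ S.BF, d χ * (charDegree (χ : G → ℂ) : ℤ) := by
    intro d hd
    refine pow_dvd_of_vanish (f := ∑ χ ∈ S.BF, (d χ : ℂ) • (χ : G → ℂ))
      (CT.isGen_sum _ fun χ _ => CT.isGen_zsmul _ (CT.isGen_of_isIrr χ.2)) (fun g hg => ?_) ?_
    · have h := S.vanish (fun χ => (d χ : ℂ)) (fun j => by exact_mod_cast hd j) hg
      simpa using h
    · simp [charDegree_cast]
  have hdiff : ∀ χ ∈ Xf, ∀ χ' ∈ Xf, ((p ^ (Nat.card G).factorization p : ℕ) : ℤ) ∣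
      b χ * (charDegree (χ : G → ℂ) : ℤ) - b χ' * (charDegree (χ' : G → ℂ) : ℤ) := by
    intro χ hχ χ' hχ'
    have hsum : ∀ F : IrrCharacter G → ℤ, ∑ θ ∈ S.BF,
        ((if θ = χ then b χ else 0) - (if θ = χ' then b χ' else 0)) * F θ =
          b χ * F χ - b χ' * F χ' := fun F => by
      simp only [sub_mul, Finset.sum_sub_distrib, ite_mul, zero_mul, Finset.sum_ite_eq']
      rw [if_pos (S.mem_BF.mpr (hXB χ hχ)), if_pos (S.mem_BF.mpr (hXB χ' hχ'))]
    have h := hcong (fun θ => (if θ = χ then b χ else 0) - (if θ = χ' then b χ' else 0)) fun j => by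
      rw [hsum fun θ => S.A θ j, hA _ (hXB χ hχ) j, hA _ (hXB χ' hχ') j,
        if_neg fun e => hXne χ hχ j e.symm, if_neg fun e => hXne χ' hχ' j e.symm]
      rcases hX χ (hXB χ hχ) (hXne χ hχ) with h1 | h1 <;>
        rcases hX χ' (hXB χ' hχ') (hXne χ' hχ') with h2 | h2 <;> rw [h1, h2] <;> norm_num
    rwa [hsum fun θ => (charDegree (θ : G → ℂ) : ℤ)] at h
  have hagree : ∀ i j, ∀ g : G, ¬ p ∣ orderOf g → (c i : G → ℂ) g = (c j : G → ℂ) g := by
    intro i j g hg
    have h := (hrel i g hg).trans (hrel j g hg).symm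
    exact mul_left_cancel₀ (by rcases hε with rfl | rfl <;> norm_num) (add_right_cancel h)
  have hdeg : ∀ i j, charDegree (c i : G → ℂ) = charDegree (c j : G → ℂ) := fun i j => by
    have := hagree i j 1 (by rw [orderOf_one]; exact hp.out.not_dvd_one)
    rw [charDegree_cast, charDegree_cast] at this
    exact_mod_cast this
  have hexc : ∀ j, ∀ χ ∈ Xf, ((p ^ (Nat.card G).factorization p : ℕ) : ℤ) ∣
      (Nat.card S.J : ℤ) * (charDegree (c j : G → ℂ) : ℤ) -
        ε * b χ * (charDegree (χ : G → ℂ) : ℤ) := by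
    intro j χ hχ
    have hsum : ∀ F : IrrCharacter G → ℤ, ∑ θ ∈ S.BF,
        ((if θ ∈ Yf then 1 else 0) - (if θ = χ then ε * b χ else 0)) * F θ =
          ∑ i, F (c i) - ε * b χ * F χ := fun F => by
      simp only [sub_mul, Finset.sum_sub_distrib, ite_mul, one_mul, zero_mul, Finset.sum_ite_eq']
      rw [if_pos (S.mem_BF.mpr (hXB χ hχ)), ← Finset.sum_filter,
        Finset.filter_mem_eq_inter, Finset.inter_eq_right.mpr hYsub, hYf,
        Finset.sum_image fun i _ k _ e => hinj e]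
    have h := hcong (fun θ => (if θ ∈ Yf then 1 else 0) - (if θ = χ then ε * b χ else 0)) fun k => by
      rw [hsum fun θ => S.A θ k, hA _ (hXB χ hχ) k, if_neg fun e => hXne χ hχ k e.symm,
        Finset.sum_eq_single k]
      · rw [hA _ (hcB k) k, hb, if_pos rfl]
        rcases hX χ (hXB χ hχ) (hXne χ hχ) with h1 | h1 <;> rw [h1] <;> ring
      · intro i _ hne; rw [hA _ (hcB i) k, hb, if_neg fun e => hne (hinj e)]; ring
      · simp
    rw [hsum fun θ => (charDegree (θ : G → ℂ) : ℤ)] at h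
    rwa [Finset.sum_congr rfl fun i _ => by rw [hdeg i j], Finset.sum_const, Finset.card_univ,
      nsmul_eq_mul, ← Nat.card_eq_fintype_card] at h
  -- defect
  obtain ⟨n, hn⟩ : ∃ n, n = (Nat.card G).factorization p := ⟨_, rfl⟩
  obtain ⟨a, hDa⟩ := IsPGroup.iff_card.mp S.hDp
  have hdef : blockDefect p S.B = a := by
    refine Nat.pow_right_injective hp.out.two_le ?_
    show p ^ blockDefect p S.B = p ^ a
    rw [← hDa, card_defectGroup S.hM S.hB S.hPD]
  have ha : a ≠ 0 := fun h => by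
    have := S.two_le_card
    rw [hDa, h, pow_zero] at this
    omega
  obtain ⟨χm, hχm, hm0⟩ := exists_height_zero (p := p) S.hB
  obtain ⟨m, hm⟩ : ∃ m, m = (charDegree (χm : G → ℂ)).factorization p := ⟨_, rfl⟩
  have hge : ∀ χ ∈ S.B, m + blockHeight p S.B (χ : G → ℂ) =
      (charDegree (χ : G → ℂ)).factorization p ∧ m + a = n := fun χ hχ => by
    have h1 := height_add (p := p) hχm
    have h2 := height_add (p := p) hχ
    omega
  have hdvd : ∀ χ ∈ S.B, ((p ^ m : ℕ) : ℤ) ∣ (charDegree (χ : G → ℂ) : ℤ) := fun χ hχ =>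
    Int.natCast_dvd_natCast.mpr ((pow_dvd_pow p (by have := hge χ hχ; omega)).trans
      (Nat.ordProj_dvd _ p))
  have hmn : m + a = n := (hge χm hχm).2
  have hDn : (Nat.card S.D : ℤ) ∣ ((p ^ n : ℕ) : ℤ) := by
    rw [hDa]; exact_mod_cast pow_dvd_pow p (by omega : a ≤ n)
  have hJe : (Nat.card S.J : ℤ) * (S.e : ℤ) = (Nat.card S.D : ℤ) - 1 := by
    have := S.card_D_eq
    rw [this]; push_cast; ring
  have hkey : ∀ j, ∀ χ ∈ Xf, ((p ^ n : ℕ) : ℤ) ∣ (charDegree (c j : G → ℂ) : ℤ) +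
      (S.e : ℤ) * ε * b χ * (charDegree (χ : G → ℂ) : ℤ) := by
    intro j χ hχ
    obtain ⟨k, hk⟩ := hn ▸ hexc j χ hχ
    obtain ⟨l, hl⟩ := hdvd _ (hcB j)
    refine ⟨l - (S.e : ℤ) * k, ?_⟩
    have hq : (Nat.card S.D : ℤ) * ((p ^ m : ℕ) : ℤ) = ((p ^ n : ℕ) : ℤ) := by
      rw [hDa, ← hmn, pow_add]; push_cast; ring
    calc _ = (Nat.card S.D : ℤ) * (charDegree (c j : G → ℂ) : ℤ) -
          (S.e : ℤ) * ((Nat.card S.J : ℤ) * (charDegree (c j : G → ℂ) : ℤ) -
            ε * b χ * (charDegree (χ : G → ℂ) : ℤ)) := by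
          linear_combination (charDegree (c j : G → ℂ) : ℤ) * hJe
      _ = _ := by
          rw [hk]
          conv_lhs => rw [hl]
          linear_combination l * hq
  obtain ⟨χ₁, hχ₁⟩ : Xf.Nonempty := Finset.card_pos.mp (hcardX ▸ S.e_pos)
  refine ⟨fun θ hθ => ?_, (Xf : Set (IrrCharacter G)), (Yf : Set (IrrCharacter G)), ?_, ?_,
    by rw [← hcardX]; simp, by rw [← hcardY]; simp, ?_, b, ε, ?_, hε, ?_, ?_, ?_⟩
  · -- all degrees have the same `p`-part
    obtain ⟨R, hR⟩ : ∃ R : ℕ, R = p ^ (m + 1) := ⟨_, rfl⟩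
    have hRn : (R : ℤ) ∣ ((p ^ n : ℕ) : ℤ) := by
      rw [hR]; exact_mod_cast pow_dvd_pow p (by omega : m + 1 ≤ n)
    have hcop : IsCoprime (R : ℤ) (S.e : ℤ) :=
      Nat.isCoprime_iff_coprime.mpr (hR ▸ ((hp.out.coprime_iff_not_dvd.mpr S.not_dvd_e).pow_left _))
    have hbu : ∀ χ ∈ Xf, b χ * b χ = 1 := fun χ hχ => by
      rcases hX χ (hXB χ hχ) (hXne χ hχ) with h | h <;> rw [h] <;> norm_num
    have hiffX : ∀ χ ∈ Xf, ((R : ℤ) ∣ (charDegree (χ : G → ℂ) : ℤ) ↔
        (R : ℤ) ∣ (charDegree (χ₁ : G → ℂ) : ℤ)) := by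
      intro χ hχ
      have h := hRn.trans (hn ▸ hdiff χ hχ χ₁ hχ₁)
      constructor
      · intro hd
        have := (hd.mul_left (b χ)).sub h
        rw [sub_sub_cancel] at this
        have h' := this.mul_left (b χ₁)
        rwa [← mul_assoc, hbu χ₁ hχ₁, one_mul] at h'
      · intro hd
        have := h.add (hd.mul_left (b χ₁))
        rw [sub_add_cancel] at this
        have h' := this.mul_left (b χ)
        rwa [← mul_assoc, hbu χ hχ, one_mul] at h'
    have hiffY : ∀ j, ((R : ℤ) ∣ (charDegree (c j : G → ℂ) : ℤ) ↔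
        (R : ℤ) ∣ (charDegree (χ₁ : G → ℂ) : ℤ)) := by
      intro j
      have h := hRn.trans (hkey j χ₁ hχ₁)
      constructor
      · intro hd
        have h' := h.sub hd
        rw [add_sub_cancel_left, mul_assoc, mul_assoc] at h'
        have h'' := (hcop.dvd_of_dvd_mul_left h').mul_left (b χ₁ * ε)
        rwa [show b χ₁ * ε * (ε * (b χ₁ * (charDegree (χ₁ : G → ℂ) : ℤ))) =
          (charDegree (χ₁ : G → ℂ) : ℤ) by
            linear_combination (b χ₁ * b χ₁ * (charDegree (χ₁ : G → ℂ) : ℤ)) * hεε +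
              (charDegree (χ₁ : G → ℂ) : ℤ) * hbu χ₁ hχ₁] at h''
      · intro hd
        have h' := h.sub (hd.mul_left ((S.e : ℤ) * ε * b χ₁))
        rwa [add_sub_cancel_right] at h'
    have hall : ∀ χ ∈ S.B, ((R : ℤ) ∣ (charDegree (χ : G → ℂ) : ℤ) ↔
        (R : ℤ) ∣ (charDegree (χ₁ : G → ℂ) : ℤ)) := by
      intro χ hχ
      by_cases hY : χ ∈ Yf
      · rw [hYf] at hY
        obtain ⟨j, -, rfl⟩ := Finset.mem_image.mp hY
        exact hiffY j
      · exact hiffX χ (hXf ▸ Finset.mem_sdiff.mpr ⟨S.mem_BF.mpr hχ, hY⟩)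
    by_contra hne
    have hd : R ∣ charDegree (θ : G → ℂ) := hR ▸ (pow_dvd_pow p (by
      have := hge θ hθ; omega)).trans (Nat.ordProj_dvd _ p)
    have hd' : R ∣ charDegree (χm : G → ℂ) := by
      exact_mod_cast (hall χm hχm).mpr ((hall θ hθ).mp (by exact_mod_cast hd))
    have := (hp.out.pow_dvd_iff_le_factorization (charDegree_pos χm).ne').mp (hR ▸ hd')
    omega
  · ext χ
    simp only [hXf, Set.mem_union, Finset.mem_coe, Finset.mem_sdiff, S.mem_BF]
    exact ⟨fun h => (Classical.em (χ ∈ Yf)).elim Or.inr fun h' => Or.inl ⟨h, h'⟩,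
      fun h => h.elim And.left fun h' => S.mem_BF.mp (hYsub h')⟩
  · rw [Finset.disjoint_coe, hXf]; exact Finset.sdiff_disjoint
  · intro ψ hψ ψ' hψ'
    rw [Finset.mem_coe, hYf, Finset.mem_image] at hψ hψ'
    obtain ⟨i, -, rfl⟩ := hψ
    obtain ⟨j, -, rfl⟩ := hψ'
    exact hagree i j
  · intro χ hχ
    exact hX χ (hXB χ hχ) (hXne χ hχ)
  · intro ψ hψ g hg
    rw [Finset.mem_coe, hYf, Finset.mem_image] at hψ
    obtain ⟨j, -, rfl⟩ := hψ
    rw [finsum_mem_coe_finset]
    exact hrel j g hg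
  · intro χ hχ χ' hχ'
    rw [Int.modEq_iff_dvd]
    exact hDn.trans (hn ▸ hdiff χ' hχ' χ hχ)
  · intro ψ hψ χ hχ
    rw [Finset.mem_coe, hYf, Finset.mem_image] at hψ
    obtain ⟨j, -, rfl⟩ := hψ
    rw [Int.modEq_comm, Int.modEq_iff_dvd, sub_neg_eq_add]
    exact hDn.trans (hkey j χ hχ)

end Setting

end Cfsg.Agent.Blocks.Cyclic
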