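import Cfsg.Agent.Lib.BrauerPairs.Elem

/-!
# A matrix algebra over a truncated polynomial ring inside a group algebra

The configuration of a block of the centralizer of the subgroup of order `p` of a cyclic defect
group: its algebra is a matrix algebra over a truncated polynomial ring, acted on by the inertial
group.
-/

set_option linter.unusedSectionVars false

namespace Cfsg.Agent.Blocks.CycMod

open MonoidAlgebra BPairs

universe u v

variable {k : Type v} [Field k] {G : Type u} [Group G] [Finite G]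

/-- The group algebra of a subgroup as a subalgebra. -/
noncomputable def SC (k : Type v) [Field k] {G : Type u} [Group G] [Finite G] (C : Subgroup G) :
    Subalgebra k (MonoidAlgebra k G) where
  carrier := {a | ∀ g, g ∉ C → a.coeff g = 0}
  add_mem' := fun {a b} ha hb g hg => by simp [ha g hg, hb g hg]
  mul_mem' := fun {a b} ha hb g hg => by
    haveI := Fintype.ofFinite G
    rw [coeff_mul_sum]
    refine Finset.sum_eq_zero fun u _ => ?_
    by_cases hu : u ∈ C
    · rw [hb (u⁻¹ * g) fun h => hg (by simpa using mul_mem hu h), mul_zero]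
    · rw [ha u hu, zero_mul]
  algebraMap_mem' := fun r g hg => by
    have : g ≠ 1 := fun h => hg (h ▸ one_mem C)
    simp [MonoidAlgebra.coe_algebraMap, this]

theorem mem_SC {C : Subgroup G} {a : MonoidAlgebra k G} :
    a ∈ SC k C ↔ ∀ g, g ∉ C → a.coeff g = 0 := Iff.rfl

theorem single_mem_SC {C : Subgroup G} {c : G} (hc : c ∈ C) (r : k) : single c r ∈ SC k C :=
  fun g hg => by
    have : c ≠ g := fun h => hg (h ▸ hc)
    simp [Finsupp.single_eq_of_ne' this]

theorem commute_SC {C : Subgroup G} {a b : MonoidAlgebra k G}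
    (hz : ∀ c ∈ C, Commute a (single c 1)) (hb : b ∈ SC k C) : Commute a b := by
  haveI := Fintype.ofFinite G
  rw [eq_sum_single b]
  refine Commute.sum_right _ _ _ fun g _ => ?_
  by_cases hg : g ∈ C
  · rw [show single g (b.coeff g) = b.coeff g • single g (1 : k) by simp]
    exact (hz g hg).smul_right _
  · rw [hb g hg, single_zero]
    exact Commute.zero_right a

theorem single_mul_single_inv (g : G) :
    (single g (1 : k) : MonoidAlgebra k G) * single g⁻¹ 1 = 1 := by
  rw [single_mul_single, mul_inv_cancel, one_mul]; rfl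

theorem single_inv_mul_single (g : G) :
    (single g⁻¹ (1 : k) : MonoidAlgebra k G) * single g 1 = 1 := by
  rw [single_mul_single, inv_mul_cancel, one_mul]; rfl

theorem single_mul_eq (g : G) (a : MonoidAlgebra k G) :
    single g 1 * a = conjA g a * single g 1 := by
  rw [conjA, mul_assoc, single_inv_mul_single, mul_one]

theorem mul_single_eq (g : G) (a : MonoidAlgebra k G) :
    a * single g 1 = single g 1 * conjA g⁻¹ a := by
  rw [conjA, inv_inv, ← mul_assoc, ← mul_assoc, single_mul_single_inv, one_mul]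

theorem conjA_mem_SC {C : Subgroup G} {s : G} (hs : ∀ c ∈ C, s * c * s⁻¹ ∈ C)
    {a : MonoidAlgebra k G} (ha : a ∈ SC k C) : conjA s a ∈ SC k C := fun g hg => by
  rw [coeff_conjA]
  exact ha _ fun h => hg (by simpa [mul_assoc] using hs _ h)

/-- The configuration. -/
structure Data (k : Type v) [Field k] (G : Type u) [Group G] [Finite G] where
  C : Subgroup G
  T : Subgroup G
  D : Subgroup G
  hDC : D ≤ C
  hCT : C ≤ T
  e : ℕ
  e_ne : (e : k) ≠ 0
  t : G
  ht : t ∈ T
  hT : ∀ s ∈ T, ∃ i < e, (t ^ i)⁻¹ * s ∈ C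
  hte : ∀ i : ℕ, t ^ i ∈ C ↔ e ∣ i
  hnC : ∀ s ∈ T, ∀ c ∈ C, s * c * s⁻¹ ∈ C
  hcz : ∀ d ∈ D, d ≠ 1 → ∀ g : G, Commute d g → g ∈ C
  q : ℕ
  hq : 2 ≤ q
  β : MonoidAlgebra k G
  x : MonoidAlgebra k G
  f : MonoidAlgebra k G
  m : ℕ
  u : Fin m → MonoidAlgebra k G
  v : Fin m → MonoidAlgebra k G
  w : MonoidAlgebra k G
  β_mem : β ∈ SC k C
  β_idem : β * β = β
  β_comm : ∀ s ∈ T, Commute β (single s 1)
  x_mem : x ∈ SC k C
  x_comm : ∀ c ∈ C, Commute x (single c 1)
  xβ : x * β = x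
  x_pow : x ^ q = 0
  x_top : x ^ (q - 1) * f ≠ 0
  x_conj : ∀ s ∈ T, ∃ z : MonoidAlgebra k G, z ∈ SC k C ∧ (∀ c ∈ C, Commute z (single c 1)) ∧
    conjA s x = x * z
  f_mem : f ∈ SC k C
  f_idem : f * f = f
  βf : β * f = f
  u_mem : ∀ j, u j ∈ SC k C
  v_mem : ∀ j, v j ∈ SC k C
  uv : ∀ j l, u j * v l = if j = l then f else 0
  vu : ∑ j, v j * u j = β
  fu : ∀ j, f * u j = u j
  vf : ∀ j, v j * f = v j
  j₀ : Fin m
  u₀ : u j₀ = f
  v₀ : v j₀ = f
  corner : ∀ a ∈ SC k C, ∃ c : ℕ → k, f * a * f = ∑ i ∈ Finset.range q, c i • (x ^ i * f)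
  w_mem : w ∈ SC k C
  w_comm : ∀ d ∈ D, Commute w (single d 1)
  trace : haveI := Fintype.ofFinite (C ⧸ D.subgroupOf C)
    ∑ o : C ⧸ D.subgroupOf C, conjA (o.out : G) w = β
  far : ∀ g, g ∉ T → β * conjA g β ≠ 0 → ∀ d ∈ D, g⁻¹ * d * g ∈ D → d = 1

namespace Data

variable (Q : Data k G)

theorem e_pos : 0 < Q.e := Nat.pos_of_ne_zero fun h => Q.e_ne (by simp [h])

theorem te_mem : Q.t ^ Q.e ∈ Q.C := (Q.hte _).mpr dvd_rfl

theorem x_pow_comm (n : ℕ) {a : MonoidAlgebra k G} (ha : a ∈ SC k Q.C) : Commute (Q.x ^ n) a :=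
  (commute_SC Q.x_comm ha).pow_left n

theorem β_central {a : MonoidAlgebra k G} (ha : a ∈ SC k Q.C) : Commute Q.β a :=
  commute_SC (fun c hc => Q.β_comm c (Q.hCT hc)) ha

theorem fβ : Q.f * Q.β = Q.f := by rw [← (Q.β_central Q.f_mem).eq, Q.βf]

theorem x_pow_β {n : ℕ} (hn : n ≠ 0) : Q.x ^ n * Q.β = Q.x ^ n := by
  obtain ⟨i, rfl⟩ := Nat.exists_eq_succ_of_ne_zero hn
  rw [pow_succ, mul_assoc, Q.xβ]

theorem x_pow_of_le {n : ℕ} (hn : Q.q ≤ n) : Q.x ^ n = 0 := by
  obtain ⟨i, rfl⟩ := Nat.exists_eq_add_of_le hn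
  rw [pow_add, Q.x_pow, zero_mul]

theorem βv (j : Fin Q.m) : Q.β * Q.v j = Q.v j := by
  conv_lhs => rw [← Q.vf j, ← mul_assoc, (Q.β_central (Q.v_mem j)).eq, mul_assoc, Q.βf, Q.vf]

theorem uβ (j : Fin Q.m) : Q.u j * Q.β = Q.u j := by
  conv_lhs => rw [← Q.fu j, mul_assoc, ← (Q.β_central (Q.u_mem j)).eq, ← mul_assoc, Q.fβ, Q.fu]

/-- Expansion in matrix units. -/
theorem expand {a : MonoidAlgebra k G} (ha : a ∈ SC k Q.C) :
    a * Q.β = ∑ j, ∑ l, Q.v j * (Q.u j * a * Q.v l) * Q.u l := by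
  have h : a * Q.β = (∑ j, Q.v j * Q.u j) * a * ∑ l, Q.v l * Q.u l := by
    rw [Q.vu, (Q.β_central ha).eq, mul_assoc, Q.β_idem]
  rw [h, Finset.sum_mul, Finset.sum_mul]
  refine Finset.sum_congr rfl fun j _ => ?_
  rw [Finset.mul_sum]
  exact Finset.sum_congr rfl fun l _ => by simp only [mul_assoc]

/-- The corner is a truncated polynomial ring: no relations among the powers. -/
theorem powers_indep {c : ℕ → k} (hc : ∑ i ∈ Finset.range Q.q, c i • (Q.x ^ i * Q.f) = 0) :
    ∀ i < Q.q, c i = 0 := by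
  intro i
  induction i using Nat.strong_induction_on with
  | _ i ih =>
    intro hi
    have h := congrArg (fun b => Q.x ^ (Q.q - 1 - i) * b) hc
    simp only [mul_zero, Finset.mul_sum, mul_smul_comm, ← mul_assoc, ← pow_add] at h
    rw [Finset.sum_eq_single i] at h
    · rw [show Q.q - 1 - i + i = Q.q - 1 by omega] at h
      exact (smul_eq_zero.mp h).resolve_right Q.x_top
    · intro j hj hne
      rw [Finset.mem_range] at hj
      rcases lt_or_gt_of_ne hne with h' | h'
      · rw [ih j h' hj, zero_smul]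
      · rw [Q.x_pow_of_le (by omega), zero_mul, smul_zero]
    · exact fun h' => absurd (Finset.mem_range.mpr hi) h'

/-- The constant term of a corner element. -/
noncomputable def cst (a : MonoidAlgebra k G) (ha : a ∈ SC k Q.C) : k := (Q.corner a ha).choose 0

/-- The elements of the corner, split at the constant term. -/
theorem corner_split {a : MonoidAlgebra k G} (ha : a ∈ SC k Q.C) :
    ∃ b : MonoidAlgebra k G, b ∈ SC k Q.C ∧ (∀ c ∈ Q.C, Commute b (single c 1)) ∧
      Q.f * a * Q.f = Q.cst a ha • Q.f + Q.x * b * Q.f := by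
  have h := (Q.corner a ha).choose_spec
  obtain ⟨n, hn⟩ : ∃ n, Q.q = n + 1 := ⟨Q.q - 1, by have := Q.hq; omega⟩
  refine ⟨∑ i ∈ Finset.range n, (Q.corner a ha).choose (i + 1) • Q.x ^ i,
    Subalgebra.sum_mem _ fun i _ => Subalgebra.smul_mem _ (pow_mem Q.x_mem i) _,
    fun c hc => Commute.sum_left _ _ _ fun i _ => ((Q.x_comm c hc).pow_left i).smul_left _, ?_⟩
  refine h.trans ?_
  simp only [hn, Finset.sum_range_succ', pow_zero, one_mul, Finset.mul_sum, Finset.sum_mul,
    mul_smul_comm, smul_mul_assoc, pow_succ']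
  rw [add_comm]
  rfl

/-- A corner element killed by `x` is a multiple of the socle. -/
theorem corner_ann {a : MonoidAlgebra k G} (ha : a ∈ SC k Q.C)
    (hxa : Q.x * (Q.f * a * Q.f) = 0) :
    ∃ c : k, Q.f * a * Q.f = c • (Q.x ^ (Q.q - 1) * Q.f) := by
  obtain ⟨c, hc⟩ := Q.corner a ha
  obtain ⟨n, hn⟩ : ∃ n, Q.q = n + 1 := ⟨Q.q - 1, by have := Q.hq; omega⟩
  refine ⟨c n, ?_⟩
  have h : ∑ i ∈ Finset.range Q.q, (if i = 0 then 0 else c (i - 1)) • (Q.x ^ i * Q.f) = 0 := by
    rw [hc, hn, Finset.mul_sum, Finset.sum_range_succ, mul_smul_comm (c n), ← mul_assoc,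
      ← pow_succ', Q.x_pow_of_le (by omega), zero_mul, smul_zero, add_zero] at hxa
    rw [hn, Finset.sum_range_succ', if_pos rfl, zero_smul, add_zero, ← hxa]
    refine Finset.sum_congr rfl fun i _ => ?_
    rw [if_neg (Nat.succ_ne_zero i), Nat.add_sub_cancel, mul_smul_comm, ← mul_assoc, ← pow_succ']
  have hz := Q.powers_indep h
  rw [hc, hn, Finset.sum_range_succ, Finset.sum_eq_zero fun i hi => ?_, zero_add, Nat.add_sub_cancel]
  rw [Finset.mem_range] at hi
  have := hz (i + 1) (by omega)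
  rw [if_neg (Nat.succ_ne_zero i), Nat.add_sub_cancel] at this
  rw [this, zero_smul]

/-- The annihilator of `x` in the block algebra. -/
theorem ann_x {a : MonoidAlgebra k G} (ha : a ∈ SC k Q.C) (hxa : Q.x * a = 0) :
    ∃ b, a * Q.β = Q.x ^ (Q.q - 1) * b := by
  have h : ∀ j l, ∃ c : k, Q.u j * a * Q.v l = c • (Q.x ^ (Q.q - 1) * Q.f) := by
    intro j l
    have hmem : Q.u j * a * Q.v l ∈ SC k Q.C := mul_mem (mul_mem (Q.u_mem j) ha) (Q.v_mem l)
    have hfix : Q.f * (Q.u j * a * Q.v l) * Q.f = Q.u j * a * Q.v l := by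
      rw [← mul_assoc, ← mul_assoc, Q.fu, mul_assoc, Q.vf]
    obtain ⟨c, hc⟩ := Q.corner_ann hmem (by
      rw [hfix, ← mul_assoc, ← mul_assoc]
      rw [show Q.x * Q.u j = Q.u j * Q.x from (commute_SC Q.x_comm (Q.u_mem j)).eq,
        mul_assoc (Q.u j), hxa, mul_zero, zero_mul])
    exact ⟨c, hfix ▸ hc⟩
  choose c hc using h
  refine ⟨∑ j, ∑ l, c j l • (Q.v j * Q.f * Q.u l), ?_⟩
  rw [Q.expand ha, Finset.mul_sum]
  refine Finset.sum_congr rfl fun j _ => ?_
  rw [Finset.mul_sum]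
  refine Finset.sum_congr rfl fun l _ => ?_
  rw [hc, mul_smul_comm, smul_mul_assoc, mul_smul_comm]
  congr 1
  rw [← mul_assoc, ← (Q.x_pow_comm _ (Q.v_mem j)).eq]
  simp only [mul_assoc]

open Classical in
/-- The matrix of an element modulo `x`. -/
noncomputable def mat (a : MonoidAlgebra k G) (j l : Fin Q.m) : k :=
  if ha : a ∈ SC k Q.C then
    Q.cst (Q.u j * a * Q.v l) (mul_mem (mul_mem (Q.u_mem j) ha) (Q.v_mem l)) else 0

/-- Every element of the block algebra is a matrix modulo `x`. -/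
theorem mat_spec {a : MonoidAlgebra k G} (ha : a ∈ SC k Q.C) :
    ∃ b, a * Q.β = ∑ j, ∑ l, Q.mat a j l • (Q.v j * Q.u l) + b * Q.x := by
  have hmem : ∀ j l, Q.u j * a * Q.v l ∈ SC k Q.C := fun j l =>
    mul_mem (mul_mem (Q.u_mem j) ha) (Q.v_mem l)
  choose b hb hbc hbe using fun j l => Q.corner_split (hmem j l)
  refine ⟨∑ j, ∑ l, Q.v j * b j l * Q.u l, ?_⟩
  rw [Q.expand ha, Finset.sum_mul, ← Finset.sum_add_distrib]
  refine Finset.sum_congr rfl fun j _ => ?_
  rw [Finset.sum_mul, ← Finset.sum_add_distrib]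
  refine Finset.sum_congr rfl fun l _ => ?_
  have hfix : Q.f * (Q.u j * a * Q.v l) * Q.f = Q.u j * a * Q.v l := by
    rw [← mul_assoc, ← mul_assoc, Q.fu, mul_assoc, Q.vf]
  conv_lhs => rw [← hfix, hbe j l]
  rw [mul_add, add_mul, mat, dif_pos ha, mul_smul_comm, smul_mul_assoc, Q.vf]
  congr 1
  calc Q.v j * (Q.x * b j l * Q.f) * Q.u l = Q.v j * (Q.x * b j l) * (Q.f * Q.u l) := by
        simp only [mul_assoc]
    _ = Q.v j * (b j l * Q.x) * Q.u l := by
        rw [Q.fu, (commute_SC Q.x_comm (hb j l)).eq]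
    _ = Q.v j * b j l * (Q.x * Q.u l) := by simp only [mul_assoc]
    _ = Q.v j * b j l * Q.u l * Q.x := by
        rw [(commute_SC Q.x_comm (Q.u_mem l)).eq]; simp only [mul_assoc]

/-- Idempotents of the corner are trivial. -/
theorem idem_corner {a : MonoidAlgebra k G} (ha : a ∈ SC k Q.C) (hfa : Q.f * a * Q.f = a)
    (haa : a * a = a) : a = 0 ∨ a = Q.f := by
  obtain ⟨b, hb, hbc, he⟩ := Q.corner_split ha
  rw [hfa] at he
  obtain ⟨n, hn⟩ : ∃ n, n = Q.x * b * Q.f := ⟨_, rfl⟩
  have hnil : n ^ Q.q = 0 := by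
    have h1 : Commute (Q.x * b) Q.f := commute_SC (fun c hc => (Q.x_comm c hc).mul_left (hbc c hc))
      Q.f_mem
    rw [hn, h1.mul_pow, (commute_SC Q.x_comm hb).mul_pow, Q.x_pow, zero_mul, zero_mul]
  have hfn : Q.f * n = n ∧ n * Q.f = n := by
    have h1 : Commute Q.f (Q.x * b) := (commute_SC (fun c hc => (Q.x_comm c hc).mul_left (hbc c hc))
      Q.f_mem).symm
    rw [hn]
    exact ⟨by rw [← mul_assoc, h1.eq, mul_assoc, Q.f_idem], by rw [mul_assoc, Q.f_idem]⟩
  obtain ⟨c, hc⟩ : ∃ c, c = Q.cst a ha := ⟨_, rfl⟩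
  rw [← hn, ← hc] at he
  have hq1 : 1 ≤ Q.q := by have := Q.hq; omega
  have hpow : ∀ i, a ^ (i + 1) = a := fun i => IsIdempotentElem.pow_succ_eq i haa
  by_cases hc0 : c = 0
  · left
    rw [hc0, zero_smul, zero_add] at he
    rw [← hpow (Q.q - 1), Nat.sub_add_cancel hq1, he, hnil]
  · right
    have hc1 : c = 1 := by
      by_contra hne
      -- then `a - a * a` has a nonzero constant term
      have h2 : (c - c * c) • Q.f = (c + c - 1) • n + n * n := by
        have h3 := haa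
        rw [he] at h3
        simp only [add_mul, mul_add, smul_mul_assoc, mul_smul_comm, Q.f_idem, hfn.1, hfn.2] at h3
        rw [sub_smul, mul_smul, sub_eq_iff_eq_add]
        linear_combination (norm := module) -h3
      have hunit : c - c * c ≠ 0 := fun h => hne (by
        rcases mul_eq_zero.mp (show c * (1 - c) = 0 by rw [← h]; ring) with h' | h'
        · exact absurd h' hc0
        · exact (sub_eq_zero.mp h').symm)
      have h3 : Commute ((c + c - 1) • Q.f + n) n := by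
        refine Commute.add_left (Commute.smul_left ?_ _) (Commute.refl n)
        rw [Commute, SemiconjBy, hfn.1, hfn.2]
      have h4 : (c + c - 1) • n + n * n = ((c + c - 1) • Q.f + n) * n := by
        rw [add_mul, smul_mul_assoc, hfn.1]
      have h5 := congrArg (· ^ Q.q) (h2.trans h4)
      simp only [h3.mul_pow, hnil, mul_zero, smul_pow] at h5
      rw [← Nat.sub_add_cancel hq1,
        IsIdempotentElem.pow_succ_eq _ (show IsIdempotentElem Q.f from Q.f_idem)] at h5
      rcases smul_eq_zero.mp h5 with h | h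
      · exact hunit (eq_zero_of_pow_eq_zero h)
      · exact Q.x_top (by rw [h, mul_zero])
    rw [hc1, one_smul] at he
    -- `f - a` is an idempotent and nilpotent
    have h1 : IsIdempotentElem (Q.f - a) := by
      have e1 : Q.f * a = a := by rw [he, mul_add, Q.f_idem, hfn.1]
      have e2 : a * Q.f = a := by rw [he, add_mul, Q.f_idem, hfn.2]
      rw [IsIdempotentElem, sub_mul, mul_sub, mul_sub, Q.f_idem, e1, e2, haa, sub_self, sub_zero]
    have h2 : (Q.f - a) ^ Q.q = 0 := by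
      rw [show Q.f - a = -n by rw [he]; abel, neg_pow, hnil, mul_zero]
    rw [← Nat.sub_add_cancel hq1, h1.pow_succ_eq] at h2
    exact (sub_eq_zero.mp h2).symm

end Data

end Cfsg.Agent.Blocks.CycMod
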