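import Cfsg.Agent.Lib.Blocks.CycModularTrace

/-!
# The twisted generator and its eigenvalues on the socle
-/

set_option linter.unusedSectionVars false

namespace Cfsg.Agent.Blocks.CycMod

open MonoidAlgebra BPairs

universe u v w

variable {k : Type v} [Field k] {G : Type u} [Group G] [Finite G]

namespace Data

variable (Q : Data k G)

theorem inv_conj_mem {s : G} (hs : s ∈ Q.T) : ∀ c ∈ Q.C, s⁻¹ * c * s⁻¹⁻¹ ∈ Q.C :=
  Q.hnC _ (inv_mem hs)

theorem conj_comm {s : G} (hs : s ∈ Q.T) {a : MonoidAlgebra k G}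
    (ha : ∀ c ∈ Q.C, Commute a (single c 1)) : ∀ c ∈ Q.C, Commute (conjA s a) (single c 1) := by
  intro c hc
  have h : Commute (conjA s a) (conjA s (single (s⁻¹ * c * s⁻¹⁻¹) 1)) := by
    rw [Commute, SemiconjBy, ← conjA_mul, (ha _ (Q.inv_conj_mem hs c hc)).eq, conjA_mul]
  rwa [show conjA s (single (s⁻¹ * c * s⁻¹⁻¹) (1 : k)) = single c 1 by
    simp [conjA, single_mul_single, mul_assoc]] at h

theorem f_ne : Q.f ≠ 0 := fun h => Q.x_top (by rw [h, mul_zero])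

/-- The generator of the inertial group, corrected to fix the primitive idempotent. -/
theorem exists_R : ∃ y, y ∈ SC k Q.C ∧ Q.f * (single Q.t 1 * y) = single Q.t 1 * y ∧
    (single Q.t 1 * y) * Q.f = single Q.t 1 * y ∧
    ∃ c₀ : k, c₀ ≠ 0 ∧ ∃ b, (single Q.t 1 * y) ^ Q.e * Q.f = c₀ • Q.f + b * Q.x := by
  obtain ⟨f', hf'⟩ : ∃ f', f' = conjA Q.t⁻¹ Q.f := ⟨_, rfl⟩
  have hf'm : f' ∈ SC k Q.C := hf' ▸ conjA_mem_SC (Q.inv_conj_mem Q.ht) Q.f_mem
  have hf'i : f' * f' = f' := by rw [hf', ← conjA_mul, Q.f_idem]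
  have hf'β : f' * Q.β = f' := by
    have hb : conjA Q.t⁻¹ Q.β = Q.β := by
      rw [conjA, ← (Q.β_comm _ (inv_mem Q.ht)).eq, mul_assoc, single_mul_single_inv, mul_one]
    rw [hf', ← hb, ← conjA_mul, Q.fβ]
  -- some coefficient is invertible
  obtain ⟨j, l, hjl⟩ : ∃ j l, Q.mat f' j l ≠ 0 := by
    by_contra h
    push Not at h
    obtain ⟨b, hb⟩ := Q.mat_spec hf'm
    simp only [hf'β, h, zero_smul, Finset.sum_const_zero, zero_add] at hb
    have h0 : Q.x ^ (Q.q - 1) * f' = 0 := by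
      calc Q.x ^ (Q.q - 1) * f' = f' * Q.x ^ (Q.q - 1) := (Q.x_pow_comm _ hf'm).eq
        _ = b * Q.x ^ (Q.q - 1 + 1) := by
          conv_lhs => rw [hb, mul_assoc, ← pow_succ']
        _ = 0 := by
          rw [Q.x_pow_of_le (n := Q.q - 1 + 1) (by have := Q.hq; omega), mul_zero]
    obtain ⟨z, hz, hzc, he⟩ := Q.x_conj _ (inv_mem Q.ht)
    have h1 : conjA Q.t⁻¹ (Q.x ^ (Q.q - 1) * Q.f) = 0 := by
      have hp : ∀ n : ℕ, conjA Q.t⁻¹ (Q.x ^ n) = z ^ n * Q.x ^ n := by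
        intro n
        induction n with
        | zero => simp [conjA, single_inv_mul_single, ← one_def]
        | succ n ih =>
          rw [pow_succ, conjA_mul, ih, he, pow_succ z]
          have c1 : Commute (Q.x) z := commute_SC Q.x_comm hz
          calc z ^ n * Q.x ^ n * (Q.x * z) = z ^ n * ((Q.x ^ n * Q.x) * z) := by
                simp only [mul_assoc]
            _ = z ^ n * (z * (Q.x ^ n * Q.x)) := by
                rw [((c1.pow_left n).mul_left c1).eq]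
            _ = _ := by simp only [mul_assoc]
      rw [conjA_mul, hp, mul_assoc, ← hf', h0, mul_zero]
    have h2 := congrArg (conjA Q.t) h1
    rw [conjA_conjA, mul_inv_cancel, conjA_one] at h2
    exact Q.x_top (h2.trans (by simp [conjA]))
  -- partial isometries between `f` and `f'`
  obtain ⟨c, hc⟩ : ∃ c, c = Q.mat f' j l := ⟨_, rfl⟩
  have hamem : Q.u j * f' * Q.v l ∈ SC k Q.C := mul_mem (mul_mem (Q.u_mem j) hf'm) (Q.v_mem l)
  obtain ⟨b, hb, hbc, hbe⟩ := Q.corner_split hamem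
  have hfix : Q.f * (Q.u j * f' * Q.v l) * Q.f = Q.u j * f' * Q.v l := by
    rw [← mul_assoc, ← mul_assoc, Q.fu, mul_assoc, Q.vf]
  rw [hfix, show Q.cst (Q.u j * f' * Q.v l) hamem = c by rw [hc, mat, dif_pos hf'm]] at hbe
  obtain ⟨n, hn⟩ : ∃ n, n = Q.x * b := ⟨_, rfl⟩
  have hnq : n ^ Q.q = 0 := by
    rw [hn, (commute_SC Q.x_comm hb).mul_pow, Q.x_pow, zero_mul]
  obtain ⟨r, hr⟩ : ∃ r, r = ∑ i ∈ Finset.range Q.q, (c⁻¹ * (-c⁻¹) ^ i) • n ^ i := ⟨_, rfl⟩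
  have hrm : r ∈ SC k Q.C := hr ▸ Subalgebra.sum_mem _ fun i _ =>
    Subalgebra.smul_mem _ (pow_mem (hn ▸ mul_mem Q.x_mem hb) i) _
  have hrn : r * (c • 1 + n) = 1 := by
    have hc0 : c ≠ 0 := hc ▸ hjl
    have e1 : r = c⁻¹ • ∑ i ∈ Finset.range Q.q, ((-c⁻¹) • n) ^ i := by
      rw [hr, Finset.smul_sum]
      exact Finset.sum_congr rfl fun i _ => by rw [smul_pow, smul_smul]
    have e2 : c • 1 + n = c • (1 - (-c⁻¹) • n) := by
      rw [smul_sub, smul_smul, mul_neg, mul_inv_cancel₀ hc0, neg_one_smul, sub_neg_eq_add]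
    rw [e1, e2, smul_mul_assoc, mul_smul_comm, smul_smul, inv_mul_cancel₀ hc0, one_smul,
      geom_sum_mul_neg, smul_pow, hnq, smul_zero, sub_zero]
  have hf_r : Commute Q.f r := hr ▸ Commute.sum_right _ _ _ fun i _ => (((commute_SC
    (fun c hc => (Q.x_comm c hc).mul_left (hbc c hc)) Q.f_mem).symm.pow_right i).smul_right _ |>
    (fun h => by rw [hn]; exact h))
  obtain ⟨y2, hy2⟩ : ∃ y2, y2 = r * (Q.u j * f') := ⟨_, rfl⟩
  obtain ⟨y1, hy1⟩ : ∃ y1, y1 = f' * Q.v l := ⟨_, rfl⟩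
  have hy1m : y1 ∈ SC k Q.C := hy1 ▸ mul_mem hf'm (Q.v_mem l)
  have hy2m : y2 ∈ SC k Q.C := hy2 ▸ mul_mem hrm (mul_mem (Q.u_mem j) hf'm)
  have h21 : y2 * y1 = Q.f := by
    rw [hy1, hy2, show r * (Q.u j * f') * (f' * Q.v l) = r * (Q.u j * (f' * f') * Q.v l) by
      simp only [mul_assoc], hf'i, hbe, ← hn]
    rw [show c • Q.f + n * Q.f = (c • 1 + n) * Q.f by rw [add_mul, smul_mul_assoc, one_mul],
      ← mul_assoc, hrn, one_mul]
  have hy1f : y1 * Q.f = y1 := by rw [hy1, mul_assoc, Q.vf]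
  have hf'y1 : f' * y1 = y1 := by rw [hy1, ← mul_assoc, hf'i]
  have hfy2 : Q.f * y2 = y2 := by rw [hy2, ← mul_assoc, hf_r.eq, mul_assoc, ← mul_assoc Q.f, Q.fu]
  have hy2f' : y2 * f' = y2 := by rw [hy2, mul_assoc, mul_assoc (Q.u j), hf'i]
  have h12 : y1 * y2 = f' := by
    have hi : y1 * y2 * (y1 * y2) = y1 * y2 := by
      calc y1 * y2 * (y1 * y2) = y1 * (y2 * y1) * y2 := by simp only [mul_assoc]
        _ = y1 * y2 := by rw [h21, hy1f]
    have htt : conjA Q.t f' = Q.f := by rw [hf', conjA_conjA, mul_inv_cancel, conjA_one]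
    rcases Q.idem_corner (conjA_mem_SC (Q.hnC _ Q.ht) (mul_mem hy1m hy2m))
      (by rw [← htt, ← conjA_mul, ← conjA_mul, ← mul_assoc, hf'y1, mul_assoc y1, hy2f'])
      (by rw [← conjA_mul, hi]) with h | h
    · exfalso
      have h0 : y1 * y2 = 0 := by
        have := congrArg (conjA Q.t⁻¹) h
        rwa [conjA_conjA, inv_mul_cancel, conjA_one,
          show conjA Q.t⁻¹ (0 : MonoidAlgebra k G) = 0 by simp [conjA]] at this
      apply Q.f_ne
      rw [← Q.f_idem, ← h21, show y2 * y1 * (y2 * y1) = y2 * (y1 * y2) * y1 by simp only [mul_assoc],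
        h0, mul_zero, zero_mul]
    · have := congrArg (conjA Q.t⁻¹) h
      rwa [conjA_conjA, inv_mul_cancel, conjA_one, ← hf'] at this
  obtain ⟨R, hR⟩ : ∃ R : MonoidAlgebra k G, R = single Q.t 1 * y1 := ⟨_, rfl⟩
  obtain ⟨R', hR'⟩ : ∃ R' : MonoidAlgebra k G, R' = y2 * single Q.t⁻¹ 1 := ⟨_, rfl⟩
  have hfR : Q.f * R = R := by
    rw [hR, ← mul_assoc, mul_single_eq, ← hf', mul_assoc, hf'y1]
  have hRf : R * Q.f = R := by rw [hR, mul_assoc, hy1f]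
  refine ⟨y1, hy1m, hR ▸ hfR, hR ▸ hRf, ?_⟩
  rw [← hR]
  have hRR' : R * R' = Q.f := by
    rw [hR, hR', show single Q.t 1 * y1 * (y2 * single Q.t⁻¹ 1) =
      single Q.t 1 * (y1 * y2) * single Q.t⁻¹ 1 by simp only [mul_assoc], h12, hf']
    show conjA Q.t (conjA Q.t⁻¹ Q.f) = Q.f
    rw [conjA_conjA, mul_inv_cancel, conjA_one]
  have hpow : ∀ i : ℕ, 0 < i → R ^ i * R' ^ i = Q.f := by
    intro i hi
    induction i with
    | zero => omega
    | succ i ih =>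
      rcases Nat.eq_zero_or_pos i with h0 | h0
      · subst h0; simpa using hRR'
      · calc R ^ (i + 1) * R' ^ (i + 1) = R * (R ^ i * R' ^ i) * R' := by
              rw [pow_succ' R, pow_succ R']; simp only [mul_assoc]
          _ = Q.f := by rw [ih h0, hRf, hRR']
  have hRpow : ∀ i : ℕ, ∃ a, a ∈ SC k Q.C ∧ R ^ i = single (Q.t ^ i) 1 * a := by
    intro i
    induction i with
    | zero => exact ⟨1, one_mem _, by simp [← one_def]⟩
    | succ i ih =>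
      obtain ⟨a, ha, he⟩ := ih
      refine ⟨conjA Q.t⁻¹ a * y1, mul_mem (conjA_mem_SC (Q.inv_conj_mem Q.ht) ha) hy1m, ?_⟩
      rw [pow_succ, he, hR, pow_succ, mul_assoc, ← mul_assoc a, mul_single_eq]
      simp only [← mul_assoc, single_mul_single, one_mul]
  obtain ⟨a, ha, hae⟩ := hRpow Q.e
  have hRe : R ^ Q.e ∈ SC k Q.C := hae ▸ mul_mem (single_mem_SC Q.te_mem 1) ha
  obtain ⟨b', hb', hbc', hbe'⟩ := Q.corner_split hRe
  obtain ⟨n', hn'⟩ := Nat.exists_eq_succ_of_ne_zero Q.e_pos.ne'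
  have hfRe : Q.f * R ^ Q.e = R ^ Q.e := by rw [hn', pow_succ', ← mul_assoc, hfR]
  rw [hfRe] at hbe'
  refine ⟨Q.cst (R ^ Q.e) hRe, fun h => ?_, b' * Q.f, ?_⟩
  · refine Q.x_top ?_
    have hRef : R ^ Q.e * Q.f = R ^ Q.e := by rw [hn', pow_succ, mul_assoc, hRf]
    rw [hRef, h, zero_smul, zero_add] at hbe'
    rw [← hpow _ Q.e_pos, hbe', ← mul_assoc, ← mul_assoc, ← mul_assoc, ← pow_succ,
      Q.x_pow_of_le (n := Q.q - 1 + 1) (by have := Q.hq; omega)]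
    simp
  · rw [hbe', mul_assoc b', ← (commute_SC Q.x_comm Q.f_mem).eq, ← mul_assoc b',
      ← (commute_SC Q.x_comm hb').eq]

section Eigen

variable {V : Type w} [AddCommGroup V] [Module k V] (φ : MonoidAlgebra k G →ₐ[k] Module.End k V)
variable {y : MonoidAlgebra k G}

/-- Powers of `x` pass the twisted generator. -/
theorem R_pow_x (hy : y ∈ SC k Q.C) (n : ℕ) :
    ∃ z, z ∈ SC k Q.C ∧ (∀ c ∈ Q.C, Commute z (single c 1)) ∧
      single Q.t 1 * y * Q.x ^ n = Q.x ^ n * z * (single Q.t 1 * y) := by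
  obtain ⟨z, hz, hzc, he⟩ := Q.x_conj _ Q.ht
  refine ⟨z ^ n, pow_mem hz n, fun c hc => (hzc c hc).pow_left n, ?_⟩
  have hp : conjA Q.t (Q.x ^ n) = Q.x ^ n * z ^ n := by
    induction n with
    | zero => simp [conjA, single_mul_single_inv, ← one_def]
    | succ n ih =>
      rw [pow_succ, conjA_mul, ih, he, pow_succ]
      have c1 : Commute (z ^ n) Q.x := (commute_SC Q.x_comm (pow_mem hz n)).symm
      calc Q.x ^ n * z ^ n * (Q.x * z) = Q.x ^ n * (z ^ n * Q.x) * z := by simp only [mul_assoc]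
        _ = _ := by rw [c1.eq]; simp only [mul_assoc, pow_succ]
  calc single Q.t 1 * y * Q.x ^ n = single Q.t 1 * Q.x ^ n * y := by
        rw [mul_assoc, ← (Q.x_pow_comm n hy).eq, mul_assoc]
    _ = _ := by rw [single_mul_eq, hp]; simp only [mul_assoc]

/-- A scalar on the socle has at most one eigenvalue outside the image of `x ^ (q - 1)`. -/
theorem eigen_unique [Nontrivial V] [FiniteDimensional k V] (hsurj : Function.Surjective φ)
    (hy : y ∈ SC k Q.C) (hfy : Q.f * (single Q.t 1 * y) = single Q.t 1 * y)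
    {σ₁ σ₂ : V} {ξ₁ ξ₂ : k} (hξ₁ : ξ₁ ≠ 0) (hξ₂ : ξ₂ ≠ 0) (hne : ξ₁ ≠ ξ₂)
    (hf₁ : φ Q.f σ₁ = σ₁) (hf₂ : φ Q.f σ₂ = σ₂) (hx₁ : φ Q.x σ₁ = 0) (hx₂ : φ Q.x σ₂ = 0)
    (hR₁ : φ (single Q.t 1 * y) σ₁ = ξ₁ • σ₁) (hR₂ : φ (single Q.t 1 * y) σ₂ = ξ₂ • σ₂)
    (hn₁ : ∀ v, σ₁ ≠ φ (Q.x ^ (Q.q - 1) * Q.f) v) (hn₂ : ∀ v, σ₂ ≠ φ (Q.x ^ (Q.q - 1) * Q.f) v) :
    False := by
  classical
  let U : ℕ → Submodule k V := fun n => LinearMap.range (φ (Q.x ^ n * Q.f))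
  let dep : V → ℕ := fun σ => Nat.findGreatest (fun n => σ ∈ U n) (Q.q - 1)
  have hdep : ∀ σ : V, φ Q.f σ = σ → (∀ v, σ ≠ φ (Q.x ^ (Q.q - 1) * Q.f) v) →
      σ ∈ U (dep σ) ∧ dep σ < Q.q - 1 ∧ σ ∉ U (dep σ + 1) := by
    intro σ hf hn
    have h0 : σ ∈ U 0 := ⟨σ, by simp [hf]⟩
    have hmem : σ ∈ U (dep σ) :=
      Nat.findGreatest_spec (P := fun n => σ ∈ U n) (Nat.zero_le _) h0
    have hlt : dep σ < Q.q - 1 := by
      refine lt_of_le_of_ne (Nat.findGreatest_le _) fun h => ?_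
      rw [h] at hmem
      obtain ⟨v, hv⟩ := hmem
      exact hn v hv.symm
    exact ⟨hmem, hlt, fun h => absurd h
      (Nat.findGreatest_is_greatest (P := fun n => σ ∈ U n) (n := Q.q - 1) (Nat.lt_succ_self _)
        (by omega))⟩
  wlog hle : dep σ₂ ≤ dep σ₁ generalizing σ₁ σ₂ ξ₁ ξ₂
  · exact this hξ₂ hξ₁ hne.symm hf₂ hf₁ hx₂ hx₁ hR₂ hR₁ hn₂ hn₁ (le_of_not_ge hle)
  obtain ⟨hm₁, hl₁, hg₁⟩ := hdep σ₁ hf₁ hn₁
  obtain ⟨-, -, hg₂⟩ := hdep σ₂ hf₂ hn₂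
  obtain ⟨j, hj⟩ : ∃ j, j = dep σ₁ := ⟨_, rfl⟩
  rw [← hj] at hm₁ hl₁ hg₁
  have hmono : U (j + 1) ≤ U (dep σ₂ + 1) := by
    rintro _ ⟨v, rfl⟩
    refine ⟨φ (Q.x ^ (j - dep σ₂)) v, ?_⟩
    rw [← Module.End.mul_apply, ← map_mul, mul_assoc (Q.x ^ (dep σ₂ + 1)),
      ← (Q.x_pow_comm (j - dep σ₂) Q.f_mem).eq, ← mul_assoc, ← pow_add,
      show dep σ₂ + 1 + (j - dep σ₂) = j + 1 by omega]
  -- independence modulo the next layer
  have hstab : ∀ v ∈ U (j + 1), φ (single Q.t 1 * y) v ∈ U (j + 1) := by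
    rintro _ ⟨v, rfl⟩
    obtain ⟨z, hz, hzc, hRx⟩ := Q.R_pow_x hy (j + 1)
    refine ⟨φ (z * (single Q.t 1 * y) * Q.f) v, ?_⟩
    rw [← Module.End.mul_apply, ← map_mul, ← Module.End.mul_apply, ← map_mul]
    congr 2
    rw [← mul_assoc (single Q.t 1 * y), hRx]
    calc Q.x ^ (j + 1) * Q.f * (z * (single Q.t 1 * y) * Q.f)
        = Q.x ^ (j + 1) * ((Q.f * z) * (single Q.t 1 * y)) * Q.f := by simp only [mul_assoc]
      _ = Q.x ^ (j + 1) * (z * (Q.f * (single Q.t 1 * y))) * Q.f := by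
          rw [← (commute_SC hzc Q.f_mem).eq]; simp only [mul_assoc]
      _ = Q.x ^ (j + 1) * z * (single Q.t 1 * y) * Q.f := by rw [hfy]; simp only [mul_assoc]
  have hind : σ₁ ∉ U (j + 1) ⊔ Submodule.span k {σ₂} := by
    intro h
    obtain ⟨u, hu, s, hs, he⟩ := Submodule.mem_sup.mp h
    obtain ⟨b, rfl⟩ := Submodule.mem_span_singleton.mp hs
    have h1 := congrArg (φ (single Q.t 1 * y)) he
    rw [map_add, map_smul, hR₁, hR₂] at h1
    have h2 : (ξ₁ - ξ₂) • σ₁ ∈ U (j + 1) := by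
      have e : (ξ₁ - ξ₂) • σ₁ = φ (single Q.t 1 * y) u - ξ₂ • u := by
        rw [sub_smul, ← h1]
        conv_lhs => arg 2; rw [← he]
        rw [smul_add, smul_comm b ξ₂]
        abel
      rw [e]
      exact sub_mem (hstab u hu) (Submodule.smul_mem _ _ hu)
    exact hg₁ ((Submodule.smul_mem_iff _ (sub_ne_zero.mpr hne)).mp h2)
  obtain ⟨μ, hμ1, hμ0⟩ := Submodule.exists_dual_map_eq_bot_of_notMem hind inferInstance
  have hμ0' : ∀ v ∈ U (j + 1) ⊔ Submodule.span k {σ₂}, μ v = 0 := fun v hv =>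
    (Submodule.mem_bot k).mp (hμ0 ▸ Submodule.mem_map_of_mem hv)
  obtain ⟨τ₀, hτ₀⟩ := hm₁
  obtain ⟨τ, hτ⟩ : ∃ τ, τ = (μ σ₁)⁻¹ • φ Q.f τ₀ := ⟨_, rfl⟩
  have hτj : φ (Q.x ^ j) τ = (μ σ₁)⁻¹ • σ₁ := by
    rw [hτ, map_smul, ← Module.End.mul_apply, ← map_mul, hτ₀]
  have hfτ : φ Q.f τ = τ := by
    rw [hτ, map_smul, ← Module.End.mul_apply, ← map_mul, Q.f_idem]
  have hτj1 : φ (Q.x ^ (j + 1)) τ = 0 := by
    rw [pow_succ', map_mul, Module.End.mul_apply, hτj, map_smul, hx₁, smul_zero]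
  obtain ⟨θ, hθ⟩ : ∃ θ : Module.End k V, θ = (μ ∘ₗ φ Q.f).smulRight τ := ⟨_, rfl⟩
  have hθapp : ∀ v, θ v = μ (φ Q.f v) • τ := fun v => by rw [hθ]; rfl
  have hfθ : φ Q.f * θ = θ := LinearMap.ext fun v => by
    rw [Module.End.mul_apply, hθapp, map_smul, hfτ]
  have hθf : θ * φ Q.f = θ := LinearMap.ext fun v => by
    rw [Module.End.mul_apply, hθapp, hθapp, ← Module.End.mul_apply (φ Q.f), ← map_mul, Q.f_idem]
  have hθ1 : θ * φ (Q.x ^ (j + 1)) = 0 := LinearMap.ext fun v => by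
    rw [Module.End.mul_apply, hθapp, LinearMap.zero_apply, ← Module.End.mul_apply, ← map_mul,
      ← (Q.x_pow_comm _ Q.f_mem).eq, hμ0' _ (Submodule.mem_sup_left ⟨v, rfl⟩), zero_smul]
  have hθ2 : φ (Q.x ^ (j + 1)) * θ = 0 := LinearMap.ext fun v => by
    rw [Module.End.mul_apply, hθapp, map_smul, hτj1, smul_zero]; rfl
  obtain ⟨H, hH⟩ : ∃ H : Module.End k V,
      H = ∑ i ∈ Finset.range (j + 1), φ (Q.x ^ i) * θ * φ (Q.x ^ (j - i)) := ⟨_, rfl⟩
  have hfH : φ Q.f * H = H := by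
    rw [hH, Finset.mul_sum]
    refine Finset.sum_congr rfl fun i _ => ?_
    rw [← mul_assoc, ← mul_assoc, ← map_mul, ← (Q.x_pow_comm i Q.f_mem).eq, map_mul,
      mul_assoc (φ (Q.x ^ i)) (φ Q.f), hfθ]
  have hHf : H * φ Q.f = H := by
    rw [hH, Finset.sum_mul]
    refine Finset.sum_congr rfl fun i _ => ?_
    rw [mul_assoc, ← map_mul, (Q.x_pow_comm (j - i) Q.f_mem).eq, map_mul, ← mul_assoc,
      mul_assoc (φ (Q.x ^ i)) θ, hθf]
  have hHx : H * φ Q.x = φ Q.x * H := by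
    let g : ℕ → Module.End k V := fun i => φ (Q.x ^ i) * θ * φ (Q.x ^ (j + 1 - i))
    have e1 : H * φ Q.x = ∑ i ∈ Finset.range (j + 1), g i := by
      rw [hH, Finset.sum_mul]
      refine Finset.sum_congr rfl fun i hi => ?_
      rw [Finset.mem_range] at hi
      simp only [g]
      rw [mul_assoc, ← map_mul, ← pow_succ, show j - i + 1 = j + 1 - i by omega]
    have e2 : φ Q.x * H = ∑ i ∈ Finset.range (j + 1), g (i + 1) := by
      rw [hH, Finset.mul_sum]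
      refine Finset.sum_congr rfl fun i hi => ?_
      simp only [g]
      rw [← mul_assoc, ← mul_assoc, ← map_mul, ← pow_succ', show j + 1 - (i + 1) = j - i by omega]
    have h0 : g 0 = 0 := by simp only [g, pow_zero, map_one, one_mul, Nat.sub_zero, hθ1]
    have h1 : g (j + 1) = 0 := by simp only [g, hθ2, zero_mul]
    have e3 := (Finset.sum_range_succ g (j + 1)).symm.trans (Finset.sum_range_succ' g (j + 1))
    rw [h0, h1, add_zero, add_zero] at e3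
    rw [e1, e2, e3]
  have hHκ : ∀ κ, φ Q.f κ = κ → φ Q.x κ = 0 → H κ = μ κ • ((μ σ₁)⁻¹ • σ₁) := by
    intro κ hfκ hxκ
    have hk : ∀ i, φ (Q.x ^ (i + 1)) κ = 0 := fun i => by
      rw [pow_succ, map_mul, Module.End.mul_apply, hxκ, map_zero]
    rw [hH, LinearMap.sum_apply, Finset.sum_range_succ, Finset.sum_eq_zero fun i hi => ?_, zero_add]
    · rw [Nat.sub_self, pow_zero, map_one, mul_one, Module.End.mul_apply, hθapp, hfκ, map_smul, hτj]
    · rw [Finset.mem_range] at hi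
      rw [Module.End.mul_apply, show j - i = j - i - 1 + 1 by omega, hk, map_zero]
  -- the extension by matrix units
  obtain ⟨Φ₀, hΦ₀⟩ : ∃ Φ₀ : Module.End k V, Φ₀ = ∑ a, φ (Q.v a) * H * φ (Q.u a) := ⟨_, rfl⟩
  have hcorner : ∀ a ∈ SC k Q.C, φ (Q.f * a * Q.f) * H = H * φ (Q.f * a * Q.f) := by
    intro a ha
    obtain ⟨c, hc⟩ := Q.corner a ha
    rw [hc, map_sum, Finset.sum_mul, Finset.mul_sum]
    refine Finset.sum_congr rfl fun i _ => ?_
    have hxi : H * φ (Q.x ^ i) = φ (Q.x ^ i) * H := by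
      rw [map_pow]; exact ((show Commute H (φ Q.x) from hHx).pow_right i).eq
    rw [map_smul, smul_mul_assoc, mul_smul_comm, map_mul, mul_assoc, hfH, ← mul_assoc, hxi,
      mul_assoc, hHf]
  have hC : ∀ a ∈ SC k Q.C, φ a * Φ₀ = Φ₀ * φ a := by
    intro a ha
    have hblock : ∀ i l, φ (Q.u i * a * Q.v l) * H = H * φ (Q.u i * a * Q.v l) := fun i l => by
      have hfix : Q.f * (Q.u i * a * Q.v l) * Q.f = Q.u i * a * Q.v l := by
        rw [← mul_assoc, ← mul_assoc, Q.fu, mul_assoc, Q.vf]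
      rw [← hfix]
      exact hcorner _ (mul_mem (mul_mem (Q.u_mem i) ha) (Q.v_mem l))
    have hav : ∀ l, a * Q.v l = ∑ i, Q.v i * (Q.u i * a * Q.v l) := fun l => by
      conv_lhs => rw [← Q.βv l, ← mul_assoc, ← (Q.β_central ha).eq, ← Q.vu]
      simp only [Finset.sum_mul, mul_assoc]
    have hua : ∀ i, Q.u i * a = ∑ l, Q.u i * a * Q.v l * Q.u l := fun i => by
      simp only [mul_assoc, ← Finset.mul_sum, Q.vu]
      rw [← (Q.β_central ha).eq, ← mul_assoc, Q.uβ]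
    rw [hΦ₀, Finset.mul_sum, Finset.sum_mul]
    calc ∑ l, φ a * (φ (Q.v l) * H * φ (Q.u l))
        = ∑ l, ∑ i, φ (Q.v i) * (φ (Q.u i * a * Q.v l) * H) * φ (Q.u l) := by
          refine Finset.sum_congr rfl fun l _ => ?_
          rw [← mul_assoc, ← mul_assoc, ← map_mul, hav l, map_sum, Finset.sum_mul, Finset.sum_mul]
          exact Finset.sum_congr rfl fun i _ => by simp only [map_mul, mul_assoc]
      _ = ∑ i, φ (Q.v i) * H * φ (Q.u i) * φ a := by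
          rw [Finset.sum_comm]
          refine Finset.sum_congr rfl fun i _ => ?_
          simp only [hblock]
          conv_rhs => rw [mul_assoc (φ (Q.v i) * H), ← map_mul, hua i, map_sum, Finset.mul_sum]
          exact Finset.sum_congr rfl fun l _ => by simp only [map_mul, mul_assoc]
  have hΦf : Φ₀ * φ Q.f = H := by
    rw [hΦ₀, Finset.sum_mul, Finset.sum_eq_single Q.j₀]
    · rw [mul_assoc, ← map_mul, Q.u₀, Q.v₀, Q.f_idem, mul_assoc, hHf, hfH]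
    · intro a _ hne
      rw [mul_assoc, ← map_mul, ← Q.v₀, Q.uv, if_neg hne, map_zero, mul_zero]
    · simp
  have hβΦ : φ Q.β * Φ₀ = Φ₀ := by
    rw [hΦ₀, Finset.mul_sum]
    exact Finset.sum_congr rfl fun a _ => by rw [← mul_assoc, ← mul_assoc, ← map_mul, Q.βv]
  have hConj : ∀ i : ℕ, ∀ a ∈ SC k Q.C,
      φ a * (rho φ (Q.t ^ i) * Φ₀ * rho φ (Q.t ^ i)⁻¹) =
        (rho φ (Q.t ^ i) * Φ₀ * rho φ (Q.t ^ i)⁻¹) * φ a := by
    intro i a ha
    obtain ⟨s, hs⟩ : ∃ s, s = Q.t ^ i := ⟨_, rfl⟩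
    rw [← hs]
    obtain ⟨a', ha'⟩ : ∃ a', a' = conjA s⁻¹ a := ⟨_, rfl⟩
    have ha'm : a' ∈ SC k Q.C := ha' ▸ conjA_mem_SC (Q.inv_conj_mem (hs ▸ pow_mem Q.ht i)) ha
    have e1 : φ a * rho φ s = rho φ s * φ a' := by
      rw [rho_apply, ← map_mul, ← map_mul, mul_single_eq, ha']
    have e2 : rho φ s⁻¹ * φ a = φ a' * rho φ s⁻¹ := by
      rw [rho_apply, ← map_mul, ← map_mul, single_mul_eq, ha']
    calc φ a * (rho φ s * Φ₀ * rho φ s⁻¹) = (φ a * rho φ s) * Φ₀ * rho φ s⁻¹ := by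
          simp only [mul_assoc]
      _ = rho φ s * (φ a' * Φ₀) * rho φ s⁻¹ := by rw [e1]; simp only [mul_assoc]
      _ = rho φ s * Φ₀ * (φ a' * rho φ s⁻¹) := by rw [hC a' ha'm]; simp only [mul_assoc]
      _ = _ := by rw [← e2]; simp only [mul_assoc]
  obtain ⟨π, hπ⟩ : ∃ π : Module.End k V,
      π = ∑ i ∈ Finset.range Q.e, rho φ (Q.t ^ i) * Φ₀ * rho φ (Q.t ^ i)⁻¹ := ⟨_, rfl⟩
  have hπC : ∀ c ∈ Q.C, rho φ c * π = π * rho φ c := fun c hc => by
    rw [hπ, Finset.mul_sum, Finset.sum_mul]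
    exact Finset.sum_congr rfl fun i _ => hConj i _ (single_mem_SC hc 1)
  have hπt : rho φ Q.t * π = π * rho φ Q.t := by
    let g : ℕ → Module.End k V := fun i => rho φ (Q.t ^ i) * Φ₀ * rho φ (Q.t ^ i)⁻¹
    have hs : ∀ i, rho φ Q.t * g i = g (i + 1) * rho φ Q.t := fun i => by
      simp only [g, pow_succ', mul_inv_rev, map_mul, mul_assoc, rho_cancel', mul_one]
    have hge : g Q.e = g 0 := by
      have := hC _ (single_mem_SC Q.te_mem (1 : k))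
      rw [← rho_apply] at this
      simp only [g, pow_zero, inv_one, map_one, one_mul, mul_one]
      rw [this, mul_assoc, rho_cancel, mul_one]
    have e3 := (Finset.sum_range_succ g Q.e).symm.trans (Finset.sum_range_succ' g Q.e)
    rw [hge] at e3
    rw [hπ, Finset.mul_sum, Finset.sum_congr rfl fun i _ => hs i, ← Finset.sum_mul,
      ← add_right_cancel e3]
  have hπT : ∀ s ∈ Q.T, rho φ s * π = π * rho φ s := by
    intro s hs
    obtain ⟨i, -, hc⟩ := Q.hT s hs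
    rw [show s = Q.t ^ i * ((Q.t ^ i)⁻¹ * s) by rw [mul_inv_cancel_left], map_mul, map_pow,
      mul_assoc, hπC _ hc, ← mul_assoc, ((show Commute (rho φ Q.t) π from hπt).pow_left i).eq,
      mul_assoc]
  have hπβ : φ Q.β * π = π := by
    rw [hπ, Finset.mul_sum]
    refine Finset.sum_congr rfl fun i _ => ?_
    rw [← mul_assoc, ← mul_assoc, rho_apply φ (Q.t ^ i), ← map_mul,
      (Q.β_comm _ (pow_mem Q.ht i)).eq, map_mul, mul_assoc (φ (single (Q.t ^ i) 1)), hβΦ]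
  -- the values of the average
  have hval : ∀ κ ξ, φ Q.f κ = κ → φ Q.x κ = 0 → ξ ≠ 0 → φ (single Q.t 1 * y) κ = ξ • κ →
      ∀ i : ℕ, (rho φ (Q.t ^ i) * Φ₀ * rho φ (Q.t ^ i)⁻¹) κ =
        ((ξ ^ i)⁻¹ * (μ κ * (μ σ₁)⁻¹) * ξ₁ ^ i) • σ₁ := by
    intro κ ξ hfκ hxκ hξ hRκ i
    have hR : ∀ n : ℕ, φ ((single Q.t 1 * y) ^ n) κ = ξ ^ n • κ := by
      intro n
      induction n with
      | zero => simp
      | succ n ih => rw [pow_succ', map_mul, Module.End.mul_apply, ih, map_smul, hRκ, smul_smul,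
          ← pow_succ]
    have hR₁' : ∀ n : ℕ, φ ((single Q.t 1 * y) ^ n) σ₁ = ξ₁ ^ n • σ₁ := by
      intro n
      induction n with
      | zero => simp
      | succ n ih => rw [pow_succ', map_mul, Module.End.mul_apply, ih, map_smul, hR₁, smul_smul,
          ← pow_succ]
    have hid : ∀ n : ℕ, rho φ (Q.t ^ n) * Φ₀ * rho φ (Q.t ^ n)⁻¹ * φ ((single Q.t 1 * y) ^ n) =
        φ ((single Q.t 1 * y) ^ n) * Φ₀ := by
      intro n
      induction n with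
      | zero => simp
      | succ n ih =>
        rw [pow_succ' (single Q.t 1 * y), map_mul, map_mul, mul_assoc (φ (single Q.t 1)) (φ y),
          mul_assoc (φ (single Q.t 1)), mul_assoc (φ y), ← ih]
        rw [show φ y * (rho φ (Q.t ^ n) * Φ₀ * rho φ (Q.t ^ n)⁻¹ * φ ((single Q.t 1 * y) ^ n)) =
            (φ y * (rho φ (Q.t ^ n) * Φ₀ * rho φ (Q.t ^ n)⁻¹)) * φ ((single Q.t 1 * y) ^ n) by
          simp only [mul_assoc], hConj n y hy]
        simp only [pow_succ', mul_inv_rev, map_mul, ← rho_apply, mul_assoc]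
        rw [← mul_assoc (rho φ Q.t⁻¹) (rho φ Q.t), rho_cancel', one_mul]
    calc (rho φ (Q.t ^ i) * Φ₀ * rho φ (Q.t ^ i)⁻¹) κ
        = (ξ ^ i)⁻¹ • (rho φ (Q.t ^ i) * Φ₀ * rho φ (Q.t ^ i)⁻¹)
            (φ ((single Q.t 1 * y) ^ i) κ) := by
          rw [hR, map_smul, inv_smul_smul₀ (pow_ne_zero _ hξ)]
      _ = (ξ ^ i)⁻¹ • φ ((single Q.t 1 * y) ^ i) (H κ) := by
          rw [← Module.End.mul_apply, hid, ← hΦf, Module.End.mul_apply,
            Module.End.mul_apply Φ₀, hfκ]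
      _ = _ := by rw [hHκ κ hfκ hxκ, map_smul, map_smul, hR₁', smul_smul, smul_smul, smul_smul,
          mul_assoc, mul_assoc, mul_assoc, mul_assoc]
  have hπ₁ : π σ₁ = (Q.e : k) • σ₁ := by
    rw [hπ, LinearMap.sum_apply, Finset.sum_congr rfl fun i _ => hval σ₁ ξ₁ hf₁ hx₁ hξ₁ hR₁ i]
    simp [mul_inv_cancel₀ hμ1, inv_mul_cancel₀ (pow_ne_zero _ hξ₁), Nat.cast_smul_eq_nsmul]
  have hπ₂ : π σ₂ = 0 := by
    rw [hπ, LinearMap.sum_apply, Finset.sum_congr rfl fun i _ => hval σ₂ ξ₂ hf₂ hx₂ hξ₂ hR₂ i]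
    simp [hμ0' σ₂ (Submodule.mem_sup_right (Submodule.mem_span_singleton_self σ₂))]
  obtain ⟨lam, hlam⟩ := Q.scalar_on_socle φ hsurj π hπT hπβ
  have hβ : ∀ κ, φ Q.f κ = κ → φ Q.β κ = κ := fun κ hκ => by
    conv_lhs => rw [← hκ]
    rw [← Module.End.mul_apply, ← map_mul, Q.βf, hκ]
  have hinto : ∀ κ v, φ Q.f κ = κ → κ = φ (Q.x ^ (Q.q - 1)) v →
      κ = φ (Q.x ^ (Q.q - 1) * Q.f) v := fun κ v hκ h => by
    rw [(Q.x_pow_comm _ Q.f_mem).eq, map_mul, Module.End.mul_apply, ← h, hκ]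
  by_cases hl : lam = 0
  · obtain ⟨v, hv⟩ := hlam σ₁ (hβ _ hf₁) hx₁
    rw [hπ₁, hl, zero_smul, sub_zero] at hv
    refine hn₁ ((Q.e : k)⁻¹ • v) (hinto _ _ hf₁ ?_)
    rw [map_smul, ← hv, inv_smul_smul₀ Q.e_ne]
  · obtain ⟨v, hv⟩ := hlam σ₂ (hβ _ hf₂) hx₂
    rw [hπ₂, zero_sub] at hv
    refine hn₂ (-(lam⁻¹ • v)) (hinto _ _ hf₂ ?_)
    rw [map_neg, map_smul, ← hv, smul_neg, neg_neg, inv_smul_smul₀ hl]

end Eigen

end Data

end Cfsg.Agent.Blocks.CycMod
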