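import Cfsg.Agent.Lib.Blocks.CycModularBase

/-!
# Transfers and the socle of a truncated polynomial ring

The endomorphisms of a module of the group commuting with the inertial group act as scalars on
the kernel of `x` modulo the image of `x ^ (q - 1)`.
-/

set_option linter.unusedSectionVars false

namespace Cfsg.Agent.Blocks.CycMod

open MonoidAlgebra BPairs

universe u v w

variable {k : Type v} [Field k] {G : Type u} [Group G] [Finite G]

/-- A free orbit decomposition of an equivariant sum. -/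
theorem exists_free_trace {A : Type w} [Ring A] {D : Subgroup G} [Fintype D] {X : Type*} [Fintype X]
    [MulAction D X] (hfree : ∀ (d : D) (x : X), d • x = x → d = 1) (ρ : G →* A) (F : X → A)
    (hF : ∀ (d : D) (x : X), F (d • x) = ρ (d : G) * F x * ρ (d : G)⁻¹) :
    ∃ ψ : A, ∑ x, F x = ∑ d : D, ρ (d : G) * ψ * ρ (d : G)⁻¹ := by
  classical
  let φ : D × Quotient (MulAction.orbitRel D X) → X := fun a => a.1 • a.2.out
  have hmk : ∀ (d : D) (x : X), (Quotient.mk'' (d • x) : Quotient (MulAction.orbitRel D X)) =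
      Quotient.mk'' x := fun d x => Quotient.sound' ⟨d, rfl⟩
  have hbij : Function.Bijective φ := by
    constructor
    · rintro ⟨d, o⟩ ⟨d', o'⟩ h
      have ho : o = o' := by
        have := congrArg (Quotient.mk'' : X → Quotient (MulAction.orbitRel D X)) h
        simp only [φ, hmk, Quotient.out_eq'] at this
        exact this
      subst ho
      have : (d'⁻¹ * d) • o.out = o.out := by rw [mul_smul]; exact inv_smul_eq_iff.mpr h
      exact Prod.ext (inv_mul_eq_one.mp (hfree _ _ this)).symm rfl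
    · intro x
      obtain ⟨d, hd⟩ : ∃ d : D, d • x = (Quotient.mk'' x : Quotient (MulAction.orbitRel D X)).out :=
        Quotient.mk_out (s := MulAction.orbitRel D X) x
      exact ⟨⟨d⁻¹, Quotient.mk'' x⟩, by simp only [φ]; rw [← hd, inv_smul_smul]⟩
  refine ⟨∑ o : Quotient (MulAction.orbitRel D X), F o.out, ?_⟩
  rw [← Fintype.sum_bijective φ hbij (fun a => F (a.1 • a.2.out)) F fun a => rfl,
    Fintype.sum_prod_type]
  refine Finset.sum_congr rfl fun d _ => ?_
  simp only [Finset.mul_sum, Finset.sum_mul, hF]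

namespace Data

variable (Q : Data k G)

theorem mat_top {a : MonoidAlgebra k G} (ha : a ∈ SC k Q.C) (j l : Fin Q.m) :
    Q.x ^ (Q.q - 1) * (Q.u j * a * Q.v l) = Q.mat a j l • (Q.x ^ (Q.q - 1) * Q.f) := by
  have hmem : Q.u j * a * Q.v l ∈ SC k Q.C := mul_mem (mul_mem (Q.u_mem j) ha) (Q.v_mem l)
  obtain ⟨b, -, -, he⟩ := Q.corner_split hmem
  have hfix : Q.f * (Q.u j * a * Q.v l) * Q.f = Q.u j * a * Q.v l := by
    rw [← mul_assoc, ← mul_assoc, Q.fu, mul_assoc, Q.vf]
  rw [hfix] at he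
  conv_lhs => rw [he]
  rw [mat, dif_pos ha, mul_add, mul_smul_comm]
  rw [show Q.x ^ (Q.q - 1) * (Q.x * b * Q.f) = Q.x ^ (Q.q - 1 + 1) * (b * Q.f) by
    rw [pow_succ]; simp only [mul_assoc]]
  rw [Q.x_pow_of_le (n := Q.q - 1 + 1) (by have := Q.hq; omega), zero_mul, add_zero]

/-- The coefficient of `x b` at the top vanishes. -/
theorem top_kill {a : MonoidAlgebra k G} {b : MonoidAlgebra k G} (ha : a ∈ SC k Q.C) :
    Q.x ^ (Q.q - 1) * (a * (Q.x * b)) = 0 := by
  rw [← mul_assoc a, ← (commute_SC Q.x_comm ha).eq, ← mul_assoc, ← mul_assoc, ← pow_succ,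
    Q.x_pow_of_le (n := Q.q - 1 + 1) (by have := Q.hq; omega), zero_mul, zero_mul]

section Module

variable {V : Type w} [AddCommGroup V] [Module k V] (φ : MonoidAlgebra k G →ₐ[k] Module.End k V)

/-- The operators of the group. -/
noncomputable def rho : G →* Module.End k V :=
  (φ : MonoidAlgebra k G →* Module.End k V).comp (MonoidAlgebra.of k G)

theorem rho_apply (g : G) : rho φ g = φ (single g 1) := rfl

theorem map_conjA (g : G) (a : MonoidAlgebra k G) :
    φ (conjA g a) = rho φ g * φ a * rho φ g⁻¹ := by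
  rw [conjA, map_mul, map_mul]; rfl

theorem rho_cancel (g : G) : rho φ g * rho φ g⁻¹ = 1 := by rw [← map_mul, mul_inv_cancel, map_one]

theorem rho_cancel' (g : G) : rho φ g⁻¹ * rho φ g = 1 := by rw [← map_mul, inv_mul_cancel, map_one]

/-- Transfers from the trivial group send the kernel of `x` into the image of `x ^ (q - 1)`. -/
theorem trace_mem [Fintype Q.C] (h : Module.End k V) {σ : V} (hβ : φ Q.β σ = σ)
    (hx : φ Q.x σ = 0) :
    ∃ v : V, φ Q.β ((∑ c : Q.C, rho φ (c : G) * h * rho φ (c : G)⁻¹) σ) =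
      φ (Q.x ^ (Q.q - 1)) v := by
  classical
  haveI := Fintype.ofFinite G
  have hs : ∀ c : Q.C, (single (c : G) (1 : k) : MonoidAlgebra k G) ∈ SC k Q.C :=
    fun c => single_mem_SC c.2 1
  have hs' : ∀ c : Q.C, (single (c : G)⁻¹ (1 : k) : MonoidAlgebra k G) ∈ SC k Q.C :=
    fun c => single_mem_SC (inv_mem c.2) 1
  -- the action of `C` modulo `x`
  have hact : ∀ c : Q.C, rho φ (c : G)⁻¹ σ =
      ∑ j, ∑ l, Q.mat (single (c : G)⁻¹ 1) j l • φ (Q.v j * Q.u l) σ := by
    intro c
    obtain ⟨b, hb⟩ := Q.mat_spec (hs' c)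
    have h1 := LinearMap.congr_fun (congrArg φ hb) σ
    simp only [map_mul, map_add, map_sum, map_smul, Module.End.mul_apply, LinearMap.add_apply,
      LinearMap.sum_apply, LinearMap.smul_apply, hβ, hx, map_zero, add_zero] at h1
    rw [rho_apply, h1]
    simp only [map_mul, Module.End.mul_apply]
  let a : Fin Q.m → Fin Q.m → MonoidAlgebra k G := fun j l =>
    ∑ c : Q.C, Q.mat (single (c : G)⁻¹ 1) j l • single (c : G) 1
  have hamem : ∀ j l, a j l ∈ SC k Q.C := fun j l =>
    Subalgebra.sum_mem _ fun c _ => Subalgebra.smul_mem _ (hs c) _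
  have ha0 : ∀ j l, Q.x * a j l = 0 := by
    intro j l
    refine MonoidAlgebra.ext (Finsupp.ext fun y => ?_)
    by_cases hy : y ∈ Q.C
    swap
    · simpa using mem_SC.mp (mul_mem Q.x_mem (hamem j l)) y hy
    refine (smul_eq_zero.mp (?_ : ((Q.x * a j l).coeff y) • (Q.x ^ (Q.q - 1) * Q.f) = 0)).resolve_right
      Q.x_top |>.trans (by simp)
    have e1 : (Q.x * a j l).coeff y = ∑ c : Q.C,
        Q.x.coeff (y * (c : G)⁻¹) * Q.mat (single (c : G)⁻¹ 1) j l := by
      simp only [a, Finset.mul_sum, mul_smul_comm, MonoidAlgebra.coeff_sum, Finsupp.finsetSum_apply,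
        MonoidAlgebra.coeff_smul, Finsupp.smul_apply, smul_eq_mul, coeff_mul_single', mul_one]
      exact Finset.sum_congr rfl fun c _ => mul_comm _ _
    rw [e1, Finset.sum_smul]
    calc ∑ c : Q.C, (Q.x.coeff (y * (c : G)⁻¹) * Q.mat (single (c : G)⁻¹ 1) j l) •
          (Q.x ^ (Q.q - 1) * Q.f)
        = Q.x ^ (Q.q - 1) * (Q.u j *
            (∑ c : Q.C, Q.x.coeff (y * (c : G)⁻¹) • single (c : G)⁻¹ 1) * Q.v l) := by
          simp only [Finset.mul_sum, Finset.sum_mul, mul_smul_comm, smul_mul_assoc, mul_smul,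
            Q.mat_top (hs' _)]
      _ = Q.x ^ (Q.q - 1) * (Q.u j * (single y⁻¹ 1 * Q.x) * Q.v l) := by
          congr 3
          conv_rhs => rw [eq_sum_single Q.x, Finset.mul_sum]
          have hzero : ∀ g ∈ (Finset.univ : Finset G), ¬ g ∈ Q.C →
              single y⁻¹ (1 : k) * single g (Q.x.coeff g) = 0 := fun g _ hg => by
            rw [Q.x_mem g hg, single_zero, mul_zero]
          rw [← Finset.sum_subset (Finset.subset_univ (Finset.univ.filter (· ∈ Q.C)))
            (fun g hg hn => hzero g hg (by simpa using hn))]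
          refine Finset.sum_bij (fun c _ => y * (c : G)⁻¹)
            (fun c _ => Finset.mem_filter.mpr ⟨Finset.mem_univ _, mul_mem hy (inv_mem c.2)⟩)
            (fun c₁ _ c₂ _ e => Subtype.ext (inv_injective (mul_left_cancel e)))
            (fun g hg => ⟨⟨g⁻¹ * y, mul_mem (inv_mem (Finset.mem_filter.mp hg).2) hy⟩,
              Finset.mem_univ _, by simp⟩) fun c _ => ?_
          rw [single_mul_single, one_mul, inv_mul_cancel_left, smul_single, smul_eq_mul, mul_one]
      _ = 0 := by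
          rw [show single y⁻¹ (1 : k) * Q.x = Q.x * single y⁻¹ 1 from
            ((Q.x_comm y⁻¹ (inv_mem hy))).eq.symm, mul_assoc (Q.u j), mul_assoc Q.x,
            Q.top_kill (Q.u_mem j)]
  choose b hb using fun j l => Q.ann_x (hamem j l) (ha0 j l)
  refine ⟨∑ j, ∑ l, φ (b j l) (h (φ (Q.v j * Q.u l) σ)), ?_⟩
  simp only [LinearMap.sum_apply, Module.End.mul_apply, map_sum, hact, map_smul]
  rw [Finset.sum_comm]
  refine Finset.sum_congr rfl fun j _ => ?_
  rw [Finset.sum_comm]
  refine Finset.sum_congr rfl fun l _ => ?_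
  rw [← Module.End.mul_apply (φ (Q.x ^ (Q.q - 1))) (φ (b j l)), ← map_mul φ (Q.x ^ (Q.q - 1)), ← hb,
    ← (Q.β_central (hamem j l)).eq, map_mul, Module.End.mul_apply]
  simp only [a, Finset.mul_sum, mul_smul_comm, map_sum, map_smul, map_mul, LinearMap.sum_apply,
    LinearMap.smul_apply, rho_apply, Module.End.mul_apply]

/-- An equivariant free trace times the block idempotent. -/
theorem beta_trace_mem [Fintype Q.C] [Fintype Q.D] (Ψ ψ : Module.End k V)
    (hΨ : ∀ c ∈ Q.C, rho φ c * Ψ = Ψ * rho φ c)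
    (hψ : Ψ = ∑ d : Q.D, rho φ (d : G) * ψ * rho φ (d : G)⁻¹) {σ : V} (hβ : φ Q.β σ = σ)
    (hx : φ Q.x σ = 0) : ∃ v : V, φ Q.β (Ψ σ) = φ (Q.x ^ (Q.q - 1)) v := by
  classical
  haveI := Fintype.ofFinite (Q.C ⧸ Q.D.subgroupOf Q.C)
  have key : φ Q.β * Ψ =
      ∑ c : Q.C, rho φ (c : G) * (φ Q.w * ψ) * rho φ (c : G)⁻¹ := by
    have h1 : φ Q.β * Ψ = ∑ o : Q.C ⧸ Q.D.subgroupOf Q.C,
        rho φ (o.out : G) * (φ Q.w * Ψ) * rho φ (o.out : G)⁻¹ := by
      conv_lhs => rw [← Q.trace, map_sum, Finset.sum_mul]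
      refine Finset.sum_congr (by ext; simp) fun o _ => ?_
      rw [map_conjA, mul_assoc, hΨ _ (inv_mem (SetLike.coe_mem o.out))]
      simp only [mul_assoc]
    let F : (Q.C ⧸ Q.D.subgroupOf Q.C) × Q.D → Q.C := fun a => a.1.out * ⟨a.2, Q.hDC a.2.2⟩
    have hF : Function.Bijective F := by
      constructor
      · rintro ⟨o, d⟩ ⟨o', d'⟩ e
        have ho : o = o' := by
          have := congrArg (fun c : Q.C => (c : Q.C ⧸ Q.D.subgroupOf Q.C)) e
          simp only [F, QuotientGroup.mk_mul_of_mem _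
            (Subgroup.mem_subgroupOf.mpr (show ((⟨(d : G), Q.hDC d.2⟩ : Q.C) : G) ∈ Q.D from d.2)),
            QuotientGroup.mk_mul_of_mem _
            (Subgroup.mem_subgroupOf.mpr (show ((⟨(d' : G), Q.hDC d'.2⟩ : Q.C) : G) ∈ Q.D from d'.2)),
            QuotientGroup.out_eq'] at this
          exact this
        subst ho
        exact Prod.ext rfl (Subtype.ext (congrArg (fun c : Q.C => (c : G)) (mul_left_cancel e) : _))
      · intro c
        obtain ⟨d, hd⟩ := QuotientGroup.mk_out_eq_mul (Q.D.subgroupOf Q.C) c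
        refine ⟨⟨(c : Q.C ⧸ Q.D.subgroupOf Q.C), ⟨((d : Q.C) : G)⁻¹,
          inv_mem (Subgroup.mem_subgroupOf.mp d.2)⟩⟩, Subtype.ext ?_⟩
        simp only [F, Subgroup.coe_mul, hd]
        group
    rw [h1, ← hF.sum_comp, Fintype.sum_prod_type]
    refine Finset.sum_congr rfl fun o _ => ?_
    rw [hψ, Finset.mul_sum, Finset.mul_sum, Finset.sum_mul]
    refine Finset.sum_congr rfl fun d _ => ?_
    have hwd : φ Q.w * rho φ (d : G) = rho φ (d : G) * φ Q.w := by
      rw [rho_apply, ← map_mul, ← map_mul, (Q.w_comm d d.2).eq]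
    simp only [F, Subgroup.coe_mul, mul_inv_rev, map_mul]
    calc rho φ (o.out : G) * (φ Q.w * (rho φ (d : G) * ψ * rho φ (d : G)⁻¹)) * rho φ (o.out : G)⁻¹
        = rho φ (o.out : G) * ((φ Q.w * rho φ (d : G)) * ψ * rho φ (d : G)⁻¹) *
            rho φ (o.out : G)⁻¹ := by simp only [mul_assoc]
      _ = _ := by rw [hwd]; simp only [mul_assoc]
  obtain ⟨v, hv⟩ := Q.trace_mem φ (φ Q.w * ψ) hβ hx
  refine ⟨v, ?_⟩
  rw [← hv, ← key, Module.End.mul_apply, ← Module.End.mul_apply (φ Q.β) (φ Q.β), ← map_mul,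
    Q.β_idem]

theorem commute_of_single {Ψ : Module.End k V} (h : ∀ g : G, rho φ g * Ψ = Ψ * rho φ g)
    (a : MonoidAlgebra k G) : φ a * Ψ = Ψ * φ a := by
  haveI := Fintype.ofFinite G
  rw [eq_sum_single a, map_sum, Finset.sum_mul, Finset.mul_sum]
  refine Finset.sum_congr rfl fun g _ => ?_
  rw [show single g (a.coeff g) = a.coeff g • single g (1 : k) by simp, map_smul, smul_mul_assoc,
    mul_smul_comm, ← rho_apply, h]

/-- An endomorphism of a simple module commuting with `T` is a scalar on the socle. -/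
theorem scalar_on_socle [Nontrivial V] (hsurj : Function.Surjective φ) (π : Module.End k V)
    (hT : ∀ s ∈ Q.T, rho φ s * π = π * rho φ s) (hβπ : φ Q.β * π = π) :
    ∃ lam : k, ∀ σ : V, φ Q.β σ = σ → φ Q.x σ = 0 →
      ∃ v : V, π σ - lam • σ = φ (Q.x ^ (Q.q - 1)) v := by
  classical
  haveI := Fintype.ofFinite G
  have hC : ∀ c ∈ Q.C, rho φ c * π = π * rho φ c := fun c hc => hT c (Q.hCT hc)
  let term : G → Module.End k V := fun g => rho φ g * π * rho φ g⁻¹
  have hterm : ∀ g c, c ∈ Q.C → term (g * c) = term g := fun g c hc => by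
    simp only [term, mul_inv_rev, map_mul]
    calc rho φ g * rho φ c * π * (rho φ c⁻¹ * rho φ g⁻¹)
        = rho φ g * (rho φ c * π) * rho φ c⁻¹ * rho φ g⁻¹ := by simp only [mul_assoc]
      _ = rho φ g * π * (rho φ c * rho φ c⁻¹) * rho φ g⁻¹ := by rw [hC c hc]; simp only [mul_assoc]
      _ = _ := by rw [rho_cancel, mul_one]
  let Φ : Module.End k V := ∑ o : G ⧸ Q.C, term o.out
  have hout : ∀ g : G, term (g : G ⧸ Q.C).out = term g := fun g => by
    obtain ⟨c, hc⟩ := QuotientGroup.mk_out_eq_mul Q.C g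
    rw [hc, hterm g c c.2]
  have hΦg : ∀ g, rho φ g * Φ = Φ * rho φ g := by
    intro g
    simp only [Φ, Finset.mul_sum, Finset.sum_mul]
    refine Fintype.sum_equiv (MulAction.toPerm g) _ _ fun o => ?_
    have e : ((MulAction.toPerm g) o : G ⧸ Q.C) = ((g * o.out : G) : G ⧸ Q.C) := by
      rw [MulAction.toPerm_apply]
      conv_lhs => rw [← QuotientGroup.out_eq' o]
      rfl
    rw [e, hout]
    simp only [term, mul_inv_rev, map_mul, mul_assoc, rho_cancel', mul_one]
  -- the scalar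
  obtain ⟨v₀, hv₀⟩ := exists_ne (0 : V)
  obtain ⟨μ, hμ, -⟩ := Submodule.exists_dual_map_eq_bot_of_notMem
    (p := (⊥ : Submodule k V)) (x := v₀) (by simpa using hv₀) inferInstance
  have hscal : ∀ v, Φ v = ((μ v₀)⁻¹ * μ (Φ v₀)) • v := fun v => by
    obtain ⟨a, ha⟩ := hsurj (μ.smulRight v)
    have := LinearMap.congr_fun (commute_of_single φ hΦg a) v₀
    simp only [Module.End.mul_apply, ha, LinearMap.smulRight_apply, map_smul] at this
    rw [mul_smul, this, smul_smul, inv_mul_cancel₀ hμ, one_smul]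
  -- the parts of the transfer
  let far : G → Prop := fun g => g ∉ Q.T ∧ Q.β * conjA g Q.β ≠ 0
  have hfarL : ∀ c ∈ Q.C, ∀ g, far g → far (c * g) := by
    rintro c hc g ⟨h1, h2⟩
    refine ⟨fun h => h1 (by simpa using mul_mem (inv_mem (Q.hCT hc)) h), fun h => h2 ?_⟩
    have hβc : conjA c Q.β = Q.β := by
      rw [conjA, ← (Q.β_comm c (Q.hCT hc)).eq, mul_assoc, single_mul_single_inv, mul_one]
    rw [← hβc, ← conjA_conjA, ← conjA_mul] at h
    have := congrArg (conjA c⁻¹) h
    rwa [conjA_conjA, inv_mul_cancel, conjA_one, hβc, show conjA c⁻¹ (0 : MonoidAlgebra k G) = 0 by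
      simp [conjA]] at this
  have hfarR : ∀ c ∈ Q.C, ∀ g, far g → far (g * c) := by
    rintro c hc g ⟨h1, h2⟩
    refine ⟨fun h => h1 (by simpa using mul_mem h (inv_mem (Q.hCT hc))), fun h => h2 ?_⟩
    have hβc : conjA c Q.β = Q.β := by
      rw [conjA, ← (Q.β_comm c (Q.hCT hc)).eq, mul_assoc, single_mul_single_inv, mul_one]
    rwa [← conjA_conjA, hβc] at h
  -- the third part as a free trace
  let F : G → Module.End k V := fun g => rho φ g * (φ Q.w * π) * rho φ g⁻¹
  have hFd : ∀ g d, d ∈ Q.D → F (g * d) = F g := fun g d hd => by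
    have hwd : rho φ d * φ Q.w = φ Q.w * rho φ d := by
      rw [rho_apply, ← map_mul, ← map_mul, (Q.w_comm d hd).eq]
    simp only [F, mul_inv_rev, map_mul]
    calc rho φ g * rho φ d * (φ Q.w * π) * (rho φ d⁻¹ * rho φ g⁻¹)
        = rho φ g * ((rho φ d * φ Q.w) * π) * rho φ d⁻¹ * rho φ g⁻¹ := by simp only [mul_assoc]
      _ = rho φ g * (φ Q.w * (rho φ d * π)) * rho φ d⁻¹ * rho φ g⁻¹ := by
          rw [hwd]; simp only [mul_assoc]
      _ = rho φ g * (φ Q.w * π) * (rho φ d * rho φ d⁻¹) * rho φ g⁻¹ := by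
          rw [hC d (Q.hDC hd)]; simp only [mul_assoc]
      _ = _ := by rw [rho_cancel, mul_one]
  have hFout : ∀ g : G, F (g : G ⧸ Q.D).out = F g := fun g => by
    obtain ⟨d, hd⟩ := QuotientGroup.mk_out_eq_mul Q.D g
    rw [hd, hFd g d d.2]
  have hfarout : ∀ g : G, far (g : G ⧸ Q.D).out ↔ far g := fun g => by
    obtain ⟨d, hd⟩ := QuotientGroup.mk_out_eq_mul Q.D g
    rw [hd]
    exact ⟨fun h => by simpa using hfarR _ (inv_mem (Q.hDC d.2)) _ h,
      fun h => hfarR _ (Q.hDC d.2) _ h⟩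
  let X := {y : G ⧸ Q.D // far y.out}
  have hsm : ∀ (c : G) (y : G ⧸ Q.D), c • y = ((c * y.out : G) : G ⧸ Q.D) := fun c y => by
    conv_lhs => rw [← QuotientGroup.out_eq' y]
    rfl
  letI : MulAction Q.D X :=
    { smul := fun d y => ⟨(d : G) • y.1, by
        rw [hsm, hfarout]; exact hfarL _ (Q.hDC d.2) _ y.2⟩
      one_smul := fun y => Subtype.ext (one_smul G y.1)
      mul_smul := fun d d' y => Subtype.ext (mul_smul (d : G) (d' : G) y.1) }
  have hsmul : ∀ (d : Q.D) (y : X), (d • y).1 = (((d : G) * y.1.out : G) : G ⧸ Q.D) :=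
    fun d y => hsm _ y.1
  have hfree : ∀ (d : Q.D) (y : X), d • y = y → d = 1 := by
    intro d y h
    have h' := congrArg Subtype.val h
    rw [hsmul] at h'
    conv_rhs at h' => rw [← QuotientGroup.out_eq' y.1]
    have h2 : ((d : G) * y.1.out)⁻¹ * y.1.out ∈ Q.D := QuotientGroup.eq.mp h'
    refine Subtype.ext (Q.far _ y.2.1 y.2.2 _ d.2 ?_)
    simpa [mul_assoc] using inv_mem h2
  let Ψ : Module.End k V := ∑ y : X, F y.1.out
  obtain ⟨ψ, hψ⟩ := exists_free_trace hfree (rho φ) (fun y : X => F y.1.out) fun d y => by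
    rw [hsmul, hFout]
    simp only [F, mul_inv_rev, map_mul, mul_assoc]
  have hΨC : ∀ c ∈ Q.C, rho φ c * Ψ = Ψ * rho φ c := by
    intro c hc
    let e : X ≃ X :=
      { toFun := fun y => ⟨c • y.1, by rw [hsm, hfarout]; exact hfarL _ hc _ y.2⟩
        invFun := fun y => ⟨c⁻¹ • y.1, by rw [hsm, hfarout]; exact hfarL _ (inv_mem hc) _ y.2⟩
        left_inv := fun y => Subtype.ext (inv_smul_smul c y.1)
        right_inv := fun y => Subtype.ext (smul_inv_smul c y.1) }
    simp only [Ψ, Finset.mul_sum, Finset.sum_mul]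
    refine Fintype.sum_equiv e _ _ fun y => ?_
    show _ = F (c • y.1).out * rho φ c
    rw [hsm, hFout]
    simp only [F, mul_inv_rev, map_mul, mul_assoc, rho_cancel', mul_one]
  -- the transfer at the socle
  refine ⟨(Q.e : k)⁻¹ * ((μ v₀)⁻¹ * μ (Φ v₀)), fun σ hσ hxσ => ?_⟩
  obtain ⟨v, hv⟩ := Q.beta_trace_mem φ Ψ ψ hΨC hψ hσ hxσ
  refine ⟨-((Q.e : k)⁻¹ • v), ?_⟩
  let P1 := Finset.univ.filter fun o : G ⧸ Q.C => far o.out
  let PT := Finset.univ.filter fun o : G ⧸ Q.C => o.out ∈ Q.T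
  have hPT : ∑ o ∈ PT, φ Q.β (term o.out σ) = (Q.e : k) • π σ := by
    have hcard : PT.card = Q.e := by
      rw [← Finset.card_range Q.e]
      symm
      refine Finset.card_bij (fun i _ => ((Q.t ^ i : G) : G ⧸ Q.C)) (fun i _ => ?_) ?_ ?_
      · obtain ⟨c, hc⟩ := QuotientGroup.mk_out_eq_mul Q.C (Q.t ^ i)
        exact Finset.mem_filter.mpr ⟨Finset.mem_univ _, hc ▸ mul_mem (pow_mem Q.ht i) (Q.hCT c.2)⟩
      · intro i hi j hj h
        rw [Finset.mem_range] at hi hj
        wlog hij : i ≤ j generalizing i j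
        · exact (this j hj i hi h.symm (le_of_not_ge hij)).symm
        obtain ⟨d, rfl⟩ := Nat.exists_eq_add_of_le hij
        have := QuotientGroup.eq.mp h
        rw [pow_add, inv_mul_cancel_left] at this
        rcases Nat.eq_zero_or_pos d with hd | hd
        · omega
        · exact absurd (Nat.le_of_dvd hd ((Q.hte d).mp this)) (by omega)
      · intro o ho
        obtain ⟨i, hi, hc⟩ := Q.hT _ (Finset.mem_filter.mp ho).2
        refine ⟨i, Finset.mem_range.mpr hi, ?_⟩
        rw [← QuotientGroup.out_eq' o]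
        exact QuotientGroup.eq.mpr hc
    rw [Finset.sum_congr rfl fun o ho => show φ Q.β (term o.out σ) = π σ by
      rw [← Module.End.mul_apply]
      simp only [term]
      rw [hT _ (Finset.mem_filter.mp ho).2, mul_assoc π, rho_cancel, mul_one, hβπ],
      Finset.sum_const, hcard, Nat.cast_smul_eq_nsmul]
  have hP1 : ∑ o ∈ P1, term o.out = Ψ := by
    haveI := Fintype.ofFinite (Q.C ⧸ Q.D.subgroupOf Q.C)
    have hexp : ∀ g, term g = ∑ r : Q.C ⧸ Q.D.subgroupOf Q.C, F (g * (r.out : G)) := by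
      intro g
      simp only [term, F]
      conv_lhs => rw [← hβπ, ← Q.trace, map_sum, Finset.sum_mul, Finset.mul_sum, Finset.sum_mul]
      refine Finset.sum_congr (by ext; simp) fun r _ => ?_
      rw [map_conjA, mul_assoc (rho φ (r.out : G) * φ Q.w), hC _ (inv_mem (SetLike.coe_mem r.out))]
      simp only [mul_inv_rev, map_mul, mul_assoc]
    rw [Finset.sum_congr rfl fun o _ => hexp o.out, ← Finset.sum_product']
    refine Finset.sum_bij (fun a ha => ⟨((a.1.out * (a.2.out : G) : G) : G ⧸ Q.D), by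
      rw [hfarout]
      exact hfarR _ (SetLike.coe_mem a.2.out) _
        (Finset.mem_filter.mp (Finset.mem_product.mp ha).1).2⟩) (fun _ _ => Finset.mem_univ _)
      ?_ ?_ ?_
    · intro a ha b hb h
      have h' := QuotientGroup.eq.mp (congrArg Subtype.val h)
      have ho : a.1 = b.1 := by
        rw [← QuotientGroup.out_eq' a.1, ← QuotientGroup.out_eq' b.1]
        refine QuotientGroup.eq.mpr ?_
        have := mul_mem (mul_mem (SetLike.coe_mem a.2.out) (Q.hDC h'))
          (inv_mem (SetLike.coe_mem b.2.out))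
        simpa [mul_assoc] using this
      refine Prod.ext ho ?_
      rw [← QuotientGroup.out_eq' a.2, ← QuotientGroup.out_eq' b.2]
      refine QuotientGroup.eq.mpr (Subgroup.mem_subgroupOf.mpr ?_)
      rw [ho] at h'
      simpa [mul_assoc] using h'
    · intro y _
      obtain ⟨c, hc⟩ := QuotientGroup.mk_out_eq_mul Q.C y.1.out
      obtain ⟨d, hd⟩ := QuotientGroup.mk_out_eq_mul (Q.D.subgroupOf Q.C) c⁻¹
      refine ⟨(((y.1.out : G) : G ⧸ Q.C), ((c⁻¹ : Q.C) : Q.C ⧸ Q.D.subgroupOf Q.C)),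
        Finset.mem_product.mpr ⟨Finset.mem_filter.mpr ⟨Finset.mem_univ _, ?_⟩, Finset.mem_univ _⟩,
        Subtype.ext ?_⟩
      · rw [hc]; exact hfarR _ c.2 _ y.2
      · show ((_ : G) : G ⧸ Q.D) = y.1
        rw [hc, hd]
        conv_rhs => rw [← QuotientGroup.out_eq' y.1]
        refine QuotientGroup.eq.mpr ?_
        simpa [mul_assoc] using inv_mem (Subgroup.mem_subgroupOf.mp d.2)
    · intro a _
      exact (hFout _).symm
  have hsum : φ Q.β (Φ σ) = (Q.e : k) • π σ + φ Q.β (Ψ σ) := by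
    simp only [Φ, LinearMap.sum_apply, map_sum]
    rw [← Finset.sum_filter_add_sum_filter_not Finset.univ fun o : G ⧸ Q.C => o.out ∈ Q.T, hPT,
      ← hP1, LinearMap.sum_apply, map_sum]
    congr 1
    symm
    refine Finset.sum_subset_zero_on_sdiff (fun o ho => ?_) (fun o ho => ?_) fun o _ => rfl
    · exact Finset.mem_filter.mpr ⟨Finset.mem_univ _, (Finset.mem_filter.mp ho).2.1⟩
    · simp only [P1, Finset.mem_sdiff, Finset.mem_filter, Finset.mem_univ, true_and, far,
        not_and, not_not] at ho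
      have h0 := ho.2 ho.1
      have e : φ Q.β * term o.out = φ (Q.β * conjA o.out Q.β) * term o.out := by
        simp only [term]
        conv_lhs => rw [← hβπ]
        conv_rhs => rw [map_mul, map_conjA]
        simp only [mul_assoc]
        rw [← mul_assoc (rho φ o.out⁻¹) (rho φ o.out), rho_cancel', one_mul]
      rw [← Module.End.mul_apply, e, h0, map_zero, zero_mul, LinearMap.zero_apply]
  rw [hscal, map_smul, hσ, hv] at hsum
  rw [map_neg, map_smul, eq_neg_iff_add_eq_zero, mul_smul, hsum, smul_add, inv_smul_smul₀ Q.e_ne]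
  abel

/-- A central element acting by zero whose part on `C` fixes the block kills the socle. -/
theorem socle_killed {a : MonoidAlgebra k G} (ha : ∀ g : G, Commute a (single g 1))
    (haβ : trunc (Q.C : Set G) a * Q.β = Q.β) (hφa : φ a = 0) {σ : V} (hβ : φ Q.β σ = σ)
    (hx : φ Q.x σ = 0) : ∃ v : V, σ = φ (Q.x ^ (Q.q - 1)) v := by
  classical
  haveI := Fintype.ofFinite G
  have hcoeff : ∀ g u : G, a.coeff (g * u * g⁻¹) = a.coeff u := fun g u => by
    have := (commute_single_iff a g).mp (ha g) u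
    simpa using this
  let r := a - trunc (Q.C : Set G) a
  have hconj : ∀ c ∈ Q.C, ∀ u, r.coeff (c * u * c⁻¹) = r.coeff u := by
    intro c hc u
    have hiff : c * u * c⁻¹ ∈ Q.C ↔ u ∈ Q.C :=
      ⟨fun h => by simpa [mul_assoc] using mul_mem (mul_mem (inv_mem hc) h) hc,
        fun h => mul_mem (mul_mem hc h) (inv_mem hc)⟩
    by_cases hu : u ∈ Q.C
    · simp [r, coeff_trunc_of_mem, hiff.mpr hu, hu, hcoeff]
    · simp [r, coeff_trunc_of_notMem (S := (Q.C : Set G)) a hu,
        coeff_trunc_of_notMem (S := (Q.C : Set G)) a (fun h => hu (hiff.mp h)), hcoeff]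
  let X := {g : G // g ∉ Q.C}
  letI : MulAction Q.D X :=
    { smul := fun d g => ⟨(d : G) * g.1 * (d : G)⁻¹, fun h => g.2 (by
        simpa [mul_assoc] using mul_mem (mul_mem (inv_mem (Q.hDC d.2)) h) (Q.hDC d.2))⟩
      one_smul := fun g => Subtype.ext (by
        show ((1 : Q.D) : G) * g.1 * ((1 : Q.D) : G)⁻¹ = g.1
        simp)
      mul_smul := fun d d' g => Subtype.ext (by
        show ((d * d' : Q.D) : G) * g.1 * ((d * d' : Q.D) : G)⁻¹ =
          (d : G) * ((d' : G) * g.1 * (d' : G)⁻¹) * (d : G)⁻¹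
        simp [mul_assoc]) }
  have hfree : ∀ (d : Q.D) (g : X), d • g = g → d = 1 := fun d g h => by
    by_contra hd
    exact g.2 (Q.hcz d d.2 (fun e => hd (Subtype.ext e)) g.1
      (mul_inv_eq_iff_eq_mul.mp (congrArg Subtype.val h)))
  obtain ⟨ψ, hψ⟩ := exists_free_trace hfree (rho φ)
    (fun g : X => r.coeff g.1 • rho φ g.1) fun d g => by
      show r.coeff ((d : G) * g.1 * (d : G)⁻¹) • rho φ ((d : G) * g.1 * (d : G)⁻¹) = _
      rw [hconj _ (Q.hDC d.2), map_mul, map_mul, mul_smul_comm, smul_mul_assoc]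
  have hr : φ r = ∑ g : X, r.coeff g.1 • rho φ g.1 := by
    conv_lhs => rw [eq_sum_single r, map_sum]
    rw [← Finset.sum_filter_add_sum_filter_not Finset.univ fun g : G => g ∈ Q.C,
      Finset.sum_eq_zero fun g hg => ?_, zero_add,
      Finset.sum_subtype (p := fun g => g ∉ Q.C) _ fun g => by simp]
    · refine Finset.sum_congr rfl fun g _ => ?_
      rw [show single g.1 (r.coeff g.1) = r.coeff g.1 • single g.1 (1 : k) by simp, map_smul]
      rfl
    · have : g ∈ Q.C := (Finset.mem_filter.mp hg).2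
      simp [r, coeff_trunc_of_mem, this]
  haveI := Fintype.ofFinite Q.C
  obtain ⟨v, hv⟩ := Q.beta_trace_mem φ (φ r) ψ (fun c hc => by
      rw [rho_apply, ← map_mul, ← map_mul]
      congr 1
      exact ((commute_single_iff r c).mpr fun u => by simpa using hconj c hc u).eq.symm)
    (hr.trans hψ) hβ hx
  refine ⟨-v, ?_⟩
  have htr : φ Q.β (φ (trunc (Q.C : Set G) a) σ) = σ := by
    have hmem : trunc (Q.C : Set G) a ∈ SC k Q.C := fun g hg => coeff_trunc_of_notMem _ hg
    rw [← Module.End.mul_apply, ← map_mul, (Q.β_central hmem).eq, haβ, hβ]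
  rw [map_neg, ← hv]
  simp only [r, map_sub, hφa, zero_sub, LinearMap.neg_apply, map_neg, htr, neg_neg]

end Module

end Data

end Cfsg.Agent.Blocks.CycMod
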