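import Cfsg.Agent.Lib.Blocks.CycMain

/-!
# Nilpotency of a block with cyclic defect group
-/

set_option linter.unusedSectionVars false

namespace Cfsg.Agent.Blocks.Cyclic

open BPairs

universe u

variable {G : Type u} [Group G] [Fintype G] {p : ℕ} [hp : Fact p.Prime] {M : Ideal AlgInt}
  [M.IsPrime]

theorem exists_maximal_cyclic (hM : IsPModular p M) {B : Set (IrrCharacter G)} (hB : IsPBlock M B)
    {P : Subgroup G} (hPD : IsDefectGroup p M B P) (hcyc : IsCyclic P) :
    ∃ (D : Subgroup G) (c : Set (IrrCharacter (Subgroup.centralizer (D : Set G)))),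
      IsMaximalBrauerPair p M B D c ∧ IsCyclic D := by
  obtain ⟨D, c, hDc⟩ := exists_maximal_pair' hM hB
  refine ⟨D, c, hDc, ?_⟩
  obtain ⟨x, hx⟩ := defect_le_of_defect hM hB (isDefectGroup_of_maximal hM hDc) hPD
  haveI := hcyc
  haveI : IsCyclic (D.map (MulAut.conj x).toMonoidHom) :=
    isCyclic_of_injective (Subgroup.inclusion hx) (Subgroup.inclusion_injective hx)
  let E := D.equivMapOfInjective (MulAut.conj x).toMonoidHom (MulAut.conj x).injective
  exact isCyclic_of_surjective E.symm E.symm.surjective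
where
  exists_maximal_pair' (hM : IsPModular p M) {B : Set (IrrCharacter G)} (hB : IsPBlock M B) :
      ∃ (D : Subgroup G) (c : Set (IrrCharacter (Subgroup.centralizer (D : Set G)))),
        IsMaximalBrauerPair p M B D c := by
    obtain ⟨u, hu⟩ : ∃ u, (bBar M B : MonoidAlgebra (Res M) G).coeff u ≠ 0 := by
      by_contra hall
      push Not at hall
      obtain ⟨χ, hχ⟩ := block_nonempty hB
      have h0 : bBar M B = 0 :=
        Subtype.ext (MonoidAlgebra.ext (Finsupp.ext fun u => by simpa using hall u))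
      have := congrArg (omegaBar M χ) h0
      rw [omegaBar_bBar (blockCoeff_mem_loc hB), if_pos hχ, map_zero] at this
      exact one_ne_zero this
    obtain ⟨e, he, hocc⟩ := exists_occ hM (P := (⊥ : Subgroup G)) IsPGroup.of_bot
      (inv2_center _ (bBar M B).2)
      (by rw [← Subring.coe_mul, bBar_mul_self (blockCoeff_mem_loc hB)])
      (u := u) (Subgroup.mem_centralizer_iff.mpr fun v hv => by simp [Subgroup.mem_bot.mp hv]) hu
    obtain ⟨⟨D, c⟩, -, hDc⟩ := exists_maximal hM
      (isBrauerPairOf_iff.mpr ⟨IsPGroup.of_bot, he, hB, hocc⟩ :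
        IsBrauerPairOf p M B (⊥ : Subgroup G) e)
    exact ⟨D, c, hDc⟩

theorem nilpotent_iff_rank_one (hM : IsPModular p M) {B : Set (IrrCharacter G)}
    (hB : IsPBlock M B) {P : Subgroup G} (hPD : IsDefectGroup p M B P) (hcyc : IsCyclic P) :
    IsNilpotentBlock p M B ↔ blockRank p B = 1 := by
  obtain ⟨D, c, hmax, hDc⟩ := exists_maximal_cyclic hM hB hPD hcyc
  constructor
  · intro hnil
    obtain ⟨χ₀, hχ₀, -, -, hag, -, -⟩ := CycNil.basic hM hnil hmax hDc
    exact blockRank_eq_one_of_agree hχ₀ hp.out.ne_one hag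
  · intro hr
    have hDC : D ≤ Subgroup.centralizer (D : Set G) := le_centralizer_of_cyclic hDc
    refine nilpotent_of_below hM hmax fun Q f _ hle x hx _ => ?_
    have hQD := subpair_le hle
    obtain ⟨y, hy, g, hg, rfl⟩ :=
      abelian_stab hM hmax hle (hDC.trans (Subgroup.centralizer_le hQD)) hx
    refine mul_mem (Subgroup.centralizer_le hQD ?_) hg
    by_cases hD1 : D = ⊥
    · subst hD1
      exact Subgroup.mem_centralizer_iff.mpr fun v hv => by simp [Subgroup.mem_bot.mp hv]
    let S : Setting p M G := ⟨hM, B, hB, D, isDefectGroup_of_maximal hM hmax, hDc, hD1, c,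
      isInducedBlock_of_brauerPair hM hmax.1⟩
    have he : S.e = 1 := S.blockRank_eq.symm.trans hr
    exact Subgroup.relIndex_eq_one.mp he hy

end Cfsg.Agent.Blocks.Cyclic
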