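import Cfsg.Agent.Lib.Blocks.CycChar

/-!
# The inertial group acting on the characters of `b`

It fixes one character and moves all the others freely modulo the centralizer.
-/

set_option linter.unusedSectionVars false

namespace Cfsg.Agent.Blocks.Cyclic

open MonoidAlgebra BPairs
open scoped ComplexConjugate

universe u

variable {G : Type u} [Group G] [Finite G] {p : ℕ} [hp : Fact p.Prime] {M : Ideal AlgInt}
  [M.IsPrime]

namespace Setting

variable (S : Setting p M G)

theorem mem_C_iff (s : S.T) (v : G) : v ∈ S.C ↔ (s : G) * v * (s : G)⁻¹ ∈ S.C :=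
  Subgroup.mem_normalizer_iff.mp
    (normalizer_le_normalizer_centralizer (Subgroup.zpowers S.z) s.2.1) v

theorem inv_conj_mem (s : S.T) (v : S.C) : (s : G)⁻¹ * (v : G) * (s : G) ∈ S.C :=
  (S.mem_C_iff s _).mpr (by simp [mul_assoc])

/-- The conjugate character. -/
noncomputable def cj (s : S.T) (θ : IrrCharacter S.C) : IrrCharacter S.C :=
  Glauberman.compIrr (cIso (s : G) S.C S.C (S.mem_C_iff s)) θ

theorem cj_apply (s : S.T) (θ : IrrCharacter S.C) (v : S.C) :
    (S.cj s θ : S.C → ℂ) v = (θ : S.C → ℂ) ⟨_, S.inv_conj_mem s v⟩ := rfl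

theorem cj_mem (s : S.T) {θ : IrrCharacter S.C} (hθ : θ ∈ S.b) : S.cj s θ ∈ S.b := by
  obtain ⟨χ', hχ', hc⟩ := ((mem_stabSub S.hb).mp s.2).2.2 θ hθ
  have : S.cj s θ = χ' := Subtype.ext (funext fun v => by
    rw [cj_apply]
    exact (hc ⟨_, S.inv_conj_mem s v⟩ v (by group)).symm)
  exact this ▸ hχ'

/-- The action on the characters of `b`. -/
noncomputable instance act : MulAction S.T S.b where
  smul s θ := ⟨S.cj s θ, S.cj_mem s θ.2⟩
  one_smul θ := Subtype.ext (Subtype.ext (funext fun v =>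
    congrArg ((θ : IrrCharacter S.C) : S.C → ℂ) (Subtype.ext (by simp [cIso]))))
  mul_smul s s' θ := Subtype.ext (Subtype.ext (funext fun v =>
    congrArg ((θ : IrrCharacter S.C) : S.C → ℂ) (Subtype.ext (by simp [cIso, mul_assoc]))))

theorem smul_apply (s : S.T) (θ : S.b) (v : S.C) :
    (((s • θ : S.b) : IrrCharacter S.C) : S.C → ℂ) v =
      ((θ : IrrCharacter S.C) : S.C → ℂ) ⟨_, S.inv_conj_mem s v⟩ := rfl

theorem smul_of_mem {s : S.T} (hs : (s : G) ∈ S.C) (θ : S.b) : s • θ = θ := by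
  refine Subtype.ext (Subtype.ext (funext fun v => ?_))
  rw [smul_apply]
  have h := CT.isClassFunction_of_isIrr (θ : IrrCharacter S.C).2 v ⟨_, inv_mem hs⟩
  convert h using 2
  exact Subtype.ext (by simp)

theorem mult_smul [Fintype S.C] (χ : IrrCharacter G) (s : S.T) (θ : S.b) :
    mult χ ((s • θ : S.b) : IrrCharacter S.C) = mult χ (θ : IrrCharacter S.C) := by
  rw [mult, mult, classInner, classInner]
  refine congrArg _ (Fintype.sum_equiv (cIso (s : G) S.C S.C (S.mem_C_iff s)).toEquiv _ _ fun v => ?_)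
  rw [smul_apply]
  show _ = (χ : G → ℂ) ((s : G)⁻¹ * (v : G) * (s : G)) * _
  have h := CT.isClassFunction_of_isIrr χ.2 (v : G) (s : G)⁻¹
  rw [inv_inv] at h
  rw [h]
  rfl

/-- A common value of the block at the regular elements. -/
theorem exists_base : ∃ θ₀ ∈ S.b, Nat.card S.b = Nat.card S.D ∧
    (∀ η ∈ S.b, ∀ g : S.C, ¬ p ∣ orderOf g → (η : S.C → ℂ) g = (θ₀ : S.C → ℂ) g) ∧
    ∀ [Fintype S.C], (Nat.card S.D : ℂ) * bfPair p θ₀ θ₀ = 1 := by
  haveI := Fintype.ofFinite S.C
  obtain ⟨c', hmax'⟩ := S.exists_pair_b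
  obtain ⟨θ₀, h1, -, h3, h4, -, h6⟩ := CycNil.basic S.hM S.nilpotent hmax' S.cyclic_D'
  rw [S.card_D'] at h3 h6
  refine ⟨θ₀, h1, h3, h4, fun {inst} => ?_⟩
  convert h6

/-- The common value of the block at regular elements. -/
noncomputable def θ₀ : IrrCharacter S.C := S.exists_base.choose

theorem θ₀_mem : S.θ₀ ∈ S.b := S.exists_base.choose_spec.1

theorem card_b : Nat.card S.b = Nat.card S.D := S.exists_base.choose_spec.2.1

theorem agree {η : IrrCharacter S.C} (hη : η ∈ S.b) {g : S.C} (hg : ¬ p ∣ orderOf g) :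
    (η : S.C → ℂ) g = (S.θ₀ : S.C → ℂ) g :=
  S.exists_base.choose_spec.2.2.1 η hη g hg

theorem norm_θ₀ [Fintype S.C] : (Nat.card S.D : ℂ) * bfPair p S.θ₀ S.θ₀ = 1 :=
  S.exists_base.choose_spec.2.2.2

/-- An element outside `C` fixes exactly one character of `b`. -/
theorem card_fixed {s : S.T} (hs : (s : G) ∉ S.C) : Nat.card {θ : S.b // s • θ = θ} = 1 := by
  classical
  haveI := Fintype.ofFinite G
  haveI := Fintype.ofFinite S.b
  have h1 : ∀ θ : S.b, classInner ((((s • θ : S.b) : IrrCharacter S.C) : S.C → ℂ))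
      ((θ : IrrCharacter S.C) : S.C → ℂ) = if s • θ = θ then 1 else 0 := fun θ => by
    rw [CT.irr_inner_subtype]
    exact if_congr Subtype.coe_inj rfl rfl
  have h2 : ∀ v : S.C, ∑ θ : S.b, (((s • θ : S.b) : IrrCharacter S.C) : S.C → ℂ) v *
      conj (((θ : IrrCharacter S.C) : S.C → ℂ) v) = if p ∣ orderOf v then 0 else
        (Nat.card S.D : ℂ) * ((S.θ₀ : S.C → ℂ) v * conj ((S.θ₀ : S.C → ℂ) v)) := by
    intro v
    split_ifs with hv
    · by_cases hz : ∀ θ : S.b, ((θ : IrrCharacter S.C) : S.C → ℂ) v = 0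
      · exact Finset.sum_eq_zero fun θ _ => by rw [hz θ, map_zero, mul_zero]
      · push Not at hz
        obtain ⟨θ, hθ⟩ := hz
        have hle := S.cz_pPart_le θ.2 hv hθ
        have h := block_orthogonality S.hM (blockCoeff_mem_loc (M := M) S.hb)
          (pPart_spec (p := p) (⟨_, S.inv_conj_mem s v⟩ : S.C)) (pPart_spec (p := p) v) (fun hc => by
            obtain ⟨g, hg⟩ := isConj_iff.mp hc
            have hg' := congrArg (fun w : S.C => (w : G)) hg
            simp only [Subgroup.coe_mul, Subgroup.coe_inv, ← pPart_coe] at hg'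
            have e : pPart p ((s : G)⁻¹ * (v : G) * (s : G)) =
                (s : G)⁻¹ * pPart p (v : G) * (s : G) := by
              simpa using pPart_conj (p := p) (s : G)⁻¹ (v : G)
            rw [e, pPart_coe] at hg'
            have hm : (g : G) * (s : G)⁻¹ ∈ S.C := hle (mem_cz.mpr (mul_inv_eq_iff_eq_mul.mp (by
              conv_rhs => rw [← hg']
              group)))
            exact hs (by simpa using inv_mem (mul_mem (inv_mem g.2) hm)))
        rw [finsum_mem_irr, ← Finset.sum_filter] at h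
        refine Eq.trans ?_ h
        refine Eq.trans ?_ (Finset.sum_subtype (p := fun θ => θ ∈ S.b) (F := (inferInstance : Fintype S.b))
          (Finset.univ.filter (· ∈ S.b)) (by simp)
          (fun θ : IrrCharacter S.C => (θ : S.C → ℂ) ⟨_, S.inv_conj_mem s v⟩ *
            conj ((θ : S.C → ℂ) v))).symm
        exact Finset.sum_congr rfl fun θ _ => by rw [smul_apply]
    · rw [Finset.sum_congr rfl fun θ _ => by rw [S.agree (s • θ : S.b).2 hv, S.agree θ.2 hv],
        Finset.sum_const, Finset.card_univ, ← Nat.card_eq_fintype_card, S.card_b, nsmul_eq_mul]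
  have h3 : ∑ θ : S.b, classInner ((((s • θ : S.b) : IrrCharacter S.C) : S.C → ℂ))
      ((θ : IrrCharacter S.C) : S.C → ℂ) = 1 := by
    simp only [classInner]
    rw [← Finset.mul_sum, Finset.sum_comm, Finset.sum_congr rfl fun v _ => h2 v]
    conv_rhs => rw [← S.norm_θ₀, bfPair_eq, regPair]
    rw [mul_left_comm, Finset.mul_sum, Finset.mul_sum, Finset.mul_sum]
    refine Finset.sum_congr rfl fun v _ => ?_
    split_ifs <;> ring
  rw [Finset.sum_congr rfl fun θ _ => h1 θ, Finset.sum_boole] at h3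
  rw [Nat.card_eq_fintype_card, Fintype.card_subtype]
  exact_mod_cast h3

/-- The inertial generator as an element of `T`. -/
noncomputable def tT : S.T := ⟨S.t, S.t_mem⟩

theorem exists_pow_mul (s : S.T) :
    ∃ i < S.e, ∃ k : S.T, (k : G) ∈ S.C ∧ s = S.tT ^ i * k := by
  obtain ⟨i, hi, h⟩ := S.hT s.2
  exact ⟨i, hi, (S.tT ^ i)⁻¹ * s, by simpa [tT] using h, by rw [mul_inv_cancel_left]⟩

theorem exists_eta : ∃ η : S.b, (∀ s : S.T, s • η = η) ∧
    ∀ s : S.T, (s : G) ∉ S.C → ∀ θ : S.b, s • θ = θ → θ = η := by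
  by_cases ht : S.t ∈ S.C
  · have hall : ∀ s : S.T, (s : G) ∈ S.C := fun s => by
      obtain ⟨i, -, k, hk, rfl⟩ := S.exists_pow_mul s
      exact mul_mem (by simpa [tT] using pow_mem ht i) hk
    exact ⟨⟨S.θ₀, S.θ₀_mem⟩, fun s => S.smul_of_mem (hall s) _,
      fun s hs => absurd (hall s) hs⟩
  · obtain ⟨hsub, ⟨η, hη⟩⟩ := Nat.card_eq_one_iff_unique.mp (S.card_fixed (s := S.tT) ht)
    have hfix : ∀ s : S.T, s • η = η := fun s => by
      obtain ⟨i, -, k, hk, rfl⟩ := S.exists_pow_mul s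
      rw [mul_smul, S.smul_of_mem hk]
      induction i with
      | zero => rw [pow_zero, one_smul]
      | succ i ih => rw [pow_succ, mul_smul, hη, ih]
    refine ⟨η, hfix, fun s hs θ hθ => ?_⟩
    obtain ⟨hsub', -⟩ := Nat.card_eq_one_iff_unique.mp (S.card_fixed hs)
    exact congrArg Subtype.val (hsub'.elim ⟨θ, hθ⟩ ⟨η, hfix s⟩)

/-- The character fixed by the inertial group. -/
noncomputable def η : S.b := S.exists_eta.choose

theorem smul_η (s : S.T) : s • S.η = S.η := S.exists_eta.choose_spec.1 s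

theorem eq_η {s : S.T} (hs : (s : G) ∉ S.C) {θ : S.b} (h : s • θ = θ) : θ = S.η :=
  S.exists_eta.choose_spec.2 s hs θ h

/-- The orbits of the other characters. -/
abbrev J : Type u :=
  {o : MulAction.orbitRel.Quotient S.T S.b // o ≠ Quotient.mk'' S.η}

/-- A representative of an orbit. -/
noncomputable def rho (j : S.J) : S.b := Quotient.out j.1

theorem rho_ne (j : S.J) : S.rho j ≠ S.η := fun h =>
  j.2 ((Quotient.out_eq' j.1).symm.trans (congrArg Quotient.mk'' h))

theorem smul_rho_ne (s : S.T) (j : S.J) : s • S.rho j ≠ S.η := fun h => S.rho_ne j (by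
  have h' := congrArg (fun θ => s⁻¹ • θ) h
  simpa [S.smul_η] using h')

theorem smul_rho_iff {s : S.T} {j : S.J} : s • S.rho j = S.rho j ↔ (s : G) ∈ S.C :=
  ⟨fun h => by_contra fun hs => S.rho_ne j (S.eq_η hs h), fun h => S.smul_of_mem h _⟩

theorem eq_of_smul_rho {s : S.T} {j k : S.J} (h : s • S.rho j = S.rho k) : j = k := by
  refine Subtype.ext ?_
  rw [← Quotient.out_eq' j.1, ← Quotient.out_eq' k.1]
  refine (Quotient.sound' ?_).symm
  exact MulAction.orbitRel_apply.mpr ⟨s, h⟩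

theorem exists_rho {θ : S.b} (hθ : θ ≠ S.η) : ∃ (s : S.T) (j : S.J), s • S.rho j = θ := by
  have hne : (Quotient.mk'' θ : MulAction.orbitRel.Quotient S.T S.b) ≠ Quotient.mk'' S.η := fun h => by
    obtain ⟨s, hs⟩ := MulAction.orbitRel_apply.mp (Quotient.exact' h)
    exact hθ (hs ▸ S.smul_η s)
  have h := MulAction.orbitRel_apply.mp
    (Quotient.exact' (Quotient.out_eq' (Quotient.mk'' θ : MulAction.orbitRel.Quotient S.T S.b)))
  obtain ⟨s, hs⟩ := h
  exact ⟨s⁻¹, ⟨_, hne⟩, by
    show s⁻¹ • Quotient.out (Quotient.mk'' θ : MulAction.orbitRel.Quotient S.T S.b) = θ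
    rw [← hs]
    exact inv_smul_smul s θ⟩

theorem tT_pow_inj {i i' : ℕ} (hi : i < S.e) (hi' : i' < S.e)
    (h : ((S.tT ^ i)⁻¹ * S.tT ^ i' : S.T).val ∈ S.C) : i = i' := by
  wlog hle : i ≤ i' generalizing i i'
  · exact (this hi' hi (by simpa using inv_mem h) (le_of_not_ge hle)).symm
  · obtain ⟨d, rfl⟩ := Nat.exists_eq_add_of_le hle
    have hd : S.t ^ d ∈ S.C := by simpa [tT, pow_add] using h
    have := Nat.eq_zero_of_dvd_of_lt ((S.hte d).mp hd) (by omega)
    omega

/-- The count of the orbits. -/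
theorem card_J : Nat.card S.J * S.e + 1 = Nat.card S.D := by
  classical
  let f : Option (S.J × Fin S.e) → S.b := fun o =>
    o.elim S.η fun a => S.tT ^ (a.2 : ℕ) • S.rho a.1
  have hf : Function.Bijective f := by
    constructor
    · rintro (_ | ⟨j, i⟩) (_ | ⟨j', i'⟩) h
      · rfl
      · exact absurd h.symm (S.smul_rho_ne _ _)
      · exact absurd h (S.smul_rho_ne _ _)
      · have h' : ((S.tT ^ (i' : ℕ))⁻¹ * S.tT ^ (i : ℕ)) • S.rho j = S.rho j' := by
          rw [mul_smul]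
          exact inv_smul_eq_iff.mpr h
        obtain rfl := S.eq_of_smul_rho h'
        rw [Fin.ext (S.tT_pow_inj i'.2 i.2 (S.smul_rho_iff.mp h'))]
    · intro θ
      by_cases hθ : θ = S.η
      · exact ⟨none, hθ.symm⟩
      obtain ⟨s, j, hs⟩ := S.exists_rho hθ
      obtain ⟨i, hi, k, hk, rfl⟩ := S.exists_pow_mul s
      exact ⟨some (j, ⟨i, hi⟩), by rw [← hs, mul_smul, S.smul_of_mem hk]; rfl⟩
  have h := Nat.card_congr (Equiv.ofBijective f hf)
  rw [Finite.card_option, Nat.card_prod, Nat.card_eq_fintype_card (α := Fin S.e), Fintype.card_fin,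
    S.card_b] at h
  exact h

theorem card_T : Nat.card S.T = S.e * Nat.card S.C := by
  let f : Fin S.e × S.C → S.T := fun a => S.tT ^ (a.1 : ℕ) * ⟨a.2, S.hCT a.2.2⟩
  have hf : Function.Bijective f := by
    constructor
    · rintro ⟨i, k⟩ ⟨i', k'⟩ h
      have h1 : (S.tT ^ (i : ℕ))⁻¹ * S.tT ^ (i' : ℕ) =
          ⟨(k : G), S.hCT k.2⟩ * (⟨(k' : G), S.hCT k'.2⟩ : S.T)⁻¹ := by
        rw [inv_mul_eq_iff_eq_mul, ← mul_assoc]
        exact eq_mul_inv_of_mul_eq h.symm
      obtain rfl : i = i' := Fin.ext (S.tT_pow_inj i.2 i'.2 (by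
        rw [h1]; exact mul_mem k.2 (inv_mem k'.2)))
      exact Prod.ext rfl (Subtype.ext (congrArg (fun a : S.T => (a : G)) (mul_left_cancel h)))
    · intro s
      obtain ⟨i, hi, k, hk, rfl⟩ := S.exists_pow_mul s
      exact ⟨(⟨i, hi⟩, ⟨k, hk⟩), rfl⟩
  rw [← Nat.card_congr (Equiv.ofBijective f hf), Nat.card_prod,
    Nat.card_eq_fintype_card (α := Fin S.e), Fintype.card_fin]

end Setting

end Cfsg.Agent.Blocks.Cyclic
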