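import Cfsg.Agent.Lib.ClassSum.GaloisMean
import Cfsg.Agent.Lib.CT.Integral

/-!
# Sums of roots of unity with small total squared norm
-/

namespace Cfsg.Agent.Blocks

open scoped ComplexConjugate IntermediateField

theorem eq_one_of_sum_le_card {ι : Type*} [Fintype ι] (a : ι → ℝ) (ha : ∀ i, 0 < a i)
    (hprod : 1 ≤ ∏ i, a i) (hsum : ∑ i, a i ≤ Fintype.card ι) (i : ι) : a i = 1 := by
  by_contra hne
  have h1 : ∑ i, Real.log (a i) = Real.log (∏ i, a i) :=
    (Real.log_prod (fun i _ => (ha i).ne')).symm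
  have h2 : ∑ i, (1 + Real.log (a i)) < ∑ i, a i :=
    Finset.sum_lt_sum (fun j _ => by linarith [Real.log_le_sub_one_of_pos (ha j)])
      ⟨i, Finset.mem_univ i, by linarith [Real.log_lt_sub_one_of_pos (ha i) hne]⟩
  rw [Finset.sum_add_distrib, Finset.sum_const, Finset.card_univ, nsmul_eq_mul, mul_one, h1] at h2
  linarith [Real.log_nonneg hprod]

/-- Nonzero sums of roots of unity, with integral total squared norm at most their number, all
have modulus one. -/
theorem normSq_eq_one_of_sum_le {ι : Type*} [Fintype ι] {n : ℕ} (hn : n ≠ 0) (a : ι → ℂ)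
    (hne : ∀ i, a i ≠ 0) (ha : ∀ i, a i ∈ Subring.closure {w : ℂ | w ^ n = 1}) (r : ℤ)
    (hsum : ∑ i, Complex.normSq (a i) = (r : ℝ)) (hle : r ≤ (Fintype.card ι : ℤ)) (i : ι) :
    Complex.normSq (a i) = 1 := by
  classical
  haveI : NeZero n := ⟨hn⟩
  obtain ⟨ζ, hζ⟩ : ∃ ζ : ℂ, IsPrimitiveRoot ζ n := ⟨_, Complex.isPrimitiveRoot_exp n hn⟩
  let K : IntermediateField ℚ ℂ := ℚ⟮ζ⟯
  haveI : IsCyclotomicExtension {n} ℚ K := ClassSum.cyclo_adjoin hζ
  haveI : FiniteDimensional ℚ K := IsCyclotomicExtension.finiteDimensional {n} ℚ K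
  haveI : IsGalois ℚ K := IsCyclotomicExtension.isGalois {n} ℚ K
  have hζK : ζ ∈ K := IntermediateField.mem_adjoin_simple_self ℚ ζ
  have key : ∀ z ∈ Subring.closure {w : ℂ | w ^ n = 1}, ∃ k k' : K, (k : ℂ) = z ∧ (k' : ℂ) = conj z ∧
      IsIntegral ℤ z ∧ ∀ σ : Gal(K/ℚ), ((σ k' : K) : ℂ) = conj ((σ k : K) : ℂ) := by
    intro z hz
    induction hz using Subring.closure_induction with
    | mem w hw =>
      obtain ⟨j, -, rfl⟩ := hζ.eq_pow_of_pow_eq_one hw
      refine ⟨(⟨ζ, hζK⟩ : K) ^ j, ((⟨ζ, hζK⟩ : K) ^ j)⁻¹, by simp, ?_,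
        (hζ.isIntegral (NeZero.pos n)).pow j, fun σ => ?_⟩
      · push_cast
        exact Complex.inv_eq_conj (Complex.norm_eq_one_of_pow_eq_one hw hn)
      · rw [map_inv₀]
        push_cast
        refine Complex.inv_eq_conj (Complex.norm_eq_one_of_pow_eq_one (n := n) ?_ hn)
        have hw' : ((⟨ζ, hζK⟩ : K) ^ j) ^ n = 1 := Subtype.ext (by simpa using hw)
        rw [← SubmonoidClass.coe_pow, ← map_pow, hw', map_one]
        rfl
    | zero => exact ⟨0, 0, by simp, by simp, isIntegral_zero, fun σ => by simp⟩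
    | one => exact ⟨1, 1, by simp, by simp, isIntegral_one, fun σ => by simp⟩
    | add x y _ _ hx hy =>
      obtain ⟨k, k', h1, h2, h3, h4⟩ := hx
      obtain ⟨l, l', g1, g2, g3, g4⟩ := hy
      exact ⟨k + l, k' + l', by simp [h1, g1], by simp [h2, g2], h3.add g3,
        fun σ => by simp [h4 σ, g4 σ]⟩
    | neg x _ hx =>
      obtain ⟨k, k', h1, h2, h3, h4⟩ := hx
      exact ⟨-k, -k', by simp [h1], by simp [h2], h3.neg, fun σ => by simp [h4 σ]⟩
    | mul x y _ _ hx hy =>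
      obtain ⟨k, k', h1, h2, h3, h4⟩ := hx
      obtain ⟨l, l', g1, g2, g3, g4⟩ := hy
      exact ⟨k * l, k' * l', by simp [h1, g1], by simp [h2, g2], h3.mul g3,
        fun σ => by simp [h4 σ, g4 σ]⟩
  choose k k' hk hk' hint hconj using fun i => key (a i) (ha i)
  have hq : ∑ i, k i * k' i = (r : K) := by
    apply Subtype.ext
    rw [AddSubmonoidClass.coe_finsetSum]
    push_cast
    rw [show (r : ℂ) = (((r : ℝ) : ℝ) : ℂ) by simp, ← hsum, Complex.ofReal_sum]
    exact Finset.sum_congr rfl fun i _ => by rw [hk, hk', Complex.mul_conj]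
  have hσ : ∀ σ : Gal(K/ℚ), ∑ i, Complex.normSq ((σ (k i) : K) : ℂ) = (r : ℝ) := by
    intro σ
    have h := congrArg (fun z : K => ((σ z : K) : ℂ)) hq
    simp only [map_sum, map_mul, map_intCast, AddSubmonoidClass.coe_finsetSum] at h
    push_cast at h
    apply Complex.ofReal_injective
    push_cast
    rw [← h]
    exact Finset.sum_congr rfl fun i _ => by rw [hconj, Complex.mul_conj]
  have hne' : ∀ i (σ : Gal(K/ℚ)), ((σ (k i) : K) : ℂ) ≠ 0 := fun i σ h => by
    have h0 : k i = 0 := σ.injective (by rw [map_zero]; exact Subtype.ext h)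
    exact hne i (by rw [← hk, h0, ZeroMemClass.coe_zero])
  have hprod : ∀ i, 1 ≤ ∏ σ : Gal(K/ℚ), Complex.normSq ((σ (k i) : K) : ℂ) := by
    intro i
    have haK : IsIntegral ℤ (k i) :=
      (isIntegral_algHom_iff ((K.val : K →ₐ[ℚ] ℂ).restrictScalars ℤ) K.val.injective).mp
        (by show IsIntegral ℤ (k i : ℂ); rw [hk]; exact hint i)
    have hfix : ∀ τ : Gal(K/ℚ), τ (∏ σ : Gal(K/ℚ), σ (k i)) = ∏ σ : Gal(K/ℚ), σ (k i) := by
      intro τ
      simp only [map_prod]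
      exact Fintype.prod_equiv (Equiv.mulLeft τ) _ _ fun σ => rfl
    obtain ⟨t, ht⟩ := IntermediateField.mem_bot.mp ((IsGalois.mem_bot_iff_fixed _).mpr hfix)
    have hPint : IsIntegral ℤ (∏ σ : Gal(K/ℚ), σ (k i)) := IsIntegral.prod _ fun σ _ =>
      haK.map (σ.toAlgHom.restrictScalars ℤ)
    rw [← ht] at hPint
    obtain ⟨z, hz⟩ := IsIntegrallyClosed.isIntegral_iff.mp
      ((isIntegral_algebraMap_iff (A := ℚ) (B := K) (algebraMap ℚ K).injective).mp hPint)
    have hval : ∏ σ : Gal(K/ℚ), ((σ (k i) : K) : ℂ) = (z : ℂ) := by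
      have hP : ((∏ σ : Gal(K/ℚ), σ (k i) : K) : ℂ) = ∏ σ : Gal(K/ℚ), ((σ (k i) : K) : ℂ) :=
        map_prod K.val _ _
      rw [← hP, ← ht, ← hz]
      simp
    rw [← map_prod, hval, Complex.normSq_intCast]
    have hz0 : z ≠ 0 := fun e =>
      (Finset.prod_ne_zero_iff.mpr fun σ _ => hne' i σ) (by rw [hval, e, Int.cast_zero])
    have h2 : (1 : ℤ) ≤ z * z := by nlinarith [Int.one_le_abs hz0, abs_mul_abs_self z]
    exact_mod_cast h2
  have hpos : ∀ t : ι × Gal(K/ℚ), 0 < Complex.normSq ((t.2 (k t.1) : K) : ℂ) := fun t =>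
    Complex.normSq_pos.mpr (hne' t.1 t.2)
  have h1 := eq_one_of_sum_le_card (fun t : ι × Gal(K/ℚ) => Complex.normSq ((t.2 (k t.1) : K) : ℂ))
    hpos ?_ ?_ (i, 1)
  · simpa [hk] using h1
  · rw [Fintype.prod_prod_type]
    exact Finset.one_le_prod fun i _ => hprod i
  · rw [Fintype.sum_prod_type, Finset.sum_comm, Finset.sum_congr rfl fun σ _ => hσ σ,
      Finset.sum_const, Finset.card_univ, nsmul_eq_mul, Fintype.card_prod]
    push_cast
    rw [mul_comm (Fintype.card ι : ℝ)]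
    have : ((r : ℤ) : ℝ) ≤ (Fintype.card ι : ℝ) := by exact_mod_cast hle
    exact mul_le_mul_of_nonneg_left this (Nat.cast_nonneg _)

end Cfsg.Agent.Blocks
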