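import Cfsg.Agent.Lib.Blocks.NilCount
import Cfsg.Agent.Lib.Blocks.NilGalois
import Cfsg.Agent.Lib.Blocks.StarAction

/-!
# The structure of nilpotent blocks

Strong induction on the group order: the star products of a character of height zero with the
irreducible characters of the defect group are exactly the characters of the block.
-/

namespace Cfsg.Agent.Blocks

open MonoidAlgebra BPairs
open scoped ComplexConjugate

universe u

variable {p : ℕ} {M : Ideal AlgInt} [M.IsPrime]

set_option linter.unusedSectionVars false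

/-- A single regular restriction, of regular norm the inverse of the defect. -/
def NilData (p : ℕ) {H : Type u} [Group H] [Fintype H] (b : Set (IrrCharacter H)) : Prop :=
  ∃ ξ₀ ∈ b, (p : ℂ) ^ blockDefect p b * bfPair p ξ₀ ξ₀ = 1 ∧
    ∀ η ∈ b, ∃ n : ℕ, ∀ y : H, ¬ p ∣ orderOf y → (η : H → ℂ) y = (n : ℂ) * (ξ₀ : H → ℂ) y

theorem scalar_pow_eq_one {H : Type u} [Group H] [Finite H] (ξ : IrrCharacter H) {z : H} {ω : ℂ}
    (hω : ∀ c, (ξ : H → ℂ) (z * c) = ω * (ξ : H → ℂ) c) {n : ℕ} (hn : z ^ n = 1) : ω ^ n = 1 := by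
  haveI := Fintype.ofFinite H
  have hstep : ∀ n : ℕ, ∀ c, (ξ : H → ℂ) (z ^ n * c) = ω ^ n * (ξ : H → ℂ) c := by
    intro n
    induction n with
    | zero => simp
    | succ n ih => intro c; rw [pow_succ', mul_assoc, hω, ih, pow_succ', mul_assoc]
  have h1 := hstep n 1
  rw [hn, one_mul] at h1
  exact mul_right_cancel₀ (CT.irr_one_ne_zero ξ.2) (h1.symm.trans (one_mul _).symm)

section Step

variable {G : Type u} [Group G] [Fintype G] {B : Set (IrrCharacter G)} {P : Subgroup G}
  {e : Set (IrrCharacter (Subgroup.centralizer (P : Set G)))}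

theorem exists_belAt (hM : IsPModular p M) (hmax : IsMaximalBrauerPair p M B P e) (u : P) :
    ∃ f : Set (IrrCharacter (cz (u : G))), IsPBlock M f ∧
      BelAt p M P e (u : G) (bel M (cz (u : G)) f) := by
  obtain ⟨f, ⟨hf, hle⟩, -⟩ := existsUnique_below hM hmax.1.1 (Subgroup.zpowers_le.mpr u.2)
  exact ⟨f, hf, f, hle, rfl⟩

/-- At a central point the count is the regular norm of the character. -/
theorem qVal_central (hM : IsPModular p M) [hp : Fact p.Prime]
    (hmax : IsMaximalBrauerPair p M B P e) {χ : IrrCharacter G} (hχ : χ ∈ B) {z : P}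
    (hz : (z : G) ∈ Subgroup.center G) {a : MonoidAlgebra (Res M) G}
    (ha : BelAt p M P e (z : G) a) :
    qVal p P χ (z : G) a = (p : ℂ) ^ blockDefect p B * bfPair p χ χ := by
  classical
  have hx : ∃ k : ℕ, (z : G) ^ p ^ k = 1 := exists_pow_eq_one_of_isPGroup hmax.1.1.1 z.2
  have htop : cz (z : G) = ⊤ := eq_top_iff.mpr fun v _ =>
    mem_cz.mpr (Subgroup.mem_center_iff.mp hz v)
  have hamem : a ∈ blkIdem M (z : G) := by
    obtain ⟨f, hf, rfl⟩ := ha
    exact mem_blkIdemS.mpr ⟨f, (isBrauerPair_of_subpair hf hmax.1.1 :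
      IsBrauerPair p M (Subgroup.zpowers (z : G)) f).2, rfl⟩
  have hphi : ∀ g : G, pPart p g = (z : G) → phi p χ g a = (χ : G → ℂ) g := by
    intro g hg
    have hamem' : a ∈ blkIdem M (pPart p g) := by rw [hg]; exact hamem
    rw [← sum_phi (M := M) (p := p) hM χ g]
    refine (Finset.sum_eq_single_of_mem a hamem' fun a' ha' hne =>
      phi_eq_zero_of_not_inB hM hmax.1.2.1 hχ ha' fun hi => hne ?_).symm
    rw [hg] at ha' hi
    obtain ⟨c, hc⟩ := exists_belAt_of_inB hM hmax hx ha' hi
    rw [show c * (z : G) * c⁻¹ = (z : G) by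
        rw [Subgroup.mem_center_iff.mp hz c, mul_inv_cancel_right],
      isInv_iff_conjA.mp (blkIdem_isInv ha') c (htop ▸ Subgroup.mem_top c)] at hc
    exact belAt_unique hM hmax hc ha
  obtain ⟨ω, hω⟩ := exists_scalar_central χ hz
  obtain ⟨j, hj⟩ := hx
  have hω1 : ω * conj ω = 1 := by
    rw [Complex.mul_conj', Complex.norm_eq_one_of_pow_eq_one (scalar_pow_eq_one χ hω hj)
      (pow_ne_zero _ hp.out.ne_zero)]
    simp
  have hpart : partNorm p χ (z : G) a = (Nat.card G : ℂ) * bfPair p χ χ := by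
    rw [partNorm, finsum_eq_sum_of_fintype, ← Finset.sum_filter,
      Finset.sum_congr rfl (g := fun g => (χ : G → ℂ) g * conj ((χ : G → ℂ) g))
        fun g hg => by rw [hphi g (Finset.mem_filter.mp hg).2],
      sum_fiber ⟨j, hj⟩, ← sum_regFun_mul]
    refine Fintype.sum_equiv
      ((MulEquiv.subgroupCongr htop).trans Subgroup.topEquiv).toEquiv _ _ fun y => ?_
    show _ = regFun p χ (y : G) * conj (regFun p χ (y : G))
    simp only [regFun, Subgroup.orderOf_coe]
    split_ifs with hy
    · simp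
    · rw [hω, map_mul]
      linear_combination ((χ : G → ℂ) (y : G) * conj ((χ : G → ℂ) (y : G))) * hω1
  have hPC : P ⊓ cz (z : G) = P := by rw [htop, inf_top_eq]
  rw [qVal, hpart, hPC, card_defectGroup hM hmax.1.2.1 (isDefectGroup_of_maximal hM hmax), htop,
    Subgroup.card_top]
  have : (Nat.card G : ℂ) ≠ 0 := CT.card_ne_zero
  push_cast
  field_simp

/-- At another point the count is the squared modulus of a nonzero sum of roots of unity. -/
theorem exists_qVal_eq (hM : IsPModular p M) [hp : Fact p.Prime] (hnil : IsNilpotentBlock p M B)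
    (hmax : IsMaximalBrauerPair p M B P e) {χ : IrrCharacter G} (hχ : χ ∈ B)
    (h0 : blockHeight p B (χ : G → ℂ) = 0) (u : P) {f : Set (IrrCharacter (cz (u : G)))}
    (hfb : IsPBlock M f) (hf : BelAt p M P e (u : G) (bel M (cz (u : G)) f))
    [Fintype (cz (u : G))] (hdata : NilData p f) :
    ∃ a : ℂ, a ≠ 0 ∧ a ∈ Subring.closure {w : ℂ | w ^ Nat.card G = 1} ∧
      qVal p P χ (u : G) (bel M (cz (u : G)) f) = (Complex.normSq a : ℂ) := by
  classical
  have hx : ∃ k : ℕ, (u : G) ^ p ^ k = 1 := exists_pow_eq_one_of_isPGroup hmax.1.1.1 u.2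
  have hi := inB_of_belAt hM hmax hf
  have hind := isInducedBlock_of_brauerPair hM
    (isBrauerPairOf_of_inB hM hmax.1.2.1 hx hfb hi)
  obtain ⟨ξ₀, hξ₀, hnorm, hn⟩ := hdata
  obtain ⟨c, hc0, hc1, hc⟩ := exists_coeff_phi hM hx χ hfb
  choose n hn using hn
  obtain ⟨a, ha⟩ : ∃ a : ℂ, a = ∑ η, if h : η ∈ f then c η * (n η h : ℂ) else 0 := ⟨_, rfl⟩
  have hval : ∀ y : cz (u : G), ¬ p ∣ orderOf y →
      phi p χ ((u : G) * (y : G)) (bel M (cz (u : G)) f) = a * (ξ₀ : cz (u : G) → ℂ) y := by
    intro y hy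
    have h := hc y
    rw [if_neg hy] at h
    rw [h, ha, Finset.sum_mul]
    refine Finset.sum_congr rfl fun η _ => ?_
    rw [regFun, if_neg hy]
    split_ifs with hη
    · rw [hn η hη y hy, mul_assoc]
    · rw [hc0 η hη, zero_mul, zero_mul]
  refine ⟨a, fun h => ?_, ?_, ?_⟩
  · obtain ⟨y, hy, hne⟩ := exists_phi_ne_zero hM hx hind hχ h0
    exact hne (by rw [hval y hy, h, zero_mul])
  · rw [ha]
    refine Subring.sum_mem _ fun η _ => ?_
    split_ifs with hη
    · obtain ⟨w, k, -, hw, hcη⟩ := hc1 η hη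
      rw [hcη]
      refine Subring.mul_mem _ (Subring.mul_mem _ (natCast_mem _ _) (Subring.subset_closure ?_))
        (natCast_mem _ _)
      show w ^ Nat.card G = 1
      obtain ⟨t, ht⟩ := orderOf_dvd_natCard (u : G)
      rw [ht, pow_mul, hw, one_pow]
    · exact Subring.zero_mem _
  · obtain ⟨f', hle, hff⟩ := hf
    have hf'b : IsPBlock M f' := (isBrauerPair_of_subpair hle hmax.1.1 :
      IsBrauerPair p M (Subgroup.zpowers (u : G)) f').2
    have hff' : f = f' := by
      have h := idx_ext (M := M) (a := (⟨Subgroup.zpowers (u : G), f⟩ : BrauerPairIdx G))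
        (b := ⟨Subgroup.zpowers (u : G), f'⟩) hfb hf'b rfl hff
      simpa using h
    have hdef := card_defectGroup hM hfb (hff' ▸ centralizer_defect_of_fullyCentralized hM hmax hle
      (fun g hg => by
        obtain ⟨y, hy, hyg⟩ := exists_mem_of_nilpotent hM hnil hmax hle hg
        calc Nat.card (P ⊓ Subgroup.centralizer (((Subgroup.zpowers (u : G)).map
              (MulAut.conj g).toMonoidHom : Subgroup G) : Set G) : Subgroup G)
            ≤ Nat.card ((P ⊓ cz (u : G)).map (MulAut.conj y).toMonoidHom : Subgroup G) := by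
              refine Subgroup.card_le_of_le fun w hw => ⟨y⁻¹ * w * y, ⟨P.mul_mem (P.mul_mem (P.inv_mem hy)
                hw.1) hy, mem_cz.mpr ?_⟩, by simp [mul_assoc]⟩
              have h1 : (u : G) = y⁻¹ * g * (u : G) * (y⁻¹ * g)⁻¹ := by
                rw [(mem_cz.mp hyg).eq, mul_inv_cancel_right]
              have h2 : Commute w (g * (u : G) * g⁻¹) :=
                (Subgroup.mem_centralizer_iff.mp hw.2 _ ⟨(u : G), Subgroup.mem_zpowers _, rfl⟩).symm
              rw [h1]
              have h3 : Commute (y⁻¹ * w * (y⁻¹)⁻¹) (y⁻¹ * (g * (u : G) * g⁻¹) * (y⁻¹)⁻¹) :=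
                h2.map (MulAut.conj y⁻¹).toMonoidHom
              simpa [mul_assoc] using h3
          _ = _ := card_map_conj _ _))
    rw [Nat.card_congr (Subgroup.subgroupOfEquivOfLe inf_le_right).toEquiv] at hdef
    have hpart : partNorm p χ (u : G) (bel M (cz (u : G)) f) =
        (Complex.normSq a : ℂ) * ((Nat.card (cz (u : G)) : ℂ) * bfPair p ξ₀ ξ₀) := by
      rw [partNorm, finsum_eq_sum_of_fintype, ← Finset.sum_filter, sum_fiber hx, ← sum_regFun_mul,
        Finset.mul_sum]
      refine Finset.sum_congr rfl fun y _ => ?_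
      by_cases hy : p ∣ orderOf y
      · simp [regFun, hy]
      · rw [if_neg hy, regFun, if_neg hy, hval y hy, map_mul, ← Complex.mul_conj]
        ring
    rw [qVal, hpart, hdef]
    have hC : (Nat.card (cz (u : G)) : ℂ) ≠ 0 := CT.card_ne_zero
    push_cast
    field_simp
    linear_combination (Complex.normSq a : ℂ) * hnorm

/-- A character which is a star product of a member of `B` lies in `B`. -/
theorem mem_block_of_psi (hM : IsPModular p M) [hp : Fact p.Prime] (hB : IsPBlock M B)
    {θ η : IrrCharacter G} (hθ : θ ∈ B) {W : G → MonoidAlgebra (Res M) G → ℂ}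
    (hη : (η : G → ℂ) = psi p W θ) : η ∈ B := by
  classical
  by_contra hnot
  have h0 : ∑ g, psi p W θ g * conj ((η : G → ℂ) g) = 0 := by
    rw [← psi_one (M := M) (p := p) hM η, sum_psi_mul hM θ η]
    refine Finset.sum_eq_zero fun g _ => Finset.sum_eq_zero fun a ha => ?_
    by_cases hi : InB M B (pPart p g) a
    · rw [phi_eq_zero_of_inB hM hB hnot ha hi]; simp
    · rw [phi_eq_zero_of_not_inB hM hB hθ ha hi]; simp
  rw [← hη] at h0
  have h2 := CT.irr_inner_self η.2
  rw [classInner, h0, mul_zero] at h2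
  exact zero_ne_one h2

/-- The weight of the trivial character of `P` is one on the block. -/
theorem psi_weight_one (hM : IsPModular p M) [hp : Fact p.Prime] (hB : IsPBlock M B)
    (hnil : IsNilpotentBlock p M B)
    (hmax : IsMaximalBrauerPair p M B P e) {χ : IrrCharacter G} (hχ : χ ∈ B) :
    psi p (weight (M := M) p P e (extendByZero P fun _ => (1 : ℂ))) χ = (χ : G → ℂ) := by
  funext g
  rw [← sum_phi (M := M) hM χ g, psi]
  refine Finset.sum_congr rfl fun a ha => ?_
  by_cases hi : InB M B (pPart p g) a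
  · obtain ⟨k, hk⟩ := exists_belAt_of_inB hM hmax (ppart_pow_eq_one (pPart_spec g)) ha hi
    rw [weight_eq (stable_of_nilpotent hM hnil hmax fun _ _ => rfl) hk,
      CT.extendByZero_mem P _ (belAt_mem hk), one_mul]
  · rw [phi_eq_zero_of_not_inB hM hB hχ ha hi, mul_zero]

/-- The counts sum to the order of the defect group and all of them are one. -/
theorem qVal_eq_one (hM : IsPModular p M) [hp : Fact p.Prime] (hnil : IsNilpotentBlock p M B)
    (hmax : IsMaximalBrauerPair p M B P e) {χ : IrrCharacter G} (hχ : χ ∈ B)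
    (h0 : blockHeight p B (χ : G → ℂ) = 0) [Fintype P]
    (IH : ∀ u : P, (u : G) ∉ Subgroup.center G → ∀ [Fintype (cz (u : G))],
      ∀ f : Set (IrrCharacter (cz (u : G))), IsNilpotentBlock p M f → NilData p f)
    {A : P → MonoidAlgebra (Res M) G} (hA : ∀ u : P, BelAt p M P e (u : G) (A u)) :
    (∀ u : P, qVal p P χ (u : G) (A u) = 1) ∧ (p : ℂ) ^ blockDefect p B * bfPair p χ χ = 1 := by
  classical
  have hB := hmax.1.2.1
  have hpd : Nat.card P = p ^ blockDefect p B :=
    card_defectGroup hM hB (isDefectGroup_of_maximal hM hmax)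
  obtain ⟨z, hz⟩ := exists_int_bfPair hM hχ χ
  have hz1 : 1 ≤ z := by
    have hne : z ≠ 0 := by
      intro h
      rw [h, Int.cast_zero] at hz
      exact bfPair_ne_zero hM hB hχ hχ h0
        ((mul_eq_zero.mp hz).resolve_left (pow_ne_zero _ (Nat.cast_ne_zero.mpr hp.out.ne_zero)))
    have hnn : (0 : ℝ) ≤ (z : ℝ) := by
      have e1 : ((Nat.card G : ℝ) * (z : ℝ) : ℂ) =
          (((p : ℝ) ^ blockDefect p B * ∑ y, Complex.normSq (regFun p χ y) : ℝ) : ℂ) := by
        push_cast
        rw [← hz, Finset.sum_congr rfl fun y _ => (Complex.mul_conj (regFun p χ y)).symm,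
          sum_regFun_mul]
        ring
      have e2 : (Nat.card G : ℝ) * (z : ℝ) =
          (p : ℝ) ^ blockDefect p B * ∑ y, Complex.normSq (regFun p χ y) := by
        exact_mod_cast e1
      have hG : (0 : ℝ) < Nat.card G := by exact_mod_cast Nat.card_pos
      refine nonneg_of_mul_nonneg_right ?_ hG
      rw [e2]
      exact mul_nonneg (pow_nonneg (Nat.cast_nonneg p) _)
        (Finset.sum_nonneg fun y _ => Complex.normSq_nonneg _)
    have : (0 : ℤ) ≤ z := by exact_mod_cast hnn
    omega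
  have htot : ∑ u : P, qVal p P χ (u : G) (A u) = (Nat.card P : ℂ) := by
    have h := classInner_psi hM hnil hmax hχ
      (stable_of_nilpotent hM hnil hmax (ζ := fun _ => (1 : ℂ)) fun _ _ => rfl)
      (stable_of_nilpotent hM hnil hmax (ζ := fun _ => (1 : ℂ)) fun _ _ => rfl) hA
    rw [psi_weight_one hM hB hnil hmax hχ, CT.irr_inner_self χ.2] at h
    simp only [CT.extendByZero_coe, map_one, one_mul] at h
    have hP : (Nat.card P : ℂ) ≠ 0 := CT.card_ne_zero
    field_simp at h
    exact h.symm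
  have hcen : ∀ u : P, (u : G) ∈ Subgroup.center G → qVal p P χ (u : G) (A u) = (z : ℂ) :=
    fun u hu => by rw [qVal_central hM hmax hχ hu (hA u), hz]
  have hex : ∀ u : {u : P // (u : G) ∉ Subgroup.center G}, ∃ a : ℂ, a ≠ 0 ∧
      a ∈ Subring.closure {w : ℂ | w ^ Nat.card G = 1} ∧
      qVal p P χ (u.1 : G) (A u.1) = (Complex.normSq a : ℂ) := by
    intro u
    obtain ⟨f, hfb, hf⟩ := exists_belAt hM hmax u.1
    rw [belAt_unique hM hmax (hA u.1) hf]
    have hx : ∃ k : ℕ, (u.1 : G) ^ p ^ k = 1 := exists_pow_eq_one_of_isPGroup hmax.1.1.1 u.1.2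
    exact exists_qVal_eq hM hnil hmax hχ h0 u.1 hfb hf (IH u.1 u.2 f
      (isNilpotentBlock_centralizer hM hnil
        (isBrauerPairOf_of_inB hM hB hx hfb (inB_of_belAt hM hmax hf))))
  choose a ha0 haS haq using hex
  obtain ⟨m, hm⟩ : ∃ m : ℕ, m = (Finset.univ.filter fun u : P => (u : G) ∈ Subgroup.center G).card :=
    ⟨_, rfl⟩
  have hm1 : 1 ≤ m := hm ▸ Finset.card_pos.mpr
    ⟨1, Finset.mem_filter.mpr ⟨Finset.mem_univ _, Subgroup.one_mem _⟩⟩
  have hcard : Fintype.card {u : P // (u : G) ∉ Subgroup.center G} + m = Nat.card P := by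
    rw [Fintype.card_subtype, hm, add_comm, Finset.card_filter_add_card_filter_not, Finset.card_univ,
      Nat.card_eq_fintype_card]
  have hsum : ∑ u, Complex.normSq (a u) = (((Nat.card P : ℤ) - (m : ℤ) * z : ℤ) : ℝ) := by
    apply Complex.ofReal_injective
    push_cast
    rw [← htot, ← Finset.sum_filter_add_sum_filter_not Finset.univ
        (fun u : P => (u : G) ∈ Subgroup.center G),
      Finset.sum_congr rfl fun u hu => hcen u (Finset.mem_filter.mp hu).2, Finset.sum_const,
      nsmul_eq_mul, ← hm, add_sub_cancel_left,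
      Finset.sum_subtype (p := fun u : P => (u : G) ∉ Subgroup.center G) _ (fun x => by simp)]
    exact Finset.sum_congr rfl fun u _ => (haq u).symm
  have hle : (Nat.card P : ℤ) - (m : ℤ) * z ≤
      (Fintype.card {u : P // (u : G) ∉ Subgroup.center G} : ℤ) := by
    rw [← hcard]; push_cast; nlinarith
  have hall := normSq_eq_one_of_sum_le Nat.card_pos.ne' a ha0 haS _ hsum hle
  have hz' : z = 1 := by
    have h1 : ((Fintype.card {u : P // (u : G) ∉ Subgroup.center G} : ℤ) : ℝ) =
        (((Nat.card P : ℤ) - (m : ℤ) * z : ℤ) : ℝ) := by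
      rw [← hsum, Finset.sum_congr rfl fun u _ => hall u]
      simp
    have h2 : (Fintype.card {u : P // (u : G) ∉ Subgroup.center G} : ℤ) =
        (Nat.card P : ℤ) - (m : ℤ) * z := by exact_mod_cast h1
    rw [← hcard] at h2
    push_cast at h2
    have h3 : (m : ℤ) * (z - 1) = 0 := by linarith
    rcases mul_eq_zero.mp h3 with h4 | h4
    · omega
    · omega
  refine ⟨fun u => ?_, by rw [hz, hz', Int.cast_one]⟩
  by_cases hu : (u : G) ∈ Subgroup.center G
  · rw [hcen u hu, hz', Int.cast_one]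
  · rw [haq ⟨u, hu⟩, hall ⟨u, hu⟩, Complex.ofReal_one]

/-- One step of the induction. -/
theorem nilpotent_step (hM : IsPModular p M) [hp : Fact p.Prime] (hnil : IsNilpotentBlock p M B)
    (hmax : IsMaximalBrauerPair p M B P e) [Fintype P]
    (IH : ∀ u : P, (u : G) ∉ Subgroup.center G → ∀ [Fintype (cz (u : G))],
      ∀ f : Set (IrrCharacter (cz (u : G))), IsNilpotentBlock p M f → NilData p f) :
    ∃ χ₀ ∈ B, blockHeight p B (χ₀ : G → ℂ) = 0 ∧
      (p : ℂ) ^ blockDefect p B * bfPair p χ₀ χ₀ = 1 ∧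
      ∃ Φ : IrrCharacter P ≃ B, ∀ (ζ : IrrCharacter P) (y : G), ¬ p ∣ orderOf y →
        ((Φ ζ : IrrCharacter G) : G → ℂ) y = (ζ : P → ℂ) 1 * (χ₀ : G → ℂ) y := by
  classical
  have hB := hmax.1.2.1
  obtain ⟨χ, hχ, h0⟩ := exists_height_zero (p := p) hB
  choose f hfb hA using fun u : P => exists_belAt hM hmax u
  obtain ⟨hq, hnorm⟩ := qVal_eq_one hM hnil hmax hχ h0 IH hA
  obtain ⟨ψ, hψ⟩ : ∃ ψ : IrrCharacter P → G → ℂ, ψ = fun ζ : IrrCharacter P =>
      psi p (weight (M := M) p P e (extendByZero P (ζ : P → ℂ))) χ := ⟨_, rfl⟩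
  have hst : ∀ ζ : IrrCharacter P, Stable p M P e (extendByZero P (ζ : P → ℂ)) := fun ζ =>
    stable_of_nilpotent hM hnil hmax (CT.isClassFunction_of_isIrr ζ.2)
  have hinner : ∀ ζ ζ' : IrrCharacter P,
      classInner (ψ ζ) (ψ ζ') = if ζ = ζ' then 1 else 0 := by
    intro ζ ζ'
    simp only [hψ]
    rw [classInner_psi hM hnil hmax hχ (hst ζ) (hst ζ') hA, ← CT.irr_inner_subtype ζ ζ', classInner]
    simp only [CT.extendByZero_coe, hq, mul_one]
  have hreg : ∀ (ζ : IrrCharacter P) (y : G), ¬ p ∣ orderOf y →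
      ψ ζ y = (ζ : P → ℂ) 1 * (χ : G → ℂ) y := by
    intro ζ y hy
    simp only [hψ]
    rw [← sum_phi (M := M) (p := p) hM χ y, Finset.mul_sum, psi]
    refine Finset.sum_congr rfl fun a ha => ?_
    by_cases hi : InB M B (pPart p y) a
    · rw [pPart_of_regular hy] at ha hi ⊢
      obtain ⟨k, hk⟩ := exists_belAt_of_inB hM hmax ⟨0, one_pow _⟩ ha hi
      rw [weight_eq (hst ζ) hk, CT.extendByZero_mem P _ (belAt_mem hk),
        show (⟨k * 1 * k⁻¹, belAt_mem hk⟩ : P) = 1 from Subtype.ext (by simp)]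
    · rw [phi_eq_zero_of_not_inB hM hB hχ ha hi, mul_zero, mul_zero]
  have hirr : ∀ ζ : IrrCharacter P, ∃ η : B, ((η : IrrCharacter G) : G → ℂ) = ψ ζ := by
    intro ζ
    have hgen : IsGeneralizedCharacter G (ψ ζ) := by
      simp only [hψ]
      refine isGen_psi hM (isWeight_weight hM hmax (hst ζ) ?_) χ
      rw [show (fun x : P => extendByZero P (ζ : P → ℂ) (x : G)) = (ζ : P → ℂ) from
        funext fun x => CT.extendByZero_coe P _ x]
      exact CT.isGen_of_isIrr ζ.2
    have hpos : 0 < (ψ ζ 1).re := by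
      rw [hreg ζ 1 (by rw [orderOf_one]; exact hp.out.not_dvd_one), charDegree_cast, charDegree_cast,
        ← Nat.cast_mul, Complex.natCast_re]
      exact_mod_cast Nat.mul_pos (charDegree_pos ζ) (charDegree_pos χ)
    have h1 := CT.isIrr_of_isGen_norm_one hgen (by rw [hinner, if_pos rfl]) hpos
    exact ⟨⟨⟨_, h1⟩, mem_block_of_psi hM hB hχ (W := weight (M := M) p P e
      (extendByZero P (ζ : P → ℂ))) (by simp only [hψ])⟩, rfl⟩
  choose F hF using hirr
  refine ⟨χ, hχ, h0, hnorm, Equiv.ofBijective F ⟨fun ζ ζ' h => ?_, fun η => ?_⟩,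
    fun ζ y hy => by show ((F ζ : IrrCharacter G) : G → ℂ) y = _; rw [hF, hreg ζ y hy]⟩
  · by_contra hne
    have := hinner ζ ζ'
    rw [← hF ζ, ← hF ζ', h, CT.irr_inner_self (F ζ' : IrrCharacter G).2, if_neg hne] at this
    exact one_ne_zero this
  · by_contra hne
    push Not at hne
    apply bfPair_ne_zero hM hB hχ η.2 h0
    have hsum : (fun g => ∑ ζ : IrrCharacter P, (ζ : P → ℂ) 1 * ψ ζ g) =
        fun g => (Nat.card P : ℂ) * regFun p χ g := by
      funext g
      have hcol : ∀ v : P, ∑ ζ : IrrCharacter P, (ζ : P → ℂ) 1 * (ζ : P → ℂ) v =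
          if v = 1 then (Nat.card P : ℂ) else 0 := by
        intro v
        have h := CT.column_orthogonality v (1 : P)
        rw [Finset.sum_congr rfl fun (ζ : IrrCharacter P) _ => show (ζ : P → ℂ) 1 * (ζ : P → ℂ) v =
          (ζ : P → ℂ) v * conj ((ζ : P → ℂ) 1) by rw [charDegree_cast, map_natCast, mul_comm], h]
        by_cases hv : v = 1
        · rw [hv, if_pos (IsConj.refl _), if_pos rfl]
          congr 1
          rw [show Subgroup.centralizer ({(1 : P)} : Set P) = ⊤ from eq_top_iff.mpr fun w _ =>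
            Subgroup.mem_centralizer_singleton_iff.mpr (by simp), Subgroup.card_top]
        · rw [if_neg (fun hc => hv (isConj_one_left.mp hc)), if_neg hv]
      simp only [hψ, psi, Finset.mul_sum]
      rw [Finset.sum_comm]
      by_cases hg : p ∣ orderOf g
      · rw [regFun, if_pos hg, mul_zero]
        refine Finset.sum_eq_zero fun a ha => ?_
        by_cases hi : InB M B (pPart p g) a
        · obtain ⟨k, hk⟩ := exists_belAt_of_inB hM hmax (ppart_pow_eq_one (pPart_spec g)) ha hi
          rw [Finset.sum_congr rfl fun (ζ : IrrCharacter P) _ => show (ζ : P → ℂ) 1 *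
              (weight (M := M) p P e (extendByZero P (ζ : P → ℂ)) (pPart p g) a * phi p χ g a) =
              (ζ : P → ℂ) 1 * (ζ : P → ℂ) ⟨_, belAt_mem hk⟩ * phi p χ g a by
            rw [weight_eq (hst ζ) hk, CT.extendByZero_mem P _ (belAt_mem hk)]; ring,
            ← Finset.sum_mul, hcol, if_neg, zero_mul]
          intro he
          have hone : pPart p g = 1 := by
            simpa using congrArg Subtype.val he
          have hspec := pPart_spec (p := p) g
          rw [hone] at hspec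
          exact isPPart_one_iff.mp hspec hg
        · exact Finset.sum_eq_zero fun ζ _ => by
            rw [phi_eq_zero_of_not_inB hM hB hχ ha hi, mul_zero, mul_zero]
      · rw [regFun, if_neg hg, ← sum_phi (M := M) (p := p) hM χ g, Finset.mul_sum]
        refine Finset.sum_congr rfl fun a ha => ?_
        by_cases hi : InB M B (pPart p g) a
        · rw [pPart_of_regular hg] at ha hi ⊢
          obtain ⟨k, hk⟩ := exists_belAt_of_inB hM hmax ⟨0, one_pow _⟩ ha hi
          rw [Finset.sum_congr rfl fun (ζ : IrrCharacter P) _ => show (ζ : P → ℂ) 1 *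
              (weight (M := M) p P e (extendByZero P (ζ : P → ℂ)) 1 a * phi p χ g a) =
              (ζ : P → ℂ) 1 * (ζ : P → ℂ) ⟨_, belAt_mem hk⟩ * phi p χ g a by
            rw [weight_eq (hst ζ) hk, CT.extendByZero_mem P _ (belAt_mem hk)]; ring,
            ← Finset.sum_mul, hcol, if_pos (Subtype.ext (by simp))]
        · rw [Finset.sum_eq_zero fun ζ _ => by
            rw [phi_eq_zero_of_not_inB hM hB hχ ha hi, mul_zero, mul_zero],
            phi_eq_zero_of_not_inB hM hB hχ ha hi, mul_zero]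
    have hP : (Nat.card P : ℂ) ≠ 0 := CT.card_ne_zero
    apply mul_left_cancel₀ hP
    rw [mul_zero, bfPair, ← CT.classInner_smul_left,
      show (Nat.card P : ℂ) • regFun p χ = fun g => (Nat.card P : ℂ) * regFun p χ g from rfl, ← hsum,
      show (fun g => ∑ ζ : IrrCharacter P, (ζ : P → ℂ) 1 * ψ ζ g) =
        ∑ ζ : IrrCharacter P, (ζ : P → ℂ) 1 • ψ ζ from funext fun g => by
          simp [Finset.sum_apply],
      CT.classInner_sum_left]
    refine Finset.sum_eq_zero fun ζ _ => ?_
    rw [CT.classInner_smul_left, ← hF ζ, CT.irr_inner_subtype,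
      if_neg (fun h => hne ζ (Subtype.ext h)), mul_zero]

end Step

/-- Every block has a maximal pair. -/
theorem exists_maximal_of_block (hM : IsPModular p M) [Fact p.Prime] {G : Type u} [Group G] [Finite G]
    {B : Set (IrrCharacter G)} (hB : IsPBlock M B) :
    ∃ (P : Subgroup G) (e : Set (IrrCharacter (Subgroup.centralizer (P : Set G)))),
      IsMaximalBrauerPair p M B P e := by
  obtain ⟨χ, hχ⟩ := block_nonempty hB
  obtain ⟨u, hu⟩ : ∃ u, (bBar M B : MonoidAlgebra (Res M) G).coeff u ≠ 0 := by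
    by_contra h
    push Not at h
    have h0 : bBar M B = 0 := Subtype.ext (MonoidAlgebra.ext (Finsupp.ext fun u => by simpa using h u))
    have h1 := omegaBar_bBar_eq_one hB hχ
    rw [h0, map_zero] at h1
    exact zero_ne_one h1
  obtain ⟨f, hf, hocc⟩ := exists_occ hM (IsPGroup.of_bot (G := G) (p := p))
    (inv2_center _ (bBar M B).2)
    (by rw [← Subring.coe_mul, bBar_mul_self (blockCoeff_mem_loc hB)])
    (u := u) (fun q hq => by
      rw [SetLike.mem_coe, Subgroup.mem_bot] at hq
      rw [hq, one_mul, mul_one]) hu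
  obtain ⟨b, -, hb⟩ := exists_maximal hM
    (isBrauerPairOf_iff.mpr ⟨IsPGroup.of_bot, hf, hB, hocc⟩ : IsBrauerPairOf p M B ⊥ f)
  exact ⟨b.1, b.2, hb⟩

/-- The structure theorem for nilpotent blocks, by induction on the order. -/
theorem nilData (hM : IsPModular p M) [Fact p.Prime] : ∀ (n : ℕ) (H : Type u) [Group H] [Fintype H],
    Nat.card H = n → ∀ b : Set (IrrCharacter H), IsNilpotentBlock p M b → NilData p b := by
  intro n
  induction n using Nat.strong_induction_on with
  | _ n ih =>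
    intro H _ _ hn b hb
    classical
    obtain ⟨P, e, hmax⟩ := exists_maximal_of_block hM hb.1
    have hlt : ∀ u : P, (u : H) ∉ Subgroup.center H → Nat.card (cz (u : H)) < n := fun u hu => by
      rw [← hn]
      refine lt_of_le_of_ne (Subgroup.card_le_card_group _) fun h => hu ?_
      have htop := Subgroup.eq_top_of_card_eq _ h
      exact Subgroup.mem_center_iff.mpr fun v => (mem_cz.mp (htop ▸ Subgroup.mem_top v)).eq
    obtain ⟨χ₀, hχ₀, -, hnorm, Φ, hΦ⟩ := nilpotent_step hM hb hmax fun u hu _ f hf =>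
      ih _ (hlt u hu) (cz (u : H)) rfl f hf
    refine ⟨χ₀, hχ₀, hnorm, fun η hη => ?_⟩
    refine ⟨charDegree ((Φ.symm ⟨η, hη⟩ : IrrCharacter P) : P → ℂ), fun y hy => ?_⟩
    have := hΦ (Φ.symm ⟨η, hη⟩) y hy
    rw [Equiv.apply_symm_apply] at this
    rw [this, charDegree_cast]

/-- The characters of a nilpotent block and those of the defect group of a maximal pair. -/
theorem exists_nilpotent_equiv (hM : IsPModular p M) [Fact p.Prime] {G : Type u} [Group G]
    [Fintype G] {B : Set (IrrCharacter G)} (hnil : IsNilpotentBlock p M B) {P : Subgroup G}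
    {e : Set (IrrCharacter (Subgroup.centralizer (P : Set G)))}
    (hmax : IsMaximalBrauerPair p M B P e) :
    ∃ χ₀ ∈ B, blockHeight p B (χ₀ : G → ℂ) = 0 ∧ ∃ Φ : IrrCharacter P ≃ B,
      (∀ (ζ : IrrCharacter P) (y : G), ¬ p ∣ orderOf y →
        ((Φ ζ : IrrCharacter G) : G → ℂ) y = (ζ : P → ℂ) 1 * (χ₀ : G → ℂ) y) ∧
      ∀ ζ : IrrCharacter P, blockHeight p B ((Φ ζ : IrrCharacter G) : G → ℂ) =
        (charDegree (ζ : P → ℂ)).factorization p := by
  haveI := Fintype.ofFinite P
  obtain ⟨χ₀, hχ₀, h0, -, Φ, hΦ⟩ := nilpotent_step hM hnil hmax fun u _ _ f hf =>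
    nilData hM _ (cz (u : G)) rfl f hf
  refine ⟨χ₀, hχ₀, h0, Φ, hΦ, fun ζ => ?_⟩
  have hdeg : charDegree ((Φ ζ : IrrCharacter G) : G → ℂ) =
      charDegree (ζ : P → ℂ) * charDegree (χ₀ : G → ℂ) := by
    have h := hΦ ζ 1 (by rw [orderOf_one]; exact (Fact.out : p.Prime).not_dvd_one)
    rw [charDegree_cast, charDegree_cast, charDegree_cast] at h
    exact_mod_cast h
  have hle : sInf ((fun χ : IrrCharacter G => (charDegree (χ : G → ℂ)).factorization p) '' B) ≤
      (charDegree (χ₀ : G → ℂ)).factorization p := Nat.sInf_le ⟨χ₀, hχ₀, rfl⟩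
  unfold blockHeight at h0 ⊢
  rw [hdeg, Nat.factorization_mul (charDegree_pos ζ).ne' (charDegree_pos χ₀).ne', Finsupp.add_apply]
  omega

end Cfsg.Agent.Blocks
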