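import Cfsg.Agent.Lib.Blocks.RankBasics
import Cfsg.Agent.Lib.Blocks.StarWeight
import Cfsg.Agent.Lib.Blocks.NilMain
import Cfsg.Prelude.Def_BlockLocal

/-!
# Local divisibility of values by centralizer orders

A combination of characters vanishing on the singular elements is, at a regular element, divisible
by the order of the centralizer; so is the part of a character at a section, up to the defect.
-/

set_option linter.unusedSectionVars false

namespace Cfsg.Agent.Blocks.CycPerf

open MonoidAlgebra BPairs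
open scoped ComplexConjugate

universe u

variable {G : Type u} [Group G] [Fintype G] {p : ℕ} [hp : Fact p.Prime] {M : Ideal AlgInt}
  [M.IsPrime]

theorem irr_mem_loc (χ : IrrCharacter G) (g : G) : (χ : G → ℂ) g ∈ Loc M :=
  integral_mem_loc (isIntegral_irr χ.2 g)

theorem phi_mem_loc (θ : IrrCharacter G) (g : G) (e : MonoidAlgebra (Res M) G) :
    phi p θ g e ∈ Loc M := by
  rw [phi, liftVal]
  split_ifs with h
  · exact SetLike.coe_mem _
  · exact zero_mem _

/-- The order of a regular element commuting with a singular one does not cancel it. -/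
theorem dvd_orderOf_mul {x v : G} (hc : Commute x v) (hx : ¬ p ∣ orderOf x) (hv : p ∣ orderOf v) :
    p ∣ orderOf (x * v) := by
  by_contra h
  have h1 : orderOf v ∣ Nat.lcm (orderOf x⁻¹) (orderOf (x * v)) := by
    have := (((Commute.refl x).mul_right hc).inv_left).orderOf_mul_dvd_lcm
    rwa [inv_mul_cancel_left] at this
  rw [orderOf_inv] at h1
  exact ((hp.out.dvd_mul).mp ((hv.trans h1).trans (Nat.lcm_dvd_mul _ _))).elim hx h

/-- A combination of characters vanishing at the singular elements, at a regular element. -/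
theorem div_centralizer_of_vanish (hM : IsPModular p M) (c : IrrCharacter G → ℂ)
    (hc : ∀ χ, c χ ∈ Loc M) (h : ∀ v, p ∣ orderOf v → ∑ χ, c χ * (χ : G → ℂ) v = 0) {x : G}
    (hx : ¬ p ∣ orderOf x) :
    (∑ χ, c χ * (χ : G → ℂ) x) / (Nat.card (Subgroup.centralizer ({x} : Set G)) : ℂ) ∈ Loc M := by
  classical
  obtain ⟨C, hC⟩ : ∃ C : Subgroup G, C = Subgroup.centralizer ({x} : Set G) := ⟨_, rfl⟩
  rw [← hC]
  have hxC : x ∈ C := by rw [hC]; exact Subgroup.mem_centralizer_singleton_iff.mpr rfl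
  have hxc : (⟨x, hxC⟩ : C) ∈ Subgroup.center C := Subgroup.mem_center_iff.mpr fun w =>
    Subtype.ext (Subgroup.mem_centralizer_singleton_iff.mp (hC ▸ w.2))
  haveI := Fintype.ofFinite C
  choose ω hω using fun ψ : IrrCharacter C => exists_scalar_central ψ hxc
  have hω' : ∀ ψ : IrrCharacter C, ω ψ ∈ Loc M := fun ψ => by
    have hpow : ω ψ ^ orderOf (⟨x, hxC⟩ : C) = 1 :=
      scalar_pow_eq_one ψ (hω ψ) (pow_orderOf_eq_one _)
    exact integral_mem_loc (IsIntegral.of_pow (orderOf_pos _) (by rw [hpow]; exact isIntegral_one))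
  obtain ⟨d, hd⟩ : ∃ d : IrrCharacter C → ℂ, d = fun ψ : IrrCharacter C =>
      (∑ χ, c χ * classInner (fun v : C => (χ : G → ℂ) v) (ψ : C → ℂ)) * ω ψ := ⟨_, rfl⟩
  have hdL : ∀ ψ, d ψ ∈ Loc M := fun ψ => by
    rw [hd]
    refine mul_mem (sum_mem fun χ _ => mul_mem (hc χ) ?_) (hω' ψ)
    obtain ⟨n, hn⟩ := CT.isGen_inner_int (CT.isGen_restrict C (CT.isGen_of_isIrr χ.2))
      (CT.isGen_of_isIrr ψ.2)
    rw [hn]; exact intCast_mem _ _
  have hsum : ∀ v : C, ∑ ψ, d ψ * (ψ : C → ℂ) v = ∑ χ, c χ * (χ : G → ℂ) (x * v) := fun v => by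
    have hres : ∀ χ : IrrCharacter G, (χ : G → ℂ) (x * v) =
        ∑ ψ : IrrCharacter C, classInner (fun v : C => (χ : G → ℂ) v) (ψ : C → ℂ) *
          (ω ψ * (ψ : C → ℂ) v) := fun χ => by
      have := congrFun (CT.classFunction_eq_sum (f := fun h : C => (χ : G → ℂ) h)
        fun a b => by simpa using (CT.isClassFunction_of_isIrr χ.2) (a : G) (b : G))
        (⟨x, hxC⟩ * v)
      simp only [Finset.sum_apply, Pi.smul_apply, smul_eq_mul, Subgroup.coe_mul] at this
      rw [this]
      exact Finset.sum_congr rfl fun ψ _ => by rw [hω]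
    simp only [hd, Finset.sum_mul]
    rw [Finset.sum_comm]
    refine Finset.sum_congr rfl fun χ _ => ?_
    rw [hres, Finset.mul_sum]
    exact Finset.sum_congr rfl fun ψ _ => by ring
  obtain ⟨n, hn, hnL⟩ := exists_eq_pow_mul (G := C) (M := M) hp.out d hdL fun v hv => by
    rw [hsum]
    refine h _ (dvd_orderOf_mul ?_ hx (by rwa [Subgroup.orderOf_coe]))
    exact (Subgroup.mem_centralizer_singleton_iff.mp (hC ▸ v.2)).symm
  rw [hsum, Subgroup.coe_one, mul_one] at hn
  rw [hn]
  obtain ⟨m, hm⟩ : ∃ m, m = Nat.card C / p ^ (Nat.card C).factorization p := ⟨_, rfl⟩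
  have hcard : (Nat.card C : ℂ) = (p : ℂ) ^ (Nat.card C).factorization p * (m : ℂ) := by
    rw [hm]; exact_mod_cast (Nat.ordProj_mul_ordCompl_eq_self (Nat.card C) p).symm
  have hpm : ¬ p ∣ m := hm ▸ Nat.not_dvd_ordCompl hp.out Nat.card_pos.ne'
  have hp0 : (p : ℂ) ^ (Nat.card C).factorization p ≠ 0 :=
    pow_ne_zero _ (Nat.cast_ne_zero.mpr hp.out.ne_zero)
  rw [hcard, mul_div_mul_left _ _ hp0, div_eq_mul_inv]
  exact mul_mem hnL (inv_mem_loc (natCast_mem _ _) (mt (memLocalIdeal_natCast hM m).mp hpm))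

theorem pow_mul_bfPair_mem {B : Set (IrrCharacter G)} (hM : IsPModular p M) {N : ℕ}
    (hN : blockDefect p B ≤ N) {χ : IrrCharacter G} (hχ : χ ∈ B) (ψ : IrrCharacter G) :
    (p : ℂ) ^ N * bfPair p χ ψ ∈ Loc M := by
  obtain ⟨z, hz⟩ := exists_int_bfPair hM hχ ψ
  rw [← Nat.sub_add_cancel hN, pow_add, mul_assoc, hz]
  exact mul_mem (pow_mem (natCast_mem _ _) _) (intCast_mem _ _)

/-- The order of the defect group times a part at a section is divisible by the centralizer. -/
theorem phi_div_centralizer (hM : IsPModular p M) {B : Set (IrrCharacter G)} (hB : IsPBlock M B)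
    {χ : IrrCharacter G} (hχ : χ ∈ B) {g : G} {a : MonoidAlgebra (Res M) G}
    (ha : a ∈ blkIdem M (pPart p g)) :
    (p : ℂ) ^ blockDefect p B * phi p χ g a /
      (Nat.card (Subgroup.centralizer ({g} : Set G)) : ℂ) ∈ Loc M := by
  classical
  by_cases hin : InB M B (pPart p g) a
  swap
  · rw [phi_eq_zero_of_not_inB hM hB hχ ha hin, mul_zero, zero_div]; exact zero_mem _
  obtain ⟨f, hf, rfl⟩ := mem_blkIdemS.mp ha
  obtain ⟨x, hxdef⟩ : ∃ x, x = pPart p g := ⟨_, rfl⟩
  obtain ⟨y, hxy, hcom, ⟨k, hk⟩, hy⟩ := id (pPart_spec (p := p) g)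
  have hx : ∃ k : ℕ, (pPart p g) ^ p ^ k = 1 := ⟨k, hk ▸ pow_orderOf_eq_one _⟩
  have hind : IsInducedBlock M (cz (pPart p g)) f B :=
    isInducedBlock_of_brauerPair hM (isBrauerPairOf_of_inB hM hB hx hf hin)
  have hdef : blockDefect p f ≤ blockDefect p B :=
    blockDefect_le_of_induced hM (isPGroup_zpowers hx) (Subgroup.zpowers_le.mpr (mem_cz_self _))
      le_rfl (Subgroup.centralizer_le_normalizer _) hind
  haveI := Fintype.ofFinite (cz (pPart p g))
  obtain ⟨c, hc0, hc1, hc⟩ := exists_coeff_phi hM hx χ hf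
  have hyK : y ∈ cz (pPart p g) := mem_cz.mpr hcom.symm.eq
  have hcL : ∀ ξ, c ξ ∈ Loc M := fun ξ => by
    by_cases hξ : ξ ∈ f
    · obtain ⟨w, j, hw, -, hcξ⟩ := hc1 ξ hξ
      rw [hcξ]
      exact mul_mem (natCast_mem _ _) (integral_mem_loc (IsIntegral.of_pow
        (pow_pos hp.out.pos j) (by rw [hw]; exact isIntegral_one)))
    · rw [hc0 ξ hξ]; exact zero_mem _
  obtain ⟨d, hd⟩ : ∃ d : IrrCharacter (cz (pPart p g)) → ℂ, d = fun η =>
      ∑ ξ, c ξ * ((p : ℂ) ^ blockDefect p B * bfPair p ξ η) := ⟨_, rfl⟩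
  have hdL : ∀ η, d η ∈ Loc M := fun η => by
    rw [hd]
    refine sum_mem fun ξ _ => ?_
    by_cases hξ : ξ ∈ f
    · exact mul_mem (hcL ξ) (pow_mul_bfPair_mem hM hdef hξ η)
    · rw [hc0 ξ hξ, zero_mul]; exact zero_mem _
  have hF : ∀ w, ∑ η, d η * (η : cz (pPart p g) → ℂ) w =
      (p : ℂ) ^ blockDefect p B * ∑ ξ, c ξ * regFun p ξ w := fun w => by
    simp only [hd, Finset.sum_mul]
    rw [Finset.sum_comm, Finset.mul_sum]
    refine Finset.sum_congr rfl fun ξ _ => ?_
    have h := congrFun (CT.classFunction_eq_sum (regFun_class (p := p) ξ)) w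
    simp only [Finset.sum_apply, Pi.smul_apply, smul_eq_mul] at h
    rw [h, Finset.mul_sum, Finset.mul_sum]
    exact Finset.sum_congr rfl fun η _ => by simp only [bfPair]; ring
  have hyr : ¬ p ∣ orderOf (⟨y, hyK⟩ : cz (pPart p g)) := by rwa [Subgroup.orderOf_mk]
  have hdiv := div_centralizer_of_vanish hM d hdL (fun w hw => by
    rw [hF, ← hc w, if_pos hw, mul_zero]) hyr
  rw [hF, ← hc ⟨y, hyK⟩, if_neg hyr] at hdiv
  have hcard : Nat.card (Subgroup.centralizer ({(⟨y, hyK⟩ : cz (pPart p g))} : Set _)) =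
      Nat.card (Subgroup.centralizer ({g} : Set G)) := by
    rw [card_centralizer_subgroup]
    congr 1
    have : Subgroup.centralizer ({y} : Set G) ⊓ cz (pPart p g) =
        Subgroup.centralizer ({g} : Set G) := by
      ext v
      rw [Subgroup.mem_inf, Subgroup.mem_centralizer_singleton_iff, mem_cz,
        Subgroup.mem_centralizer_singleton_iff]
      constructor
      · rintro ⟨h1, h2⟩
        rw [← hxy]
        exact (Commute.mul_right (h2 : Commute v _) (h1 : Commute v _)).eq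
      · intro h
        have h2 : Commute v (pPart p g) := by
          obtain ⟨i, hi⟩ := ppart_mem_zpowers (pPart_spec (p := p) g)
          rw [← hi]; exact Commute.zpow_right h i
        refine ⟨?_, h2.eq⟩
        rw [show y = (pPart p g)⁻¹ * g by rw [eq_inv_mul_iff_mul_eq]; exact hxy]
        exact (h2.inv_right.mul_right h).eq
    rw [this]
  rw [hcard, hxy] at hdiv
  exact hdiv

end Cfsg.Agent.Blocks.CycPerf
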