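import Cfsg.Agent.Lib.Blocks.CycPerfectParam
import Cfsg.Agent.Lib.Blocks.CycPerfectLocal
import Mathlib.Algebra.Polynomial.Roots

/-!
# Coordinates of a block with cyclic defect group

Everything a perfect isometry needs: the exceptional characters indexed by the linear characters
of the defect group up to the roots of unity of order `e`, the signs, the relations at regular
elements and the form of the values at singular elements.
-/

set_option linter.unusedSectionVars false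

namespace Cfsg.Agent.Blocks.CycPerf

open MonoidAlgebra BPairs

universe u v

/-- The natural numbers below `q` which are `e`-th roots of unity modulo `q`. -/
def roots (q e : ℕ) : Finset ℕ := (Finset.range q).filter fun m => m ^ e % q = 1 % q

theorem mem_roots {q e m : ℕ} : m ∈ roots q e ↔ m < q ∧ m ^ e ≡ 1 [MOD q] := by
  simp [roots, Nat.ModEq]

section Lin

variable {D : Type v} [Group D] [Finite D] [IsCyclic D]

theorem finite_lin : Finite (D →* ℂˣ) := by
  letI : CommGroup D := IsCyclic.commGroup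
  refine Nat.finite_of_card_ne_zero ?_
  rw [CommGroup.card_monoidHom_of_hasEnoughRootsOfUnity D ℂ]
  exact Nat.card_pos.ne'

theorem sum_lin [Fintype (D →* ℂˣ)] {w : D} (hw : w ≠ 1) : ∑ f : D →* ℂˣ, (f w : ℂ) = 0 := by
  letI : CommGroup D := IsCyclic.commGroup
  obtain ⟨φ, hφ⟩ := CommGroup.exists_apply_ne_one_of_hasEnoughRootsOfUnity D ℂ hw
  have h : ((φ w : ℂˣ) : ℂ) * ∑ f : D →* ℂˣ, (f w : ℂ) = ∑ f : D →* ℂˣ, (f w : ℂ) := by
    rw [Finset.mul_sum]
    exact Fintype.sum_equiv (Equiv.mulLeft φ) _ _ fun f => by simp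
  by_contra hne
  exact hφ (Units.val_eq_one.mp ((mul_eq_right₀ hne).mp h))

theorem card_lin : Nat.card (D →* ℂˣ) = Nat.card D := by
  letI : CommGroup D := IsCyclic.commGroup
  exact CommGroup.card_monoidHom_of_hasEnoughRootsOfUnity D ℂ

theorem lin_pow_mod (f : D →* ℂˣ) (m : ℕ) : f ^ (m % Nat.card D) = f ^ m := by
  refine MonoidHom.ext fun x => ?_
  rw [MonoidHom.pow_apply, MonoidHom.pow_apply, ← map_pow, ← map_pow, pow_mod_natCard]

/-- The nontrivial linear characters. -/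
noncomputable def nt (D : Type v) [Group D] [Finite D] [IsCyclic D] : Finset (D →* ℂˣ) :=
  haveI := finite_lin (D := D)
  letI := Fintype.ofFinite (D →* ℂˣ)
  haveI := Classical.decEq (D →* ℂˣ)
  Finset.univ.erase 1

theorem mem_nt {f : D →* ℂˣ} : f ∈ nt D ↔ f ≠ 1 := by simp [nt]

theorem sum_nt {w : D} (hw : w ≠ 1) : ∑ f ∈ nt D, (f w : ℂ) = -1 := by
  classical
  haveI := finite_lin (D := D)
  letI := Fintype.ofFinite (D →* ℂˣ)
  rw [nt, Finset.sum_erase_eq_sub (Finset.mem_univ _)]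
  simp [sum_lin hw]

theorem sum_nt_one : ∑ f ∈ nt D, (f (1 : D) : ℂ) = (Nat.card D : ℂ) - 1 := by
  classical
  haveI := finite_lin (D := D)
  letI := Fintype.ofFinite (D →* ℂˣ)
  rw [nt, Finset.sum_erase_eq_sub (Finset.mem_univ _)]
  simp [← Nat.card_eq_fintype_card, card_lin]

end Lin

open Classical in
/-- The coefficient of a character at a section of `D`. -/
noncomputable def dVal {ι : Type*} {D : Type v} [Group D] [Finite D] [IsCyclic D]
    (L : (D →* ℂˣ) → ι) (ε : ℤ) (bb : ι → ℤ) (χ : ι) (u : D) : ℂ :=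
  -(bb χ : ℂ) + (ε : ℂ) * ∑ f ∈ (nt D).filter (fun f => L f = χ), (f u : ℂ)

open Classical in
/-- The coordinates. -/
structure Coords (p : ℕ) (M : Ideal AlgInt) {G : Type u} [Group G] [Fintype G]
    (B : Set (IrrCharacter G)) (D : Type v) [Group D] [Finite D] [IsCyclic D] where
  e : ℕ
  L : (D →* ℂˣ) → IrrCharacter G
  ε : ℤ
  bb : IrrCharacter G → ℤ
  hε : ε = 1 ∨ ε = -1
  L_mem : ∀ f, f ≠ 1 → L f ∈ B
  L_eq : ∀ f g, f ≠ 1 → g ≠ 1 → (L g = L f ↔ ∃ m ∈ roots (Nat.card D) e, g = f ^ m)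
  inj : ∀ f : D →* ℂˣ, f ≠ 1 → ∀ m ∈ roots (Nat.card D) e, ∀ m' ∈ roots (Nat.card D) e,
    f ^ m = f ^ m' → m = m'
  card_roots : (roots (Nat.card D) e).card = e
  bb_L : ∀ f, f ≠ 1 → bb (L f) = 0
  bb_X : ∀ χ ∈ B, (∀ f, f ≠ 1 → L f ≠ χ) → bb χ = 1 ∨ bb χ = -1
  card_X : Nat.card {χ : IrrCharacter G // χ ∈ B ∧ ∀ f, f ≠ 1 → L f ≠ χ} = e
  reg : ∀ f, f ≠ 1 → ∀ y : G, ¬ p ∣ orderOf y →
    ∑ χ ∈ Finset.univ.filter (· ∈ B),
      ((bb χ : ℂ) + (ε : ℂ) * if L f = χ then 1 else 0) * (χ : G → ℂ) y = 0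
  sing : ∀ x : G, p ∣ orderOf x → ∃ W : D → ℂ, (∀ u, MemLocalRing M (W u)) ∧
    (∀ u, MemLocalRing M ((Nat.card D : ℂ) * W u /
      (Nat.card (Subgroup.centralizer ({x} : Set G)) : ℂ))) ∧ W 1 = 0 ∧
    ∀ χ ∈ B, (χ : G → ℂ) x = ∑ᶠ u, dVal L ε bb χ u * W u

end Cfsg.Agent.Blocks.CycPerf

namespace Cfsg.Agent.Blocks.Cyclic

open MonoidAlgebra BPairs CycPerf

universe u

variable {G : Type u} [Group G] [Fintype G] {p : ℕ} [hp : Fact p.Prime] {M : Ideal AlgInt}
  [M.IsPrime]

theorem card_centralizer_conj (y x : G) :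
    Nat.card (Subgroup.centralizer ({y * x * y⁻¹} : Set G)) =
      Nat.card (Subgroup.centralizer ({x} : Set G)) := by
  refine (Nat.card_congr (Equiv.subtypeEquiv (MulAut.conj y).toEquiv fun w => ?_)).symm
  rw [Subgroup.mem_centralizer_singleton_iff, Subgroup.mem_centralizer_singleton_iff,
    ← MulAut.conj_apply, MulEquiv.toEquiv_eq_coe, EquivLike.coe_coe, ← map_mul, ← map_mul,
    EquivLike.apply_eq_iff_eq]

namespace Setting

variable (S : Setting p M G)

theorem exists_card_eq_pow : ∃ n : ℕ, Nat.card S.Dc = p ^ n :=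
  ⟨_, S.card_D'.trans (card_defectGroup S.hM S.hB S.hPD)⟩

theorem isCyclic_Dc : IsCyclic S.Dc := S.cyclic_D'

theorem pow_eq_self_of_forall {u : S.Dc} (hu : ∀ x, x ∈ Subgroup.zpowers u) {m : ℕ}
    (h : ∀ f : S.Lin, f ^ m = f) : m ≡ 1 [MOD Nat.card S.Dc] := by
  haveI := S.isCyclic_Dc
  letI : CommGroup S.Dc := IsCyclic.commGroup
  rw [← orderOf_eq_card_of_forall_mem_zpowers hu, ← pow_eq_pow_iff_modEq, pow_one]
  by_contra hne
  obtain ⟨φ, hφ⟩ := CommGroup.exists_apply_ne_one_of_hasEnoughRootsOfUnity S.Dc ℂ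
    (show u ^ m * u⁻¹ ≠ 1 from fun h1 => hne (mul_inv_eq_one.mp h1))
  refine hφ ?_
  rw [map_mul, map_pow, map_inv, ← MonoidHom.pow_apply, h, mul_inv_cancel]

/-- The properties of the exponent. -/
theorem exists_roots : ∃ k : ℕ, (∀ f : S.Lin, S.tT • S.Lam f = S.Lam (f ^ k)) ∧
    (∀ i, (k ^ i) % Nat.card S.Dc ∈ roots (Nat.card S.Dc) S.e) ∧
    (∀ m ∈ roots (Nat.card S.Dc) S.e, ∃ i < S.e, k ^ i ≡ m [MOD Nat.card S.Dc]) ∧
    (roots (Nat.card S.Dc) S.e).card = S.e ∧
    ∀ f : S.Lin, f ≠ 1 → ∀ m ∈ roots (Nat.card S.Dc) S.e, ∀ m' ∈ roots (Nat.card S.Dc) S.e,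
      f ^ m = f ^ m' → m = m' := by
  classical
  haveI := S.isCyclic_Dc
  haveI := finite_lin (D := S.Dc)
  obtain ⟨k, hk⟩ := S.exists_exponent
  obtain ⟨n, hn⟩ := S.exists_card_eq_pow
  obtain ⟨u, hu⟩ := S.exists_gen
  have hiter : ∀ (i : ℕ) (f : S.Lin), (S.tT ^ i) • S.Lam f = S.Lam (f ^ (k ^ i)) := by
    intro i
    induction i with
    | zero => intro f; rw [pow_zero, one_smul, pow_zero, pow_one f]
    | succ i ih => intro f; rw [pow_succ, mul_smul, hk, ih, ← pow_mul f, pow_succ']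
  have he1 : k ^ S.e ≡ 1 [MOD Nat.card S.Dc] := S.pow_eq_self_of_forall hu fun f => by
    refine S.Lam.injective ?_
    rw [← hiter]
    exact S.smul_of_mem (by simpa [tT] using (S.hte S.e).mpr dvd_rfl) _
  have hq2 : 2 ≤ Nat.card S.Dc := S.card_D'.symm ▸ S.two_le_card
  have hpq : p ∣ Nat.card S.Dc := by
    rw [hn]; exact dvd_pow_self p fun h => by rw [hn, h, pow_zero] at hq2; omega
  have hno : ∀ i, i ≠ 0 → i < S.e → ¬ k ^ i ≡ 1 [MOD p] := by
    intro i hi0 hie h
    obtain ⟨f, hf⟩ := exists_prime_orderOf_dvd_card' (G := S.Lin) p ((card_lin (D := S.Dc)).symm ▸ hpq)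
    have hff : f ^ (k ^ i) = f := by
      refine Eq.trans ?_ (pow_one f)
      rw [pow_eq_pow_iff_modEq (x := f), hf]; exact h
    have hfix : (S.tT ^ i) • S.Lam f = S.Lam f := by rw [hiter, hff]
    have hnot : ((S.tT ^ i : S.T) : G) ∉ S.C := fun hm => hi0
      (Nat.eq_zero_of_dvd_of_lt ((S.hte i).mp (by simpa [tT] using hm)) hie)
    have h1 := S.eq_η hnot hfix
    rw [← S.Lam_one] at h1
    rw [S.Lam.injective h1, orderOf_one] at hf
    exact hp.out.ne_one hf.symm
  have hkp : (k : ZMod p) ^ S.e = 1 := by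
    have := (ZMod.natCast_eq_natCast_iff _ _ _).mpr (he1.of_dvd hpq)
    simpa using this
  have hk0 : (k : ZMod p) ≠ 0 := fun h => by
    rw [h, zero_pow S.e_pos.ne'] at hkp; exact zero_ne_one hkp
  have hinj : ∀ i j, i < S.e → j < S.e → (k : ZMod p) ^ i = (k : ZMod p) ^ j → i = j := by
    intro i j hi hj h
    wlog hle : i ≤ j generalizing i j
    · exact (this j i hj hi h.symm (le_of_not_ge hle)).symm
    obtain ⟨d, rfl⟩ := Nat.exists_eq_add_of_le hle
    by_contra hd
    refine hno d (by omega) (by omega) ((ZMod.natCast_eq_natCast_iff _ _ _).mp ?_)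
    rw [pow_add] at h
    push_cast
    exact mul_left_cancel₀ (pow_ne_zero i hk0) (h.symm.trans (mul_one _).symm)
  have hmem : ∀ i, (k ^ i) % Nat.card S.Dc ∈ roots (Nat.card S.Dc) S.e := fun i => by
    refine mem_roots.mpr ⟨Nat.mod_lt _ (by omega), ?_⟩
    refine ((Nat.mod_modEq _ _).pow _).trans ?_
    rw [← pow_mul, mul_comm, pow_mul]
    simpa using he1.pow i
  have hsurj : ∀ m ∈ roots (Nat.card S.Dc) S.e, ∃ i < S.e, k ^ i ≡ m [MOD Nat.card S.Dc] := by
    intro m hm
    have hm' := (mem_roots.mp hm).2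
    obtain ⟨I, hI⟩ : ∃ I, I = (Finset.range S.e).image fun i => (k : ZMod p) ^ i := ⟨_, rfl⟩
    obtain ⟨N, hN⟩ : ∃ N, N = (Polynomial.nthRoots S.e (1 : ZMod p)).toFinset := ⟨_, rfl⟩
    have hsub : I ⊆ N := fun x hx => by
      rw [hI, Finset.mem_image] at hx
      obtain ⟨i, -, rfl⟩ := hx
      rw [hN, Multiset.mem_toFinset, Polynomial.mem_nthRoots S.e_pos, ← pow_mul, mul_comm, pow_mul,
        hkp, one_pow]
    have hcard : N.card ≤ I.card := by
      rw [hI, Finset.card_image_of_injOn fun i hi j hj h =>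
        hinj i j (Finset.mem_range.mp hi) (Finset.mem_range.mp hj) h, Finset.card_range, hN]
      exact (Multiset.toFinset_card_le _).trans (Polynomial.card_nthRoots _ _)
    have hmN : (m : ZMod p) ∈ N := by
      rw [hN, Multiset.mem_toFinset, Polynomial.mem_nthRoots S.e_pos]
      have := (ZMod.natCast_eq_natCast_iff _ _ _).mpr (hm'.of_dvd hpq)
      simpa using this
    rw [← Finset.eq_of_subset_of_card_le hsub hcard, hI, Finset.mem_image] at hmN
    obtain ⟨i, hi, hi'⟩ := hmN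
    refine ⟨i, Finset.mem_range.mp hi, ?_⟩
    have hki : (k ^ i) ^ S.e ≡ 1 [MOD Nat.card S.Dc] := by
      rw [← pow_mul, mul_comm, pow_mul]; simpa using he1.pow i
    rw [hn] at hki hm' ⊢
    exact root_unique hp.out S.not_dvd_e S.e_pos hki hm'
      ((ZMod.natCast_eq_natCast_iff _ _ _).mp (by push_cast; exact hi'))
  refine ⟨k, hk, hmem, hsurj, ?_, ?_⟩
  · refine Eq.trans ?_ (Finset.card_range S.e)
    refine (Finset.card_bij (fun i _ => (k ^ i) % Nat.card S.Dc) (fun i _ => hmem i)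
      (fun i hi j hj h => hinj i j (Finset.mem_range.mp hi) (Finset.mem_range.mp hj) ?_)
      fun m hm => ?_).symm
    · have := (ZMod.natCast_eq_natCast_iff _ _ _).mpr (Nat.ModEq.of_dvd hpq
        (show k ^ i ≡ k ^ j [MOD Nat.card S.Dc] from h))
      simpa using this
    · obtain ⟨i, hi, h⟩ := hsurj m hm
      exact ⟨i, Finset.mem_range.mpr hi, Eq.trans h (Nat.mod_eq_of_lt (mem_roots.mp hm).1)⟩
  · intro f hf m hm m' hm' h
    have hpo : p ∣ orderOf f := by
      have hd : orderOf f ∣ p ^ n := hn ▸ card_lin (D := S.Dc) ▸ orderOf_dvd_natCard f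
      obtain ⟨j, -, hj⟩ := (Nat.dvd_prime_pow hp.out).mp hd
      rw [hj]
      exact dvd_pow_self p fun h0 => hf (orderOf_eq_one_iff.mp (by rw [hj, h0, pow_zero]))
    have h1 := ((pow_eq_pow_iff_modEq (x := f)).mp h).of_dvd hpo
    obtain ⟨hlt, hm1⟩ := mem_roots.mp hm
    obtain ⟨hlt', hm1'⟩ := mem_roots.mp hm'
    rw [hn] at hm1 hm1' hlt hlt'
    exact Nat.ModEq.eq_of_lt_of_lt (root_unique hp.out S.not_dvd_e S.e_pos hm1 hm1' h1) hlt hlt'

open Classical in
/-- The coordinates of the block. -/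
theorem exists_coords :
    haveI := S.isCyclic_Dc; ∃ C : Coords p M S.B S.Dc, C.e = S.e := by
  haveI := S.isCyclic_Dc
  haveI := finite_lin (D := S.Dc)
  letI := Fintype.ofFinite S.Lin
  obtain ⟨c, ε, bb, hε, hinj, hcB, hA, hbc, hX, hcard, -⟩ := S.exists_shape
  obtain ⟨k, hk, hmem, hsurj, hrc, hfree⟩ := S.exists_roots
  have hiter : ∀ (i : ℕ) (f : S.Lin), (S.tT ^ i) • S.Lam f = S.Lam (f ^ (k ^ i)) := by
    intro i
    induction i with
    | zero => intro f; rw [pow_zero, one_smul, pow_zero, pow_one f]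
    | succ i ih => intro f; rw [pow_succ, mul_smul, hk, ih, ← pow_mul f, pow_succ']
  have hne : ∀ f : S.Lin, f ≠ 1 → S.Lam f ≠ S.η := fun f hf h =>
    hf (S.Lam.injective (h.trans S.Lam_one.symm))
  obtain ⟨j₀⟩ : Nonempty S.J := Finite.card_pos_iff.mp S.card_J_pos
  have hidx : ∀ f : S.Lin, ∃ j : S.J, f ≠ 1 → ∃ s : S.T, s • S.rho j = S.Lam f := fun f => by
    by_cases hf : f = 1
    · exact ⟨j₀, fun h => absurd hf h⟩
    · obtain ⟨s, j, hs⟩ := S.exists_rho (hne f hf)
      exact ⟨j, fun _ => ⟨s, hs⟩⟩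
  choose jf hjf using hidx
  have hLeq : ∀ f g : S.Lin, f ≠ 1 → g ≠ 1 →
      (c (jf g) = c (jf f) ↔ ∃ m ∈ roots (Nat.card S.Dc) S.e, g = f ^ m) := by
    intro f g hf hg
    obtain ⟨s, hs⟩ := hjf f hf
    obtain ⟨s', hs'⟩ := hjf g hg
    constructor
    · intro h
      obtain ⟨i, hi, w, hw, he⟩ := S.exists_pow_mul (s' * s⁻¹)
      refine ⟨_, hmem i, S.Lam.injective ?_⟩
      rw [lin_pow_mod, ← hiter, ← hs', hinj h, ← inv_smul_eq_iff.mpr hs.symm, ← mul_smul, he,
        mul_smul, S.smul_of_mem hw]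
    · rintro ⟨m, hm, rfl⟩
      obtain ⟨i, -, hi⟩ := hsurj m hm
      have h1 : (S.tT ^ i) • S.Lam f = S.Lam (f ^ m) := by
        rw [hiter, ← lin_pow_mod f (k ^ i), hi, lin_pow_mod]
      refine congrArg c (S.eq_of_smul_rho (s := (s'⁻¹ * (S.tT ^ i * s))) ?_).symm
      rw [mul_smul, mul_smul, hs, h1, ← hs', inv_smul_smul]
  have hsurjJ : ∀ j : S.J, ∃ f : S.Lin, f ≠ 1 ∧ jf f = j := fun j => by
    have hf1 : S.Lam.symm (S.rho j) ≠ 1 := fun h => S.rho_ne j (by
      rw [← S.Lam_one, ← h, Equiv.apply_symm_apply])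
    obtain ⟨s, hs⟩ := hjf _ hf1
    rw [Equiv.apply_symm_apply] at hs
    exact ⟨_, hf1, S.eq_of_smul_rho hs⟩
  have hXiff : ∀ χ, (∀ f, f ≠ 1 → c (jf f) ≠ χ) ↔ ∀ j, c j ≠ χ := fun χ =>
    ⟨fun h j => by obtain ⟨f, hf, rfl⟩ := hsurjJ j; exact h f hf, fun h f _ => h _⟩
  have hd : ∀ χ ∈ S.B, ∀ f : S.Lin, f ≠ 1 →
      S.av χ (S.Lam f) = (bb χ : ℂ) + (ε : ℂ) * if c (jf f) = χ then 1 else 0 := fun χ hχ f hf => by
    obtain ⟨s, hs⟩ := hjf f hf
    rw [← hs, S.av_smul, ← S.coe_A, hA χ hχ]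
    simp only [eq_comm (a := χ)]
    push_cast
    ring
  refine ⟨{ e := S.e, L := fun f => c (jf f), ε := ε, bb := bb, hε := hε
            L_mem := fun f _ => hcB _
            L_eq := hLeq, inj := hfree, card_roots := hrc, bb_L := fun f _ => hbc _
            bb_X := fun χ hχ h => hX χ hχ ((hXiff χ).mp h)
            card_X := ?_, reg := ?_, sing := ?_ }, rfl⟩
  · have h1 : Nat.card {χ : IrrCharacter G // χ ∈ S.B ∧ ∀ f, f ≠ 1 → c (jf f) ≠ χ} =
        (S.BF \ Finset.univ.image c).card := by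
      rw [Nat.card_eq_fintype_card, Fintype.card_subtype]
      congr 1
      ext χ
      simp [hXiff, mem_BF]
    rw [h1, Finset.card_sdiff_of_subset (fun χ hχ => by
      obtain ⟨j, -, rfl⟩ := Finset.mem_image.mp hχ; exact S.mem_BF.mpr (hcB j)),
      Finset.card_image_of_injective _ hinj, Finset.card_univ, ← Nat.card_eq_fintype_card]
    have : S.BF.card = Nat.card S.B := by
      rw [Nat.card_eq_fintype_card]
      exact (Fintype.card_of_subtype S.BF fun χ => S.mem_BF).symm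
    omega
  · intro f hf y hy
    have h := S.orth_regular (jf f) hy
    refine Eq.trans (Finset.sum_congr (by ext; simp [mem_BF]) fun χ hχ => ?_) h
    rw [hA χ (S.mem_BF.mp hχ)]
    simp only [eq_comm (a := χ)]
    push_cast
    ring
  · intro x hx
    have hdefC : (p : ℂ) ^ blockDefect p S.b = (Nat.card S.Dc : ℂ) := by
      exact_mod_cast (card_defectGroup S.hM S.hb S.defect_b).symm
    obtain ⟨u₁, hu₁⟩ : ∃ u₁ : S.Dc, u₁ ≠ 1 := by
      by_contra h
      push Not at h
      have h1 : Nat.card S.Dc = 1 :=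
        Nat.card_eq_one_iff_unique.mpr ⟨⟨fun a b => (h a).trans (h b).symm⟩, ⟨1⟩⟩
      have h2 : 2 ≤ Nat.card S.Dc := S.card_D'.symm ▸ S.two_le_card
      omega
    have key : ∀ a ∈ blkIdem M (pPart p x), ∃ (w : S.Dc) (r : ℂ), w ≠ 1 ∧ r ∈ Loc M ∧
        (Nat.card S.Dc : ℂ) * r / (Nat.card (Subgroup.centralizer ({x} : Set G)) : ℂ) ∈ Loc M ∧
        ∀ χ ∈ S.B, phi p χ x a = dVal (fun f => c (jf f)) ε bb χ w * r := by
      intro a ha
      by_cases hin : InB M S.B (pPart p x) a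
      swap
      · exact ⟨u₁, 0, hu₁, zero_mem _, by rw [mul_zero, zero_div]; exact zero_mem _, fun χ hχ => by
          rw [phi_eq_zero_of_not_inB S.hM S.hB hχ ha hin, mul_zero]⟩
      obtain ⟨y, hy⟩ := exists_belAt_of_inB S.hM S.hmax (ppart_pow_eq_one (pPart_spec x)) ha hin
      have hu : y * pPart p x * y⁻¹ ∈ S.D := belAt_mem hy
      have hu1 : y * pPart p x * y⁻¹ ≠ 1 := fun h =>
        (isPPart_one_iff.mp (conj_eq_one_iff.mp h ▸ pPart_spec (p := p) x)) hx
      have hxC : y * x * y⁻¹ ∈ S.C := S.hcz hu hu1 (by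
        have := (mem_cz.mp (mem_cz_pPart (p := p) x)).map (MulAut.conj y)
        simpa using this.symm)
      obtain ⟨v, hv⟩ : ∃ v : S.C, (v : G) = y * x * y⁻¹ := ⟨⟨_, hxC⟩, rfl⟩
      have hpv : ((pPart p v : S.C) : G) = y * pPart p x * y⁻¹ := by
        rw [← pPart_coe, hv, pPart_conj]
      obtain ⟨a', ha', hin', he⟩ :=
        S.exists_of_belAt (u := pPart p v) (hpv ▸ hu) (hpv ▸ hu1) (hpv ▸ hy)
      obtain ⟨g, hg⟩ := exists_belAt_of_inB S.hM S.hmax' (ppart_pow_eq_one (pPart_spec v)) ha' hin'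
      rw [← pPart_conj] at hg
      obtain ⟨v', hv'⟩ : ∃ v', v' = g * v * g⁻¹ := ⟨_, rfl⟩
      rw [← hv'] at hg
      have hvG : (v' : G) = ((g : G) * y) * x * ((g : G) * y)⁻¹ := by
        rw [hv', Subgroup.coe_mul, Subgroup.coe_mul, Subgroup.coe_inv, hv]; group
      have hsing : p ∣ orderOf v' := by
        rw [← Subgroup.orderOf_coe, hvG, show ((g : G) * y) * x * ((g : G) * y)⁻¹ =
          MulAut.conj ((g : G) * y) x from rfl, MulEquiv.orderOf_eq]
        exact hx
      have hw1 : (⟨pPart p v', belAt_mem hg⟩ : S.Dc) ≠ 1 := fun h =>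
        (isPPart_one_iff.mp ((show pPart p v' = 1 from congrArg Subtype.val h) ▸
          pPart_spec (p := p) v')) hsing
      have ha'' : conjA g a' ∈ blkIdem M (pPart p v') := by
        rw [hv', pPart_conj]; exact conjA_mem_blkIdem g ha'
      have hcard : Nat.card (Subgroup.centralizer ({x} : Set G)) =
          Nat.card (Subgroup.centralizer ({v'} : Set S.C)) := by
        rw [card_centralizer_subgroup, inf_eq_left.mpr, hvG, card_centralizer_conj]
        intro w hw
        refine S.cz_le (Subgroup.mem_subgroupOf.mp (belAt_mem hg))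
          (fun h => hw1 (Subtype.ext (Subtype.ext h))) (mem_cz.mpr ?_)
        obtain ⟨i, hi⟩ := ppart_mem_zpowers (pPart_spec (p := p) v')
        rw [← hi, Subgroup.coe_zpow]
        exact (Commute.zpow_right (Subgroup.mem_centralizer_singleton_iff.mp hw) i).eq
      refine ⟨⟨pPart p v', belAt_mem hg⟩, phi p (S.η : IrrCharacter S.C) v' (conjA g a'), hw1,
        phi_mem_loc _ _ _, ?_, fun χ hχ => ?_⟩
      · rw [hcard, ← hdefC]
        exact phi_div_centralizer S.hM S.hb S.η.2 ha''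
      · have e1 : phi p χ (v' : G) (embH S.C (conjA g a')) = phi p χ x a := by
          rw [← conjA_embH, he, conjA_conjA, hvG,
            phi_conjA S.hM χ _ (blkIdem_mul_self ha) (blk_commute ha)]
        have hin'' : InB M S.b (pPart p v') (conjA g a') := by
          rw [hv', pPart_conj]; exact (inB_conj g _ _).mpr hin'
        rw [← e1, S.sum_mult_phi χ ha'' hin'',
          Finset.sum_congr rfl (g := fun θ => (mult χ θ - mult χ (S.η : IrrCharacter S.C)) *
              phi p θ v' (conjA g a') + mult χ (S.η : IrrCharacter S.C) * phi p θ v' (conjA g a'))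
            fun θ _ => by ring, Finset.sum_add_distrib, ← Finset.mul_sum]
        have hz : ∑ θ ∈ S.bF, phi p θ v' (conjA g a') = 0 := by
          convert S.sum_deg_phi hsing S.θ₀_mem (fun η hη w hw => S.agree hη hw) ha'' using 2
          ext θ; simp [mem_bF]
        rw [hz, mul_zero, add_zero]
        rw [Finset.sum_subtype S.bF (fun θ => S.mem_bF)
          (fun θ => (mult χ θ - mult χ (S.η : IrrCharacter S.C)) * phi p θ v' (conjA g a')),
          ← Equiv.sum_comp S.Lam]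
        rw [show dVal (fun f => c (jf f)) ε bb χ (⟨pPart p v', belAt_mem hg⟩ : S.Dc) =
          ∑ f : S.Lin, S.av χ (S.Lam f) * (f ⟨pPart p v', belAt_mem hg⟩ : ℂ) from ?_, Finset.sum_mul]
        · refine Finset.sum_congr rfl fun f _ => ?_
          rw [S.phi_Lam_belAt f (w := ⟨pPart p v', belAt_mem hg⟩) rfl hg, av]
          ring
        · rw [← Finset.sum_erase (a := (1 : S.Lin)) (f := fun f =>
              S.av χ (S.Lam f) * (f ⟨pPart p v', belAt_mem hg⟩ : ℂ)) Finset.univ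
            (by rw [S.Lam_one, S.av_η, zero_mul]), dVal]
          have hnt : (Finset.univ.erase (1 : S.Lin)) = nt S.Dc := by ext f; simp [mem_nt]
          rw [hnt, Finset.sum_congr (s₁ := nt S.Dc) rfl
            (g := fun f => ((bb χ : ℂ) + (ε : ℂ) * if c (jf f) = χ then 1 else 0) *
              (f ⟨pPart p v', belAt_mem hg⟩ : ℂ)) fun f hf => by rw [hd χ hχ f (mem_nt.mp hf)]]
          simp only [add_mul, Finset.sum_add_distrib, mul_assoc, ← Finset.mul_sum, sum_nt hw1,
            ite_mul, one_mul, zero_mul, ← Finset.sum_filter]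
          rw [mul_neg, mul_one]
          refine congrArg (fun t => -(bb χ : ℂ) + (ε : ℂ) * t) (Finset.sum_congr ?_ fun _ _ => rfl)
          ext; simp
    choose w r hw hr hrC hphi using key
    refine ⟨fun v => ∑ a ∈ (blkIdem M (pPart p x)).attach, if w a a.2 = v then r a a.2 else 0,
      fun v => ?_, fun v => ?_, Finset.sum_eq_zero fun a _ => if_neg (hw a a.2), fun χ hχ => ?_⟩
    · refine mem_loc_iff.mp (sum_mem fun a _ => ?_)
      split_ifs
      · exact hr a a.2
      · exact zero_mem _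
    · refine mem_loc_iff.mp ?_
      beta_reduce
      rw [Finset.mul_sum, Finset.sum_div]
      refine sum_mem fun a _ => ?_
      split_ifs
      · exact hrC a a.2
      · rw [mul_zero, zero_div]; exact zero_mem _
    · letI := Fintype.ofFinite S.Dc
      rw [finsum_eq_sum_of_fintype, ← sum_phi S.hM χ x, ← Finset.sum_attach]
      simp only [Finset.mul_sum]
      rw [Finset.sum_comm]
      refine Finset.sum_congr rfl fun a _ => ?_
      rw [hphi a a.2 χ hχ]
      simp

end Setting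

end Cfsg.Agent.Blocks.Cyclic
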