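import Cfsg.Agent.Lib.Blocks.Height

/-!
# The principal block idempotent modulo `p`
-/

namespace Cfsg.Agent.Blocks

open MonoidAlgebra
open scoped ComplexConjugate

universe u v

variable {G : Type u} [Group G] [Finite G] {p : ℕ} {M : Ideal AlgInt} [M.IsPrime]

set_option linter.unusedSectionVars false

open Classical in
/-- The indicator of the `p`-elements. -/
noncomputable def pInd (R : Type v) [CommRing R] (p : ℕ) (u : G) : R :=
  if ∃ k : ℕ, orderOf u = p ^ k then 1 else 0

theorem isClassFn_pInd {R : Type v} [CommRing R] : IsClassFn (pInd (G := G) R p) := fun g h => by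
  classical
  unfold pInd
  rw [show orderOf (h * g * h⁻¹) = orderOf g by rw [← MulAut.conj_apply, MulEquiv.orderOf_eq]]

theorem pInd_pow [Fact p.Prime] {R : Type v} [CommRing R] (u : G) (n : ℕ) :
    pInd R p (u ^ p ^ n) = pInd R p u := by
  classical
  unfold pInd
  refine if_congr ?_ rfl rfl
  constructor
  · rintro ⟨k, hk⟩
    have h1 : u ^ p ^ (n + k) = 1 := by
      rw [pow_add, pow_mul, ← hk, pow_orderOf_eq_one]
    obtain ⟨j, -, hj⟩ := (Nat.dvd_prime_pow Fact.out).mp (orderOf_dvd_of_pow_eq_one h1)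
    exact ⟨j, hj⟩
  · rintro ⟨k, hk⟩
    obtain ⟨j, -, hj⟩ := (Nat.dvd_prime_pow Fact.out).mp (hk ▸ orderOf_pow_dvd (p ^ n) : orderOf (u ^ p ^ n) ∣ p ^ k)
    exact ⟨j, hj⟩

theorem ev_pInd_nilpotent [Fact p.Prime] [CharP (Res M) p] {a : MonoidAlgebra (Res M) G}
    (ha : IsNilpotent a) : ev (pInd (Res M) p) a = 0 := by
  classical
  haveI := Fintype.ofFinite G
  obtain ⟨m, hm⟩ := ha
  have h := ev_pElem_pow a m (isClassFn_pInd (R := Res M) (p := p)) (fun u => by
    unfold pInd; split_ifs <;> simp [(Fact.out : p.Prime).ne_zero]) (fun u => pInd_pow u m)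
  rw [pow_eq_zero_of_le (Nat.lt_pow_self (Fact.out : p.Prime).one_lt).le hm, ev_zero] at h
  exact (pow_eq_zero_iff (pow_ne_zero _ (Fact.out : p.Prime).ne_zero)).mp h.symm

/-- The number of factorisations `g = x * y` into a `p`-element and a `p`-regular element. -/
theorem principalBlock_coeff_congr (hM : IsPModular p M) {g : G} (hg : ¬ p ∣ orderOf g) :
    MemLocalIdeal M (blockCoeff (principalBlock M G) g -
      (Nat.card {xy : G × G // (∃ k : ℕ, orderOf xy.1 = p ^ k) ∧ ¬ p ∣ orderOf xy.2 ∧
        xy.1 * xy.2 = g} : ℂ) / (Nat.card {y : G // ¬ p ∣ orderOf y} : ℂ)) := by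
  classical
  haveI : Fact p.Prime := ⟨hM.1⟩
  haveI := charP_res hM
  letI := Fintype.ofFinite G
  set R := Nat.card {y : G // ¬ p ∣ orderOf y} with hR
  set N := Nat.card {xy : G × G // (∃ k : ℕ, orderOf xy.1 = p ^ k) ∧ ¬ p ∣ orderOf xy.2 ∧
    xy.1 * xy.2 = g} with hN
  set one := CT.trivIrr G
  set B := principalBlock M G
  have hB : IsPBlock M B := isPBlock_blockOf one
  have h1B : one ∈ B := trivIrr_mem_principalBlock
  have hA := blockCoeff_mem_loc hB
  have hRS : regS M p one one = (R : Loc M) := by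
    refine Subtype.ext ?_
    have h := deg_mul_regS (M := M) (p := p) one one
    rw [CT.trivIrr_apply, one_mul] at h
    rw [h, regPair, hR, Nat.card_eq_fintype_card, Fintype.card_subtype]
    simp [one, Finset.sum_ite]
  have hR0 : red M (R : Loc M) ≠ 0 := by
    rw [← hRS]
    exact (red_regS_ne_zero_iff hM hB h1B h1B).mpr (blockHeight_trivial _)
  have hω : ∀ χ : IrrCharacter G, red M (omegaL M χ (regConj M p one)) =
      red M (R : Loc M) * omegaBar M χ (bBar M B) := by
    intro χ
    rw [omegaBar_bBar hA]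
    by_cases hχ : χ ∈ B
    · rw [if_pos hχ, mul_one, ← hRS]
      exact red_regS_congr (sameBlock_symm ((mem_block_iff hB h1B).mp hχ)) one
    · rw [if_neg hχ, mul_zero]
      have h0 := regS_eq_zero hM (χ := χ) (ψ := one) fun h =>
        hχ ((mem_block_iff hB h1B).mpr (sameBlock_symm h))
      rw [regS] at h0
      rw [h0, map_zero]
  set j : ZG (Res M) G := redZ M G (regConj M p one) - scalarZ (red M (R : Loc M)) * bBar M B
  have hj : IsNilpotent j := isNilpotent_of_omegaBar hM _ fun χ => by
    rw [map_sub, map_mul, omegaBar_scalarZ, omegaBar_redZ, hω, sub_self]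
  have hnil : ev (pInd (Res M) p) ((j : MonoidAlgebra (Res M) G) * single g⁻¹ 1) = 0 :=
    ev_pInd_nilpotent ((show Commute (j : MonoidAlgebra (Res M) G) (single g⁻¹ 1) from
      (Subring.mem_center_iff.mp j.2 _).symm).isNilpotent_mul_right (hj.map (Subring.subtype _)))
  -- the p-element pairing with the idempotent is its coefficient
  have hf : ev (pInd (Res M) p) ((bBar M B : MonoidAlgebra (Res M) G) * single g⁻¹ 1) =
      red M ⟨blockCoeff B g, hA g⟩ := by
    set T : G → Loc M := fun u => pInd (Loc M) p u - if u = 1 then 1 else 0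
    have hT : IsClassFn T := fun a c => by
      simp only [T, isClassFn_pInd (R := Loc M) (p := p) a c, conj_eq_one_iff]
    have h0 := ev_idem_eq_zero_of_ppart hM hT (e := (bIdem M B : MonoidAlgebra (Loc M) G))
      (congrArg Subtype.val (bIdem_mul_self hA)) (isPPart_one (by rwa [orderOf_inv]))
      (g := g⁻¹) (fun c _ _ => (Subring.mem_center_iff.mp (bIdem M B).2 _).symm) fun u hu => by
        have hreg := isPPart_one_iff.mp hu
        simp only [T, pInd]
        by_cases hu1 : u = 1
        · subst hu1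
          rw [if_pos ⟨0, by simp⟩, if_pos rfl, sub_self]
        · rw [if_neg hu1, sub_zero, if_neg]
          rintro ⟨k, hk⟩
          rcases Nat.eq_zero_or_pos k with rfl | hk0
          · exact hu1 (orderOf_eq_one_iff.mp (by rw [hk, pow_zero]))
          · exact hreg (hk ▸ dvd_pow_self p hk0.ne')
    have h2 : ev (pInd (Loc M) p) ((bIdem M B : MonoidAlgebra (Loc M) G) * single g⁻¹ 1) =
        ⟨blockCoeff B g, hA g⟩ := by
      rw [ev_mul_single, one_mul, ev_eq_sum] at h0 ⊢
      simp only [T, mul_sub, Finset.sum_sub_distrib, sub_eq_zero] at h0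
      rw [h0, Finset.sum_eq_single g]
      · simp [coeff_bIdem hA]
      · intro b _ hb
        rw [if_neg fun h => hb (mul_inv_eq_one.mp h), mul_zero]
      · simp
    rw [← h2, map_ev]
    congr 1
    · funext u; unfold pInd; split_ifs <;> simp
    · rw [bBar, coe_redZ, map_mul]; simp
  have hN' : (N : Res M) =
      ev (pInd (Res M) p) ((redZ M G (regConj M p one) : MonoidAlgebra (Res M) G) * single g⁻¹ 1) := by
    have e1 : N = (Finset.univ.filter fun u : G => ¬ p ∣ orderOf u ∧
        ∃ k : ℕ, orderOf (u * g⁻¹) = p ^ k).card := by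
      rw [hN, ← Fintype.card_subtype, ← Nat.card_eq_fintype_card]
      refine Nat.card_congr
        { toFun := fun xy => ⟨xy.1.2, xy.2.2.1, ?_⟩
          invFun := fun u => ⟨(g * u.1⁻¹, u.1), ?_, u.2.1, by group⟩
          left_inv := fun xy => Subtype.ext (Prod.ext (mul_inv_eq_iff_eq_mul.mpr xy.2.2.2.symm) rfl)
          right_inv := fun u => rfl }
      · have e : xy.1.2 * g⁻¹ = xy.1.1⁻¹ := by
          rw [mul_inv_eq_iff_eq_mul, eq_inv_mul_iff_mul_eq]; exact xy.2.2.2
        rw [e, orderOf_inv]; exact xy.2.1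
      · have e : g * u.1⁻¹ = (u.1 * g⁻¹)⁻¹ := by group
        show ∃ k, orderOf (g * u.1⁻¹) = p ^ k
        rw [e, orderOf_inv]; exact u.2.2
    rw [ev_mul_single, one_mul, ev_eq_sum, e1, Finset.card_filter, Nat.cast_sum]
    refine Finset.sum_congr rfl fun u _ => ?_
    rw [coe_redZ, coeff_map']
    have e2 := coe_coeff_regConj (M := M) (p := p) one u
    by_cases hu : p ∣ orderOf u
    · rw [show ((regConj M p one : ZG (Loc M) G) : MonoidAlgebra (Loc M) G).coeff u = 0 from
        Subtype.ext (by rw [e2, if_pos hu]; rfl)]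
      simp [hu]
    · rw [show ((regConj M p one : ZG (Loc M) G) : MonoidAlgebra (Loc M) G).coeff u = 1 from
        Subtype.ext (by rw [e2, if_neg hu]; simp [one]), map_one, one_mul]
      unfold pInd
      by_cases hp' : ∃ k : ℕ, orderOf (u * g⁻¹) = p ^ k <;> simp [hu, hp']
  have hsplit : (redZ M G (regConj M p one) : MonoidAlgebra (Res M) G) =
      red M (R : Loc M) • (bBar M B : MonoidAlgebra (Res M) G) + j := by
    ext u
    simp [j, scalarZ, coeff_single_one_mul]
  have hfin : (N : Res M) = red M (R : Loc M) * red M ⟨blockCoeff B g, hA g⟩ := by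
    rw [hN', hsplit, add_mul, ev_add, hnil, add_zero, smul_mul_assoc, ev_smul, hf]
  have hRI : ¬ MemLocalIdeal M (R : ℂ) := fun h => hR0 (red_eq_zero_iff.mpr (by simpa using h))
  have hRne : (R : ℂ) ≠ 0 := fun h => hRI (h ▸ memLocalIdeal_zero)
  refine memLocalIdeal_of_mul (b := (R : ℂ)) (sub_mem (hA g)
    (mul_mem (natCast_mem _ _) (inv_mem_loc (natCast_mem _ _) hRI))) (natCast_mem _ _) hRI ?_
  rw [mul_sub, mul_div_cancel₀ _ hRne]
  have e : red M ((R : Loc M) * ⟨blockCoeff B g, hA g⟩) = red M (N : Loc M) := by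
    rw [map_mul, map_natCast (red M) N, ← hfin]
  have := red_eq_iff.mp e
  simpa using this

end Cfsg.Agent.Blocks
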