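import Cfsg.Agent.Lib.Blocks.FirstMain
import Cfsg.Agent.Lib.Blocks.Kulshammer
import Cfsg.Agent.S0962
import Mathlib.LinearAlgebra.Dimension.Constructions

/-!
# Blocks of a group with a normal Sylow subgroup
-/

namespace Cfsg.Agent.Blocks

open MonoidAlgebra
open scoped ComplexConjugate

variable {G : Type*} [Group G] [Finite G] {p : ℕ} {M : Ideal AlgInt} [M.IsPrime]

set_option linter.unusedSectionVars false

theorem mem_of_pElement [Fact p.Prime] {P : Subgroup G} [P.Normal] (hidx : ¬ p ∣ P.index)
    {x : G} (hx : ∃ k : ℕ, orderOf x = p ^ k) : x ∈ P := by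
  obtain ⟨k, hk⟩ := hx
  rw [← QuotientGroup.eq_one_iff]
  have h1 : orderOf (QuotientGroup.mk x : G ⧸ P) ∣ p ^ k :=
    hk ▸ orderOf_map_dvd (QuotientGroup.mk' P) x
  have h2 : orderOf (QuotientGroup.mk x : G ⧸ P) ∣ P.index := orderOf_dvd_natCard _
  obtain ⟨j, -, hj⟩ := (Nat.dvd_prime_pow Fact.out).mp h1
  rcases Nat.eq_zero_or_pos j with rfl | hj0
  · exact orderOf_eq_one_iff.mp (by rw [hj, pow_zero])
  · exact absurd ((dvd_pow_self p hj0.ne').trans (hj ▸ h2)) hidx

theorem factorization_card_of_index [Fact p.Prime] {P : Subgroup G} (hP : IsPGroup p P)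
    (hidx : ¬ p ∣ P.index) : Nat.card P = p ^ (Nat.card G).factorization p := by
  obtain ⟨k, hk⟩ := IsPGroup.iff_card.mp hP
  have hp : p.Prime := Fact.out
  rw [hk, ← P.index_mul_card, Nat.factorization_mul Subgroup.index_ne_zero_of_finite Nat.card_pos.ne',
    Finsupp.coe_add, Pi.add_apply, Nat.factorization_eq_zero_of_not_dvd hidx, zero_add, hk,
    hp.factorization_pow, Finsupp.single_eq_same]

/-- With a normal Sylow subgroup `P`, the blocks correspond to the regular classes in `C(P)`. -/
theorem card_blocks_of_normal_sylow (hM : IsPModular p M) [Fact p.Prime] {P : Subgroup G}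
    [P.Normal] (hP : IsPGroup p P) (hidx : ¬ p ∣ P.index) :
    Nat.card {B : Set (IrrCharacter G) // IsPBlock M B} =
      Nat.card {C : ConjClasses G // ∀ n : G, ConjClasses.mk n = C →
        ¬ p ∣ orderOf n ∧ n ∈ Subgroup.centralizer (P : Set G)} := by
  classical
  haveI := charP_res hM
  letI := Fintype.ofFinite G
  set a := (Nat.card G).factorization p with ha
  have hPc : Nat.card P = p ^ a := factorization_card_of_index hP hidx
  refine le_antisymm ?_ ?_
  · have h := Cfsg.Agent.S0962.result (G := G) p M hM a
    have hall : ∀ B : Set (IrrCharacter G), IsPBlock M B → a ≤ blockDefect p B := fun B hB => by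
      obtain ⟨D, hD⟩ := exists_defectGroup (p := p) hB
      have h1 := Subgroup.card_le_of_le (normal_le_defect hM hB hP hD)
      rw [hPc, card_defectGroup hM hB hD] at h1
      exact (Nat.pow_le_pow_iff_right hM.1.one_lt).mp h1
    rw [Nat.card_congr (Equiv.subtypeEquivRight fun B => ⟨fun hB => ⟨hB, hall B hB⟩, fun hB => hB.1⟩ :
      {B : Set (IrrCharacter G) // IsPBlock M B} ≃ {B // IsPBlock M B ∧ a ≤ blockDefect p B})]
    refine h.trans (Nat.card_le_card_of_injective
      (fun C => ⟨C.1, ?_⟩) fun C C' e => Subtype.ext (congrArg (fun x => x.1) e))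
    obtain ⟨g, hgC, hreg, hd⟩ := C.2
    intro n hn
    obtain ⟨c, hc⟩ := isConj_iff.mp (ConjClasses.mk_eq_mk_iff_isConj.mp (hgC.trans hn.symm))
    have hPg : P ≤ Subgroup.centralizer ({g} : Set G) := by
      obtain ⟨S, -⟩ := exists_sylow_ge (p := p) (bot_le : (⊥ : Subgroup G) ≤ Subgroup.centralizer ({g} : Set G)) IsPGroup.of_bot
      have hSP : (S : Subgroup (Subgroup.centralizer ({g} : Set G))).map
          (Subgroup.centralizer ({g} : Set G)).subtype ≤ P := fun x hx => by
        obtain ⟨k, hk⟩ := IsPGroup.iff_orderOf.mp (S.isPGroup'.map _) ⟨x, hx⟩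
        exact mem_of_pElement hidx ⟨k, by rwa [Subgroup.orderOf_mk] at hk⟩
      have hcard : Nat.card P ≤ Nat.card ((S : Subgroup (Subgroup.centralizer ({g} : Set G))).map
          (Subgroup.centralizer ({g} : Set G)).subtype) := by
        rw [hPc, card_sylow_map]
        exact Nat.pow_le_pow_right hM.1.pos hd
      rw [← Subgroup.eq_of_le_of_card_ge hSP hcard]
      exact Subgroup.map_subtype_le _
    refine ⟨?_, ?_⟩
    · rw [← hc, show orderOf (c * g * c⁻¹) = orderOf g by rw [← MulAut.conj_apply, MulEquiv.orderOf_eq]]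
      exact hreg
    · rw [← hc]
      refine (centralizer_conj_mem ?_).mpr (le_centralizer_singleton.mp hPg)
      rw [Subgroup.normalizer_eq_top]; trivial
  · let k := Res M
    let S := {B : Set (IrrCharacter G) // IsPBlock M B}
    let T := {C : ConjClasses G // ∀ n : G, ConjClasses.mk n = C →
        ¬ p ∣ orderOf n ∧ n ∈ Subgroup.centralizer (P : Set G)}
    show Nat.card T ≤ Nat.card S
    haveI : Fintype S := Fintype.ofFinite _
    haveI : Fintype T := Fintype.ofFinite _
    choose χ hχ using fun B : S => block_nonempty B.2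
    let v : T → S → k := fun C B => omegaBar M (χ B) (classSumZ (Res M) (rep C.1))
    have hli : LinearIndependent k v := by
      rw [Fintype.linearIndependent_iff]
      intro c hc C
      set z : ZG (Res M) G := ∑ C' : T, scalarZ (c C') * classSumZ (Res M) (rep C'.1) with hz
      have hnil : IsNilpotent z := isNilpotent_of_omegaBar hM z fun η => by
        let B : S := ⟨blockOf M (η : G → ℂ), isPBlock_blockOf η⟩
        have h0 := congrFun hc B
        simp only [Finset.sum_apply, Pi.smul_apply, smul_eq_mul, Pi.zero_apply, v] at h0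
        rw [omegaBar_eq_of_sameBlock ((mem_block_iff B.2 (self_mem_blockOf η)).mp (hχ B)), map_sum]
        refine Eq.trans (Finset.sum_congr rfl fun x _ => ?_) h0
        rw [map_mul]
        exact congrArg (· * _) (omegaBar_scalarZ _ _)
      set h := rep C.1
      have hh : ¬ p ∣ orderOf h ∧ h ∈ Subgroup.centralizer (P : Set G) := C.2 h (mk_rep _)
      have hcoeff : ∀ u, (z : MonoidAlgebra (Res M) G).coeff u =
          ∑ C' : T, c C' * classInd (Res M) (rep C'.1) u := fun u => by
        rw [hz]
        push_cast
        simp [coeff_sum, Finset.sum_apply', scalarZ, coeff_single_one_mul, classSum]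
      have e0 := ev_pInd_nilpotent (p := p) ((show Commute (z : MonoidAlgebra (Res M) G) (single h⁻¹ 1) from
        (Subring.mem_center_iff.mp z.2 _).symm).isNilpotent_mul_right (hnil.map (Subring.subtype _)))
      rw [ev_mul_single, one_mul, ev_eq_sum, Finset.sum_eq_single h] at e0
      · rw [hcoeff, Finset.sum_eq_single C] at e0
        · rw [classInd_self, mul_one] at e0
          unfold pInd at e0
          rw [if_pos ⟨0, by simp⟩, mul_one] at e0
          exact e0
        · intro C' _ hne
          rw [classInd_neg, mul_zero]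
          intro hconj
          exact hne (Subtype.ext (by
            rw [← mk_rep C'.1, ← mk_rep C.1]; exact ConjClasses.mk_eq_mk_iff_isConj.mpr hconj))
        · simp
      · intro u _ hu
        by_cases hu0 : (z : MonoidAlgebra (Res M) G).coeff u = 0
        · rw [hu0, zero_mul]
        have huT : ¬ p ∣ orderOf u ∧ u ∈ Subgroup.centralizer (P : Set G) := by
          rw [hcoeff] at hu0
          obtain ⟨C', -, hC'⟩ := Finset.exists_ne_zero_of_sum_ne_zero hu0
          have hconj : IsConj (rep C'.1) u := by
            by_contra hn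
            exact hC' (by rw [classInd_neg hn, mul_zero])
          exact C'.2 u (by rw [← mk_rep C'.1]; exact (ConjClasses.mk_eq_mk_iff_isConj.mpr hconj).symm)
        unfold pInd
        rw [if_neg, mul_zero]
        rintro hx
        apply hu
        have hxP := mem_of_pElement hidx hx
        obtain ⟨j, hj⟩ := hx
        have hcom : Commute (u * h⁻¹) h := Subgroup.mem_centralizer_iff.mp hh.2 _ hxP
        have h1 := isPPart_mk (p := p) hcom ⟨j, hj ▸ pow_orderOf_eq_one _⟩ hh.1
        rw [inv_mul_cancel_right] at h1
        exact mul_inv_eq_one.mp (ppart_unique h1 (isPPart_one huT.1))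
      · simp
    have := hli.fintype_card_le_finrank
    rw [Module.finrank_pi] at this
    rwa [Nat.card_eq_fintype_card, Nat.card_eq_fintype_card]

end Cfsg.Agent.Blocks
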