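import Cfsg.Agent.Lib.Blocks.NormalPSupport

/-!
# A group with a self-centralizing normal `p`-subgroup has one block
-/

set_option linter.unusedSectionVars false

namespace Cfsg.Agent.Blocks

open MonoidAlgebra

variable {G : Type*} [Group G] [Finite G] {p : ℕ} {M : Ideal AlgInt} [M.IsPrime]

/-- An idempotent supported on a `p`-subgroup is trivial. -/
theorem idem_eq_one_of_supp [Fact p.Prime] {k : Type*} [Field k] [CharP k p] {Q : Subgroup G}
    (hQ : IsPGroup p Q) {e : MonoidAlgebra k G} (he : e ≠ 0) (hee : e * e = e)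
    (hsupp : ∀ u ∉ Q, e.coeff u = 0) (hcomm : ∀ q ∈ Q, Commute e (single q 1)) : e = 1 := by
  classical
  haveI := Fintype.ofFinite G
  set ε : k := ∑ q : G, if q ∈ Q then e.coeff q else 0 with hε
  have h : e * subgroupSum k Q = single 1 ε * subgroupSum k Q := by
    ext u
    rw [coeff_mul_subgroupSum, coeff_single_one_mul]
    simp only [subgroupSum, coeff_ofFun]
    by_cases hu : u ∈ Q
    · rw [if_pos hu, mul_one, hε]
      exact Fintype.sum_equiv (Equiv.mulLeft u) _ _ fun q => by
        simp [Q.mul_mem_cancel_left hu]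
    · rw [if_neg hu, mul_zero]
      refine Finset.sum_eq_zero fun q _ => ?_
      split_ifs with hq
      · exact hsupp _ fun h => hu ((Q.mul_mem_cancel_right hq).mp h)
      · rfl
  have hε0 : ε ≠ 0 := fun h0 => idem_mul_subgroupSum_ne_zero hQ he hee hcomm (by
    rw [h, h0]; simp)
  by_contra hne
  refine idem_mul_subgroupSum_ne_zero hQ (e := 1 - e) (fun h1 => hne (sub_eq_zero.mp h1).symm)
    (by simp [sub_mul, mul_sub, hee])
    (fun q hq => (Commute.one_left _).sub_left (hcomm q hq)) ?_
  have h2 : (1 - e) * (single 1 ε * subgroupSum k Q) = 0 := by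
    rw [← h, ← mul_assoc, sub_mul, one_mul, hee, sub_self, zero_mul]
  ext u
  have h3 := congrArg (fun x : MonoidAlgebra k G => x.coeff u) h2
  rw [← mul_assoc, ← ((single_one_comm ε (1 - e))), mul_assoc] at h3
  simp only [coeff_single_one_mul, coeff_zero, Finsupp.coe_zero, Pi.zero_apply, mul_eq_zero] at h3
  exact h3.resolve_left hε0

/-- If a normal `p`-subgroup contains its centralizer there is a single block. -/
theorem sameBlock_of_centralizer_le (hM : IsPModular p M) (P : Subgroup G)
    [P.Normal] (hP : IsPGroup p P) (hC : Subgroup.centralizer (P : Set G) ≤ P)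
    (χ ψ : IrrCharacter G) : SameBlock M (χ : G → ℂ) (ψ : G → ℂ) := by
  classical
  haveI : Fact p.Prime := ⟨hM.1⟩
  haveI := charP_res hM
  set B := blockOf M (χ : G → ℂ)
  have hB : IsPBlock M B := isPBlock_blockOf χ
  have hA := blockCoeff_mem_loc hB
  have hne : bBar M B ≠ 0 := fun h => by
    have := omegaBar_bBar hA χ
    rw [h, map_zero, if_pos (self_mem_blockOf χ)] at this
    exact zero_ne_one this
  have h1 : bBar M B = 1 := Subtype.ext (idem_eq_one_of_supp hP
    (fun h => hne (Subtype.ext h)) (congrArg Subtype.val (bBar_mul_self hA))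
    (fun u hu => coeff_bBar_eq_zero_of_notMem hP hB fun h => hu (hC h))
    fun q _ => (Subring.mem_center_iff.mp (bBar M B).2 _).symm)
  have := omegaBar_bBar hA ψ
  rw [h1, map_one] at this
  by_contra hc
  rw [if_neg (show ψ ∉ B from hc)] at this
  exact one_ne_zero this

end Cfsg.Agent.Blocks
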