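import Cfsg.Agent.Lib.Blocks.CycPerfectSetting
import Cfsg.Agent.Lib.Blocks.OneBlock
import Cfsg.Agent.Lib.Blocks.FullDefect

/-!
# The group `Q ⋊ C_e` with `Q` cyclic and self-centralizing

Its characters form one block with defect group `Q` and inertial index `e`; those not trivial on
`Q` are exceptional, up to the degenerate cases where signs cannot differ.
-/

set_option linter.unusedSectionVars false

namespace Cfsg.Agent.Blocks.CycFrob

open MonoidAlgebra BPairs CycPerf
open scoped commutatorElement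

universe u v

variable {F : Type u} [Group F] [Fintype F] {p : ℕ} [hp : Fact p.Prime] {Q : Subgroup F} {n e : ℕ}

theorem card_eq_index (hq : Nat.card Q = p ^ n) (hF : Nat.card F = p ^ n * e) : Q.index = e := by
  have := Q.card_mul_index
  rw [hq, hF] at this
  exact Nat.eq_of_mul_eq_mul_left (pow_pos hp.out.pos n) this

theorem normal_of_index (hq : Nat.card Q = p ^ n) (hF : Nat.card F = p ^ n * e) (he : e ∣ p - 1) :
    Q.Normal := by
  have hidx := card_eq_index hq hF
  have h2 := hp.out.two_le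
  have hep : e < p := by
    have := Nat.le_of_dvd (by omega) he
    omega
  have he0 : e ≠ 0 := hidx ▸ Subgroup.index_ne_zero_of_finite
  obtain ⟨P, hP⟩ := (IsPGroup.of_card hq).exists_le_sylow
  have hQP : Q = (P : Subgroup F) := by
    refine Subgroup.eq_of_le_of_card_ge hP (le_of_eq ?_)
    rw [P.card_eq_multiplicity, hq, hF, Nat.factorization_mul (pow_ne_zero _ hp.out.ne_zero) he0,
      Finsupp.add_apply, hp.out.factorization_pow, Finsupp.single_eq_same,
      Nat.factorization_eq_zero_of_lt hep, add_zero]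
  have h1 : Nat.card (Sylow p F) = 1 := by
    have hd := P.card_dvd_index
    rw [← hQP, hidx] at hd
    have hlt := (Nat.le_of_dvd (Nat.pos_of_ne_zero he0) hd).trans_lt hep
    exact (card_sylow_modEq_one p F).eq_of_lt_of_lt hlt hp.out.one_lt
  haveI : Subsingleton (Sylow p F) := (Nat.card_eq_one_iff_unique.mp h1).1
  rw [hQP]
  exact Sylow.normal_of_subsingleton P

theorem commutator_le_of_self_centralizing [hn : Q.Normal] (hcyc : IsCyclic Q)
    (hQC : Subgroup.centralizer (Q : Set F) = Q) : commutator F ≤ Q := by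
  haveI := hcyc
  obtain ⟨u, hu⟩ := IsCyclic.exists_generator (α := Q)
  have hpow : ∀ x : F, ∃ a : ℤ, x * (u : F) * x⁻¹ = (u : F) ^ a := fun x => by
    obtain ⟨a, ha⟩ := hu ⟨_, hn.conj_mem _ u.2 x⟩
    exact ⟨a, (congrArg Subtype.val ha).symm.trans rfl⟩
  have hconj : ∀ (x : F) (a : ℤ), x * (u : F) ^ a * x⁻¹ = (x * (u : F) * x⁻¹) ^ a := fun x a =>
    conj_zpow.symm
  rw [commutator_def, Subgroup.commutator_le]
  intro x _ y _
  obtain ⟨a, ha⟩ := hpow x
  obtain ⟨b, hb⟩ := hpow y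
  have h1 : (x * y) * (u : F) * (x * y)⁻¹ = (y * x) * (u : F) * (y * x)⁻¹ := by
    rw [show (x * y) * (u : F) * (x * y)⁻¹ = x * (y * (u : F) * y⁻¹) * x⁻¹ by group, hb, hconj, ha,
      show (y * x) * (u : F) * (y * x)⁻¹ = y * (x * (u : F) * x⁻¹) * y⁻¹ by group, ha, hconj, hb,
      ← zpow_mul, ← zpow_mul, mul_comm]
  have h2 : (y * x)⁻¹ * (x * y) ∈ Subgroup.centralizer (Q : Set F) := by
    refine Subgroup.mem_centralizer_iff.mpr fun w hw => ?_
    obtain ⟨i, hi⟩ := hu ⟨w, hw⟩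
    rw [show w = (u : F) ^ i from (congrArg Subtype.val hi).symm.trans rfl]
    refine (Commute.zpow_left ?_ i).eq
    show _ = _
    calc (u : F) * ((y * x)⁻¹ * (x * y))
        = (y * x)⁻¹ * ((y * x) * (u : F) * (y * x)⁻¹) * (x * y) := by group
      _ = (y * x)⁻¹ * ((x * y) * (u : F) * (x * y)⁻¹) * (x * y) := by rw [h1]
      _ = _ := by group
  rw [hQC] at h2
  have := hn.conj_mem _ h2 (y * x)
  rwa [show (y * x) * ((y * x)⁻¹ * (x * y)) * (y * x)⁻¹ = x * y * x⁻¹ * y⁻¹ by group,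
    ← commutatorElement_def] at this

theorem le_commutator [hn : Q.Normal] (hcyc : IsCyclic Q) (hq : Nat.card Q = p ^ n)
    (hF : Nat.card F = p ^ n * e) (he : e ∣ p - 1)
    (hQC : Subgroup.centralizer (Q : Set F) = Q) (he1 : e ≠ 1) : Q ≤ commutator F := by
  haveI := hcyc
  have hidx := card_eq_index hq hF
  have he0 : 0 < e := hidx ▸ Nat.pos_of_ne_zero Subgroup.index_ne_zero_of_finite
  have hpe : ¬ p ∣ e := fun h => by
    have h2 := hp.out.two_le
    have := Nat.le_of_dvd he0 h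
    have := Nat.le_of_dvd (by omega) he
    omega
  obtain ⟨u, hu⟩ := IsCyclic.exists_generator (α := Q)
  have hou : orderOf u = p ^ n := (orderOf_eq_card_of_forall_mem_zpowers hu).trans hq
  obtain ⟨x, hx⟩ : ∃ x, x ∉ Q := by
    by_contra h
    push Not at h
    exact he1 (hidx ▸ Subgroup.index_eq_one.mpr (eq_top_iff.mpr fun v _ => h v))
  classical
  obtain ⟨a, -, ha⟩ := Finset.mem_image.mp
    (mem_zpowers_iff_mem_range_orderOf.mp (hu ⟨_, hn.conj_mem _ u.2 x⟩))
  have ha' : x * (u : F) * x⁻¹ = (u : F) ^ a :=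
    (congrArg Subtype.val ha).symm.trans (SubmonoidClass.coe_pow _ _)
  have hiter : ∀ i : ℕ, x ^ i * (u : F) * (x ^ i)⁻¹ = (u : F) ^ a ^ i := by
    intro i
    induction i with
    | zero => simp
    | succ i ih =>
      rw [show x ^ (i + 1) * (u : F) * (x ^ (i + 1))⁻¹ = x * (x ^ i * (u : F) * (x ^ i)⁻¹) * x⁻¹ by
        rw [pow_succ']; group, ih, ← conj_pow, ha', ← pow_mul, pow_succ']
  have hae : a ^ e ≡ 1 [MOD p ^ n] := by
    rw [← hou, ← pow_eq_pow_iff_modEq, pow_one]
    refine Subtype.ext ?_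
    rw [SubmonoidClass.coe_pow, ← hiter e]
    have hxe : x ^ e ∈ Subgroup.centralizer (Q : Set F) := by
      rw [hQC, ← hidx]; exact Subgroup.pow_index_mem Q x
    rw [← Subgroup.mem_centralizer_iff.mp hxe u u.2, mul_inv_cancel_right]
  have hn0 : n ≠ 0 := fun h => by
    have hQ : Q = ⊥ := Subgroup.card_eq_one.mp (by rw [hq, h, pow_zero])
    exact hx (hQC ▸ Subgroup.mem_centralizer_iff.mpr fun w hw => by
      rw [hQ] at hw; simp [Subgroup.mem_bot.mp hw])
  have hap : ¬ a ≡ 1 [MOD p] := fun h => hx (by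
    have h1 := Cyclic.root_unique hp.out hpe he0 hae
      (show 1 ^ e ≡ 1 [MOD p ^ n] by rw [one_pow]) h
    rw [← hQC]
    refine Subgroup.mem_centralizer_iff.mpr fun w hw => ?_
    obtain ⟨i, hi⟩ := hu ⟨w, hw⟩
    rw [show w = (u : F) ^ i from (congrArg Subtype.val hi).symm.trans rfl]
    refine (Commute.zpow_left ?_ i).eq
    show _ = _
    have hua : u ^ a = u := by
      refine Eq.trans ?_ (pow_one u)
      rw [pow_eq_pow_iff_modEq, hou]; exact h1
    have : x * (u : F) * x⁻¹ = (u : F) := ha'.trans (by rw [← SubmonoidClass.coe_pow, hua])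
    exact (mul_inv_eq_iff_eq_mul.mp this).symm)
  have ha1 : 1 ≤ a := by
    refine Nat.pos_of_ne_zero fun h => ?_
    rw [h, pow_zero] at ha'
    have hu1 : (u : F) = 1 := conj_eq_one_iff.mp ha'
    rw [show u = 1 from Subtype.ext hu1, orderOf_one] at hou
    exact (Nat.one_lt_pow hn0 hp.out.one_lt).ne hou
  have hcop : (a - 1).Coprime (orderOf u) := by
    rw [hou]
    refine Nat.Coprime.pow_right n (Nat.Coprime.symm ?_)
    exact hp.out.coprime_iff_not_dvd.mpr fun h => hap ((Nat.modEq_iff_dvd' ha1).mpr h).symm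
  obtain ⟨m, hm⟩ := exists_pow_eq_self_of_coprime hcop
  have hv : (u : F) ^ (a - 1) ∈ commutator F := by
    have h1 : (⁅x, (u : F)⁆ : F) = (u : F) ^ (a - 1) := by
      rw [commutatorElement_def, ha', mul_inv_eq_iff_eq_mul, ← pow_succ, Nat.sub_add_cancel ha1]
    rw [← h1, commutator_def]
    exact Subgroup.commutator_mem_commutator (Subgroup.mem_top x) (Subgroup.mem_top _)
  have hum : (u : F) ∈ commutator F := by
    rw [← hm, SubmonoidClass.coe_pow, SubmonoidClass.coe_pow]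
    exact pow_mem hv m
  intro w hw
  obtain ⟨i, hi⟩ := hu ⟨w, hw⟩
  rw [show w = (u : F) ^ i from (congrArg Subtype.val hi).symm.trans rfl]
  exact zpow_mem hum i

variable {M : Ideal AlgInt} [M.IsPrime]

theorem exists_lin_ne_one {K : Type v} [Group K] [Finite K] [IsCyclic K] (h : 2 ≤ Nat.card K) :
    ∃ f : K →* ℂˣ, f ≠ 1 := by
  haveI := Finite.one_lt_card_iff_nontrivial.mp h
  obtain ⟨w, hw⟩ := exists_ne (1 : K)
  by_contra h'
  push Not at h'
  have := sum_nt hw
  rw [Finset.sum_eq_zero fun f hf => absurd (h' f) (mem_nt.mp hf)] at this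
  norm_num at this

/-- The whole character set as a block with cyclic defect group. -/
theorem exists_setting (hM : IsPModular p M) [Q.Normal] (hcyc : IsCyclic Q) (hQ1 : Q ≠ ⊥)
    (hq : Nat.card Q = p ^ n) (hF : Nat.card F = p ^ n * e) (he : e ∣ p - 1)
    (hQC : Subgroup.centralizer (Q : Set F) = Q) :
    ∃ S : Cyclic.Setting p M F, S.B = Set.univ ∧ S.D = Q ∧ S.e = e := by
  have hQp := IsPGroup.of_card hq
  have hidx := card_eq_index hq hF
  obtain ⟨χ⟩ : Nonempty (IrrCharacter F) := ⟨⟨_, CT.isIrrCharacter_one⟩⟩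
  have hB : IsPBlock M (Set.univ : Set (IrrCharacter F)) :=
    ⟨χ, (Set.eq_univ_of_forall fun ψ => sameBlock_of_centralizer_le hM Q hQp hQC.le χ ψ).symm⟩
  obtain ⟨D, hD⟩ := exists_defectGroup (p := p) hB
  have hpQ : ¬ p ∣ Q.index := by
    rw [hidx]
    intro h
    have h2 := hp.out.two_le
    have := Nat.le_of_dvd (hidx ▸ Nat.pos_of_ne_zero Subgroup.index_ne_zero_of_finite) h
    have := Nat.le_of_dvd (by omega) he
    omega
  obtain rfl : Q = D := le_antisymm (normal_le_defect hM hB hQp hD) fun x hx =>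
    mem_of_pElement hpQ (by
      obtain ⟨k, hk⟩ := IsPGroup.iff_orderOf.mp (isPGroup_defectGroup hM hB hD) ⟨x, hx⟩
      exact ⟨k, by rwa [Subgroup.orderOf_mk] at hk⟩)
  obtain ⟨c, hc⟩ := Cyclic.exists_centralizer_block hM hB hD hcyc
  refine ⟨⟨hM, _, hB, Q, hD, hcyc, hQ1, c, hc⟩, rfl, rfl, ?_⟩
  have hall : ∀ ψ, ψ ∈ c := fun ψ => by
    obtain ⟨θ, hθ⟩ := hc.1
    rw [hθ]
    exact sameBlock_of_centralizer_le hM (⊤ : Subgroup (Subgroup.centralizer (Q : Set F)))
      ((hQp.to_le hQC.le).of_equiv Subgroup.topEquiv.symm) le_top θ ψ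
  have htop : stabSub M Q c = ⊤ := eq_top_iff.mpr fun g _ => by
    have hg : g ∈ Subgroup.normalizer (Q : Set F) := by
      rw [Subgroup.normalizer_eq_top]; trivial
    have hgC := normalizer_le_normalizer_centralizer Q hg
    refine (mem_stabSub hc.1).mpr ⟨hg, hgC, fun χ _ => ?_⟩
    refine ⟨Glauberman.compIrr (cIso g _ _ fun v => Subgroup.mem_normalizer_iff.mp hgC v) χ,
      hall _, fun k k' hk => ?_⟩
    rw [Glauberman.compIrr_apply]
    exact congrArg _ (Subtype.ext (by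
      show g⁻¹ * (k' : F) * g = k
      rw [hk]; group))
  show (Subgroup.centralizer (Q : Set F)).relIndex (stabSub M Q c) = e
  rw [htop, Subgroup.relIndex_top_right, hQC, hidx]

open Classical in
/-- The signs agree on the characters not trivial on `Q`. -/
theorem signs_agree {G : Type v} [Group G] [Fintype G] {B : Set (IrrCharacter G)}
    {D : Type v} [Group D] [Finite D] [IsCyclic D] {D' : Type u} [Group D'] [Finite D'] [IsCyclic D']
    {B' : Set (IrrCharacter F)} (hB' : B' = Set.univ) (C : Coords p M B D) (C' : Coords p M B' D')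
    (hnt : ∃ f : D →* ℂˣ, f ≠ 1) (hnt' : ∃ f : D' →* ℂˣ, f ≠ 1) (he : C.e = e) (he' : C'.e = e)
    [Q.Normal] (hcyc : IsCyclic Q) (hq : Nat.card Q = p ^ n) (hF : Nat.card F = p ^ n * e)
    (hed : e ∣ p - 1) (hQC : Subgroup.centralizer (Q : Set F) = Q) {σ : IrrCharacter F → ℤ}
    (h1 : ∀ η, C'.IsY η → σ η = C.ε * C'.ε)
    (h2 : ∀ η, ¬ C'.IsY η → ∃ χ ∈ B, ¬ C.IsY χ ∧ σ η = C.bb χ * C'.bb η)
    {η η' : IrrCharacter F} (hη : ∃ x ∈ Q, (η : F → ℂ) x ≠ (η : F → ℂ) 1)
    (hη' : ∃ x ∈ Q, (η' : F → ℂ) x ≠ (η' : F → ℂ) 1) : σ η = σ η' := by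
  subst hB'
  by_cases he1 : e = 1
  · have hall : ∀ θ, σ θ = C.ε * C'.ε := fun θ => by
      by_cases h : C'.IsY θ
      · exact h1 θ h
      · obtain ⟨χ, hχ, hX, hσ⟩ := h2 θ h
        rw [hσ, C.bb_of_e_one (he.trans he1) hnt hχ hX,
          C'.bb_of_e_one (he'.trans he1) hnt' (Set.mem_univ θ) h]
        ring
    rw [hall, hall]
  have hidx := card_eq_index hq hF
  obtain ⟨Lin, hLin⟩ : ∃ Lin : Finset (IrrCharacter F),
      Lin = Finset.univ.filter fun θ : IrrCharacter F => (θ : F → ℂ) 1 = 1 := ⟨_, rfl⟩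
  have hlin : ∀ θ ∈ Lin, ∀ x ∈ Q, (θ : F → ℂ) x = (θ : F → ℂ) 1 := fun θ hθ x hx =>
    CT.linear_trivial_on_commutator (CT.isCharacter_of_isIrr θ.2)
      (by rw [hLin] at hθ; exact (Finset.mem_filter.mp hθ).2) x
      (le_commutator hcyc hq hF hed hQC he1 hx)
  have hcard : e ≤ Lin.card := by
    have h : (commutator F).index = Lin.card := by
      rw [← CT.card_linear_irr, hLin, Nat.card_eq_fintype_card, Fintype.card_subtype]
    rw [← h, ← hidx]
    exact Nat.le_of_dvd (Nat.pos_of_ne_zero Subgroup.index_ne_zero_of_finite)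
      (Subgroup.index_dvd_of_le (commutator_le_of_self_centralizing hcyc hQC))
  have hnl : ∀ θ : IrrCharacter F, (∃ x ∈ Q, (θ : F → ℂ) x ≠ (θ : F → ℂ) 1) → θ ∉ Lin :=
    fun θ ⟨x, hx, hne⟩ h => hne (hlin θ h x hx)
  obtain ⟨Xs, hXs⟩ : ∃ Xs : Finset (IrrCharacter F),
      Xs = Finset.univ.filter fun θ : IrrCharacter F => ¬ C'.IsY θ := ⟨_, rfl⟩
  have hXcard : Xs.card = e := by
    rw [← he', ← C'.card_X, Nat.card_eq_fintype_card, Fintype.card_subtype, hXs]
    congr 1
    ext θ; simp [Coords.not_isY]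
  by_cases hY : ∃ θ ∈ Lin, C'.IsY θ
  · obtain ⟨θ, hθL, hθY⟩ := hY
    have hval : ∀ ζ, C'.IsY ζ → ζ ∈ Lin ∧ ζ = θ := fun ζ hζ => by
      have h1' := C'.value_isY hζ (y := 1) (by rw [orderOf_one]; exact hp.out.not_dvd_one)
      rw [← C'.value_isY hθY (y := 1) (by rw [orderOf_one]; exact hp.out.not_dvd_one)] at h1'
      have hl : (θ : F → ℂ) 1 = 1 := by rw [hLin] at hθL; exact (Finset.mem_filter.mp hθL).2
      have hl' : (ζ : F → ℂ) 1 = 1 := h1'.trans hl
      have hζL : ζ ∈ Lin := by rw [hLin]; exact Finset.mem_filter.mpr ⟨Finset.mem_univ _, hl'⟩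
      refine ⟨hζL, Subtype.ext (funext fun g => ?_)⟩
      obtain ⟨y, hxy, -, hxk, hy⟩ := id (pPart_spec (p := p) g)
      have hxQ : pPart p g ∈ Q := mem_of_pElement (by
        rw [hidx]
        intro h
        have h2 := hp.out.two_le
        have := Nat.le_of_dvd (hidx ▸ Nat.pos_of_ne_zero Subgroup.index_ne_zero_of_finite) h
        have := Nat.le_of_dvd (by omega) hed
        omega) hxk
      have hk : ∀ ψ ∈ Lin, (ψ : F → ℂ) g = (ψ : F → ℂ) y := fun ψ hψ => by
        have hψ1 : (ψ : F → ℂ) 1 = 1 := by rw [hLin] at hψ; exact (Finset.mem_filter.mp hψ).2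
        have hh := hlin ψ hψ _ hxQ
        obtain ⟨l, hl⟩ := CT.exists_hom_of_degree_one (CT.isCharacter_of_isIrr ψ.2) hψ1
        rw [hl] at hh ⊢
        simp only [map_one, Units.val_one] at hh
        show ((l g : ℂˣ) : ℂ) = _
        rw [← hxy, map_mul, Units.val_mul, hh, one_mul]
      rw [hk ζ hζL, hk θ hθL, C'.value_isY hζ hy, C'.value_isY hθY hy]
    have hsub : Lin ⊆ insert θ Xs := fun ζ _ => by
      by_cases h : C'.IsY ζ
      · exact Finset.mem_insert.mpr (Or.inl (hval ζ h).2)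
      · exact Finset.mem_insert_of_mem (by rw [hXs]; exact Finset.mem_filter.mpr ⟨Finset.mem_univ _, h⟩)
    have hmem : ∀ ζ, ζ ∉ Lin → ζ ∈ insert θ Xs := fun ζ hζ => Finset.mem_insert_of_mem (by
      rw [hXs]; exact Finset.mem_filter.mpr ⟨Finset.mem_univ _, fun h => hζ (hval ζ h).1⟩)
    have hins : (insert θ Xs).card ≤ e + 1 := (Finset.card_insert_le _ _).trans (by omega)
    by_contra hne
    have hne' : η ≠ η' := fun h => hne (h ▸ rfl)
    have : (insert η (insert η' Lin)).card ≤ (insert θ Xs).card := Finset.card_le_card (by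
      intro ζ hζ
      simp only [Finset.mem_insert] at hζ
      rcases hζ with rfl | rfl | h
      · exact hmem _ (hnl _ hη)
      · exact hmem _ (hnl _ hη')
      · exact hsub h)
    rw [Finset.card_insert_of_notMem (by simp [hne', hnl η hη]),
      Finset.card_insert_of_notMem (hnl η' hη')] at this
    omega
  · push Not at hY
    have heq : Lin = Xs := Finset.eq_of_subset_of_card_le (fun ζ hζ => by
      rw [hXs]; exact Finset.mem_filter.mpr ⟨Finset.mem_univ _, hY ζ hζ⟩) (by omega)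
    have hsY : ∀ ζ : IrrCharacter F, (∃ x ∈ Q, (ζ : F → ℂ) x ≠ (ζ : F → ℂ) 1) → C'.IsY ζ := fun ζ hζ => by
      by_contra h
      exact hnl ζ hζ (heq ▸ hXs ▸ Finset.mem_filter.mpr ⟨Finset.mem_univ _, h⟩)
    rw [h1 η (hsY η hη), h1 η' (hsY η' hη')]

end Cfsg.Agent.Blocks.CycFrob
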