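import Cfsg.Agent.Lib.Blocks.CycPerfectCoords

/-!
# Perfect isometries between blocks with cyclic defect groups

Two blocks with isomorphic cyclic defect groups and the same inertial index are perfectly
isometric.
-/

set_option linter.unusedSectionVars false

namespace Cfsg.Agent.Blocks.CycPerf

open MonoidAlgebra BPairs

universe u v w x

namespace Coords

variable {G : Type u} [Group G] [Fintype G] {p : ℕ} [hp : Fact p.Prime] {M : Ideal AlgInt}
  [M.IsPrime] {B : Set (IrrCharacter G)} {D : Type v} [Group D] [Finite D] [IsCyclic D]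
  (C : Coords p M B D)

open Classical in
/-- The block as a finset. -/
noncomputable def BF (_C : Coords p M B D) : Finset (IrrCharacter G) := Finset.univ.filter (· ∈ B)

theorem mem_BF {χ : IrrCharacter G} : χ ∈ C.BF ↔ χ ∈ B := by simp [BF]

/-- The exceptional characters. -/
def IsY (χ : IrrCharacter G) : Prop := ∃ f, f ≠ 1 ∧ C.L f = χ

theorem not_isY {χ : IrrCharacter G} : ¬ C.IsY χ ↔ ∀ f, f ≠ 1 → C.L f ≠ χ :=
  ⟨fun h f hf e => h ⟨f, hf, e⟩, fun h ⟨f, hf, e⟩ => h f hf e⟩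

open Classical in
/-- The fibre of a character. -/
noncomputable def fib (χ : IrrCharacter G) : Finset (D →* ℂˣ) :=
  (nt D).filter fun f => C.L f = χ

theorem mem_fib {χ : IrrCharacter G} {f : D →* ℂˣ} : f ∈ C.fib χ ↔ f ≠ 1 ∧ C.L f = χ := by
  simp [fib, mem_nt]

/-- The coefficients at the sections. -/
noncomputable def d (χ : IrrCharacter G) (u : D) : ℂ :=
  -(C.bb χ : ℂ) + (C.ε : ℂ) * ∑ f ∈ C.fib χ, (f u : ℂ)

theorem dVal_eq (χ : IrrCharacter G) (u : D) : dVal C.L C.ε C.bb χ u = C.d χ u := by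
  rw [dVal, d, fib]
  congr 2
  refine Finset.sum_congr ?_ fun _ _ => rfl
  ext; simp

theorem hεε : (C.ε : ℂ) * C.ε = 1 := by rcases C.hε with h | h <;> simp [h]

theorem e_pos : 0 < C.e := by
  rcases Nat.eq_zero_or_pos C.e with h | h
  swap; · exact h
  have hm : (0 : ℕ) ∈ roots (Nat.card D) C.e :=
    mem_roots.mpr ⟨Nat.card_pos, by rw [h, pow_zero]⟩
  have := Finset.card_pos.mpr ⟨0, hm⟩
  rwa [C.card_roots] at this

theorem pow_ne_one {f : D →* ℂˣ} (hf : f ≠ 1) {m : ℕ} (hm : m ∈ roots (Nat.card D) C.e) :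
    f ^ m ≠ 1 := fun h => hf (by
  obtain ⟨j, hj⟩ := Nat.exists_eq_succ_of_ne_zero C.e_pos.ne'
  have h1 : f ^ (m ^ C.e) = 1 := by
    rw [hj, pow_succ', pow_mul f, h]
    exact MonoidHom.ext fun _ => by simp
  rwa [← lin_pow_mod f, (mem_roots.mp hm).2, lin_pow_mod, pow_one f] at h1)

theorem bb_mul_sum (χ : IrrCharacter G) (u : D) :
    (C.bb χ : ℂ) * ∑ f ∈ C.fib χ, (f u : ℂ) = 0 := by
  rw [Finset.mul_sum]
  refine Finset.sum_eq_zero fun f hf => ?_
  obtain ⟨hf1, rfl⟩ := C.mem_fib.mp hf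
  rw [C.bb_L f hf1]; simp

theorem sum_fiber (F : (D →* ℂˣ) → ℂ) :
    ∑ χ ∈ C.BF, ∑ f ∈ C.fib χ, F f = ∑ f ∈ nt D, F f := by
  classical
  exact Finset.sum_fiberwise_of_maps_to
    (fun f hf => C.mem_BF.mpr (C.L_mem f (mem_nt.mp hf))) F

/-- At regular elements the coefficients are orthogonal to the values. -/
theorem sum_d_reg {u : D} (hu : u ≠ 1) {y : G} (hy : ¬ p ∣ orderOf y) :
    ∑ χ ∈ C.BF, C.d χ u * (χ : G → ℂ) y = 0 := by
  classical
  obtain ⟨S, hS⟩ : ∃ S : ℂ, S = ∑ χ ∈ C.BF, (C.bb χ : ℂ) * (χ : G → ℂ) y := ⟨_, rfl⟩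
  have hL : ∀ f, f ≠ 1 → (C.L f : G → ℂ) y = -(C.ε : ℂ) * S := fun f hf => by
    have h : ∑ χ ∈ C.BF, ((C.bb χ : ℂ) + (C.ε : ℂ) * if C.L f = χ then 1 else 0) *
        (χ : G → ℂ) y = 0 := C.reg f hf y hy
    simp only [add_mul, Finset.sum_add_distrib, mul_assoc, ite_mul, one_mul, zero_mul,
      ← Finset.mul_sum, Finset.sum_ite_eq, if_pos (C.mem_BF.mpr (C.L_mem f hf)), ← hS] at h
    linear_combination (C.ε : ℂ) * h - (C.L f : G → ℂ) y * C.hεε
  have h2 : ∑ χ ∈ C.BF, (∑ f ∈ C.fib χ, (f u : ℂ)) * (χ : G → ℂ) y = (C.ε : ℂ) * S := by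
    rw [Finset.sum_congr rfl (g := fun χ => ∑ f ∈ C.fib χ, (f u : ℂ) * (C.L f : G → ℂ) y)
      fun χ _ => by
        rw [Finset.sum_mul]
        exact Finset.sum_congr rfl fun f hf => by rw [(C.mem_fib.mp hf).2],
      C.sum_fiber, Finset.sum_congr rfl fun f hf => by rw [hL f (mem_nt.mp hf)],
      ← Finset.sum_mul, sum_nt hu]
    ring
  simp only [d, add_mul, neg_mul, mul_assoc, Finset.sum_add_distrib, Finset.sum_neg_distrib,
    ← Finset.mul_sum, ← hS, h2]
  linear_combination S * C.hεε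

theorem sum_bb_sq : ∑ χ ∈ C.BF, (C.bb χ : ℂ) * (C.bb χ : ℂ) = (C.e : ℂ) := by
  classical
  rw [Finset.sum_congr rfl (g := fun χ => if C.IsY χ then (0 : ℂ) else 1) fun χ hχ => ?_,
    Finset.sum_ite, Finset.sum_const_zero, zero_add, Finset.sum_const, nsmul_eq_mul, mul_one]
  · congr 1
    rw [← C.card_X, Nat.card_eq_fintype_card, Fintype.card_subtype]
    congr 1
    ext χ
    simp [mem_BF, not_isY]
  · split_ifs with h
    · obtain ⟨f, hf, rfl⟩ := h
      rw [C.bb_L f hf]; simp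
    · rcases C.bb_X χ (C.mem_BF.mp hχ) (C.not_isY.mp h) with h' | h' <;> simp [h']

open Classical in
/-- The roots carrying `u` and `w` to each other. -/
noncomputable def N (u w : D) : ℕ :=
  ((roots (Nat.card D) C.e).filter fun m => u * w ^ m = 1).card

theorem sum_fib_L {f : D →* ℂˣ} (hf : f ≠ 1) (w : D) :
    ∑ g ∈ C.fib (C.L f), (g w : ℂ) = ∑ m ∈ roots (Nat.card D) C.e, (f (w ^ m) : ℂ) := by
  classical
  refine (Finset.sum_bij (fun m _ => f ^ m) (fun m hm => C.mem_fib.mpr ⟨C.pow_ne_one hf hm, ?_⟩)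
    (fun m hm m' hm' h => C.inj f hf m hm m' hm' h) (fun g hg => ?_) fun m _ => ?_).symm
  · exact (C.L_eq f _ hf (C.pow_ne_one hf hm)).mpr ⟨m, hm, rfl⟩
  · obtain ⟨hg1, he⟩ := C.mem_fib.mp hg
    obtain ⟨m, hm, rfl⟩ := (C.L_eq f g hf hg1).mp he
    exact ⟨m, hm, rfl⟩
  · simp

theorem sum_d_mul {u w : D} (hu : u ≠ 1) :
    ∑ χ ∈ C.BF, C.d χ u * C.d χ w = (Nat.card D : ℂ) * (C.N u w : ℂ) := by
  classical
  have h2 : ∑ χ ∈ C.BF, (∑ f ∈ C.fib χ, (f u : ℂ)) * ∑ g ∈ C.fib χ, (g w : ℂ) =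
      (Nat.card D : ℂ) * (C.N u w : ℂ) - C.e := by
    rw [Finset.sum_congr rfl (g := fun χ => ∑ f ∈ C.fib χ,
        ∑ m ∈ roots (Nat.card D) C.e, (f (u * w ^ m) : ℂ)) fun χ _ => by
        rw [Finset.sum_mul]
        refine Finset.sum_congr rfl fun f hf => ?_
        obtain ⟨hf1, rfl⟩ := C.mem_fib.mp hf
        rw [C.sum_fib_L hf1, Finset.mul_sum]
        exact Finset.sum_congr rfl fun m _ => by rw [map_mul, Units.val_mul],
      C.sum_fiber, Finset.sum_comm,
      Finset.sum_congr rfl (g := fun m => (if u * w ^ m = 1 then (Nat.card D : ℂ) else 0) - 1)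
        fun m _ => by
        split_ifs with h
        · rw [h]; exact sum_nt_one
        · rw [sum_nt h]; ring,
      Finset.sum_sub_distrib, ← Finset.sum_filter, Finset.sum_const, Finset.sum_const,
      C.card_roots, N]
    simp [mul_comm]
  rw [Finset.sum_congr rfl (g := fun χ => (C.bb χ : ℂ) * (C.bb χ : ℂ) +
      (C.ε : ℂ) * C.ε * ((∑ f ∈ C.fib χ, (f u : ℂ)) * ∑ g ∈ C.fib χ, (g w : ℂ))) fun χ _ => by
    simp only [d]
    linear_combination -(C.ε : ℂ) * C.bb_mul_sum χ u - (C.ε : ℂ) * C.bb_mul_sum χ w,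
    Finset.sum_add_distrib, C.sum_bb_sq, ← Finset.mul_sum, h2, C.hεε]
  ring

/-- The exceptional characters agree on regular elements. -/
theorem value_isY {χ : IrrCharacter G} (h : C.IsY χ) {y : G} (hy : ¬ p ∣ orderOf y) :
    (χ : G → ℂ) y = -(C.ε : ℂ) * ∑ η ∈ C.BF, (C.bb η : ℂ) * (η : G → ℂ) y := by
  classical
  obtain ⟨f, hf, rfl⟩ := h
  have h : ∑ χ ∈ C.BF, ((C.bb χ : ℂ) + (C.ε : ℂ) * if C.L f = χ then 1 else 0) *
      (χ : G → ℂ) y = 0 := C.reg f hf y hy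
  simp only [add_mul, Finset.sum_add_distrib, mul_assoc, ite_mul, one_mul, zero_mul,
    ← Finset.mul_sum, Finset.sum_ite_eq, if_pos (C.mem_BF.mpr (C.L_mem f hf))] at h
  linear_combination (C.ε : ℂ) * h - (C.L f : G → ℂ) y * C.hεε

/-- With trivial inertial index all signs agree. -/
theorem bb_of_e_one (he : C.e = 1) (hnt : ∃ f : D →* ℂˣ, f ≠ 1) {χ : IrrCharacter G} (hχ : χ ∈ B)
    (hX : ¬ C.IsY χ) : C.bb χ = -C.ε := by
  classical
  obtain ⟨f, hf⟩ := hnt
  have huniq : ∀ η ∈ C.BF, η ≠ χ → C.bb η = 0 := fun η hη hne => by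
    by_cases h : C.IsY η
    · obtain ⟨g, hg, rfl⟩ := h; exact C.bb_L g hg
    · obtain ⟨hs, -⟩ := Nat.card_eq_one_iff_unique.mp (C.card_X.trans he)
      exact absurd (congrArg Subtype.val (hs.elim ⟨η, C.mem_BF.mp hη, C.not_isY.mp h⟩
        ⟨χ, hχ, C.not_isY.mp hX⟩)) hne
  have h := C.value_isY (χ := C.L f) ⟨f, hf, rfl⟩ (y := 1)
    (by rw [orderOf_one]; exact hp.out.not_dvd_one)
  rw [Finset.sum_eq_single χ (fun η hη hne => by rw [huniq η hη hne]; simp)
    (fun hn => absurd (C.mem_BF.mpr hχ) hn), charDegree_cast, charDegree_cast] at h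
  have h' : (charDegree (C.L f : G → ℂ) : ℤ) = -C.ε * (C.bb χ * charDegree (χ : G → ℂ)) := by
    exact_mod_cast h
  have h1 := charDegree_pos (C.L f)
  have h2 := charDegree_pos χ
  rcases C.bb_X χ hχ (C.not_isY.mp hX) with e1 | e1 <;> rcases C.hε with e2 | e2 <;>
    rw [e1, e2] at h' <;> omega

end Coords

open Classical in
/-- Perfect isometry from coordinates of the same type. -/
theorem exists_isometry {G : Type u} [Group G] [Fintype G] {H : Type w} [Group H] [Fintype H]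
    {p : ℕ} [hp : Fact p.Prime] {M : Ideal AlgInt} [M.IsPrime] (hM : IsPModular p M)
    {B : Set (IrrCharacter G)} {B' : Set (IrrCharacter H)}
    {D : Type v} [Group D] [Finite D] [IsCyclic D] {D' : Type x} [Group D'] [Finite D']
    [IsCyclic D'] (C : Coords p M B D) (C' : Coords p M B' D') (ψ : D ≃* D') (he : C'.e = C.e) :
    ∃ (I : IrrCharacter H → IrrCharacter G) (σ : IrrCharacter H → ℤ),
      IsPerfectIsometry p M B' B I σ ∧
      (∀ η, C'.IsY η → σ η = C.ε * C'.ε) ∧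
      ∀ η ∈ B', ¬ C'.IsY η → ∃ χ ∈ B, ¬ C.IsY χ ∧ σ η = C.bb χ * C'.bb η := by
  have hq : Nat.card D = Nat.card D' := Nat.card_congr ψ.toEquiv
  -- pulling back linear characters
  obtain ⟨pb, hpb⟩ : ∃ pb : (D' →* ℂˣ) → (D →* ℂˣ), pb = fun g => g.comp ψ.toMonoidHom := ⟨_, rfl⟩
  have hpb_inj : Function.Injective pb := fun g g' h => by
    refine MonoidHom.ext fun w => ?_
    simpa [hpb] using DFunLike.congr_fun h (ψ.symm w)
  have hpb1 : ∀ g, g ≠ 1 → pb g ≠ 1 := fun g hg h => hg (hpb_inj (h.trans (by simp [hpb])))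
  have hpb_pow : ∀ g m, pb (g ^ m) = pb g ^ m := fun g m => by ext; simp [hpb]
  have hLiff : ∀ f g, f ≠ 1 → g ≠ 1 → (C.L (pb g) = C.L (pb f) ↔ C'.L g = C'.L f) := by
    intro f g hf hg
    rw [C.L_eq _ _ (hpb1 f hf) (hpb1 g hg), C'.L_eq f g hf hg, ← hq, he]
    exact exists_congr fun m => and_congr_right fun _ => by rw [← hpb_pow, hpb_inj.eq_iff]
  -- the nonexceptional characters
  obtain ⟨τ⟩ : Nonempty ({χ : IrrCharacter H // χ ∈ B' ∧ ∀ f, f ≠ 1 → C'.L f ≠ χ} ≃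
      {χ : IrrCharacter G // χ ∈ B ∧ ∀ f, f ≠ 1 → C.L f ≠ χ}) := by
    refine (Finite.card_eq).mp ?_
    rw [C.card_X, C'.card_X, he]
  obtain ⟨I, hIY, hIX⟩ : ∃ I : IrrCharacter H → IrrCharacter G,
      (∀ g, g ≠ 1 → I (C'.L g) = C.L (pb g)) ∧
      ∀ η : {χ : IrrCharacter H // χ ∈ B' ∧ ∀ f, f ≠ 1 → C'.L f ≠ χ}, I η = (τ η : IrrCharacter G) := by
    refine ⟨fun η => if h : C'.IsY η then C.L (pb h.choose)
      else if h' : η ∈ B' then (τ ⟨η, h', C'.not_isY.mp h⟩ : IrrCharacter G) else C.L 1,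
      fun g hg => ?_, fun η => ?_⟩
    · have h : C'.IsY (C'.L g) := ⟨g, hg, rfl⟩
      beta_reduce
      rw [dif_pos h]
      exact (hLiff g _ hg h.choose_spec.1).mpr h.choose_spec.2
    · beta_reduce
      rw [dif_neg (C'.not_isY.mpr η.2.2), dif_pos η.2.1]
  obtain ⟨σ, hσ⟩ : ∃ σ : IrrCharacter H → ℤ, σ = fun η =>
      C.bb (I η) * C'.bb η + if C'.IsY η then C.ε * C'.ε else 0 := ⟨_, rfl⟩
  have hX : ∀ η ∈ B', ¬ C'.IsY η → I η ∈ B ∧ ¬ C.IsY (I η) := fun η hη h => by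
    have := hIX ⟨η, hη, C'.not_isY.mp h⟩
    rw [this]
    exact ⟨(τ _).2.1, C.not_isY.mpr (τ _).2.2⟩
  have hσY : ∀ η, C'.IsY η → σ η = C.ε * C'.ε := fun η h => by
    obtain ⟨g, hg, rfl⟩ := h
    simp only [hσ, if_pos (show C'.IsY (C'.L g) from ⟨g, hg, rfl⟩), C'.bb_L g hg, mul_zero, zero_add]
  have hmaps : ∀ η ∈ B', I η ∈ B := fun η hη => by
    by_cases h : C'.IsY η
    · obtain ⟨g, hg, rfl⟩ := h
      rw [hIY g hg]; exact C.L_mem _ (hpb1 g hg)
    · exact (hX η hη h).1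
  have hYI : ∀ η ∈ B', C'.IsY η → C.IsY (I η) := fun η _ h => by
    obtain ⟨g, hg, rfl⟩ := h
    exact ⟨pb g, hpb1 g hg, (hIY g hg).symm⟩
  have hbij : Set.BijOn I B' B := by
    refine ⟨hmaps, fun η hη η' hη' h => ?_, fun χ hχ => ?_⟩
    · by_cases h1 : C'.IsY η <;> by_cases h2 : C'.IsY η'
      · obtain ⟨g, hg, rfl⟩ := h1
        obtain ⟨g', hg', rfl⟩ := h2
        rw [hIY g hg, hIY g' hg'] at h
        exact ((hLiff g g' hg hg').mp h.symm).symm
      · exact absurd (hYI η hη h1) (h ▸ (hX η' hη' h2).2)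
      · exact absurd (hYI η' hη' h2) (h.symm ▸ (hX η hη h1).2)
      · have e1 := hIX ⟨η, hη, C'.not_isY.mp h1⟩
        have e2 := hIX ⟨η', hη', C'.not_isY.mp h2⟩
        exact congrArg Subtype.val (τ.injective (Subtype.ext (e1.symm.trans (h.trans e2))))
    · by_cases h : C.IsY χ
      · obtain ⟨f, hf, rfl⟩ := h
        have he' : pb (f.comp ψ.symm.toMonoidHom) = f := by ext; simp [hpb]
        have hg : f.comp ψ.symm.toMonoidHom ≠ 1 := fun e => hf (he' ▸ e ▸ by simp [hpb])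
        exact ⟨_, C'.L_mem _ hg, (hIY _ hg).trans (congrArg C.L he')⟩
      · exact ⟨_, (τ.symm ⟨χ, hχ, C.not_isY.mp h⟩).2.1,
          (hIX _).trans (congrArg Subtype.val (τ.apply_symm_apply _))⟩
  have hsgn : ∀ η ∈ B', σ η = 1 ∨ σ η = -1 := fun η hη => by
    by_cases h : C'.IsY η
    · rw [hσY η h]
      rcases C.hε with e1 | e1 <;> rcases C'.hε with e2 | e2 <;> simp [e1, e2]
    · simp only [hσ, if_neg h, add_zero]
      rcases C.bb_X _ (hX η hη h).1 (C.not_isY.mp (hX η hη h).2) with e1 | e1 <;>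
        rcases C'.bb_X η hη (C'.not_isY.mp h) with e2 | e2 <;> simp [e1, e2]
  -- the coefficients correspond
  have hd : ∀ η ∈ B', ∀ u : D, (σ η : ℂ) * C.d (I η) u = C'.d η (ψ u) := by
    intro η hη u
    by_cases h : C'.IsY η
    · rw [hσY η h]
      obtain ⟨g, hg, rfl⟩ := h
      have hfib : ∑ f ∈ C.fib (I (C'.L g)), (f u : ℂ) = ∑ f ∈ C'.fib (C'.L g), (f (ψ u) : ℂ) := by
        rw [hIY g hg]
        refine (Finset.sum_bij (fun f _ => pb f) (fun f hf => ?_) (fun a _ b _ e => hpb_inj e)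
          (fun f hf => ?_) fun f _ => by simp [hpb]).symm
        · obtain ⟨hf1, hf2⟩ := C'.mem_fib.mp hf
          exact C.mem_fib.mpr ⟨hpb1 f hf1, (hLiff g f hg hf1).mpr hf2⟩
        · obtain ⟨hf1, hf2⟩ := C.mem_fib.mp hf
          have he' : pb (f.comp ψ.symm.toMonoidHom) = f := by ext; simp [hpb]
          have hg' : f.comp ψ.symm.toMonoidHom ≠ 1 := fun e => hf1 (he' ▸ e ▸ by simp [hpb])
          exact ⟨_, C'.mem_fib.mpr ⟨hg', (hLiff g _ hg hg').mp (by rw [he']; exact hf2)⟩, he'⟩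
      rw [Coords.d, Coords.d, hfib, hIY g hg, C.bb_L _ (hpb1 g hg), C'.bb_L g hg]
      push_cast
      linear_combination (C'.ε : ℂ) * (∑ f ∈ C'.fib (C'.L g), (f (ψ u) : ℂ)) * C.hεε
    · have hno : C'.fib η = ∅ := Finset.eq_empty_of_forall_notMem fun f hf =>
        h ⟨f, C'.mem_fib.mp hf⟩
      have hno' : C.fib (I η) = ∅ := Finset.eq_empty_of_forall_notMem fun f hf =>
        (hX η hη h).2 ⟨f, C.mem_fib.mp hf⟩
      simp only [hσ, if_neg h, Coords.d, hno, hno', Finset.sum_empty, mul_zero, add_zero]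
      push_cast
      rcases C.bb_X _ (hX η hη h).1 (C.not_isY.mp (hX η hη h).2) with e1 | e1 <;> simp [e1]
  have hσσ : ∀ η ∈ B', (σ η : ℂ) * σ η = 1 := fun η hη => by
    rcases hsgn η hη with h | h <;> simp [h]
  obtain ⟨μ, hμdef⟩ : ∃ μ, μ = signedBijectionKernel B' I σ := ⟨_, rfl⟩
  have hμ : ∀ x y, μ x y = ∑ η ∈ C'.BF, (σ η : ℂ) * (I η : G → ℂ) x * (η : H → ℂ) y := fun x y => by
    rw [hμdef, signedBijectionKernel]
    exact finsum_mem_eq_finite_toFinset_sum _ (Set.toFinite B') |>.trans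
      (Finset.sum_congr (by ext; simp [Coords.mem_BF]) fun _ _ => rfl)
  have hsumB : ∀ F : IrrCharacter G → ℂ, ∑ η ∈ C'.BF, F (I η) = ∑ χ ∈ C.BF, F χ := fun F =>
    Finset.sum_nbij I (fun η hη => C.mem_BF.mpr (hmaps η (C'.mem_BF.mp hη)))
      (fun a ha b hb e => hbij.injOn (C'.mem_BF.mp ha) (C'.mem_BF.mp hb) e)
      (fun χ hχ => by
        obtain ⟨η, hη, e⟩ := hbij.surjOn (C.mem_BF.mp hχ)
        exact ⟨η, C'.mem_BF.mpr hη, e⟩) fun _ _ => rfl
  haveI := Fintype.ofFinite D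
  haveI := Fintype.ofFinite D'
  have hmix1 : ∀ x y, p ∣ orderOf x → ¬ p ∣ orderOf y → μ x y = 0 := by
    intro x y hx hy
    obtain ⟨W, -, -, hW1, hW⟩ := C.sing x hx
    rw [hμ, Finset.sum_congr rfl (g := fun η => ∑ u, C'.d η (ψ u) * (η : H → ℂ) y * W u)
      fun η hη => by
        rw [hW _ (hmaps η (C'.mem_BF.mp hη)), finsum_eq_sum_of_fintype, Finset.mul_sum,
          Finset.sum_mul]
        refine Finset.sum_congr rfl fun u _ => ?_
        rw [← hd η (C'.mem_BF.mp hη) u, C.dVal_eq]; ring, Finset.sum_comm]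
    refine Finset.sum_eq_zero fun u _ => ?_
    rw [← Finset.sum_mul]
    by_cases hu : u = 1
    · rw [hu, hW1, mul_zero]
    · rw [C'.sum_d_reg (fun e => hu (ψ.map_eq_one_iff.mp e)) hy, zero_mul]
  have hmix2 : ∀ x y, ¬ p ∣ orderOf x → p ∣ orderOf y → μ x y = 0 := by
    intro x y hx hy
    obtain ⟨W, -, -, hW1, hW⟩ := C'.sing y hy
    rw [hμ, Finset.sum_congr rfl
      (g := fun η => ∑ w, C.d (I η) (ψ.symm w) * (I η : G → ℂ) x * W w) fun η hη => by
        rw [hW _ (C'.mem_BF.mp hη), finsum_eq_sum_of_fintype, Finset.mul_sum]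
        refine Finset.sum_congr rfl fun w _ => ?_
        have h := hd η (C'.mem_BF.mp hη) (ψ.symm w)
        rw [MulEquiv.apply_symm_apply] at h
        rw [C'.dVal_eq, ← h]
        linear_combination (C.d (I η) (ψ.symm w) * (I η : G → ℂ) x * W w) *
          hσσ η (C'.mem_BF.mp hη), Finset.sum_comm]
    refine Finset.sum_eq_zero fun w _ => ?_
    rw [← Finset.sum_mul]
    by_cases hw : w = 1
    · rw [hw, hW1, mul_zero]
    · rw [hsumB (fun χ => C.d χ (ψ.symm w) * (χ : G → ℂ) x),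
        C.sum_d_reg (fun e => hw (ψ.symm.map_eq_one_iff.mp e)) hx, zero_mul]
  have hσL : ∀ η, (σ η : ℂ) ∈ Loc M := fun η => intCast_mem _ _
  refine ⟨I, σ, ⟨hbij, hsgn, fun x y => ?_⟩, hσY, fun η hη h =>
    ⟨I η, (hX η hη h).1, (hX η hη h).2, by simp only [hσ, if_neg h, add_zero]⟩⟩
  simp only [← mem_loc_iff, ← hμdef, IsPRegular]
  by_cases hx : p ∣ orderOf x <;> by_cases hy : p ∣ orderOf y
  · obtain ⟨W, hWL, hWC, hW1, hW⟩ := C.sing x hx
    obtain ⟨W', hWL', hWC', hW1', hW'⟩ := C'.sing y hy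
    have e : μ x y = ∑ u : D, ∑ w : D',
        (C'.N (ψ u) w : ℂ) * ((Nat.card D : ℂ) * W u * W' w) := by
      rw [hμ, Finset.sum_congr rfl
        (g := fun η => ∑ u : D, ∑ w : D', C'.d η (ψ u) * C'.d η w * (W u * W' w))
        fun η hη => by
          rw [hW _ (hmaps η (C'.mem_BF.mp hη)), hW' _ (C'.mem_BF.mp hη), finsum_eq_sum_of_fintype,
            finsum_eq_sum_of_fintype, mul_assoc, Finset.sum_mul_sum, Finset.mul_sum]
          refine Finset.sum_congr rfl fun u _ => ?_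
          rw [Finset.mul_sum]
          refine Finset.sum_congr rfl fun w _ => ?_
          rw [← hd η (C'.mem_BF.mp hη) u, C.dVal_eq, C'.dVal_eq]; ring, Finset.sum_comm]
      refine Finset.sum_congr rfl fun u _ => ?_
      rw [Finset.sum_comm]
      refine Finset.sum_congr rfl fun w _ => ?_
      rw [← Finset.sum_mul]
      by_cases hu : u = 1
      · rw [hu, hW1]; ring
      · rw [C'.sum_d_mul (fun e => hu (ψ.map_eq_one_iff.mp e)), hq]; ring
    refine ⟨?_, ?_, Or.inl ⟨fun h => absurd hx h, fun h => absurd hy h⟩⟩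
    · rw [e, Finset.sum_div]
      refine sum_mem fun u _ => ?_
      rw [Finset.sum_div]
      refine sum_mem fun w _ => ?_
      rw [mul_div_assoc, mul_div_right_comm]
      exact mul_mem (natCast_mem _ _) (mul_mem (mem_loc_iff.mpr (hWC u)) (mem_loc_iff.mpr (hWL' w)))
    · rw [e, Finset.sum_div]
      refine sum_mem fun u _ => ?_
      rw [Finset.sum_div]
      refine sum_mem fun w _ => ?_
      rw [mul_div_assoc, hq, show (Nat.card D' : ℂ) * W u * W' w /
        (Nat.card (Subgroup.centralizer ({y} : Set H)) : ℂ) = W u * ((Nat.card D' : ℂ) * W' w /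
          (Nat.card (Subgroup.centralizer ({y} : Set H)) : ℂ)) by ring]
      exact mul_mem (natCast_mem _ _) (mul_mem (mem_loc_iff.mpr (hWL u)) (mem_loc_iff.mpr (hWC' w)))
  · have h0 := hmix1 x y hx hy
    rw [h0, zero_div, zero_div]
    exact ⟨zero_mem _, zero_mem _, Or.inr rfl⟩
  · have h0 := hmix2 x y hx hy
    rw [h0, zero_div, zero_div]
    exact ⟨zero_mem _, zero_mem _, Or.inr rfl⟩
  · refine ⟨?_, ?_, Or.inl ⟨fun _ => hy, fun _ => hx⟩⟩
    · obtain ⟨c, hc⟩ : ∃ c : IrrCharacter G → ℂ, c = fun χ =>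
          ∑ η ∈ C'.BF.filter (fun η => I η = χ), (σ η : ℂ) * (η : H → ℂ) y := ⟨_, rfl⟩
      have hsum : ∀ v, ∑ χ, c χ * (χ : G → ℂ) v = μ v y := fun v => by
        rw [hμ, ← Finset.sum_fiberwise C'.BF I]
        refine Finset.sum_congr rfl fun χ _ => ?_
        simp only [hc, Finset.sum_mul]
        refine Finset.sum_congr rfl fun η hη => ?_
        rw [(Finset.mem_filter.mp hη).2]; ring
      rw [← hsum]
      exact div_centralizer_of_vanish hM c
        (fun χ => by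
          rw [hc]; exact sum_mem fun η _ => mul_mem (hσL η) (irr_mem_loc η y))
        (fun v hv => by rw [hsum]; exact hmix1 v y hv hy) hx
    · obtain ⟨c, hc⟩ : ∃ c : IrrCharacter H → ℂ, c = fun η =>
          if η ∈ B' then (σ η : ℂ) * (I η : G → ℂ) x else 0 := ⟨_, rfl⟩
      have hsum : ∀ v, ∑ η, c η * (η : H → ℂ) v = μ x v := fun v => by
        rw [hμ, Coords.BF, Finset.sum_filter]
        refine Finset.sum_congr rfl fun η _ => ?_
        simp only [hc]
        split_ifs <;> ring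
      rw [← hsum]
      exact div_centralizer_of_vanish hM c
        (fun η => by
          rw [hc]; dsimp only
          split_ifs
          · exact mul_mem (hσL η) (irr_mem_loc _ _)
          · exact zero_mem _)
        (fun v hv => by rw [hsum]; exact hmix2 x v hx hv) hy

end Cfsg.Agent.Blocks.CycPerf
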