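import Cfsg.Agent.Lib.Blocks.CycMain
import Mathlib.GroupTheory.Perm.Cycle.Type

/-!
# The characters of `b` as linear characters of the defect group

With origin at the fixed character `η`, the inertial group acts by raising linear characters to
the powers in the subgroup of order `e` of the units modulo the order of the defect group.
-/

set_option linter.unusedSectionVars false

namespace Cfsg.Agent.Blocks.Cyclic

open MonoidAlgebra BPairs
open scoped ComplexConjugate

universe u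

section Transport

variable {H : Type u} [Group H] [Finite H] {H' : Type u} [Group H'] [Finite H'] {p : ℕ}
  [hp : Fact p.Prime] {M : Ideal AlgInt} [M.IsPrime]

/-- Parts at sections along an isomorphism. -/
theorem phi_compIso (hM : IsPModular p M) (σ : H ≃* H') (θ : IrrCharacter H') {g : H}
    {a : MonoidAlgebra (Res M) H} (ha : a * a = a) (hg : Commute a (single g 1)) :
    phi p θ (σ g) (mapDomainRingHom (Res M) σ.toMonoidHom a) =
      phi p (Glauberman.compIrr σ θ) g a := by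
  obtain ⟨ε, h1, h2, h3⟩ := exists_inv_idem_lift (Subgroup.zpowers g) ha (isInv_zpowers_iff.mpr hg)
  have hc : Commute ε (single g 1) := isInv_zpowers_iff.mp h3
  have hs : ∀ (R : Type) [CommRing R] (v : H) (r : R),
      mapDomainRingHom R σ.toMonoidHom (single v r) = single (σ v) r := fun R _ v r => by simp
  rw [phi_eq_of_red hM _ h1 hc h2,
    phi_eq_of_red hM θ (ε := mapDomainRingHom (Loc M) σ.toMonoidHom ε) (by rw [← map_mul, h1])
      (by
        have := hc.map (mapDomainRingHom (Loc M) σ.toMonoidHom)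
        simpa using this)
      (by
        rw [← h2]
        clear h1 h2 h3 hc
        induction ε using MonoidAlgebra.induction_linear with
        | zero => simp
        | add x y hx hy => simp only [map_add, hx, hy]
        | single v r => simp [redG])]
  congr 1
  rw [show (single (σ g) (1 : Loc M)) = mapDomainRingHom (Loc M) σ.toMonoidHom (single g 1) by simp,
    ← map_mul]
  generalize ε * single g 1 = w
  induction w using MonoidAlgebra.induction_linear with
  | zero => simp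
  | add x y hx hy => rw [map_add, ev_add, ev_add, hx, hy]
  | single v r =>
    simp only [mapDomainRingHom_apply, mapDomain_single, ev_single]
    rfl

end Transport

section Roots

/-- Two `e`-th roots of unity modulo `p ^ n` congruent modulo `p` are congruent. -/
theorem root_unique {p n e : ℕ} (hp : p.Prime) (he : ¬ p ∣ e) (he0 : 0 < e) {a b : ℕ}
    (ha : a ^ e ≡ 1 [MOD p ^ n]) (hb : b ^ e ≡ 1 [MOD p ^ n]) (h : a ≡ b [MOD p]) :
    a ≡ b [MOD p ^ n] := by
  have h1 : a ^ p ^ n ≡ b ^ p ^ n [MOD p ^ n] := by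
    have hd : (p : ℤ) ∣ (a : ℤ) - (b : ℤ) := (Nat.modEq_iff_dvd.mp h.symm)
    have := dvd_sub_pow_of_dvd_sub hd n
    refine (Nat.modEq_iff_dvd.mpr ?_).symm
    push_cast
    exact dvd_trans (pow_dvd_pow _ n.le_succ) this
  have hpow : ∀ c : ℕ, c ^ e ≡ 1 [MOD p ^ n] → ∀ j, c ^ (e * j + 1) ≡ c [MOD p ^ n] := by
    intro c hc j
    rw [pow_succ, pow_mul]
    simpa using (hc.pow j).mul_right c
  obtain ⟨x, hx⟩ : ∃ x j, p ^ n * x = e * j + 1 := by
    rcases Nat.lt_or_ge 1 e with he1 | he1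
    · obtain ⟨x, -, hx⟩ := Nat.exists_mul_mod_eq_one_of_coprime
        ((hp.coprime_iff_not_dvd.mpr he).pow_left n) he1
      exact ⟨x, p ^ n * x / e, by
        conv_lhs => rw [← Nat.div_add_mod (p ^ n * x) e]
        rw [hx]⟩
    · obtain rfl : e = 1 := by omega
      exact ⟨1, p ^ n - 1, by have := Nat.one_le_pow n p hp.pos; omega⟩
  obtain ⟨j, hj⟩ := hx
  have := h1.pow x
  rw [← pow_mul, ← pow_mul, hj] at this
  exact ((hpow a ha j).symm.trans this).trans (hpow b hb j)

end Roots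

variable {G : Type u} [Group G] [Fintype G] {p : ℕ} [hp : Fact p.Prime] {M : Ideal AlgInt}
  [M.IsPrime]

namespace Setting

variable (S : Setting p M G)

/-- The defect group seen in the centralizer of `z`. -/
noncomputable abbrev Dc : Subgroup S.C := S.D.subgroupOf S.C

/-- A maximal pair of `b`. -/
noncomputable def c' : Set (IrrCharacter (Subgroup.centralizer (S.Dc : Set S.C))) :=
  S.exists_pair_b.choose

theorem hmax' : IsMaximalBrauerPair p M S.b S.Dc S.c' := S.exists_pair_b.choose_spec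

/-- The linear characters of the defect group. -/
abbrev Lin : Type u := S.Dc →* ℂˣ

theorem height_η : blockHeight p S.b ((S.η : IrrCharacter S.C) : S.C → ℂ) = 0 := by
  obtain ⟨χ₀, -, -, -, -, h, -⟩ := CycNil.basic S.hM S.nilpotent S.hmax' S.cyclic_D'
  exact h _ S.η.2

theorem exists_Lam : ∃ Λ : S.Lin ≃ S.b, Λ 1 = S.η ∧
    ∀ (f : S.Lin) (v : S.C) (a : MonoidAlgebra (Res M) S.C), a ∈ blkIdem M (pPart p v) →
      phi p (Λ f : IrrCharacter S.C) v a =
        CycNil.lw S.Dc S.c' p M f (pPart p v) a * phi p (S.η : IrrCharacter S.C) v a := by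
  obtain ⟨Λ, hΛ⟩ := CycNil.exists_param S.hM S.nilpotent S.hmax' S.cyclic_D' S.η.2 S.height_η
    (S.card_b.trans S.card_D'.symm)
  have hphi : ∀ (f : S.Lin) (v : S.C) (a : MonoidAlgebra (Res M) S.C), a ∈ blkIdem M (pPart p v) →
      phi p (Λ f : IrrCharacter S.C) v a =
        CycNil.lw S.Dc S.c' p M f (pPart p v) a * phi p (S.η : IrrCharacter S.C) v a :=
    fun f v a ha => phi_of_eq_psi S.hM (hΛ f).1 ha
  refine ⟨Λ, Subtype.ext (Subtype.ext (funext fun v => ?_)), hphi⟩
  rw [← sum_phi S.hM (Λ 1 : IrrCharacter S.C) v, ← sum_phi S.hM (S.η : IrrCharacter S.C) v]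
  refine Finset.sum_congr rfl fun a ha => ?_
  by_cases hin : InB M S.b (pPart p v) a
  · obtain ⟨g, hg⟩ := exists_belAt_of_inB S.hM S.hmax' (ppart_pow_eq_one (pPart_spec v)) ha hin
    rw [hphi 1 v a ha, CycNil.lw, weight_eq (CycNil.stable_lw S.hM S.nilpotent S.hmax' 1) hg,
      CT.extendByZero_mem _ _ (belAt_mem hg), MonoidHom.one_apply, Units.val_one, one_mul]
  · rw [phi_eq_zero_of_not_inB S.hM S.hb (Λ 1).2 ha hin,
      phi_eq_zero_of_not_inB S.hM S.hb S.η.2 ha hin]

/-- The parametrization. -/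
noncomputable def Lam : S.Lin ≃ S.b := S.exists_Lam.choose

theorem Lam_one : S.Lam 1 = S.η := S.exists_Lam.choose_spec.1

theorem phi_Lam (f : S.Lin) {v : S.C} {a : MonoidAlgebra (Res M) S.C}
    (ha : a ∈ blkIdem M (pPart p v)) :
    phi p (S.Lam f : IrrCharacter S.C) v a =
      CycNil.lw S.Dc S.c' p M f (pPart p v) a * phi p (S.η : IrrCharacter S.C) v a :=
  S.exists_Lam.choose_spec.2 f v a ha

theorem phi_Lam_belAt (f : S.Lin) {v : S.C} {w : S.Dc} (hw : pPart p v = (w : S.C))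
    {a : MonoidAlgebra (Res M) S.C} (h : BelAt p M S.Dc S.c' (w : S.C) a) :
    phi p (S.Lam f : IrrCharacter S.C) v a = (f w : ℂ) * phi p (S.η : IrrCharacter S.C) v a := by
  have ha : a ∈ blkIdem M (pPart p v) := by
    obtain ⟨k, hle, rfl⟩ := h
    rw [hw]
    exact mem_blkIdemS.mpr ⟨k, (isBrauerPair_of_subpair hle S.hmax'.1.1).2, rfl⟩
  rw [S.phi_Lam f ha, hw, CycNil.lw, weight_self (CycNil.stable_lw S.hM S.nilpotent S.hmax' f) h,
    CT.extendByZero_coe]

theorem exists_gen : ∃ u : S.Dc, ∀ x, x ∈ Subgroup.zpowers u :=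
  haveI := S.cyclic_D'
  IsCyclic.exists_generator

/-- The inertial generator acts by raising to a power. -/
theorem exists_exponent : ∃ k : ℕ, ∀ f : S.Lin, S.tT • S.Lam f = S.Lam (f ^ k) := by
  obtain ⟨u, hu⟩ := S.exists_gen
  obtain ⟨f₀, hf₀, hbel⟩ := exists_belAt S.hM S.hmax' u
  have hup : ∃ j : ℕ, (u : S.C) ^ p ^ j = 1 := exists_pow_eq_one_of_isPGroup S.hmax'.1.1.1 u.2
  haveI := Fintype.ofFinite (cz (u : S.C))
  obtain ⟨y, hy, hne⟩ := exists_phi_ne_zero S.hM hup (isInducedBlock_of_brauerPair S.hM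
    (isBrauerPairOf_of_inB S.hM S.hb hup hf₀ (inB_of_belAt S.hM S.hmax' hbel))) S.η.2 S.height_η
  obtain ⟨v, hv⟩ : ∃ v : S.C, v = (u : S.C) * (y : S.C) := ⟨_, rfl⟩
  rw [← hv] at hne
  have hpv : pPart p v = (u : S.C) := by
    rw [hv]; exact pPart_fiber hup y.2 (by rwa [Subgroup.orderOf_coe])
  obtain ⟨a, hadef⟩ : ∃ a, a = bel M (cz (u : S.C)) f₀ := ⟨_, rfl⟩
  rw [← hadef] at hbel hne
  have ha : a ∈ blkIdem M (pPart p v) := by
    rw [hpv, hadef]; exact mem_blkIdemS.mpr ⟨f₀, hf₀, rfl⟩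
  obtain ⟨σ, hσ⟩ : ∃ σ, σ = cIso (S.tT : G) S.C S.C (S.mem_C_iff S.tT) := ⟨_, rfl⟩
  obtain ⟨v', hv'⟩ : ∃ v', v' = σ v := ⟨_, rfl⟩
  obtain ⟨a', ha'⟩ : ∃ a', a' = mapDomainRingHom (Res M) σ.toMonoidHom a := ⟨_, rfl⟩
  have hv'p : pPart p v' = σ (pPart p v) := by
    rw [hv']
    refine Subtype.ext ?_
    rw [← pPart_coe, hσ]
    show pPart p ((S.tT : G)⁻¹ * (v : G) * (S.tT : G)) =
      (S.tT : G)⁻¹ * ((pPart p v : S.C) : G) * (S.tT : G)
    rw [← pPart_coe]
    simpa using pPart_conj (p := p) ((S.tT : G))⁻¹ (v : G)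
  have hemb : ∀ b : MonoidAlgebra (Res M) S.C,
      embH S.C (mapDomainRingHom (Res M) σ.toMonoidHom b) = conjA (S.tT : G)⁻¹ (embH S.C b) := by
    intro b
    induction b using MonoidAlgebra.induction_linear with
    | zero => simp [conjA]
    | add x y hx hy => simp only [map_add, hx, hy, conjA, mul_add, add_mul]
    | single w r =>
      rw [mapDomainRingHom_apply, mapDomain_single, embH_single, embH_single, conjA,
        single_mul_single, single_mul_single, inv_inv, one_mul, mul_one, hσ]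
      rfl
  have hu1 : (u : S.C) ≠ 1 := by
    intro h
    have h1 : Nat.card S.Dc = 1 := Subgroup.card_eq_one.mpr (Subgroup.ext fun x =>
      ⟨fun hx => by
        obtain ⟨i, hi⟩ := hu ⟨x, hx⟩
        simp only [show u = 1 from Subtype.ext h, one_zpow] at hi
        exact (congrArg Subtype.val hi).symm, fun hx => hx ▸ one_mem _⟩)
    rw [S.card_D'] at h1
    have := S.two_le_card
    omega
  have hle : cz ((pPart p v : S.C) : G) ≤ S.C := by
    rw [hpv]
    exact S.cz_le (Subgroup.mem_subgroupOf.mp u.2) fun h => hu1 (Subtype.ext h)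
  have hle' : cz ((pPart p v' : S.C) : G) ≤ S.C := by
    intro w hw
    have h1 : (S.tT : G) * w * (S.tT : G)⁻¹ ∈ cz ((pPart p v : S.C) : G) := by
      refine mem_cz.mpr ?_
      show _ = _
      have h2 := (mem_cz.mp hw : _)
      rw [hv'p, hσ] at h2
      change w * ((S.tT : G)⁻¹ * ((pPart p v : S.C) : G) * (S.tT : G)) =
        (S.tT : G)⁻¹ * ((pPart p v : S.C) : G) * (S.tT : G) * w at h2
      have h3 := congrArg (fun x => (S.tT : G) * x * (S.tT : G)⁻¹) h2
      simp only [mul_assoc, mul_inv_cancel_left, inv_mul_cancel_left, mul_inv_cancel, mul_one] at h3 ⊢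
      exact h3
    exact (S.mem_C_iff S.tT w).mpr (hle h1)
  have ha'mem : a' ∈ blkIdem M (pPart p v') := by
    have h1 : conjA (S.tT : G)⁻¹ (embH S.C a) ∈ blkIdem M ((pPart p v' : S.C) : G) := by
      rw [hv'p, hσ]
      have := conjA_mem_blkIdem (S.tT : G)⁻¹ (embH_mem_blkIdem hle ha)
      rw [inv_inv] at this
      exact this
    obtain ⟨a'', h2, h3⟩ := exists_embH_eq hle' h1
    rwa [ha', ← embH_injective S.C (h3.trans (hemb a).symm)]
  have htr : ∀ θ : S.b, phi p ((S.tT • θ : S.b) : IrrCharacter S.C) v a =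
      phi p (θ : IrrCharacter S.C) v' a' := fun θ => by
    rw [hv', ha', phi_compIso S.hM σ _ (blkIdem_mul_self ha) (blk_commute ha), hσ]
    rfl
  have hne' : phi p (S.η : IrrCharacter S.C) v' a' ≠ 0 := by
    rw [← htr, S.smul_η]; exact hne
  have hin' : InB M S.b (pPart p v') a' := by
    by_contra h
    exact hne' (phi_eq_zero_of_not_inB S.hM S.hb S.η.2 ha'mem h)
  obtain ⟨g, hg⟩ := exists_belAt_of_inB S.hM S.hmax' (ppart_pow_eq_one (pPart_spec v')) ha'mem hin'
  classical
  obtain ⟨k, hk⟩ : ∃ k : ℕ, u ^ k = (⟨_, belAt_mem hg⟩ : S.Dc) := by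
    obtain ⟨k, -, hk⟩ := Finset.mem_image.mp (mem_zpowers_iff_mem_range_orderOf.mp (hu ⟨_, belAt_mem hg⟩))
    exact ⟨k, hk⟩
  refine ⟨k, fun f => ?_⟩
  obtain ⟨f', hf'⟩ : ∃ f', S.tT • S.Lam f = S.Lam f' := ⟨_, (S.Lam.apply_symm_apply _).symm⟩
  rw [hf']
  congr 1
  have h1 := htr (S.Lam f)
  rw [hf', S.phi_Lam_belAt f' hpv hbel, S.phi_Lam f ha'mem, CycNil.lw,
    weight_eq (CycNil.stable_lw S.hM S.nilpotent S.hmax' f) hg,
    CT.extendByZero_mem _ _ (belAt_mem hg), ← htr, S.smul_η] at h1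
  have h2 := Units.ext (mul_right_cancel₀ hne h1)
  refine MonoidHom.ext fun x => ?_
  obtain ⟨i, rfl⟩ := hu x
  rw [map_zpow, map_zpow, MonoidHom.pow_apply, h2, ← hk, map_pow]

end Setting

end Cfsg.Agent.Blocks.Cyclic
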