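import Cfsg.Agent.Lib.Blocks.CycPerfectMain
import Cfsg.Agent.Lib.Blocks.ChainCount
import Cfsg.Agent.Lib.Blocks.FirstMain

/-!
# Perfect isometries between two blocks with cyclic defect groups, and local correspondents
-/

set_option linter.unusedSectionVars false

namespace Cfsg.Agent.Blocks.Cyclic

open MonoidAlgebra BPairs CycPerf

universe u w

variable {G : Type u} [Group G] [Fintype G] {p : ℕ} [hp : Fact p.Prime] {M : Ideal AlgInt}
  [M.IsPrime]

/-- An abelian defect group has a block of its centralizer inducing the block. -/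
theorem exists_centralizer_block (hM : IsPModular p M) {B : Set (IrrCharacter G)}
    (hB : IsPBlock M B) {P : Subgroup G} (hPD : IsDefectGroup p M B P) (hcyc : IsCyclic P) :
    ∃ c : Set (IrrCharacter (Subgroup.centralizer (P : Set G))),
      IsInducedBlock M (Subgroup.centralizer (P : Set G)) c B := by
  haveI := charP_res hM
  have hPp := isPGroup_defectGroup hM hB hPD
  obtain ⟨ξ, hξ⟩ := exists_block_inducing hM hPp (le_centralizer_of_cyclic hcyc) le_rfl
    (Subgroup.centralizer_le_normalizer _) hB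
    ((br_bBar_ne_zero_iff hM hB hPD hPp).mpr ⟨1, by rw [map_conj_one]⟩)
  exact ⟨_, hξ⟩

section Local

variable (P H : Subgroup G)

/-- The centralizer of a subgroup of `H` in `G`, seen in `H`. -/
def centIso (hPH : P ≤ H) (hCH : Subgroup.centralizer (P : Set G) ≤ H) :
    Subgroup.centralizer (P : Set G) ≃*
      Subgroup.centralizer ((P.subgroupOf H : Subgroup H) : Set H) where
  toFun u := ⟨⟨(u : G), hCH u.2⟩, (mem_centralizer_subgroupOf hPH).mpr u.2⟩
  invFun v := ⟨((v : H) : G), (mem_centralizer_subgroupOf hPH).mp v.2⟩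
  left_inv _ := rfl
  right_inv _ := rfl
  map_mul' _ _ := rfl

variable {P H} (hPH : P ≤ H) (hCH : Subgroup.centralizer (P : Set G) ≤ H)

open Classical in
/-- Transitivity: a block of the centralizer in `H` induces the same block of `G`. -/
theorem induced_pull (hM : IsPModular p M) {B : Set (IrrCharacter G)} {c : Set (IrrCharacter H)}
    (hc : IsInducedBlock M H c B)
    {c₁ : Set (IrrCharacter (Subgroup.centralizer ((P.subgroupOf H : Subgroup H) : Set H)))}
    (h₁ : IsInducedBlock M (Subgroup.centralizer ((P.subgroupOf H : Subgroup H) : Set H)) c₁ c) :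
    IsInducedBlock M (Subgroup.centralizer (P : Set G)) (pullSet (centIso P H hPH hCH) c₁) B := by
  refine ⟨isPBlock_pullSet _ h₁.1, hc.2.1, fun ξ hξ χ hχ g => ?_⟩
  obtain ⟨η, hηdef⟩ : ∃ η, η = Glauberman.compIrr (centIso P H hPH hCH).symm ξ := ⟨_, rfl⟩
  have hη : η ∈ c₁ := hηdef ▸ hξ
  obtain ⟨ψ, hψ⟩ := block_nonempty hc.1
  have hover : ψ ∈ ChainCount.Over M B H.subtype := fun χ hχ g => hc.2.2 ψ hψ χ hχ g
  haveI := Fintype.ofFinite H
  haveI := Fintype.ofFinite (Subgroup.centralizer ((P.subgroupOf H : Subgroup H) : Set H))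
  have h2 := (ChainCount.trans_induced (b := B) H.subtype (η := η) (ψ := ψ)
    (by rw [← block_eq_blockOf h₁.1 hη, ← block_eq_blockOf hc.1 hψ]; exact h₁)).mpr hover χ hχ g
  convert h2 using 2
  rw [inducedCentralChar, ChainCount.indC, finsum_mem_def, finsum_mem_def]
  refine (finsum_comp_equiv (centIso P H hPH hCH).symm.toEquiv).symm.trans ?_
  refine finsum_congr fun v => ?_
  rw [hηdef]
  simp only [Set.indicator_apply, Set.mem_setOf_eq]
  rfl

theorem stabilizes_iff (g : H) (hg : (g : G) ∈ Subgroup.normalizer (P : Set G))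
    (c₁ : Set (IrrCharacter (Subgroup.centralizer ((P.subgroupOf H : Subgroup H) : Set H)))) :
    StabilizesBlock (Subgroup.centralizer (P : Set G)) (pullSet (centIso P H hPH hCH) c₁) (g : G) ↔
      StabilizesBlock (Subgroup.centralizer ((P.subgroupOf H : Subgroup H) : Set H)) c₁ g := by
  have hN : ∀ v : H, v ∈ Subgroup.centralizer ((P.subgroupOf H : Subgroup H) : Set H) ↔
      g * v * g⁻¹ ∈ Subgroup.centralizer ((P.subgroupOf H : Subgroup H) : Set H) := fun v => by
    rw [mem_centralizer_subgroupOf hPH, mem_centralizer_subgroupOf hPH]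
    simpa using Subgroup.mem_normalizer_iff.mp (normalizer_le_normalizer_centralizer P hg) (v : G)
  constructor
  · rintro ⟨-, h⟩
    refine ⟨Subgroup.mem_normalizer_iff.mpr hN, fun χ hχ => ?_⟩
    obtain ⟨θ', hθ', hc⟩ := h (Glauberman.compIrr (centIso P H hPH hCH) χ)
      ((compIrr_mem_pullSet _).mpr hχ)
    refine ⟨Glauberman.compIrr (centIso P H hPH hCH).symm θ', hθ', fun k k' hk => ?_⟩
    have := hc ((centIso P H hPH hCH).symm k) ((centIso P H hPH hCH).symm k')
      (congrArg (fun x : H => (x : G)) hk)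
    simpa [Glauberman.compIrr_apply] using this
  · rintro ⟨-, h⟩
    refine ⟨normalizer_le_normalizer_centralizer P hg, fun χ hχ => ?_⟩
    obtain ⟨θ', hθ', hc⟩ := h _ hχ
    refine ⟨Glauberman.compIrr (centIso P H hPH hCH) θ', (compIrr_mem_pullSet _).mpr hθ',
      fun k k' hk => ?_⟩
    have := hc (centIso P H hPH hCH k) (centIso P H hPH hCH k') (Subtype.ext hk)
    simpa [Glauberman.compIrr_apply] using this

/-- The inertial index can be computed inside `H`. -/
theorem relIndex_stab_eq (hNH : Subgroup.normalizer (P : Set G) ≤ H)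
    {c₁ : Set (IrrCharacter (Subgroup.centralizer ((P.subgroupOf H : Subgroup H) : Set H)))}
    (h₁ : IsPBlock M c₁) :
    (Subgroup.centralizer (P : Set G)).relIndex
        (stabSub M P (pullSet (centIso P H hPH hCH) c₁)) =
      (Subgroup.centralizer ((P.subgroupOf H : Subgroup H) : Set H)).relIndex
        (stabSub M (P.subgroupOf H) c₁) := by
  have hnorm : ∀ g : H, g ∈ Subgroup.normalizer ((P.subgroupOf H : Subgroup H) : Set H) ↔
      (g : G) ∈ Subgroup.normalizer (P : Set G) := fun g => by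
    rw [Subgroup.mem_normalizer_iff, Subgroup.mem_normalizer_iff]
    constructor
    · intro h v
      constructor
      · intro hv
        simpa [Subgroup.mem_subgroupOf] using (h ⟨v, hPH hv⟩).mp (Subgroup.mem_subgroupOf.mpr hv)
      · intro hv
        have hvH : v ∈ H := by
          simpa [mul_assoc] using mul_mem (mul_mem (inv_mem g.2) (hPH hv)) g.2
        simpa [Subgroup.mem_subgroupOf] using (h ⟨v, hvH⟩).mpr
          (Subgroup.mem_subgroupOf.mpr (by simpa using hv))
    · intro h v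
      simpa [Subgroup.mem_subgroupOf] using h (v : G)
  have e1 : (Subgroup.centralizer ((P.subgroupOf H : Subgroup H) : Set H)).map H.subtype =
      Subgroup.centralizer (P : Set G) := by
    ext v
    exact ⟨fun ⟨w, hw, e⟩ => e ▸ (mem_centralizer_subgroupOf hPH).mp hw,
      fun hv => ⟨⟨v, hCH hv⟩, (mem_centralizer_subgroupOf hPH).mpr hv, rfl⟩⟩
  have e2 : (stabSub M (P.subgroupOf H) c₁).map H.subtype =
      stabSub M P (pullSet (centIso P H hPH hCH) c₁) := by
    ext v
    constructor
    · rintro ⟨w, hw, rfl⟩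
      obtain ⟨hw1, hw2⟩ := (mem_stabSub h₁).mp hw
      exact (mem_stabSub (isPBlock_pullSet _ h₁)).mpr
        ⟨(hnorm w).mp hw1, (stabilizes_iff hPH hCH w ((hnorm w).mp hw1) c₁).mpr hw2⟩
    · intro hv
      obtain ⟨hv1, hv2⟩ := (mem_stabSub (isPBlock_pullSet _ h₁)).mp hv
      exact ⟨⟨v, hNH hv1⟩, (mem_stabSub h₁).mpr ⟨(hnorm ⟨v, hNH hv1⟩).mpr hv1,
        (stabilizes_iff hPH hCH ⟨v, hNH hv1⟩ hv1 c₁).mp hv2⟩, rfl⟩
  exact ((congrArg₂ Subgroup.relIndex e1 e2).symm.trans
    (Subgroup.relIndex_map_map_of_injective _ _ H.subtype_injective))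

end Local

/-- Two settings with the same invariants. -/
theorem exists_isometry_settings {H : Type w} [Group H] [Fintype H] (S : Setting p M G)
    (S' : Setting p M H) (ψ : S.D ≃* S'.D) (he : S'.e = S.e) :
    haveI := S.isCyclic_Dc
    haveI := S'.isCyclic_Dc
    ∃ (C : Coords p M S.B S.Dc) (C' : Coords p M S'.B S'.Dc) (I : IrrCharacter H → IrrCharacter G)
      (σ : IrrCharacter H → ℤ), C.e = S.e ∧ C'.e = S'.e ∧ IsPerfectIsometry p M S'.B S.B I σ ∧
      (∀ η, C'.IsY η → σ η = C.ε * C'.ε) ∧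
      ∀ η ∈ S'.B, ¬ C'.IsY η → ∃ χ ∈ S.B, ¬ C.IsY χ ∧ σ η = C.bb χ * C'.bb η := by
  haveI := S.isCyclic_Dc
  haveI := S'.isCyclic_Dc
  obtain ⟨C, hC⟩ := S.exists_coords
  obtain ⟨C', hC'⟩ := S'.exists_coords
  obtain ⟨I, σ, h1, h2, h3⟩ := exists_isometry S.hM C C'
    ((Subgroup.subgroupOfEquivOfLe S.hDC).trans
      (ψ.trans (Subgroup.subgroupOfEquivOfLe S'.hDC).symm))
    (by rw [hC, hC', he])
  exact ⟨C, C', I, σ, hC, hC', h1, h2, h3⟩

end Cfsg.Agent.Blocks.Cyclic
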