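import Cfsg.Agent.Lib.Blocks.InertialCyclic
import Cfsg.Agent.Lib.BrauerPairs.Saturation
import Cfsg.Agent.Lib.Basics.FpfAbelian

/-!
# A block with cyclic defect group

The block `b` of the centralizer of the element `z` of order `p` of the defect group below the
maximal pair, and its inertial group `T` in the normalizer of that subgroup of order `p`.
-/

set_option linter.unusedSectionVars false

namespace Cfsg.Agent.Blocks.Cyclic

open MonoidAlgebra BPairs

universe u

variable {G : Type u} [Group G] [Finite G] {p : ℕ} [hp : Fact p.Prime] {M : Ideal AlgInt}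
  [M.IsPrime]

/-- A block with nontrivial cyclic defect group and a root of it. -/
structure Setting (p : ℕ) [Fact p.Prime] (M : Ideal AlgInt) [M.IsPrime] (G : Type u) [Group G]
    [Finite G] where
  hM : IsPModular p M
  B : Set (IrrCharacter G)
  hB : IsPBlock M B
  D : Subgroup G
  hPD : IsDefectGroup p M B D
  hcyc : IsCyclic D
  hD1 : D ≠ ⊥
  c : Set (IrrCharacter (Subgroup.centralizer (D : Set G)))
  hc : IsInducedBlock M (Subgroup.centralizer (D : Set G)) c B

namespace Setting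

variable (S : Setting p M G)

theorem hmax : IsMaximalBrauerPair p M S.B S.D S.c := maximal_of_induced S.hM S.hB S.hPD S.hc

theorem hDc : S.D ≤ Subgroup.centralizer (S.D : Set G) := le_centralizer_of_cyclic S.hcyc

theorem free {g : G} (hg : g ∈ stabSub M S.D S.c) {x : G} (hx : x ∈ S.D) (hx1 : x ≠ 1)
    (hgx : g * x * g⁻¹ = x) : g ∈ Subgroup.centralizer (S.D : Set G) :=
  free_of_cyclic S.hM S.hB S.hPD S.hcyc S.hc g hg x hx hx1 hgx

theorem hDp : IsPGroup p S.D := isPGroup_defectGroup S.hM S.hB S.hPD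

/-- The element of order `p`. -/
noncomputable def z : G := ((exists_order_p S.hDp S.hD1).choose : G)

theorem z_mem : S.z ∈ S.D := (exists_order_p S.hDp S.hD1).choose.2

theorem orderOf_z : orderOf S.z = p := by
  rw [z, Subgroup.orderOf_coe]
  exact (exists_order_p S.hDp S.hD1).choose_spec

theorem z_ne : S.z ≠ 1 := fun h => hp.out.ne_one (by rw [← S.orderOf_z, h, orderOf_one])

theorem z_pow : ∃ k : ℕ, S.z ^ p ^ k = 1 :=
  ⟨1, by rw [pow_one]; exact orderOf_dvd_iff_pow_eq_one.mp S.orderOf_z.dvd⟩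

/-- The centralizer of `z`. -/
noncomputable abbrev C : Subgroup G := cz S.z

theorem hDC : S.D ≤ S.C :=
  S.hDc.trans (Subgroup.centralizer_le (Subgroup.zpowers_le.mpr S.z_mem))

theorem hKC : Subgroup.centralizer (S.D : Set G) ≤ S.C :=
  Subgroup.centralizer_le (Subgroup.zpowers_le.mpr S.z_mem)

theorem zpowers_le : Subgroup.zpowers S.z ≤ S.D := Subgroup.zpowers_le.mpr S.z_mem

/-- A subgroup of order `p` of `D` is generated by `z`. -/
theorem mem_zpowers_of_order {v : G} (hv : v ∈ S.D) (ho : orderOf v = p) :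
    Subgroup.zpowers v = Subgroup.zpowers S.z := by
  haveI := S.hcyc
  have hle : Subgroup.zpowers v ≤ S.D := Subgroup.zpowers_le.mpr hv
  have h := Basics.cyclic_subgroup_eq_of_card_eq (S := S.D)
    (A := (Subgroup.zpowers v).subgroupOf S.D) (B := (Subgroup.zpowers S.z).subgroupOf S.D) (by
      rw [Nat.card_congr (Subgroup.subgroupOfEquivOfLe hle).toEquiv,
        Nat.card_congr (Subgroup.subgroupOfEquivOfLe S.zpowers_le).toEquiv, Nat.card_zpowers,
        Nat.card_zpowers, ho, S.orderOf_z])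
  have h2 := congrArg (fun A : Subgroup S.D => A.map S.D.subtype) h
  simpa [Subgroup.map_subgroupOf_eq_of_le hle, Subgroup.map_subgroupOf_eq_of_le S.zpowers_le]
    using h2

/-- Every nontrivial element of `D` has `z` among its powers. -/
theorem z_mem_zpowers {d : G} (hd : d ∈ S.D) (hd1 : d ≠ 1) : S.z ∈ Subgroup.zpowers d := by
  have hne : Subgroup.zpowers d ≠ ⊥ := fun h => hd1 (by simpa using h)
  have hle : Subgroup.zpowers d ≤ S.D := Subgroup.zpowers_le.mpr hd
  obtain ⟨⟨v, hv⟩, ho⟩ := exists_order_p (S.hDp.to_le hle) hne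
  rw [Subgroup.orderOf_mk] at ho
  exact (Subgroup.zpowers_le.mpr hv) (S.mem_zpowers_of_order (hle hv) ho ▸ Subgroup.mem_zpowers S.z)

theorem hcz {d : G} (hd : d ∈ S.D) (hd1 : d ≠ 1) {g : G} (hg : Commute d g) : g ∈ S.C := by
  obtain ⟨i, hi⟩ := S.z_mem_zpowers hd hd1
  refine mem_cz.mpr ?_
  rw [← hi]
  exact (hg.zpow_left i).symm

theorem cz_le {d : G} (hd : d ∈ S.D) (hd1 : d ≠ 1) : cz d ≤ S.C :=
  fun _ hg => S.hcz hd hd1 (mem_cz.mp hg).symm

/-- Conjugation moving a nontrivial element of `D` into `D` normalizes `⟨z⟩`. -/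
theorem mem_normalizer_of_conj {d g : G} (hd : d ∈ S.D) (hd1 : d ≠ 1) (hg : g⁻¹ * d * g ∈ S.D) :
    g ∈ Subgroup.normalizer ((Subgroup.zpowers S.z : Subgroup G) : Set G) := by
  obtain ⟨i, hi⟩ := S.z_mem_zpowers hd hd1
  have h1 : g⁻¹ * S.z * g = (g⁻¹ * d * g) ^ i := by
    rw [← hi]
    have h := conj_zpow (i := i) (a := g⁻¹) (b := d)
    simp only [inv_inv] at h
    exact h.symm
  have h2 := S.mem_zpowers_of_order (v := g⁻¹ * S.z * g) (h1 ▸ S.D.zpow_mem hg i) (by
    rw [show g⁻¹ * S.z * g = MulAut.conj g⁻¹ S.z by simp, MulEquiv.orderOf_eq, S.orderOf_z])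
  have h3 : g⁻¹ ∈ Subgroup.normalizer ((Subgroup.zpowers S.z : Subgroup G) : Set G) := by
    refine Subgroup.mem_normalizer_iff_map_conj_eq.mpr ?_
    rw [MonoidHom.map_zpowers]
    simpa using h2
  simpa using inv_mem h3

theorem exists_b : ∃ b : Set (IrrCharacter S.C),
    IsPBlock M b ∧ SubpairLE p M (Subgroup.zpowers S.z) b S.D S.c := by
  obtain ⟨b, hb, -⟩ := existsUnique_below S.hM S.hmax.1.1 S.zpowers_le
  exact ⟨b, hb⟩

/-- The block of the centralizer of `z` below the maximal pair. -/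
noncomputable def b : Set (IrrCharacter S.C) := S.exists_b.choose

theorem hb : IsPBlock M S.b := S.exists_b.choose_spec.1

theorem hle : SubpairLE p M (Subgroup.zpowers S.z) S.b S.D S.c := S.exists_b.choose_spec.2

theorem unique_b {f : Set (IrrCharacter S.C)} (hf : IsPBlock M f)
    (hle : SubpairLE p M (Subgroup.zpowers S.z) f S.D S.c) : f = S.b := by
  obtain ⟨b, -, hu⟩ := existsUnique_below S.hM S.hmax.1.1 S.zpowers_le
  exact (hu f ⟨hf, hle⟩).trans (hu S.b ⟨S.hb, S.hle⟩).symm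

theorem nilpotent : IsNilpotentBlock p M S.b :=
  nilpotent_of_free S.hM S.hmax S.hDc (fun _ hg _ hx hx1 h => S.free hg hx hx1 h)
    (fun h => S.z_ne (by simpa using h)) S.hb S.hle

theorem defect_b : IsDefectGroup p M S.b (S.D.subgroupOf S.C) := by
  have hinf : S.D ⊓ Subgroup.centralizer ((Subgroup.zpowers S.z : Subgroup G) : Set G) = S.D :=
    inf_eq_left.mpr S.hDC
  have h := centralizer_defect_of_fullyCentralized S.hM S.hmax S.hle fun g _ => by
    rw [hinf]; exact Subgroup.card_le_of_le inf_le_left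
  rwa [hinf] at h

theorem cyclic_D' : IsCyclic (S.D.subgroupOf S.C) :=
  haveI := S.hcyc
  isCyclic_of_surjective (Subgroup.subgroupOfEquivOfLe S.hDC).symm.toMonoidHom
    (Subgroup.subgroupOfEquivOfLe S.hDC).symm.surjective

theorem card_D' : Nat.card (S.D.subgroupOf S.C) = Nat.card S.D :=
  Nat.card_congr (Subgroup.subgroupOfEquivOfLe S.hDC).toEquiv

theorem two_le_card : 2 ≤ Nat.card S.D := by
  by_contra h
  push Not at h
  exact S.hD1 (Subgroup.card_eq_one.mp (by have := Nat.card_pos (α := S.D); omega))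

/-- The maximal pair seen in the centralizer of `z`. -/
theorem exists_pair_b : ∃ c' : Set (IrrCharacter
    (Subgroup.centralizer ((S.D.subgroupOf S.C : Subgroup S.C) : Set S.C))),
    IsMaximalBrauerPair p M S.b (S.D.subgroupOf S.C) c' := by
  obtain ⟨⟨P', c'⟩, hpush⟩ := exists_pull (⟨S.D, S.c⟩ : BrauerPairIdx G) S.hc.1 S.hDC S.hKC
  have hpush' := hpush
  obtain ⟨hc', -, hsub, -⟩ := hpush
  dsimp only at hc' hsub
  have hP' : P' = S.D.subgroupOf S.C := by
    rw [← hsub]
    exact (Subgroup.comap_map_eq_self_of_injective S.C.subtype_injective P').symm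
  subst hP'
  have hP'p : IsPGroup p (S.D.subgroupOf S.C) := (isPGroup_push hsub).mpr S.hDp
  have hpair : IsBrauerPairOf p M S.b (S.D.subgroupOf S.C) c' := by
    refine isBrauerPairOf_iff.mpr ⟨hP'p, hc', S.hb, ?_⟩
    refine (occ_push S.hM hpush' S.hKC hP'p (inv2_center _ (bBar M S.b).2) (by
      rw [← Subring.coe_mul, bBar_mul_self (blockCoeff_mem_loc S.hb)])).mp ?_
    exact (isNormalSubpair_iff.mp (rel_of_below S.hM S.hmax.1.1 S.hle S.zpowers_le
      (S.hDC.trans (Subgroup.centralizer_le_normalizer _)) Relation.ReflTransGen.refl)).2.2.2.2.2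
  refine ⟨c', hpair, fun R g hR hle => ?_⟩
  obtain ⟨⟨R', g'⟩, hle', hmax'⟩ := exists_maximal S.hM hR
  have hcd := card_defect_eq S.hM S.hb (isDefectGroup_of_maximal S.hM hmax') S.defect_b
  exact (Subgroup.eq_of_le_of_card_ge (subpair_le hle)
    ((Subgroup.card_le_of_le (subpair_le hle')).trans hcd.le)).symm

/-- The inertial group of `b`. -/
noncomputable def T : Subgroup G := stabSub M (Subgroup.zpowers S.z) S.b

theorem mem_T {g : G} : g ∈ S.T ↔
    g ∈ Subgroup.normalizer ((Subgroup.zpowers S.z : Subgroup G) : Set G) ∧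
      conjA g (bel M S.C S.b) = bel M S.C S.b := Iff.rfl

theorem hCT : S.C ≤ S.T := centralizer_le_stabSub _

theorem hnC {s : G} (hs : s ∈ S.T) {g : G} (hg : g ∈ S.C) : s * g * s⁻¹ ∈ S.C :=
  (Subgroup.mem_normalizer_iff.mp
    (normalizer_le_normalizer_centralizer (Subgroup.zpowers S.z) hs.1) g).mp hg

theorem stab_le_T : stabSub M S.D S.c ≤ S.T := by
  intro x hx
  refine (conjIdx_eq_self_iff
    (show IsPBlock M (⟨Subgroup.zpowers S.z, S.b⟩ : BrauerPairIdx G).2 from S.hb)).mp ?_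
  have hN : x ∈ Subgroup.normalizer ((Subgroup.zpowers S.z : Subgroup G) : Set G) :=
    conj_mem_of_cyclic S.hcyc S.zpowers_le hx.1
  have key : ∀ a : BrauerPairIdx G, IsPBlock M a.2 → a.1 = Subgroup.zpowers S.z →
      Relation.ReflTransGen (NormalSubpairRel p M) a ⟨S.D, S.c⟩ →
        a = ⟨Subgroup.zpowers S.z, S.b⟩ := by
    rintro ⟨Q, f⟩ hf rfl hfle
    obtain rfl := S.unique_b hf hfle
    rfl
  refine key _ (isPBlock_conjBlock _ x S.hb) (Subgroup.mem_normalizer_iff_map_conj_eq.mp hN) ?_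
  have := subpair_conj S.hM S.hle x
  rwa [(conjIdx_eq_self_iff (show IsPBlock M (⟨S.D, S.c⟩ : BrauerPairIdx G).2 from S.hc.1)).mpr hx]
    at this

theorem exists_stab_mul {x : G} (hx : x ∈ S.T) :
    ∃ y ∈ stabSub M S.D S.c, ∃ g ∈ S.C, x = y * g :=
  abelian_stab S.hM S.hmax S.hle S.hDC hx

theorem stab_inter {x : G} (hx : x ∈ stabSub M S.D S.c) :
    x ∈ S.C ↔ x ∈ Subgroup.centralizer (S.D : Set G) := by
  refine ⟨fun h => S.free hx S.z_mem S.z_ne ?_, fun h => S.hKC h⟩
  rw [(mem_cz.mp h).eq, mul_inv_cancel_right]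

/-- The inertial index. -/
noncomputable def e : ℕ := (Subgroup.centralizer (S.D : Set G)).relIndex (stabSub M S.D S.c)

open Classical in
theorem exists_t : ∃ t ∈ stabSub M S.D S.c,
    (∀ s ∈ S.T, ∃ i < S.e, (t ^ i)⁻¹ * s ∈ S.C) ∧ (∀ i : ℕ, t ^ i ∈ S.C ↔ S.e ∣ i) ∧
      S.e ∣ p - 1 := by
  haveI hn : ((Subgroup.centralizer (S.D : Set G)).subgroupOf (stabSub M S.D S.c)).Normal := by
    refine ⟨fun x hx y => ?_⟩
    rw [Subgroup.mem_subgroupOf] at hx ⊢
    simpa using (Subgroup.mem_normalizer_iff.mp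
      (normalizer_le_normalizer_centralizer S.D y.2.1) (x : G)).mp hx
  obtain ⟨hcy, hdvd⟩ := inertial_cyclic S.hM S.hB S.hPD S.hD1 S.hcyc S.hc
  obtain ⟨τ, hτ⟩ := hcy.exists_generator (α := stabSub M S.D S.c ⧸
    (Subgroup.centralizer (S.D : Set G)).subgroupOf (stabSub M S.D S.c))
  obtain ⟨t, rfl⟩ := QuotientGroup.mk_surjective τ
  have he : orderOf (QuotientGroup.mk t : stabSub M S.D S.c ⧸
      (Subgroup.centralizer (S.D : Set G)).subgroupOf (stabSub M S.D S.c)) = S.e :=
    orderOf_eq_card_of_forall_mem_zpowers hτ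
  have hiff : ∀ i : ℕ, (t : G) ^ i ∈ S.C ↔ S.e ∣ i := fun i => by
    rw [S.stab_inter (pow_mem t.2 i), ← he, orderOf_dvd_iff_pow_eq_one, ← QuotientGroup.mk_pow,
      QuotientGroup.eq_one_iff, Subgroup.mem_subgroupOf, SubmonoidClass.coe_pow]
  refine ⟨t, t.2, fun s hs => ?_, hiff, hdvd⟩
  obtain ⟨y, hy, g, hg, rfl⟩ := S.exists_stab_mul hs
  obtain ⟨i, hi, hi'⟩ := Finset.mem_image.mp
    (mem_zpowers_iff_mem_range_orderOf.mp (hτ (QuotientGroup.mk ⟨y, hy⟩)))
  rw [Finset.mem_range, he] at hi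
  rw [← QuotientGroup.mk_pow, QuotientGroup.eq, Subgroup.mem_subgroupOf] at hi'
  refine ⟨i, hi, ?_⟩
  rw [← mul_assoc]
  exact mul_mem (S.hKC (by simpa using hi')) hg

/-- A generator of the inertial group modulo `C`. -/
noncomputable def t : G := S.exists_t.choose

theorem t_mem_stab : S.t ∈ stabSub M S.D S.c := S.exists_t.choose_spec.1

theorem t_mem : S.t ∈ S.T := S.stab_le_T S.t_mem_stab

theorem hT {s : G} (hs : s ∈ S.T) : ∃ i < S.e, (S.t ^ i)⁻¹ * s ∈ S.C :=
  S.exists_t.choose_spec.2.1 s hs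

theorem hte (i : ℕ) : S.t ^ i ∈ S.C ↔ S.e ∣ i := S.exists_t.choose_spec.2.2.1 i

theorem e_dvd : S.e ∣ p - 1 := S.exists_t.choose_spec.2.2.2

theorem e_pos : 0 < S.e :=
  Nat.pos_of_ne_zero fun h => by
    have := S.e_dvd
    rw [h, zero_dvd_iff] at this
    have := hp.out.two_le
    omega

theorem not_dvd_e : ¬ p ∣ S.e := fun h => by
  have h1 := Nat.le_of_dvd (by have := hp.out.two_le; omega) (h.trans S.e_dvd)
  have := hp.out.two_le
  omega

/-- An element normalizing `⟨z⟩` but outside `T` moves `b` to another block. -/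
theorem far {g : G} (hg : g ∉ S.T) (hne : bel M S.C S.b * conjA g (bel M S.C S.b) ≠ 0) {d : G}
    (hd : d ∈ S.D) (hgd : g⁻¹ * d * g ∈ S.D) : d = 1 := by
  by_contra hd1
  have hN := S.mem_normalizer_of_conj hd hd1 hgd
  have hnne : conjA g (bel M S.C S.b) ≠ bel M S.C S.b := fun h => hg ⟨hN, h⟩
  have hmem : conjA g (bel M S.C S.b) ∈ blkIdem M S.z := by
    have hq : (Subgroup.zpowers S.z).map (MulAut.conj g).toMonoidHom = Subgroup.zpowers S.z :=
      Subgroup.mem_normalizer_iff_map_conj_eq.mp hN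
    have key : ∀ (Q : Subgroup G) (f : Set (IrrCharacter (Subgroup.centralizer (Q : Set G)))),
        Q = Subgroup.zpowers S.z → IsPBlock M f →
          bel M _ f ∈ blkIdem M S.z := by
      rintro Q f rfl hf
      exact mem_blkIdemS.mpr ⟨f, hf, rfl⟩
    rw [← bel_conjBlock (Subgroup.zpowers S.z) g S.hb]
    exact key _ _ hq (isPBlock_conjBlock _ g S.hb)
  exact hne (blkIdem_mul_of_ne S.hM (mem_blkIdemS.mpr ⟨S.b, S.hb, rfl⟩) hmem hnne.symm)

end Setting

end Cfsg.Agent.Blocks.Cyclic
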