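import Cfsg.Agent.Lib.Blocks.Covering
import Cfsg.Agent.Lib.Blocks.Regular
import Cfsg.Agent.Lib.Blocks.FirstMain

/-!
# Fong's theorem on defect groups of blocks covering an invariant block
-/

namespace Cfsg.Agent.Blocks

open MonoidAlgebra
open scoped ComplexConjugate

universe u v

variable {G : Type u} [Group G] [Finite G] {p : ℕ} {M : Ideal AlgInt} [M.IsPrime]

set_option linter.unusedSectionVars false

variable {N : Subgroup G} [Fintype N] [hN : N.Normal] {b : Set (IrrCharacter N)}

theorem conjSet_eq_of_invariant (hinv : ∀ g : G, ∀ θ ∈ b, conjIrr g θ ∈ b) : conjSet b = b := by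
  refine Set.Subset.antisymm (fun θ ⟨g, hg⟩ => ?_) (subset_conjSet b)
  have := hinv g⁻¹ _ hg
  rwa [← conjIrr_mul, mul_inv_cancel, conjIrr_one] at this

theorem red_centralChar_conj (hb : IsPBlock M b) (hinv : ∀ g : G, ∀ θ ∈ b, conjIrr g θ ∈ b)
    {θ : IrrCharacter N} (hθ : θ ∈ b) (g : G) (n : N) :
    red M (centralCharL M θ ⟨g * n * g⁻¹, hN.conj_mem _ n.2 g⟩) = red M (centralCharL M θ n) := by
  rw [← sameBlock_iff_red.mp ((mem_block_iff hb (hinv g θ hθ)).mp hθ) n]
  congr 1
  refine Subtype.ext ?_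
  show centralChar (θ : N → ℂ) ⟨g * n * g⁻¹, hN.conj_mem _ n.2 g⟩ =
    centralChar (CT.conjFun N g (θ : N → ℂ)) n
  rw [CT.conjFun_eq_comp, centralChar_comp_equiv]
  exact congrArg _ (Subtype.ext (MulAut.conjNormal_apply g n).symm)

/-- Data for Fong's theorem: a class of `G` in `N` which is a defect class of `b`, with the
central characters of `G`-conjugates equal, and whose `G`-centralizer has full `p`-index. -/
theorem exists_fong_class (hM : IsPModular p M) (hb : IsPBlock M b)
    (hinv : ∀ g : G, ∀ θ ∈ b, conjIrr g θ ∈ b) :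
    ∃ u : N, IsDefectClass M b u ∧
      (∀ θ ∈ b, ¬ MemLocalIdeal M (inducedCentralChar N (θ : N → ℂ) (u : G))) ∧
      (Nat.card (Subgroup.centralizer ({(u : G)} : Set G))).factorization p =
        blockDefect p b + N.index.factorization p := by
  classical
  haveI : Fact p.Prime := ⟨hM.1⟩
  haveI := charP_res hM
  letI := Fintype.ofFinite G
  obtain ⟨θ, hθ⟩ := block_nonempty hb
  have hA := blockCoeff_mem_loc hb
  set a : ZG (Res M) G := redZ M G (coverIdem hb)
  have ha1 : indBar M N θ a = 1 := by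
    have e : resZ N a = redZ M N (resZ N (coverIdem hb)) := Subtype.ext (by simp [a, map_resH])
    rw [indBar_apply, e, omegaBar_redZ,
      show omegaL M θ (resZ N (coverIdem hb)) = 1 from Subtype.ext (by
        rw [coe_omegaL, resH_coverIdem, omega_idemC, if_pos (subset_conjSet b hθ)]; rfl), map_one]
  rw [zg_eq_sum a, map_sum] at ha1
  obtain ⟨K, -, hK⟩ := Finset.exists_ne_zero_of_sum_ne_zero (ha1.trans_ne one_ne_zero)
  rw [indBar_scalar_mul] at hK
  have hKN : rep K ∈ N := by
    by_contra h
    apply left_ne_zero_of_mul hK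
    simp [a, coverIdem, coeff_embH_of_notMem _ _ h]
  set u : N := ⟨rep K, hKN⟩
  have hcoef : ¬ MemLocalIdeal M (blockCoeff b u) := by
    intro hI
    apply left_ne_zero_of_mul hK
    simp only [a, coe_redZ, coeff_map', coverIdem]
    rw [coeff_embH N _ u, coeff_ofFun, red_eq_zero_iff]
    show MemLocalIdeal M (blockCoeff (conjSet b) u)
    rwa [conjSet_eq_of_invariant hinv]
  -- the induced value is a multiple of the value at `u`
  set m := (Finset.univ.filter fun C : ConjClasses N => IsConj (u : G) ((rep C : N) : G)).card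
  have hω : ∀ C : ConjClasses N, IsConj (u : G) ((rep C : N) : G) →
      red M (centralCharL M θ (rep C)) = red M (centralCharL M θ u) := by
    intro C hC
    obtain ⟨g, hg⟩ := isConj_iff.mp hC
    rw [← red_centralChar_conj hb hinv hθ g u]
    exact congrArg (fun x => red M (centralCharL M θ x)) (Subtype.ext hg.symm)
  have hind : indBar M N θ (classSumZ (Res M) (u : G)) = (m : Res M) * red M (centralCharL M θ u) := by
    rw [indBar_apply, omegaBar_apply]
    simp only [m, Finset.card_filter, Nat.cast_sum, Finset.sum_mul]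
    refine Finset.sum_congr rfl fun C _ => ?_
    simp only [coe_resZ, coeff_resH, coe_classSumZ, classSum, coeff_ofFun]
    by_cases hC : IsConj (u : G) ((rep C : N) : G)
    · rw [classInd_pos hC, if_pos hC, hω C hC, Nat.cast_one]
    · rw [classInd_neg hC, if_neg hC, Nat.cast_zero, zero_mul, zero_mul]
  have hK2 := right_ne_zero_of_mul hK
  rw [show rep K = (u : G) from rfl] at hK2
  have hu : IsDefectClass M b u := ⟨hA u, hcoef, fun θ' hθ' => by
    rw [← red_centralCharL_ne_zero_iff, ← sameBlock_iff_red.mp ((mem_block_iff hb hθ).mp hθ')]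
    rw [hind] at hK2
    exact right_ne_zero_of_mul hK2⟩
  refine ⟨u, hu, fun θ' hθ' hI => ?_, ?_⟩
  · refine hK2 ?_
    rw [indBar_congr ((mem_block_iff hb hθ).mp hθ'), indBar_classSumZ]
    exact red_eq_zero_iff.mpr hI
  have hm : ¬ p ∣ m := fun h => hK2 (by rw [hind, (CharP.cast_eq_zero_iff (Res M) p m).mpr h, zero_mul])
  -- counting
  set CG := Subgroup.centralizer ({(u : G)} : Set G)
  set CN := Subgroup.centralizer ({u} : Set N)
  have hcount : Nat.card {h : G // IsConj (u : G) h} = m * CN.index := by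
    have e1 : Nat.card {h : G // IsConj (u : G) h} = Nat.card {h : N // IsConj (u : G) (h : G)} := by
      refine Nat.card_congr
        { toFun := fun h => ⟨⟨h.1, ?_⟩, h.2⟩
          invFun := fun h => ⟨(h.1 : G), h.2⟩
          left_inv := fun h => rfl
          right_inv := fun h => rfl }
      obtain ⟨g, hg⟩ := isConj_iff.mp h.2
      exact hg ▸ hN.conj_mem _ u.2 g
    rw [e1, Nat.card_eq_fintype_card, Fintype.card_subtype,
      Finset.card_eq_sum_card_fiberwise (f := ConjClasses.mk) (t := Finset.univ) (by simp [Set.mapsTo_univ]),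
      show m * CN.index = ∑ C : ConjClasses N, if IsConj (u : G) ((rep C : N) : G) then CN.index else 0 by
        rw [← Finset.sum_filter, Finset.sum_const, smul_eq_mul]]
    refine Finset.sum_congr rfl fun C _ => ?_
    by_cases hC : IsConj (u : G) ((rep C : N) : G)
    · rw [if_pos hC, Finset.filter_filter]
      have e2 : (Finset.univ.filter fun h : N => IsConj (u : G) (h : G) ∧ ConjClasses.mk h = C).card =
          Nat.card {h : N // IsConj (rep C) h} := by
        rw [Nat.card_eq_fintype_card, Fintype.card_subtype]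
        congr 1
        ext h
        simp only [Finset.mem_filter, Finset.mem_univ, true_and]
        constructor
        · rintro ⟨-, h2⟩
          exact ConjClasses.mk_eq_mk_iff_isConj.mp ((mk_rep C).trans h2.symm)
        · intro h2
          exact ⟨hC.trans (N.subtype.map_isConj h2),
            ((ConjClasses.mk_eq_mk_iff_isConj.mpr h2).symm.trans (mk_rep C))⟩
      rw [e2]
      obtain ⟨g, hg⟩ := isConj_iff.mp hC
      have h3 := CT.card_conj_class_mul_centralizer (rep C)
      have h5 : Nat.card (Subgroup.centralizer ({rep C} : Set N)) = Nat.card CN := by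
        refine (Nat.card_congr ((MulAut.conjNormal g : N ≃* N).toEquiv.subtypeEquiv fun y => ?_)).symm
        have e3 : (MulAut.conjNormal g) u = rep C := Subtype.ext ((MulAut.conjNormal_apply g u).trans hg)
        simp only [CN, Subgroup.mem_centralizer_singleton_iff, MulEquiv.toEquiv_eq_coe,
          MulEquiv.coe_toEquiv, ← e3, ← map_mul, EmbeddingLike.apply_eq_iff_eq]
      rw [h5, ← CN.index_mul_card] at h3
      exact Nat.eq_of_mul_eq_mul_right Nat.card_pos h3
    · rw [if_neg hC, Finset.card_eq_zero, Finset.filter_filter, Finset.filter_eq_empty_iff]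
      rintro h - ⟨h1, rfl⟩
      exact hC (h1.trans (N.subtype.map_isConj
        (ConjClasses.mk_eq_mk_iff_isConj.mp (mk_rep (ConjClasses.mk h)).symm)))
  have h1 : Nat.card G = m * CN.index * Nat.card CG := by
    rw [← hcount]; exact (CT.card_conj_class_mul_centralizer (u : G)).symm
  have h2 := congrArg (fun n : ℕ => n.factorization p) h1
  have hm0 : m ≠ 0 := fun h => hm (h ▸ dvd_zero p)
  simp only [Nat.factorization_mul (mul_ne_zero hm0 CN.index_ne_zero_of_finite) Nat.card_pos.ne',
    Nat.factorization_mul hm0 CN.index_ne_zero_of_finite, Finsupp.coe_add, Pi.add_apply,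
    Nat.factorization_eq_zero_of_not_dvd hm, zero_add] at h2
  have h3 := index_factorization (p := p) CN
  have h4 := index_factorization (p := p) N
  have h6 := blockDefect_eq hM hb hu
  simp only [CG, CN] at *
  omega

/-- Fong's theorem. -/
theorem fong (hM : IsPModular p M) (hb : IsPBlock M b)
    (hinv : ∀ g : G, ∀ θ ∈ b, conjIrr g θ ∈ b) {B : Set (IrrCharacter G)} (hB : IsPBlock M B)
    (hcov : ∃ χ ∈ B, ∃ θ ∈ b, classInner (fun n : N => (χ : G → ℂ) n) (θ : N → ℂ) ≠ 0)
    (hmax : ∀ B' : Set (IrrCharacter G), IsPBlock M B' →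
      (∃ χ ∈ B', ∃ θ ∈ b, classInner (fun n : N => (χ : G → ℂ) n) (θ : N → ℂ) ≠ 0) →
      blockDefect p B' ≤ blockDefect p B)
    {P : Subgroup G} (hP : IsDefectGroup p M B P) :
    ¬ p ∣ (P ⊔ N).index ∧ IsDefectGroup p M b ((P ⊓ N).subgroupOf N) ∧
      blockDefect p B = blockDefect p b + N.index.factorization p := by
  classical
  haveI : Fact p.Prime := ⟨hM.1⟩
  haveI := charP_res hM
  letI := Fintype.ofFinite G
  have hA := blockCoeff_mem_loc hb
  obtain ⟨u, hu, huind, hvC⟩ := exists_fong_class hM hb hinv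
  set CG := Subgroup.centralizer ({(u : G)} : Set G)
  -- every covering block is a unit at `u`
  have hunit : ∀ B' : Set (IrrCharacter G), IsPBlock M B' →
      (∃ χ ∈ B', ∃ θ ∈ b, classInner (fun n : N => (χ : G → ℂ) n) (θ : N → ℂ) ≠ 0) →
      ∀ χ ∈ B', ¬ MemLocalIdeal M (centralChar (χ : G → ℂ) (u : G)) := by
    rintro B' hB' ⟨χ₀, hχ₀, θ₀, hθ₀, hcon⟩ χ hχ hI
    apply huind θ₀ hθ₀
    have h := congr_of_cover hB' hb hχ₀ hθ₀ hcon hχ hθ₀ u
    have := memLocalIdeal_sub hI h
    simpa using this
  -- some covering block has `u` as a defect class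
  obtain ⟨B₁, hB₁, hcov₁, hB₁u⟩ : ∃ B₁ : Set (IrrCharacter G), IsPBlock M B₁ ∧
      (∃ χ ∈ B₁, ∃ θ ∈ b, classInner (fun n : N => (χ : G → ℂ) n) (θ : N → ℂ) ≠ 0) ∧
      ¬ MemLocalIdeal M (blockCoeff B₁ (u : G)) := by
    by_contra hne
    push Not at hne
    set A : Set (IrrCharacter G) := {χ | HasConstituent (conjSet b) (χ : G → ℂ)}
    have hEq : embH N (idemC (conjSet b)) = idemC A := by
      refine central_ext (embH_idemC_mem_center (blockCoeff_conjSet_stable b)) (idemC_mem_center A)
        fun χ => ?_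
      rw [omega_idemC]
      by_cases hχ : χ ∈ A
      · rw [if_pos hχ]
        exact (omega_stable (blockCoeff_conjSet_stable b) χ).resolve_left
          fun h => (omega_stable_eq_zero_iff χ).mp h hχ
      · rw [if_neg hχ]
        exact (omega_stable_eq_zero_iff χ).mpr hχ
    have e := congrArg (fun x : MonoidAlgebra ℂ G => x.coeff (u : G)) hEq
    simp only [idemC, coeff_embH N _ u, coeff_ofFun, conjSet_eq_of_invariant hinv] at e
    have h2 := hu.2.1
    rw [e] at h2
    apply h2
    rw [blockCoeff, finsum_mem_irr,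
      ← Finset.sum_fiberwise_of_maps_to (g := fun χ : IrrCharacter G => blockOf M (χ : G → ℂ))
        (t := Finset.univ.image fun χ : IrrCharacter G => blockOf M (χ : G → ℂ))
        (fun χ _ => Finset.mem_image_of_mem _ (Finset.mem_univ χ)), Finset.mul_sum]
    refine Finset.sum_induction _ (MemLocalIdeal M) (fun _ _ => memLocalIdeal_add) memLocalIdeal_zero
      fun B' hB' => ?_
    obtain ⟨χ₀, -, rfl⟩ := Finset.mem_image.mp hB'
    have hBl : IsPBlock M (blockOf M (χ₀ : G → ℂ)) := isPBlock_blockOf χ₀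
    have hsat : ∀ χ ∈ blockOf M (χ₀ : G → ℂ), χ ∈ A ↔ χ₀ ∈ A := fun χ hχ =>
      (hasConstituent_iff_of_sameBlock' (blockCoeff_conjSet_mem_loc hb)
        (blockCoeff_conjSet_stable b) hχ).symm
    by_cases h0 : χ₀ ∈ A
    · convert hne (blockOf M (χ₀ : G → ℂ)) hBl
        ⟨χ₀, self_mem_blockOf χ₀, (hasConstituent_conjSet_iff b χ₀).mp h0⟩ using 1
      rw [blockCoeff, finsum_mem_irr, Finset.sum_filter]
      congr 1
      refine Finset.sum_congr rfl fun χ _ => ?_
      by_cases hχ : χ ∈ blockOf M (χ₀ : G → ℂ)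
      · rw [if_pos (block_eq_blockOf hBl hχ).symm, if_pos ((hsat χ hχ).mpr h0), if_pos hχ]
      · rw [if_neg fun e' : blockOf M (χ : G → ℂ) = blockOf M (χ₀ : G → ℂ) =>
          hχ (e' ▸ self_mem_blockOf χ), if_neg hχ]
    · convert memLocalIdeal_zero (M := M) using 1
      refine mul_eq_zero_of_right _ (Finset.sum_eq_zero fun χ hχ => ?_)
      have hmem : χ ∈ blockOf M (χ₀ : G → ℂ) := (Finset.mem_filter.mp hχ).2 ▸ self_mem_blockOf χ
      rw [if_neg fun h => h0 ((hsat χ hmem).mp h)]
  have hdef₁ : IsDefectClass M B₁ (u : G) :=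
    ⟨blockCoeff_mem_loc hB₁ _, hB₁u, hunit B₁ hB₁ hcov₁⟩
  have hd₁ := blockDefect_eq hM hB₁ hdef₁
  have hge : (Nat.card CG).factorization p ≤ blockDefect p B := by
    have := hmax B₁ hB₁ hcov₁
    simp only [CG] at *
    omega
  obtain ⟨χ, hχ⟩ := block_nonempty hB
  obtain ⟨x, hx⟩ := defect_conj_le_centralizer hM hB hP hχ (hunit B hB hcov χ hχ)
  obtain ⟨-, -, -, hPp, -⟩ := defectGroup_spec hP
  have hcardP := card_defectGroup hM hB hP
  have hle := card_le_of_isPGroup_le hx (isPGroup_map_conj hPp x)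
  rw [card_map_conj, hcardP] at hle
  have heq : blockDefect p B = (Nat.card CG).factorization p :=
    le_antisymm ((Nat.pow_le_pow_iff_right hM.1.one_lt).mp hle) hge
  have hdef : blockDefect p B = blockDefect p b + N.index.factorization p := by
    simp only [CG] at *
    omega
  -- the conjugate of `u` centralized by `P`
  set u' : N := ⟨x⁻¹ * u * x, by simpa using hN.conj_mem _ u.2 x⁻¹⟩ with hu'
  have hconj : IsConj (u : G) (u' : G) := isConj_iff.mpr ⟨x⁻¹, by simp [hu']⟩
  have hPu' : P ≤ Subgroup.centralizer ({(u' : G)} : Set G) := by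
    intro q hq
    have h := Subgroup.mem_centralizer_singleton_iff.mp (hx (mem_map_conj.mpr
      (show x⁻¹ * (x * q * x⁻¹) * x ∈ P by simpa [mul_assoc] using hq)))
    refine Subgroup.mem_centralizer_singleton_iff.mpr ?_
    show q * (x⁻¹ * u * x) = x⁻¹ * u * x * q
    calc q * (x⁻¹ * u * x) = x⁻¹ * ((x * q * x⁻¹) * u) * x := by group
      _ = x⁻¹ * (u * (x * q * x⁻¹)) * x := by rw [h]
      _ = _ := by group
  have hu'c : (⟨x⁻¹ * (u : G) * x⁻¹⁻¹, hN.conj_mem _ u.2 x⁻¹⟩ : N) = u' := Subtype.ext (by simp [hu'])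
  have hu'b : IsDefectClass M b u' := by
    refine ⟨hA _, ?_, fun θ hθ => ?_⟩
    · have := blockCoeff_conjSet_stable b x⁻¹ u
      rw [conjSet_eq_of_invariant hinv, hu'c] at this
      rw [this]
      exact hu.2.1
    · rw [← red_centralCharL_ne_zero_iff]
      have := red_centralChar_conj hb hinv hθ x⁻¹ u
      rw [hu'c] at this
      rw [this, red_centralCharL_ne_zero_iff]
      exact hu.2.2 θ hθ
  have hb' := blockDefect_eq hM hb hu'b
  -- orders
  obtain ⟨s, hs⟩ := IsPGroup.iff_card.mp (hPp.to_le (inf_le_left : P ⊓ N ≤ P))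
  obtain ⟨t, ht⟩ := hPp.index ((N.subgroupOf P))
  have hrel : (P ⊓ N).relIndex P = p ^ t := by
    rw [inf_comm, Subgroup.inf_relIndex_right]; exact ht
  have hmul : p ^ blockDefect p B = p ^ s * p ^ t := by
    rw [← hcardP, ← hs, ← hrel, Subgroup.relIndex, ← card_subgroupOf (inf_le_left : P ⊓ N ≤ P),
      Subgroup.card_mul_index]
  rw [← pow_add] at hmul
  have hst := Nat.pow_right_injective hM.1.two_le hmul
  have hsup : (P ⊔ N).index * p ^ t = N.index := by
    rw [← hrel, inf_comm, Subgroup.inf_relIndex_right, ← Subgroup.relIndex_sup_right (K := N) (H := P),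
      mul_comm]
    exact Subgroup.relIndex_mul_index le_sup_right
  have hvsup := congrArg (fun n : ℕ => n.factorization p) hsup
  simp only [Nat.factorization_mul Subgroup.index_ne_zero_of_finite (pow_ne_zero t hM.1.ne_zero),
    hM.1.factorization_pow, Finsupp.coe_add, Pi.add_apply, Finsupp.single_eq_same] at hvsup
  have hPNu : (P ⊓ N).subgroupOf N ≤ Subgroup.centralizer ({u'} : Set N) := fun q hq =>
    Subgroup.mem_centralizer_singleton_iff.mpr (Subtype.ext
      (Subgroup.mem_centralizer_singleton_iff.mp (hPu' (Subgroup.mem_subgroupOf.mp hq).1)))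
  have hsle := Subgroup.card_dvd_of_le hPNu
  rw [card_subgroupOf inf_le_right, hs] at hsle
  have hsle' := (hM.1.pow_dvd_iff_le_factorization Nat.card_pos.ne').mp hsle
  refine ⟨fun hdvd => ?_, isDefectGroup_of_card hu'b hPNu ?_, hdef⟩
  · have := hM.1.factorization_pos_of_dvd Subgroup.index_ne_zero_of_finite hdvd
    omega
  · rw [card_subgroupOf inf_le_right, hs]
    congr 1
    omega

end Cfsg.Agent.Blocks
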