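import Cfsg.Agent.Lib.Blocks.IdemLift
import Cfsg.Agent.Lib.BrauerPairs.Maximal
import Cfsg.Agent.Lib.BrauerPairs.Local

/-!
# Values of characters at idempotents of centralizers of `p`-parts

For an element `g` with `p`-part `x` and an idempotent of the residue group algebra fixed by `g`,
the value of a character at a lift of the idempotent times `g` depends only on the Brauer image of
the idempotent at `x`.
-/

namespace Cfsg.Agent.Blocks

open MonoidAlgebra BPairs

universe u

variable {G : Type u} [Group G] [Finite G] {p : ℕ} {M : Ideal AlgInt} [M.IsPrime]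

set_option linter.unusedSectionVars false

section PPartFun

open Classical in
/-- The `p`-part as a function. -/
noncomputable def pPart (p : ℕ) (g : G) : G :=
  if h : ∃ x : G, IsPPart p g x then h.choose else 1

theorem pPart_spec [Fact p.Prime] (g : G) : IsPPart p g (pPart p g) := by
  have h : ∃ x : G, IsPPart p g x := (exists_isPPart g).imp fun x hx => hx.1
  rw [pPart, dif_pos h]
  exact h.choose_spec

theorem pPart_eq [Fact p.Prime] {g x : G} (h : IsPPart p g x) : pPart p g = x :=
  ppart_unique (pPart_spec g) h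

theorem pPart_conj [Fact p.Prime] (c g : G) :
    pPart p (c * g * c⁻¹) = c * pPart p g * c⁻¹ :=
  pPart_eq (ppart_conj (pPart_spec g) c)

theorem pPart_self [Fact p.Prime] {u : G} (h : ∃ k : ℕ, u ^ p ^ k = 1) : pPart p u = u :=
  pPart_eq (isPPart_self h)

/-- The centralizer of the cyclic group generated by an element. -/
abbrev cz (x : G) : Subgroup G := Subgroup.centralizer ((Subgroup.zpowers x : Subgroup G) : Set G)

theorem mem_cz {x v : G} : v ∈ cz x ↔ Commute v x := by
  rw [cz, centralizer_zpowers_eq, Subgroup.mem_centralizer_singleton_iff]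
  exact Iff.rfl

theorem mem_cz_self (x : G) : x ∈ cz x := mem_cz.mpr (Commute.refl x)

end PPartFun

section Alg

variable {R : Type*} [CommRing R]

theorem single_pow_one (g : G) (n : ℕ) :
    (single g (1 : R) : MonoidAlgebra R G) ^ n = single (g ^ n) 1 := by
  induction n with
  | zero => simp [one_def]
  | succ n ih => rw [pow_succ, ih, single_mul_single, mul_one, ← pow_succ]

theorem commute_single_of_mem_zpowers {a : MonoidAlgebra R G} {g q : G}
    (h : Commute a (single g 1)) (hq : q ∈ Subgroup.zpowers g) : Commute a (single q 1) := by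
  obtain ⟨n, rfl⟩ := mem_powers_iff_mem_zpowers.mpr hq
  show Commute a (single (g ^ n) 1)
  rw [← single_pow_one]
  exact h.pow_right n

theorem isInv_zpowers_iff {a : MonoidAlgebra R G} {g : G} :
    IsInv (Subgroup.zpowers g) a ↔ Commute a (single g 1) :=
  ⟨fun h => isInv_iff_commute.mp h g (Subgroup.mem_zpowers g),
    fun h => isInv_iff_commute.mpr fun _ hq => commute_single_of_mem_zpowers h hq⟩

/-- An element fixed by `H` commutes with every element supported on `H`. -/
theorem commute_of_supp {H : Subgroup G} {a b : MonoidAlgebra R G} (ha : IsInv H a)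
    (hb : ∀ v, v ∉ H → b.coeff v = 0) : Commute a b := by
  haveI := Fintype.ofFinite G
  rw [eq_sum_single b]
  refine Commute.sum_right _ _ _ fun v _ => ?_
  by_cases hv : v ∈ H
  · rw [show single v (b.coeff v) = b.coeff v • single v (1 : R) by simp]
    exact (isInv_iff_commute.mp ha v hv).smul_right _
  · rw [hb v hv, single_zero]
    exact Commute.zero_right a

theorem trunc_eq_self {S : Set G} {a : MonoidAlgebra R G} (h : ∀ v, v ∉ S → a.coeff v = 0) :
    trunc S a = a := by
  ext v
  by_cases hv : v ∈ S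
  · rw [coeff_trunc_of_mem _ hv]
  · rw [coeff_trunc_of_notMem _ hv, h v hv]

theorem trunc_sub (S : Set G) (a b : MonoidAlgebra R G) :
    trunc S (a - b) = trunc S a - trunc S b := by
  ext u
  by_cases h : u ∈ S <;> simp [coeff_trunc_of_mem, coeff_trunc_of_notMem, h]

theorem trunc_sum {ι : Type*} (s : Finset ι) (S : Set G) (f : ι → MonoidAlgebra R G) :
    trunc S (∑ i ∈ s, f i) = ∑ i ∈ s, trunc S (f i) := by
  classical
  induction s using Finset.induction_on with
  | empty => simp [trunc_zero]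
  | @insert i s hi ih => rw [Finset.sum_insert hi, Finset.sum_insert hi, trunc_add, ih]

theorem ev_conjA {T : G → R} (hT : IsClassFn T) (c : G) (a : MonoidAlgebra R G) :
    ev T (conjA c a) = ev T a := by
  rw [conjA, ev_mul_comm hT, ← mul_assoc, single_mul_single, inv_mul_cancel, mul_one, ← one_def,
    one_mul]

theorem conjA_single (c g : G) (r : R) : conjA c (single g r) = single (c * g * c⁻¹) r := by
  rw [conjA, single_mul_single, single_mul_single, one_mul, mul_one]

theorem conjA_commute {c : G} {a b : MonoidAlgebra R G} (h : Commute a b) :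
    Commute (conjA c a) (conjA c b) := by
  rw [Commute, SemiconjBy, ← conjA_mul, h.eq, conjA_mul]

theorem conjA_add (c : G) (a b : MonoidAlgebra R G) :
    conjA c (a + b) = conjA c a + conjA c b := by
  simp only [conjA, mul_add, add_mul]

theorem conjA_zero (c : G) : conjA c (0 : MonoidAlgebra R G) = 0 := by simp [conjA]

end Alg

section Phi

/-- The idempotent lifts of the image of `e` at the `p`-part of `g`. -/
def phiLifts (p : ℕ) (g : G) (e : MonoidAlgebra (Res M) G) : Set (MonoidAlgebra (Loc M) G) :=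
  {ε | ε * ε = ε ∧ Commute ε (single g 1) ∧
    ∀ v, Commute v (pPart p g) → red M (ε.coeff v) = e.coeff v}

open Classical in
/-- The value of `θ` at a chosen element times `g`. -/
noncomputable def liftVal (θ : IrrCharacter G) (g : G) (S : Set (MonoidAlgebra (Loc M) G)) : ℂ :=
  if h : S.Nonempty then ((ev (charL M θ) (h.choose * single g 1) : Loc M) : ℂ) else 0

/-- The value of `θ` at a lift of `e` times `g`. -/
noncomputable def phi (p : ℕ) (θ : IrrCharacter G) (g : G) (e : MonoidAlgebra (Res M) G) : ℂ :=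
  liftVal θ g (phiLifts p g e)

theorem ev_idem_congr (hM : IsPModular p M) [Fact p.Prime] {T : G → Loc M} (hT : IsClassFn T)
    {ε ε' : MonoidAlgebra (Loc M) G} {g : G} (h1 : ε * ε = ε) (h1' : ε' * ε' = ε')
    (h2 : Commute ε (single g 1)) (h2' : Commute ε' (single g 1))
    (h3 : ∀ v, Commute v (pPart p g) → red M (ε.coeff v) = red M (ε'.coeff v)) :
    ev T (ε * single g 1) = ev T (ε' * single g 1) := by
  obtain ⟨y, hxy, hcom, ⟨k, hk⟩, hy⟩ := id (pPart_spec (p := p) g)
  obtain ⟨x, hx⟩ : ∃ x, x = pPart p g := ⟨_, rfl⟩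
  rw [← hx] at hxy hcom hk h3
  have hxg : x ∈ Subgroup.zpowers g := hx ▸ ppart_mem_zpowers (pPart_spec g)
  have hyg : y ∈ Subgroup.zpowers g := by
    rw [show y = x⁻¹ * g by rw [← hxy]; group]
    exact mul_mem (inv_mem hxg) (Subgroup.mem_zpowers g)
  have hsingle : single g (1 : Loc M) = single y 1 * single x 1 := by
    rw [single_mul_single, mul_one, ← hcom.eq, hxy]
  have key : ∀ f : MonoidAlgebra (Loc M) G, Commute f (single g 1) →
      Commute (f * single y 1) (single x 1) := fun f hf =>
    (commute_single_of_mem_zpowers hf hxg).mul_left (by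
      rw [Commute, SemiconjBy, single_mul_single, single_mul_single, hcom.eq])
  rw [hsingle, ← mul_assoc, ← mul_assoc]
  refine ev_mul_single_congr hM hT (key ε h2) (key ε' h2')
    ⟨k, hk ▸ pow_orderOf_eq_one x⟩ (fun n₀ => ?_) fun v hv => ?_
  · obtain ⟨n, hn, hyn⟩ := exists_pow_eq_self hy n₀
    have hpn : p ^ n ≠ 0 := pow_ne_zero _ (Fact.out : p.Prime).ne_zero
    refine ⟨n, hn, ?_, ?_⟩
    · rw [(commute_single_of_mem_zpowers h2 hyg).mul_pow, IsIdempotentElem.pow_eq h1 hpn,
        single_pow_one, hyn]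
    · rw [(commute_single_of_mem_zpowers h2' hyg).mul_pow, IsIdempotentElem.pow_eq h1' hpn,
        single_pow_one, hyn]
  · rw [coeff_mul_single', coeff_mul_single', mul_one, mul_one]
    exact h3 _ (hv.mul_left (hcom.symm.inv_left))

theorem phi_eq (hM : IsPModular p M) [Fact p.Prime] (θ : IrrCharacter G) {g : G}
    {e : MonoidAlgebra (Res M) G} {ε : MonoidAlgebra (Loc M) G} (h1 : ε * ε = ε)
    (h2 : Commute ε (single g 1))
    (h3 : ∀ v, Commute v (pPart p g) → red M (ε.coeff v) = e.coeff v) :
    phi p θ g e = ((ev (charL M θ) (ε * single g 1) : Loc M) : ℂ) := by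
  classical
  have h : (phiLifts p g e).Nonempty := ⟨ε, h1, h2, h3⟩
  rw [phi, liftVal, dif_pos h]
  congr 1
  exact ev_idem_congr hM (isClassFn_charL θ) h.choose_spec.1 h1 h.choose_spec.2.1 h2 fun v hv => by
    rw [h.choose_spec.2.2 v hv, h3 v hv]

theorem phi_eq_of_red (hM : IsPModular p M) [Fact p.Prime] (θ : IrrCharacter G) {g : G}
    {e : MonoidAlgebra (Res M) G} {ε : MonoidAlgebra (Loc M) G} (h1 : ε * ε = ε)
    (h2 : Commute ε (single g 1)) (h3 : redG M G ε = e) :
    phi p θ g e = ((ev (charL M θ) (ε * single g 1) : Loc M) : ℂ) :=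
  phi_eq hM θ h1 h2 fun v _ => by rw [← h3, coeff_map']

/-- The value depends only on the Brauer image. -/
theorem phi_congr (θ : IrrCharacter G) {g : G} {e e' : MonoidAlgebra (Res M) G}
    (h : ∀ v, Commute v (pPart p g) → e.coeff v = e'.coeff v) :
    phi p θ g e = phi p θ g e' := by
  simp only [phi]
  congr 1
  ext ε
  exact ⟨fun ⟨a, b, c⟩ => ⟨a, b, fun v hv => (c v hv).trans (h v hv)⟩,
    fun ⟨a, b, c⟩ => ⟨a, b, fun v hv => (c v hv).trans (h v hv).symm⟩⟩

theorem phi_trunc [Fact p.Prime] (θ : IrrCharacter G) (g : G) (e : MonoidAlgebra (Res M) G) :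
    phi p θ g (trunc (cz (pPart p g) : Set G) e) = phi p θ g e :=
  phi_congr θ fun _ hv => coeff_trunc_of_mem _ (mem_cz.mpr hv)

theorem phi_zero (hM : IsPModular p M) [Fact p.Prime] (θ : IrrCharacter G) (g : G) :
    phi p θ g (0 : MonoidAlgebra (Res M) G) = 0 := by
  rw [phi_eq_of_red hM θ (ε := 0) (mul_zero _) (Commute.zero_left _) (map_zero _), zero_mul,
    ev_zero, ZeroMemClass.coe_zero]

theorem phi_one (hM : IsPModular p M) [Fact p.Prime] (θ : IrrCharacter G) (g : G) :
    phi p θ g (1 : MonoidAlgebra (Res M) G) = (θ : G → ℂ) g := by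
  rw [phi_eq_of_red hM θ (ε := 1) (one_mul _) (Commute.one_left _) (map_one _), one_mul, ev_single,
    one_mul, coe_charL]

theorem phi_add (hM : IsPModular p M) [Fact p.Prime] (θ : IrrCharacter G) {g : G}
    {e e' : MonoidAlgebra (Res M) G} (he : e * e = e) (he' : e' * e' = e')
    (hg : Commute e (single g 1)) (hg' : Commute e' (single g 1))
    (h : e * e' = 0) (h' : e' * e = 0) :
    phi p θ g (e + e') = phi p θ g e + phi p θ g e' := by
  obtain ⟨ε, h1, h2, h3⟩ := exists_inv_idem_lift (Subgroup.zpowers g) he (isInv_zpowers_iff.mpr hg)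
  obtain ⟨ε', k1, k2, k3, k4, k5⟩ := exists_inv_idem_lift_orth (Subgroup.zpowers g) h1 h3 he'
    (isInv_zpowers_iff.mpr hg') (by rw [h2]; exact h) (by rw [h2]; exact h')
  rw [phi_eq_of_red hM θ h1 (isInv_zpowers_iff.mp h3) h2,
    phi_eq_of_red hM θ k1 (isInv_zpowers_iff.mp k3) k2,
    phi_eq_of_red hM θ (ε := ε + ε') ?_ ((isInv_zpowers_iff.mp h3).add_left
      (isInv_zpowers_iff.mp k3)) (by rw [map_add, h2, k2]), add_mul, ev_add, AddMemClass.coe_add]
  rw [add_mul, mul_add, mul_add, h1, k1, k4, k5, add_zero, zero_add]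

theorem phi_sum (hM : IsPModular p M) [Fact p.Prime] (θ : IrrCharacter G) {g : G} {ι : Type*}
    (s : Finset ι) (f : ι → MonoidAlgebra (Res M) G) (hf : ∀ i ∈ s, f i * f i = f i)
    (hg : ∀ i ∈ s, Commute (f i) (single g 1))
    (ho : ∀ i ∈ s, ∀ j ∈ s, i ≠ j → f i * f j = 0) :
    phi p θ g (∑ i ∈ s, f i) = ∑ i ∈ s, phi p θ g (f i) := by
  classical
  induction s using Finset.induction_on with
  | empty => simp [phi_zero hM]
  | @insert i s hi ih =>
    have hf' : ∀ j ∈ s, f j * f j = f j := fun j hj => hf j (Finset.mem_insert_of_mem hj)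
    have ho' : ∀ j ∈ s, ∀ k ∈ s, j ≠ k → f j * f k = 0 := fun j hj k hk =>
      ho j (Finset.mem_insert_of_mem hj) k (Finset.mem_insert_of_mem hk)
    have hg' : ∀ j ∈ s, Commute (f j) (single g 1) := fun j hj => hg j (Finset.mem_insert_of_mem hj)
    have hidem : (∑ j ∈ s, f j) * ∑ j ∈ s, f j = ∑ j ∈ s, f j := by
      rw [Finset.sum_mul]
      refine Finset.sum_congr rfl fun j hj => ?_
      rw [Finset.mul_sum, Finset.sum_eq_single j (fun k hk hne => ho' j hj k hk hne.symm)
        (fun h => absurd hj h), hf' j hj]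
    rw [Finset.sum_insert hi, Finset.sum_insert hi,
      phi_add hM θ (hf i (Finset.mem_insert_self i s)) hidem (hg i (Finset.mem_insert_self i s))
        (Commute.sum_left _ _ _ hg') ?_ ?_, ih hf' hg' ho']
    · rw [Finset.mul_sum]
      exact Finset.sum_eq_zero fun j hj => ho i (Finset.mem_insert_self i s) j
        (Finset.mem_insert_of_mem hj) fun e => hi (e ▸ hj)
    · rw [Finset.sum_mul]
      exact Finset.sum_eq_zero fun j hj => ho j (Finset.mem_insert_of_mem hj) i
        (Finset.mem_insert_self i s) fun e => hi (e ▸ hj)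

theorem phi_conjA (hM : IsPModular p M) [Fact p.Prime] (θ : IrrCharacter G) (c : G) {g : G}
    {e : MonoidAlgebra (Res M) G} (he : e * e = e) (hg : Commute e (single g 1)) :
    phi p θ (c * g * c⁻¹) (conjA c e) = phi p θ g e := by
  obtain ⟨ε, h1, h2, h3⟩ := exists_inv_idem_lift (Subgroup.zpowers g) he (isInv_zpowers_iff.mpr hg)
  rw [phi_eq_of_red hM θ h1 (isInv_zpowers_iff.mp h3) h2,
    phi_eq_of_red hM θ (ε := conjA c ε) (by rw [← conjA_mul, h1]) ?_ ?_, ← conjA_single,
    ← conjA_mul, ev_conjA (isClassFn_charL θ)]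
  · rw [← conjA_single]
    exact conjA_commute (isInv_zpowers_iff.mp h3)
  · simp only [conjA, map_mul, h2]
    simp

/-- Conjugation by a unit fixed by `g` does not change the value. -/
theorem phi_unit_conj (hM : IsPModular p M) [Fact p.Prime] (θ : IrrCharacter G) {g : G}
    {e v w : MonoidAlgebra (Res M) G} (he : e * e = e) (hg : Commute e (single g 1))
    (hv : Commute v (single g 1)) (hvw : v * w = 1) (hwv : w * v = 1) :
    phi p θ g (v * e * w) = phi p θ g e := by
  haveI := Fintype.ofFinite G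
  obtain ⟨ε, h1, h2, h3⟩ := exists_inv_idem_lift (Subgroup.zpowers g) he (isInv_zpowers_iff.mpr hg)
  choose s hs using red_surjective (M := M)
  obtain ⟨V, hVdef⟩ : ∃ V : MonoidAlgebra (Loc M) G, V = ofFun fun u => s (v.coeff u) := ⟨_, rfl⟩
  have hVr : redG M G V = v := by subst hVdef; ext u; simp [hs]
  have hVg : Commute V (single g 1) := by
    subst hVdef
    rw [commute_single_iff]
    intro u
    simp only [coeff_ofFun]
    exact congrArg s ((commute_single_iff v g).mp hv u)
  obtain ⟨U', hU1, hU2⟩ := isUnit_iff_exists.mp (isUnit_of_redG (c := V)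
    (by rw [hVr]; exact isUnit_iff_exists.mpr ⟨w, hvw, hwv⟩))
  have hUw : redG M G U' = w := by
    have : v * redG M G U' = 1 := by
      have := congrArg (redG M G) hU1
      rwa [map_mul, map_one, hVr] at this
    exact (left_inv_eq_right_inv hwv this).symm
  have hcomm2 : U' * single g 1 = single g 1 * U' :=
    calc U' * single g 1 = U' * single g 1 * (V * U') := by rw [hU1, mul_one]
      _ = U' * (single g 1 * V) * U' := by simp only [mul_assoc]
      _ = U' * (V * single g 1) * U' := by rw [hVg.eq]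
      _ = U' * V * (single g 1 * U') := by simp only [mul_assoc]
      _ = single g 1 * U' := by rw [hU2, one_mul]
  have hεg := isInv_zpowers_iff.mp h3
  have hc : Commute (V * ε * U') (single g 1) :=
    (hVg.mul_left hεg).mul_left (show Commute U' (single g 1) from hcomm2)
  have hidem : V * ε * U' * (V * ε * U') = V * ε * U' :=
    calc V * ε * U' * (V * ε * U') = V * ε * (U' * V) * ε * U' := by simp only [mul_assoc]
      _ = V * ε * U' := by rw [hU2, mul_one, mul_assoc V ε ε, h1]
  rw [phi_eq_of_red hM θ h1 hεg h2, phi_eq_of_red hM θ hidem hc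
    (by rw [map_mul, map_mul, hVr, h2, hUw])]
  congr 1
  calc ev (charL M θ) (V * ε * U' * single g 1)
      = ev (charL M θ) (V * (ε * single g 1 * U')) := by
        rw [mul_assoc _ U', hcomm2]; simp only [mul_assoc]
    _ = ev (charL M θ) (ε * single g 1 * U' * V) := ev_mul_comm (isClassFn_charL θ) _ _
    _ = ev (charL M θ) (ε * single g 1) := by rw [mul_assoc _ U', hU2, mul_one]

end Phi

section BlkIdem

/-- The block idempotents of a subgroup, inside the group algebra of `G`. -/
noncomputable def blkIdemS (M : Ideal AlgInt) [M.IsPrime] (H : Subgroup G) :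
    Finset (MonoidAlgebra (Res M) G) :=
  haveI := Classical.decEq (MonoidAlgebra (Res M) G)
  (blocks M H).image (bel M H)

/-- The block idempotents of the centralizer of `x`. -/
noncomputable abbrev blkIdem (M : Ideal AlgInt) [M.IsPrime] (x : G) :
    Finset (MonoidAlgebra (Res M) G) :=
  blkIdemS M (cz x)

theorem mem_blkIdemS {H : Subgroup G} {a : MonoidAlgebra (Res M) G} :
    a ∈ blkIdemS M H ↔ ∃ b, IsPBlock M b ∧ bel M H b = a := by
  simp [blkIdemS, mem_blocks]

variable {H : Subgroup G} {a a' : MonoidAlgebra (Res M) G}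

theorem blkIdem_mul_self (h : a ∈ blkIdemS M H) : a * a = a := by
  obtain ⟨b, hb, rfl⟩ := mem_blkIdemS.mp h
  exact bel_mul_self H hb

theorem blkIdem_mul_of_ne (hM : IsPModular p M) (h : a ∈ blkIdemS M H) (h' : a' ∈ blkIdemS M H)
    (hne : a ≠ a') : a * a' = 0 := by
  obtain ⟨b, hb, rfl⟩ := mem_blkIdemS.mp h
  obtain ⟨b', hb', rfl⟩ := mem_blkIdemS.mp h'
  exact bel_mul_of_ne hM H hb hb' fun e => hne (by rw [e])

theorem blkIdem_isInv (h : a ∈ blkIdemS M H) : IsInv H a := by
  obtain ⟨b, -, rfl⟩ := mem_blkIdemS.mp h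
  exact isInv_bel H b

theorem blkIdem_supp (h : a ∈ blkIdemS M H) {v : G} (hv : v ∉ H) : a.coeff v = 0 := by
  obtain ⟨b, -, rfl⟩ := mem_blkIdemS.mp h
  exact coeff_bel_of_notMem H b hv

theorem blkIdem_ne_zero (h : a ∈ blkIdemS M H) : a ≠ 0 := by
  obtain ⟨b, hb, rfl⟩ := mem_blkIdemS.mp h
  exact bel_ne_zero H hb

theorem sum_blkIdem (hM : IsPModular p M) (H : Subgroup G) : ∑ a ∈ blkIdemS M H, a = 1 := by
  classical
  rw [← sum_bel hM H]
  refine (Finset.sum_bij (fun b _ => bel M H b)
    (fun b hb => mem_blkIdemS.mpr ⟨b, mem_blocks.mp hb, rfl⟩)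
    (fun b hb b' hb' e => bel_injective H (mem_blocks.mp hb) (mem_blocks.mp hb') e)
    (fun a ha => ?_) fun b _ => rfl).symm
  obtain ⟨b, hb, rfl⟩ := mem_blkIdemS.mp ha
  exact ⟨b, mem_blocks.mpr hb, rfl⟩

theorem conjA_mem_blkIdem {x : G} {a : MonoidAlgebra (Res M) G} (c : G)
    (h : a ∈ blkIdem M x) : conjA c a ∈ blkIdem M (c * x * c⁻¹) := by
  obtain ⟨b, hb, rfl⟩ := mem_blkIdemS.mp h
  rw [← bel_conjBlock (Subgroup.zpowers x) c hb]
  have e : (Subgroup.zpowers x).map (MulAut.conj c).toMonoidHom =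
      Subgroup.zpowers (c * x * c⁻¹) := MonoidHom.map_zpowers _ x
  rw [show blkIdem M (c * x * c⁻¹) = blkIdemS M (Subgroup.centralizer
    (((Subgroup.zpowers x).map (MulAut.conj c).toMonoidHom : Subgroup G) : Set G)) by rw [e]]
  exact mem_blkIdemS.mpr ⟨_, isPBlock_conjBlock _ c hb, rfl⟩

theorem sum_blkIdem_conj {α : Type*} [AddCommMonoid α] (c x : G)
    (f : MonoidAlgebra (Res M) G → α) :
    ∑ a ∈ blkIdem M (c * x * c⁻¹), f a = ∑ a ∈ blkIdem M x, f (conjA c a) := by
  refine (Finset.sum_bij' (fun a _ => conjA c a) (fun a _ => conjA c⁻¹ a)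
    (fun a ha => conjA_mem_blkIdem c ha) (fun a ha => ?_) (fun a _ => ?_) (fun a _ => ?_)
    fun a _ => rfl).symm
  · have := conjA_mem_blkIdem c⁻¹ ha
    rwa [show c⁻¹ * (c * x * c⁻¹) * c⁻¹⁻¹ = x by group] at this
  · rw [conjA_conjA, inv_mul_cancel, conjA_one]
  · rw [conjA_conjA, mul_inv_cancel, conjA_one]

end BlkIdem

end Cfsg.Agent.Blocks
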