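import Cfsg.Agent.Lib.Blocks.CoverLies
import Cfsg.Agent.Lib.Blocks.Fong
import Cfsg.Agent.Lib.Blocks.Normal
import Cfsg.Agent.Lib.Blocks.StarPhi

/-!
# Principal blocks over a normal subgroup of `p'`-index centralized by a Sylow subgroup

If `G = N C(P)` for a Sylow subgroup `P ≤ N` then restriction is a bijection between the principal
blocks. The sums over the `N`-orbits of elements of `C(P)` act invertibly, and after scaling they
give a representation of `G/N` commuting with `N`, which the block forces to be trivial.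
-/

namespace Cfsg.Agent.Blocks

open MonoidAlgebra BPairs

universe u

namespace IsoBlocks

variable {G : Type u} [Group G] [Finite G] {p : ℕ} {M : Ideal AlgInt} [M.IsPrime]
  {N : Subgroup G} [N.Normal]

set_option linter.unusedSectionVars false

/-- The sum of the coefficients. -/
noncomputable def aug (M : Ideal AlgInt) [M.IsPrime] (G : Type u) [Group G] :
    MonoidAlgebra (Loc M) G →ₐ[Loc M] Loc M :=
  MonoidAlgebra.lift (Loc M) (Loc M) G 1

theorem aug_single (g : G) (r : Loc M) : aug M G (single g r) = r := by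
  simp [aug]

theorem omega_triv (a : MonoidAlgebra (Loc M) G) :
    omega (fun _ : G => (1 : ℂ)) (toC M G a) = ((aug M G a : Loc M) : ℂ) := by
  rw [omega, div_one]
  induction a using MonoidAlgebra.induction_linear with
  | zero => simp
  | add x y hx hy => rw [map_add, ev_add, map_add, AddMemClass.coe_add, hx, hy]
  | single g r => simp [aug_single]

theorem aug_resH [Finite N] {a : MonoidAlgebra (Loc M) G} (ha : ∀ g, g ∉ N → a.coeff g = 0) :
    aug M N (resH N a) = aug M G a := by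
  conv_rhs => rw [← embH_resH ha]
  generalize resH N a = b
  induction b using MonoidAlgebra.induction_linear with
  | zero => simp
  | add x y hx hy => rw [map_add, map_add, map_add, hx, hy]
  | single g r => rw [embH_single, aug_single, aug_single]

/-- An element is supported in one coset of `N`. -/
def InCoset (N : Subgroup G) [N.Normal] (a : MonoidAlgebra (Loc M) G) (σ : G ⧸ N) : Prop :=
  ∀ g : G, (g : G ⧸ N) ≠ σ → a.coeff g = 0

theorem InCoset.eq_of_ne {a : MonoidAlgebra (Loc M) G} {σ : G ⧸ N} (h : InCoset N a σ) {g : G}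
    (hg : a.coeff g ≠ 0) : (g : G ⧸ N) = σ := by
  by_contra hne
  exact hg (h g hne)

theorem InCoset.mul {a b : MonoidAlgebra (Loc M) G} {σ τ : G ⧸ N} (ha : InCoset N a σ)
    (hb : InCoset N b τ) : InCoset N (a * b) (σ * τ) := by
  haveI := Fintype.ofFinite G
  intro g hg
  rw [coeff_mul_sum]
  refine Finset.sum_eq_zero fun v _ => ?_
  by_cases hv : a.coeff v = 0
  · rw [hv, zero_mul]
  by_cases hw : b.coeff (v⁻¹ * g) = 0
  · rw [hw, mul_zero]
  refine absurd ?_ hg
  rw [← ha.eq_of_ne hv, ← hb.eq_of_ne hw, ← QuotientGroup.mk_mul, mul_inv_cancel_left]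

theorem InCoset.single {g : G} {r : Loc M} :
    InCoset N (MonoidAlgebra.single g r) (g : G ⧸ N) := fun h hh => by
  rw [coeff_single, Finsupp.single_eq_of_ne]
  rintro rfl
  exact hh rfl

theorem InCoset.one : InCoset (M := M) N 1 1 := by
  rw [MonoidAlgebra.one_def, ← QuotientGroup.mk_one N]
  exact InCoset.single

theorem InCoset.pow {a : MonoidAlgebra (Loc M) G} {σ : G ⧸ N} (ha : InCoset N a σ) :
    ∀ k : ℕ, InCoset N (a ^ k) (σ ^ k)
  | 0 => by rw [pow_zero, pow_zero]; exact InCoset.one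
  | k + 1 => by rw [pow_succ, pow_succ]; exact (InCoset.pow ha k).mul ha

theorem InCoset.supp {a : MonoidAlgebra (Loc M) G} (ha : InCoset N a 1) :
    ∀ g, g ∉ N → a.coeff g = 0 := fun g hg =>
  ha g fun h => hg ((QuotientGroup.eq_one_iff g).mp h)

theorem inCoset_conjA {a : MonoidAlgebra (Loc M) G} {σ : G ⧸ N} (ha : InCoset N a σ) (g : G) :
    InCoset N (conjA g a) ((g : G ⧸ N) * σ * (g : G ⧸ N)⁻¹) := by
  intro v hv
  rw [coeff_conjA]
  refine ha _ fun h => hv ?_
  rw [← h, ← QuotientGroup.mk_mul, ← QuotientGroup.mk_inv, ← QuotientGroup.mk_mul]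
  congr 1
  group

theorem isInv_mul {H : Subgroup G} {a b : MonoidAlgebra (Loc M) G} (ha : IsInv H a)
    (hb : IsInv H b) : IsInv H (a * b) :=
  isInv_iff_commute.mpr fun q hq =>
    (isInv_iff_commute.mp ha q hq).mul_left (isInv_iff_commute.mp hb q hq)

theorem isInv_pow {H : Subgroup G} {a : MonoidAlgebra (Loc M) G} (ha : IsInv H a) (k : ℕ) :
    IsInv H (a ^ k) :=
  isInv_iff_commute.mpr fun q hq => (isInv_iff_commute.mp ha q hq).pow_left k

theorem resH_mem_center' {a : MonoidAlgebra (Loc M) G} (ha : IsInv N a) :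
    resH N a ∈ Subring.center (MonoidAlgebra (Loc M) N) := by
  rw [mem_center_iff_isClassFn]
  intro u v
  simp only [coeff_resH]
  exact ha (v : G) v.2 (u : G)

section Orbit

open Classical in
/-- The orbit of `c` under `N`. -/
noncomputable def orbit (N : Subgroup G) (c : G) : Finset G :=
  haveI := Fintype.ofFinite N
  Finset.univ.image fun n : N => (n : G) * c * (n : G)⁻¹

theorem mem_orbit {c x : G} : x ∈ orbit N c ↔ ∃ n ∈ N, n * c * n⁻¹ = x := by
  classical
  simp [orbit]

/-- The sum over the orbit. -/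
noncomputable def zN (M : Ideal AlgInt) [M.IsPrime] (N : Subgroup G) (c : G) :
    MonoidAlgebra (Loc M) G :=
  ∑ x ∈ orbit N c, single x 1

theorem aug_zN (c : G) : aug M G (zN M N c) = ((orbit N c).card : Loc M) := by
  simp [zN, aug_single]

theorem inCoset_zN (c : G) : InCoset N (zN M N c) (c : G ⧸ N) := by
  classical
  intro g hg
  rw [zN, coeff_sum, Finsupp.finsetSum_apply]
  refine Finset.sum_eq_zero fun x hx => ?_
  obtain ⟨n, hn, rfl⟩ := mem_orbit.mp hx
  rw [coeff_single, Finsupp.single_eq_of_ne]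
  rintro rfl
  apply hg
  simp [QuotientGroup.mk_mul, (QuotientGroup.eq_one_iff n).mpr hn]

theorem isInv_zN (c : G) : IsInv N (zN M N c) := by
  classical
  refine isInv_iff_commute.mpr fun q hq => ?_
  rw [Commute, SemiconjBy, zN, Finset.sum_mul, Finset.mul_sum]
  refine Finset.sum_bij (fun x _ => q⁻¹ * x * q) (fun x hx => ?_)
    (fun a _ b _ h => mul_left_cancel (mul_right_cancel h)) (fun y hy => ?_) fun x _ => ?_
  · obtain ⟨n, hn, rfl⟩ := mem_orbit.mp hx
    exact mem_orbit.mpr ⟨q⁻¹ * n, mul_mem (inv_mem hq) hn, by group⟩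
  · obtain ⟨n, hn, rfl⟩ := mem_orbit.mp hy
    exact ⟨q * (n * c * n⁻¹) * q⁻¹, mem_orbit.mpr ⟨q * n, mul_mem hq hn, by group⟩, by group⟩
  · rw [single_mul_single, single_mul_single]
    congr 1
    group

theorem isUnit_card_orbit (hM : IsPModular p M) (P : Sylow p G) (hidx : ¬ p ∣ N.index) {c : G}
    (hc : c ∈ Subgroup.centralizer ((P : Subgroup G) : Set G)) :
    red M ((orbit N c).card : Loc M) ≠ 0 := by
  classical
  haveI := Fact.mk hM.1
  haveI := charP_res hM
  haveI := Fintype.ofFinite N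
  have hPN : (P : Subgroup G) ≤ N := fun x hx => by
    obtain ⟨k, hk⟩ := exists_pow_eq_one_of_isPGroup P.isPGroup' hx
    refine (QuotientGroup.eq_one_iff x).mp (orderOf_eq_one_iff.mp ?_)
    refine Nat.eq_one_of_dvd_coprimes ((hM.1.coprime_iff_not_dvd.mpr hidx).pow_left k)
      (orderOf_dvd_of_pow_eq_one (by rw [← QuotientGroup.mk_pow, hk, QuotientGroup.mk_one])) ?_
    exact orderOf_dvd_natCard _
  obtain ⟨H, hH⟩ : ∃ H, H = (Subgroup.centralizer ({c} : Set G)).subgroupOf N := ⟨_, rfl⟩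
  have hmemH : ∀ n : N, n ∈ H ↔ (n : G) * c = c * n := fun n => by
    rw [hH, Subgroup.mem_subgroupOf, Subgroup.mem_centralizer_singleton_iff]
  have hcard : (orbit N c).card = H.index := by
    rw [Subgroup.index, ← Nat.card_eq_finsetCard]
    symm
    refine Nat.card_eq_of_bijective (Quotient.lift
      (fun n : N => (⟨(n : G) * c * (n : G)⁻¹, mem_orbit.mpr ⟨n, n.2, rfl⟩⟩ : orbit N c))
      fun a b hab => ?_) ⟨fun a b => ?_, fun x => ?_⟩
    · rw [← Quotient.eq_iff_equiv] at hab
      have h := (hmemH _).mp (QuotientGroup.eq.mp hab)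
      refine Subtype.ext ?_
      simp only [Subgroup.coe_mul, Subgroup.coe_inv] at h
      calc (a : G) * c * (a : G)⁻¹
          = (a : G) * (c * ((a : G)⁻¹ * b)) * (b : G)⁻¹ := by group
        _ = (a : G) * ((a : G)⁻¹ * b * c) * (b : G)⁻¹ := by rw [h]
        _ = _ := by group
    · induction a using Quotient.inductionOn with | _ a =>
      induction b using Quotient.inductionOn with | _ b =>
      intro hab
      refine QuotientGroup.eq.mpr ((hmemH _).mpr ?_)
      have h := congrArg Subtype.val hab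
      simp only [Quotient.lift_mk] at h
      simp only [Subgroup.coe_mul, Subgroup.coe_inv]
      calc (a : G)⁻¹ * b * c = (a : G)⁻¹ * ((b : G) * c * (b : G)⁻¹) * b := by group
        _ = (a : G)⁻¹ * ((a : G) * c * (a : G)⁻¹) * b := by rw [h]
        _ = _ := by group
    · obtain ⟨n, hn, he⟩ := mem_orbit.mp x.2
      exact ⟨QuotientGroup.mk ⟨n, hn⟩, Subtype.ext he⟩
  rw [map_natCast, Ne, CharP.cast_eq_zero_iff (Res M) p, hcard]
  intro hd
  have h1 : (P : Subgroup G).subgroupOf N ≤ H := fun x hx =>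
    (hmemH x).mpr (Subgroup.mem_centralizer_iff.mp hc (x : G) (Subgroup.mem_subgroupOf.mp hx))
  refine P.not_dvd_index ((hd.trans (Subgroup.index_dvd_of_le h1)).trans ?_)
  rw [← Subgroup.relIndex_mul_index hPN]
  exact dvd_mul_right _ _

end Orbit

section Rep

variable {D : ℕ} {ρ : Representation ℂ G (Fin D → ℂ)}

/-- The operators of the elements with local coefficients. -/
noncomputable def opL (M : Ideal AlgInt) [M.IsPrime] (ρ : Representation ℂ G (Fin D → ℂ)) :
    MonoidAlgebra (Loc M) G →+* Module.End ℂ (Fin D → ℂ) :=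
  ρ.asAlgebraHom.toRingHom.comp (toC M G)

theorem opL_single (g : G) : opL M ρ (single g 1) = ρ g := by
  simp [opL]

theorem trace_op (ρ : Representation ℂ G (Fin D → ℂ)) (x : MonoidAlgebra ℂ G) :
    LinearMap.trace ℂ _ (ρ.asAlgebraHom x) = ev ρ.character x := by
  induction x using MonoidAlgebra.induction_linear with
  | zero => simp
  | add x y hx hy => rw [map_add, map_add, hx, hy, ev_add]
  | single m r => simp [Representation.character]

open Classical in
theorem ev_idem_mul_embH [Fintype N] {χ : G → ℂ} (hχ : IsCharacter G χ) (θ : IrrCharacter N)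
    (y : MonoidAlgebra ℂ N) :
    ev χ (embH N (idemC {θ} * y)) =
      (CT.mult (fun n : N => χ n) θ : ℂ) * ev (θ : N → ℂ) y := by
  rw [ev_embH]
  conv_lhs => rw [CT.character_eq_sum (CT.isCharacter_restrict N hχ), ev_sum_smul_fun]
  rw [Finset.sum_eq_single θ]
  · rw [ev_idemC_mul, if_pos (Set.mem_singleton θ)]
  · intro φ _ hne
    rw [ev_idemC_mul, if_neg (fun h => hne (Set.mem_singleton_iff.mp h)), mul_zero]
  · exact fun h => absurd (Finset.mem_univ _) h

open Classical in
theorem constituent_principal {χ : IrrCharacter G} (hχ : χ ∈ principalBlock M G) [Fintype G]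
    [Fintype N] (θ : IrrCharacter N)
    (hθ : classInner (fun n : N => (χ : G → ℂ) n) (θ : N → ℂ) ≠ 0) :
    θ ∈ principalBlock M N := by
  have hB : IsPBlock M (principalBlock M G) := isPBlock_principalBlock
  have hb : IsPBlock M (principalBlock M N) := isPBlock_principalBlock
  have htriv : classInner (fun n : N => ((CT.trivIrr G : IrrCharacter G) : G → ℂ) n)
      ((CT.trivIrr N : IrrCharacter N) : N → ℂ) ≠ 0 := by
    have h : classInner (fun n : N => (1 : ℂ)) (fun n : N => (1 : ℂ)) = 1 :=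
      CT.irr_inner_self (CT.trivIrr N).2
    show classInner (fun n : N => (1 : ℂ)) (fun n : N => (1 : ℂ)) ≠ 0
    rw [h]
    exact one_ne_zero
  obtain ⟨g, hg⟩ := covered_conj hB hb trivIrr_mem_principalBlock trivIrr_mem_principalBlock
    htriv hχ hθ
  have h1 := sameBlock_conjIrr g⁻¹ ((mem_block_iff hb trivIrr_mem_principalBlock).mp hg)
  rw [← conjIrr_mul, mul_inv_cancel, conjIrr_one,
    show conjIrr g⁻¹ (CT.trivIrr N) = CT.trivIrr N from Subtype.ext rfl] at h1
  exact (mem_block_iff hb trivIrr_mem_principalBlock).mpr h1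

theorem red_omega_aug [Fintype N] {θ : IrrCharacter N} (hθ : θ ∈ principalBlock M N)
    {a : MonoidAlgebra (Loc M) G} (ha : IsInv N a) (hN : InCoset N a 1) :
    red M (omegaL M θ ⟨resH N a, resH_mem_center' ha⟩) = red M (aug M G a) := by
  rw [← aug_resH hN.supp, ← red_omegaL_eq_of_sameBlock
    ((mem_block_iff isPBlock_principalBlock trivIrr_mem_principalBlock).mp hθ)]
  congr 1
  exact Subtype.ext (omega_triv _)

variable [hρ : ρ.IsIrreducible]

open Classical in
/-- A central element of `N` with unit augmentation acts invertibly. -/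
theorem isUnit_opL_of_coset_one (hψ : (⟨ρ.character, CT.isIrrCharacter_character ρ⟩ :
      IrrCharacter G) ∈ principalBlock M G)
    {a : MonoidAlgebra (Loc M) G} (ha : IsInv N a) (hN : InCoset N a 1)
    (hunit : red M (aug M G a) ≠ 0) : IsUnit (opL M ρ a) := by
  haveI := Fintype.ofFinite G
  haveI := Fintype.ofFinite N
  obtain ⟨b0, hb0⟩ : ∃ b0, b0 = principalBlock M N := ⟨_, rfl⟩
  obtain ⟨b, hb⟩ : ∃ b, b = toC M N (resH N a) := ⟨_, rfl⟩
  have hbc : b ∈ Subring.center (MonoidAlgebra ℂ N) :=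
    hb ▸ mem_center_map _ (resH_mem_center' ha)
  obtain ⟨c, hc⟩ : ∃ c : MonoidAlgebra ℂ N, c = ∑ φ ∈ Finset.univ.filter (· ∈ b0),
      (omega (φ : N → ℂ) b)⁻¹ • idemC {φ} := ⟨_, rfl⟩
  have hcc : c ∈ Subring.center (MonoidAlgebra ℂ N) := by
    rw [Subring.mem_center_iff]
    intro x
    rw [hc, Finset.mul_sum, Finset.sum_mul]
    refine Finset.sum_congr rfl fun φ _ => ?_
    rw [mul_smul_comm, smul_mul_assoc, Subring.mem_center_iff.mp (idemC_mem_center _) x]
  have hmul : b * c = idemC b0 := by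
    refine central_ext (mul_mem hbc hcc) (idemC_mem_center _) fun φ => ?_
    rw [omega_mul φ.2 hbc, omega_idemC]
    have hωc : omega (φ : N → ℂ) c = if φ ∈ b0 then (omega (φ : N → ℂ) b)⁻¹ else 0 := by
      rw [omega, hc, ev_sum, Finset.sum_div]
      have : ∀ φ' : IrrCharacter N, ev (φ : N → ℂ) ((omega (φ' : N → ℂ) b)⁻¹ • idemC {φ'}) /
          (φ : N → ℂ) 1 = if φ = φ' then (omega (φ' : N → ℂ) b)⁻¹ else 0 := fun φ' => by
        rw [ev_smul, mul_div_assoc, ← omega, omega_idemC]
        by_cases h : φ = φ' <;> simp [h]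
      rw [Finset.sum_congr rfl fun φ' _ => this φ', Finset.sum_ite_eq]
      simp
    rw [hωc]
    by_cases hφ : φ ∈ b0
    · rw [if_pos hφ, if_pos hφ, mul_inv_cancel₀]
      intro h0
      apply hunit
      have hh : omegaL M φ ⟨resH N a, resH_mem_center' ha⟩ = 0 :=
        Subtype.ext (by rw [coe_omegaL, ← hb]; exact h0)
      rw [← red_omega_aug (hb0 ▸ hφ) ha hN, hh, map_zero]
    · rw [if_neg hφ, if_neg hφ, mul_zero]
  -- the block idempotent of `N` acts as the identity
  have hinv : ∀ g : G, ∀ φ ∈ b0, conjIrr g φ ∈ b0 := by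
    intro g φ hφ
    subst hb0
    have h1 := sameBlock_conjIrr g
      ((mem_block_iff isPBlock_principalBlock trivIrr_mem_principalBlock).mp hφ)
    rw [show conjIrr g (CT.trivIrr N) = CT.trivIrr N from Subtype.ext rfl] at h1
    exact (mem_block_iff isPBlock_principalBlock trivIrr_mem_principalBlock).mpr h1
  have hE : embH N (idemC b0) ∈ Subring.center (MonoidAlgebra ℂ G) :=
    embH_idemC_mem_center fun g n => by
      have h := blockCoeff_conjSet_stable b0 g n
      rwa [conjSet_eq_of_invariant hinv] at h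
  have hscal := CT.eq_scalar_of_commute ρ (ρ.asAlgebraHom (embH N (idemC b0))) fun g => by
    rw [← Representation.asAlgebraHom_single_one, ← map_mul, ← map_mul,
      Subring.mem_center_iff.mp hE]
  have htr : LinearMap.trace ℂ _ (ρ.asAlgebraHom (embH N (idemC b0))) =
      (Module.finrank ℂ (Fin D → ℂ) : ℂ) := by
    rw [trace_op, ev_embH_idemC b0 (CT.isCharacter_character ρ), ← Representation.char_one ρ]
    have h := congrFun (CT.character_eq_sum
      (CT.isCharacter_restrict N (CT.isCharacter_character ρ))) 1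
    simp only [Finset.sum_apply, Pi.smul_apply, smul_eq_mul, OneMemClass.coe_one] at h
    rw [h]
    refine Finset.sum_congr rfl fun φ _ => ?_
    by_cases hφ : φ ∈ b0
    · rw [if_pos hφ]
    · rw [if_neg hφ]
      by_cases hm : CT.mult (fun n : N => ρ.character n) (φ : N → ℂ) = 0
      · rw [hm, Nat.cast_zero, zero_mul]
      · exact absurd (hb0 ▸ constituent_principal hψ φ
          ((mult_ne_zero_iff (⟨_, CT.isIrrCharacter_character ρ⟩ : IrrCharacter G) φ).mp hm)) hφ
  have hE1 : ρ.asAlgebraHom (embH N (idemC b0)) = 1 := by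
    rw [hscal, htr, div_self (Nat.cast_ne_zero.mpr (CT.finrank_pos_of_irreducible ρ).ne'), one_smul]
    rfl
  have hab : opL M ρ a = ρ.asAlgebraHom (embH N b) := by
    conv_lhs => rw [← embH_resH hN.supp]
    rw [opL, RingHom.comp_apply, hb]
    exact congrArg (fun x => ρ.asAlgebraHom x) (map_embH (Loc M).subtype N (resH N a))
  refine isUnit_iff_exists.mpr ⟨ρ.asAlgebraHom (embH N c), ?_, ?_⟩
  · rw [hab, ← map_mul, ← map_mul, hmul, hE1]
  · rw [hab, ← map_mul, ← map_mul, Subring.mem_center_iff.mp hbc c, hmul, hE1]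

variable (P : Sylow p G) (hM : IsPModular p M) (hidx : ¬ p ∣ N.index)
  (hsup : N ⊔ Subgroup.centralizer ((P : Subgroup G) : Set G) = ⊤)
  (hψ : (⟨ρ.character, CT.isIrrCharacter_character ρ⟩ : IrrCharacter G) ∈ principalBlock M G)

include hM hidx hψ in
theorem isUnit_opL_zN {c : G} (hc : c ∈ Subgroup.centralizer ((P : Subgroup G) : Set G)) :
    IsUnit (opL M ρ (zN M N c)) := by
  have hc' : c⁻¹ ∈ Subgroup.centralizer ((P : Subgroup G) : Set G) := inv_mem hc
  have hred : red M (aug M G (zN M N c) * aug M G (zN M N c⁻¹)) ≠ 0 := by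
    rw [map_mul, aug_zN, aug_zN]
    exact mul_ne_zero (isUnit_card_orbit hM P hidx hc) (isUnit_card_orbit hM P hidx hc')
  have h1 := isUnit_opL_of_coset_one (ρ := ρ) hψ (isInv_mul (isInv_zN (M := M) (N := N) c) (isInv_zN c⁻¹))
    (by simpa using (inCoset_zN (M := M) (N := N) c).mul (inCoset_zN c⁻¹))
    (by rw [map_mul]; exact hred)
  have h2 := isUnit_opL_of_coset_one (ρ := ρ) hψ (isInv_mul (isInv_zN (M := M) (N := N) c⁻¹) (isInv_zN c))
    (by simpa using (inCoset_zN (M := M) (N := N) c⁻¹).mul (inCoset_zN c))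
    (by rw [map_mul, mul_comm]; exact hred)
  rw [map_mul] at h1 h2
  obtain ⟨u, hu⟩ := h1
  obtain ⟨v, hv⟩ := h2
  have hr : opL M ρ (zN M N c) * (opL M ρ (zN M N c⁻¹) * (u⁻¹ : (Module.End ℂ (Fin D → ℂ))ˣ)) = 1 := by
    rw [← mul_assoc, ← hu, Units.mul_inv]
  have hl : ((v⁻¹ : (Module.End ℂ (Fin D → ℂ))ˣ) : Module.End ℂ (Fin D → ℂ)) *
      opL M ρ (zN M N c⁻¹) * opL M ρ (zN M N c) = 1 := by
    rw [mul_assoc, ← hv, Units.inv_mul]
  exact isUnit_iff_exists.mpr ⟨_, hr, by rwa [← left_inv_eq_right_inv hl hr]⟩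

include hsup in
theorem exists_section (σ : G ⧸ N) :
    ∃ c ∈ Subgroup.centralizer ((P : Subgroup G) : Set G), (c : G ⧸ N) = σ := by
  obtain ⟨g, rfl⟩ := QuotientGroup.mk_surjective σ
  have hg : g ∈ Subgroup.centralizer ((P : Subgroup G) : Set G) ⊔ N := by
    rw [sup_comm, hsup]; exact Subgroup.mem_top g
  rw [← SetLike.mem_coe, Subgroup.mul_normal] at hg
  obtain ⟨c, hc, n, hn, rfl⟩ := hg
  exact ⟨c, hc, QuotientGroup.eq.mpr (by simpa using hn)⟩

include hM hidx hsup hψ in
/-- An operator commuting with the images of the algebra of `N` and of the orbit sums is scalar. -/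
theorem scalar_of_commute (T : Module.End ℂ (Fin D → ℂ))
    (hT : ∀ x : MonoidAlgebra (Loc M) G, InCoset N x 1 → Commute T (opL M ρ x))
    (hz : ∀ c ∈ Subgroup.centralizer ((P : Subgroup G) : Set G),
      Commute T (opL M ρ (zN M N c))) :
    ∃ l : ℂ, T = l • 1 := by
  haveI := Fintype.ofFinite G
  refine ⟨_, CT.eq_scalar_of_commute ρ T fun g => ?_⟩
  obtain ⟨c, hc, hcg⟩ := exists_section P hsup (g : G ⧸ N)
  obtain ⟨u, hu⟩ := isUnit_opL_zN P hM hidx hψ hc
  have hx : InCoset N (zN M N c * single c⁻¹ 1) 1 := by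
    simpa using (inCoset_zN (M := M) (N := N) c).mul (InCoset.single (g := c⁻¹) (r := 1))
  have hX : IsUnit (opL M ρ (zN M N c * single c⁻¹ 1)) := by
    rw [map_mul, opL_single, ← hu]
    exact u.isUnit.mul (isUnit_iff_exists.mpr
      ⟨ρ c, by rw [← map_mul, inv_mul_cancel, map_one], by rw [← map_mul, mul_inv_cancel, map_one]⟩)
  obtain ⟨w, hw⟩ := hX
  have hρc : ρ c = ((w⁻¹ : (Module.End ℂ (Fin D → ℂ))ˣ) : Module.End ℂ (Fin D → ℂ)) *
      opL M ρ (zN M N c) := by
    have e : opL M ρ (zN M N c * single c⁻¹ 1) * ρ c = opL M ρ (zN M N c) := by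
      rw [map_mul, opL_single, mul_assoc, ← map_mul, inv_mul_cancel, map_one, mul_one]
    rw [← e, ← hw, ← mul_assoc, Units.inv_mul, one_mul]
  have h1 : Commute T (ρ c) := by
    rw [hρc]
    exact (Commute.units_inv_right (hw ▸ hT _ hx)).mul_right (hz c hc)
  have hn : InCoset (M := M) N (single (c⁻¹ * g) 1) 1 := by
    have h : ((c⁻¹ * g : G) : G ⧸ N) = 1 := by
      rw [QuotientGroup.mk_mul, QuotientGroup.mk_inv, hcg, inv_mul_cancel]
    exact h ▸ InCoset.single
  have h2 := h1.mul_right (opL_single (M := M) (ρ := ρ) (c⁻¹ * g) ▸ hT _ hn)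
  rw [← map_mul, mul_inv_cancel_left] at h2
  exact h2.eq

include hM hidx hsup hψ in
/-- A central element of the algebra of `N` acts by its value at any constituent. -/
theorem opL_eq_omega [Fintype N] {a : MonoidAlgebra (Loc M) G} (ha : IsInv N a)
    (hN : InCoset N a 1) {θ : IrrCharacter N}
    (hθ : classInner (fun n : N => ρ.character n) (θ : N → ℂ) ≠ 0) :
    opL M ρ a = ((omegaL M θ ⟨resH N a, resH_mem_center' ha⟩ : Loc M) : ℂ) • 1 := by
  classical
  haveI := Fintype.ofFinite G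
  haveI := hρ
  obtain ⟨l, hl⟩ := scalar_of_commute P hM hidx hsup hψ (opL M ρ a)
    (fun x hx => (commute_of_supp ha hx.supp).map (opL M ρ))
    (fun c _ => ((commute_of_supp (isInv_zN c) hN.supp).symm).map (opL M ρ))
  rw [hl]
  congr 1
  have hm : (CT.mult (fun n : N => ρ.character n) (θ : N → ℂ) : ℂ) ≠ 0 := by
    rwa [← CT.mult_spec (CT.isCharacter_restrict N (CT.isCharacter_character ρ))
      (CT.isCharacter_of_isIrr θ.2)]
  have h1 : ev ρ.character (embH N (idemC {θ} * toC M N (resH N a))) =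
      l * ev ρ.character (embH N (idemC {θ} * 1)) := by
    rw [map_mul, mul_one, ← trace_op, ← trace_op, map_mul,
      show embH N (toC M N (resH N a)) = toC M G (embH N (resH N a)) from (map_embH _ _ _).symm,
      embH_resH hN.supp,
      show ρ.asAlgebraHom (toC M G a) = l • 1 from hl, mul_smul_comm, mul_one, map_smul, smul_eq_mul]
  rw [ev_idem_mul_embH (CT.isCharacter_character ρ), ev_idem_mul_embH (CT.isCharacter_character ρ),
    ev_one] at h1
  rw [coe_omegaL, omega, eq_div_iff (CT.irr_one_ne_zero θ.2)]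
  apply mul_left_cancel₀ hm
  linear_combination -h1

include hM hidx hsup hψ in
/-- An invariant element of a coset acts as a multiple of the scaled orbit sum. -/
theorem exists_scalar_coset [Fintype N] {a : MonoidAlgebra (Loc M) G} (ha : IsInv N a) {c : G}
    (hc : c ∈ Subgroup.centralizer ((P : Subgroup G) : Set G))
    (hN : InCoset N a (c : G ⧸ N)) :
    ∃ l : Loc M, opL M ρ a = (l : ℂ) • ((((orbit N c).card : ℂ))⁻¹ • opL M ρ (zN M N c)) ∧
      red M l = red M (aug M G a) := by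
  haveI := Fintype.ofFinite G
  obtain ⟨θ, hθ⟩ := CT.exists_constituent_restrict N (CT.isIrrCharacter_character ρ)
  have hθb := constituent_principal hψ θ hθ
  have hc' : c⁻¹ ∈ Subgroup.centralizer ((P : Subgroup G) : Set G) := inv_mem hc
  have ha1 : InCoset N (a * zN M N c⁻¹) 1 := by simpa using hN.mul (inCoset_zN (M := M) (N := N) c⁻¹)
  have hz1 : InCoset N (zN M N c * zN M N c⁻¹) 1 := by
    simpa using (inCoset_zN (M := M) (N := N) c).mul (inCoset_zN (M := M) (N := N) c⁻¹)
  have hai := isInv_mul ha (isInv_zN (M := M) (N := N) c⁻¹)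
  have hzi := isInv_mul (isInv_zN (M := M) (N := N) c) (isInv_zN (M := M) (N := N) c⁻¹)
  have e1 := opL_eq_omega P hM hidx hsup hψ hai ha1 hθ
  have e2 := opL_eq_omega P hM hidx hsup hψ hzi hz1 hθ
  have r1 := red_omega_aug hθb hai ha1
  have r2 := red_omega_aug hθb hzi hz1
  obtain ⟨l1, hl1⟩ : ∃ l, l = omegaL M θ ⟨resH N _, resH_mem_center' hai⟩ := ⟨_, rfl⟩
  obtain ⟨l2, hl2⟩ : ∃ l, l = omegaL M θ ⟨resH N _, resH_mem_center' hzi⟩ := ⟨_, rfl⟩
  rw [← hl1] at e1 r1
  rw [← hl2] at e2 r2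
  rw [map_mul, map_mul, aug_zN, aug_zN] at r2
  rw [map_mul, map_mul, aug_zN] at r1
  have hu := isUnit_card_orbit (N := N) hM P hidx hc
  have hu' := isUnit_card_orbit (N := N) hM P hidx hc'
  obtain ⟨v, hv⟩ := (IsLocalRing.residue_ne_zero_iff_isUnit l2).mp
    (by show red M l2 ≠ 0; rw [r2]; exact mul_ne_zero hu hu')
  obtain ⟨l, hl⟩ : ∃ l : Loc M, l = l1 * ((v⁻¹ : (Loc M)ˣ) : Loc M) * ((orbit N c).card : Loc M) :=
    ⟨_, rfl⟩
  refine ⟨l, ?_, ?_⟩
  · have hl2ne : (l2 : ℂ) ≠ 0 := fun h => by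
      have h' : l2 = 0 := Subtype.ext h
      rw [h', map_zero] at r2
      exact mul_ne_zero hu hu' r2.symm
    have hk : ((orbit N c).card : ℂ) ≠ 0 := by
      refine Nat.cast_ne_zero.mpr fun h => hu ?_
      rw [h, Nat.cast_zero, map_zero]
    obtain ⟨w, hw⟩ := isUnit_opL_zN P hM hidx hψ hc'
    have key : (l2 : ℂ) • opL M ρ a = (l1 : ℂ) • opL M ρ (zN M N c) := by
      apply (w.isUnit).mul_right_cancel
      rw [hw, smul_mul_assoc, smul_mul_assoc, ← map_mul, ← map_mul, e1, e2, smul_smul, smul_smul,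
        mul_comm]
    have hvi : (l2 : ℂ) * (((v⁻¹ : (Loc M)ˣ) : Loc M) : ℂ) = 1 := by
      rw [← hv, ← MulMemClass.coe_mul, Units.mul_inv, OneMemClass.coe_one]
    apply smul_right_injective (M := Module.End ℂ (Fin D → ℂ)) hl2ne
    simp only [hl, MulMemClass.coe_mul, SubringClass.coe_natCast, key, smul_smul]
    congr 1
    field_simp
    linear_combination -(l1 : ℂ) * hvi
  · have hvr : red M l2 * red M ((v⁻¹ : (Loc M)ˣ) : Loc M) = 1 := by
      rw [← hv, ← map_mul, Units.mul_inv, map_one]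
    rw [r2] at hvr
    rw [hl, map_mul, map_mul, r1]
    linear_combination (red M (aug M G a)) * hvr

end Rep

section Roots

theorem eq_one_of_pow_eq_one (hM : IsPModular p M) {n : ℕ} (hn : ¬ p ∣ n) {z : Loc M}
    (h : z ^ n = 1) (hz : red M z = 1) : z = 1 := by
  haveI := charP_res hM
  have hsum : (∑ i ∈ Finset.range n, z ^ i) * (z - 1) = 0 := by rw [geom_sum_mul, h, sub_self]
  rcases mul_eq_zero.mp hsum with h0 | h0
  · exfalso
    have := congrArg (red M) h0
    simp only [map_sum, map_pow, hz, one_pow, Finset.sum_const, Finset.card_range, nsmul_eq_mul,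
      mul_one, map_zero] at this
    exact hn ((CharP.cast_eq_zero_iff (Res M) p n).mp this)
  · exact sub_eq_zero.mp h0

theorem exists_root_one (hM : IsPModular p M) {n : ℕ} (hn : ¬ p ∣ n) {μ : Loc M}
    (hμ : red M μ = 1) : ∃ r : Loc M, r ^ n = μ ∧ red M r = 1 := by
  have hn0 : 0 < n := Nat.pos_of_ne_zero fun h => hn (h ▸ dvd_zero p)
  haveI : NeZero n := ⟨hn0.ne'⟩
  obtain ⟨r₀, hr₀⟩ := IsAlgClosed.exists_pow_nat_eq (μ : ℂ) hn0
  have hr₀L : r₀ ∈ Loc M := by
    obtain ⟨a, b, hb, hab⟩ := μ.2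
    have hb0 : (b : ℂ) ≠ 0 := fun h => hb (by
      rw [show b = 0 from Subtype.ext h]; exact M.zero_mem)
    have hint : IsIntegral ℤ (r₀ * (b : ℂ)) := by
      refine IsIntegral.of_pow hn0 ?_
      obtain ⟨k, rfl⟩ : ∃ k, n = k + 1 := ⟨n - 1, by omega⟩
      rw [mul_pow, hr₀, ← hab,
        show (a : ℂ) / (b : ℂ) * (b : ℂ) ^ (k + 1) = (a : ℂ) * (b : ℂ) ^ k by
          rw [pow_succ]; field_simp]
      exact IsIntegral.mul a.2 (IsIntegral.pow b.2 k)
    exact ⟨⟨r₀ * (b : ℂ), hint⟩, b, hb, mul_div_cancel_right₀ r₀ hb0⟩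
  obtain ⟨s, hs⟩ : ∃ s : Loc M, s = ⟨r₀, hr₀L⟩ := ⟨_, rfl⟩
  have hsn : s ^ n = μ := Subtype.ext (by simp [hs, hr₀])
  obtain ⟨ζ, hζ⟩ : ∃ ζ : ℂ, IsPrimitiveRoot ζ n := ⟨_, Complex.isPrimitiveRoot_exp n hn0.ne'⟩
  obtain ⟨z, hz⟩ : ∃ z : Loc M, (z : ℂ) = ζ :=
    ⟨⟨ζ, integral_mem_loc (IsIntegral.of_pow hn0 (by rw [hζ.pow_eq_one]; exact isIntegral_one))⟩, rfl⟩
  have hprim : IsPrimitiveRoot (red M z) n := by
    refine IsPrimitiveRoot.iff_def _ _ |>.mpr ⟨?_, fun l hl => ?_⟩
    · rw [← map_pow, show z ^ n = 1 from Subtype.ext (by simp [hz, hζ.pow_eq_one]), map_one]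
    · rw [← map_pow] at hl
      have h1 : z ^ l = 1 := eq_one_of_pow_eq_one hM hn (by
        rw [← pow_mul, mul_comm, pow_mul, show z ^ n = 1 from Subtype.ext (by
          simp [hz, hζ.pow_eq_one]), one_pow]) hl
      exact hζ.dvd_of_pow_eq_one l (by
        rw [← hz, ← SubmonoidClass.coe_pow, h1, OneMemClass.coe_one])
  obtain ⟨i, -, hi⟩ := hprim.eq_pow_of_pow_eq_one (ξ := (red M s)⁻¹) (by
    rw [inv_pow, ← map_pow, hsn, hμ, inv_one])
  have hs0 : red M s ≠ 0 := fun h => by
    have := congrArg (· ^ n) h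
    simp only [← map_pow, hsn, hμ, zero_pow hn0.ne'] at this
    exact one_ne_zero this
  refine ⟨s * z ^ i, ?_, by rw [map_mul, map_pow, hi, mul_inv_cancel₀ hs0]⟩
  rw [mul_pow, hsn, ← pow_mul, mul_comm i, pow_mul, show z ^ n = 1 from Subtype.ext (by
    simp [hz, hζ.pow_eq_one]), one_pow, mul_one]

end Roots

end IsoBlocks

end Cfsg.Agent.Blocks
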