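import Cfsg.Agent.Lib.Blocks.FixedOdd
import Cfsg.Agent.Lib.Blocks.IsoBlocks

/-!
# Fixed characters of degree prime to `p` in the principal block over a cyclic `p`-quotient
-/

set_option linter.all false

namespace Cfsg.Agent.Blocks.CyclicResidual

open Cfsg Cfsg.Agent

universe u

variable {G : Type u} [Group G] [Fintype G] {p : ℕ} [hp : Fact p.Prime]
variable {M : Ideal AlgInt} [M.IsPrime] {k : ℕ}

omit hp [M.IsPrime] in
theorem coprime_of_pow_rules (hp : p.Prime)
    (hk₁ : ∀ g : G, (∃ j : ℕ, orderOf g = p ^ j) → g ^ k = g ^ (1 + p))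
    (hk₂ : ∀ g : G, Nat.Coprime (orderOf g) p → g ^ k = g) : k.Coprime (Nat.card G) := by
  refine Nat.coprime_of_dvd' fun q hq hqk hqG => ?_
  exfalso
  haveI := Fact.mk hq
  obtain ⟨g, hg⟩ := exists_prime_orderOf_dvd_card' q hqG
  have hgk : g ^ k = 1 := orderOf_dvd_iff_pow_eq_one.mp (hg ▸ hqk)
  have hg1 : g ≠ 1 := fun e => hq.ne_one (by rw [← hg, e, orderOf_one])
  by_cases hqp : q = p
  · have h := hk₁ g ⟨1, by rw [hg, hqp, pow_one]⟩
    have h2 : g ^ p = 1 := by rw [← hqp, ← hg, pow_orderOf_eq_one]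
    rw [hgk, pow_add, pow_one, h2, mul_one] at h
    exact hg1 h.symm
  · have h := hk₂ g (hg ▸ (Nat.coprime_primes hq hp).mpr hqp)
    exact hg1 (h.symm.trans hgk)

/-- Members of the principal block lie exactly over those of the residual. -/
theorem mem_principal_iff (hM : IsPModular p M) (N : Subgroup G) [N.Normal] [Fintype N]
    (hN : N = pResidual p G) (χ : IrrCharacter G) :
    χ ∈ principalBlock M G ↔ HasConstituent (principalBlock M N) (χ : G → ℂ) := by
  classical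
  obtain ⟨a, ha⟩ := Transfer.exists_index_pResidual_eq_pow (G := G) (p := p)
  obtain ⟨B, hB, -, hmem⟩ := exists_block_over_stable hM ⟨a, hN ▸ ha⟩
    (c := principalBlock M N) isPBlock_principalBlock (fun x => by
      refine (stabilizesBlock_iff isPBlock_principalBlock x).mpr fun φ hφ => ?_
      have h1 := sameBlock_conjIrr (G := G) x
        ((mem_block_iff isPBlock_principalBlock trivIrr_mem_principalBlock).mp hφ)
      rw [show conjIrr x (CT.trivIrr N) = CT.trivIrr N from Subtype.ext rfl] at h1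
      exact (mem_block_iff isPBlock_principalBlock trivIrr_mem_principalBlock).mpr h1)
  have htriv : CT.trivIrr G ∈ B := (hmem _).mpr ⟨CT.trivIrr N, trivIrr_mem_principalBlock, by
    intro h0
    have h2 := CT.mult_spec (CT.isCharacter_restrict N (CT.isCharacter_of_isIrr (CT.trivIrr G).2))
      (CT.isCharacter_of_isIrr (CT.trivIrr N).2)
    rw [h0, Nat.cast_zero] at h2
    exact one_ne_zero ((CT.irr_inner_self (CT.trivIrr N).2).symm.trans h2)⟩
  have hBeq : B = principalBlock M G :=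
    block_eq_of_mem hB isPBlock_principalBlock htriv trivIrr_mem_principalBlock
  exact hBeq ▸ hmem χ

/-- Homomorphisms of a cyclic group to `ℂˣ` killed by a prime dividing its order. -/
theorem card_hom_pow_eq_one {Q : Type u} [Group Q] [Finite Q] [IsCyclic Q] (hQ : p ∣ Nat.card Q) :
    Nat.card {η : Q →* ℂˣ // η ^ p = 1} = p := by
  obtain ⟨g, hg⟩ := IsCyclic.exists_generator (α := Q)
  have hord : orderOf g = Nat.card Q := orderOf_eq_card_of_forall_mem_zpowers hg
  haveI : NeZero p := ⟨hp.out.ne_zero⟩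
  have hc : Nat.card (rootsOfUnity p ℂ) = p := Complex.card_rootsOfUnity p
  refine (Nat.card_eq_of_bijective (fun η : {η : Q →* ℂˣ // η ^ p = 1} =>
    (⟨η.1 g, ?_⟩ : rootsOfUnity p ℂ)) ⟨?_, ?_⟩).trans hc
  · rw [mem_rootsOfUnity, ← MonoidHom.pow_apply, η.2, MonoidHom.one_apply]
  · intro η η' e
    refine Subtype.ext (MonoidHom.ext fun x => ?_)
    obtain ⟨m, rfl⟩ := Subgroup.mem_zpowers_iff.mp (hg x)
    rw [map_zpow, map_zpow]
    exact congrArg (· ^ m) (congrArg Subtype.val e : η.1 g = η'.1 g)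
  · rintro ⟨ζ, hζ⟩
    have hζp : ζ ^ p = 1 := (mem_rootsOfUnity p ζ).mp hζ
    have hdvd : orderOf ζ ∣ orderOf g := hord ▸ (orderOf_dvd_of_pow_eq_one hζp).trans hQ
    refine ⟨⟨monoidHomOfForallMemZpowers hg hdvd, ?_⟩, Subtype.ext ?_⟩
    · refine MonoidHom.ext fun x => ?_
      obtain ⟨m, rfl⟩ := Subgroup.mem_zpowers_iff.mp (hg x)
      rw [MonoidHom.pow_apply, MonoidHom.one_apply, map_zpow,
        monoidHomOfForallMemZpowers_apply_gen, ← zpow_natCast, ← zpow_mul, mul_comm, zpow_mul,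
        zpow_natCast, hζp, one_zpow]
    · exact monoidHomOfForallMemZpowers_apply_gen hg hdvd

theorem card_eq (hM : IsPModular p M) (P : Sylow p G) (N : Subgroup G) [hNn : N.Normal] [Fintype N]
    (hNres : N = pResidual p G) [IsCyclic (G ⧸ N)] (hnt : N ≠ ⊤)
    (hk₁ : ∀ g : G, (∃ j : ℕ, orderOf g = p ^ j) → g ^ k = g ^ (1 + p))
    (hk₂ : ∀ g : G, Nat.Coprime (orderOf g) p → g ^ k = g) :
    Nat.card {χ : IrrCharacter G // χ ∈ principalBlock M G ∧ ¬ p ∣ charDegree (χ : G → ℂ) ∧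
      ∀ g : G, (χ : G → ℂ) (g ^ k) = (χ : G → ℂ) g} =
    p * Nat.card {θ : IrrCharacter N // θ ∈ principalBlock M N ∧ ¬ p ∣ charDegree (θ : N → ℂ) ∧
      (∀ x ∈ (P : Subgroup G), ∀ n : N,
        (θ : N → ℂ) ⟨x * n * x⁻¹, hNn.conj_mem n n.2 x⟩ = (θ : N → ℂ) n) ∧
      ∀ n : N, (θ : N → ℂ) (n ^ k) = (θ : N → ℂ) n} := by
  classical
  have hk := coprime_of_pow_rules (G := G) hp.out hk₁ hk₂
  obtain ⟨a, ha⟩ := Transfer.exists_index_pResidual_eq_pow (G := G) (p := p)
  have hidx : N.index = p ^ a := hNres ▸ ha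
  haveI := Fintype.ofFinite (G ⧸ N)
  have hdeg_eq : ∀ {H : Type u} [Group H] [Fintype H] (χ : IrrCharacter H),
      charDegree (χ : H → ℂ) = CT.deg (χ : H → ℂ) := by
    intro H _ _ χ
    have h := charDegree_cast (G := H) χ
    rw [CT.deg_eq (CT.isCharacter_of_isIrr χ.2)] at h
    exact_mod_cast h.symm
  -- invariance
  have hinvG : ∀ θ : IrrCharacter N, (∀ x ∈ (P : Subgroup G), ∀ n : N,
      (θ : N → ℂ) ⟨x * n * x⁻¹, hNn.conj_mem n n.2 x⟩ = (θ : N → ℂ) n) →
      ∀ g, conjIrr g θ = θ := by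
    intro θ hθ
    have hS : CT.inertia N (θ : N → ℂ) = ⊤ := by
      have hP : (P : Subgroup G) ≤ CT.inertia N (θ : N → ℂ) := fun x hx =>
        (CT.mem_inertia N).mpr (funext (hθ x hx))
      have h1 : (CT.inertia N (θ : N → ℂ)).index ∣ p ^ a :=
        hidx ▸ Subgroup.index_dvd_of_le (CT.le_inertia N (CT.isClassFunction_of_isIrr θ.2))
      have h3 : Nat.Coprime (CT.inertia N (θ : N → ℂ)).index p :=
        Nat.Coprime.coprime_dvd_left (Subgroup.index_dvd_of_le hP)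
          (hp.out.coprime_iff_not_dvd.mpr P.not_dvd_index).symm
      exact Subgroup.index_eq_one.mp (Nat.eq_one_of_dvd_coprimes (h3.pow_right a) dvd_rfl h1)
    intro g
    exact Subtype.ext ((CT.mem_inertia N).mp (hS ▸ Subgroup.mem_top g))
  have hext : ∀ θ : {θ : IrrCharacter N // θ ∈ principalBlock M N ∧
      ¬ p ∣ charDegree (θ : N → ℂ) ∧
      (∀ x ∈ (P : Subgroup G), ∀ n : N,
        (θ : N → ℂ) ⟨x * n * x⁻¹, hNn.conj_mem n n.2 x⟩ = (θ : N → ℂ) n) ∧
      ∀ n : N, (θ : N → ℂ) (n ^ k) = (θ : N → ℂ) n},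
      ∃ χ ∈ principalBlock M G, (∀ n : N, (χ : G → ℂ) n = (θ.1 : N → ℂ) n) ∧
        ∀ g : G, (χ : G → ℂ) (g ^ k) = (χ : G → ℂ) g := fun θ =>
    FixedOdd.exists_fixed_ext hM hk N hNres θ.2.1 (hinvG _ θ.2.2.2.1) θ.2.2.1 θ.2.2.2.2
  choose ext hextB hextres hextfix using hext
  -- linear characters of the quotient
  let L := {η : G ⧸ N →* ℂˣ // η ^ p = 1}
  let infl : (G ⧸ N →* ℂˣ) → IrrCharacter G := fun η =>
    ⟨fun g => ((η.comp (QuotientGroup.mk' N)) g : ℂ), CT.isIrrCharacter_lin _⟩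
  have hinflN : ∀ η (n : N), (infl η : G → ℂ) n = 1 := fun η n => by
    show ((η ((QuotientGroup.mk' N) n) : ℂˣ) : ℂ) = 1
    rw [show (QuotientGroup.mk' N) (n : G) = 1 from (QuotientGroup.eq_one_iff _).mpr n.2, map_one,
      Units.val_one]
  have hinfl1 : ∀ η, classInner (fun n : N => (infl η : G → ℂ) n) (fun _ => (1 : ℂ)) ≠ 0 :=
    fun η => by
      simp only [hinflN]
      rw [show classInner (fun _ : N => (1 : ℂ)) (fun _ : N => (1 : ℂ)) = 1 from
        CT.irr_inner_self (CT.trivIrr N).2]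
      exact one_ne_zero
  have hinfl_inj : Function.Injective infl := fun η η' e =>
    MonoidHom.ext fun x => by
      obtain ⟨g, rfl⟩ := QuotientGroup.mk'_surjective N x
      exact Units.ext (congrFun (congrArg Subtype.val e) g)
  have hval : ∀ (η : G ⧸ N →* ℂˣ) (g : G), ∃ u : G ⧸ N, (infl η : G → ℂ) g = (η u : ℂ) ∧
      (infl η : G → ℂ) (g ^ k) = ((η u) ^ (1 + p) : ℂˣ) := by
    intro η g
    obtain ⟨u, ⟨v, huv, hcom, ⟨b, hb⟩, hv⟩, -⟩ := Cfsg.Agent.Blocks.exists_isPPart (p := p) g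
    have hcop : Nat.Coprime (orderOf v) p := (hp.out.coprime_iff_not_dvd.mpr hv).symm
    have hvN : v ∈ N := hNres ▸ Transfer.mem_pResidual_of_coprime hcop
    have hv1 : η ((QuotientGroup.mk' N) v) = 1 := by
      rw [show (QuotientGroup.mk' N) v = 1 from (QuotientGroup.eq_one_iff _).mpr hvN, map_one]
    refine ⟨QuotientGroup.mk' N u, ?_, ?_⟩
    · show ((η.comp (QuotientGroup.mk' N)) g : ℂ) = _
      rw [← huv, map_mul]
      simp only [MonoidHom.comp_apply, hv1, mul_one]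
    · show ((η.comp (QuotientGroup.mk' N)) (g ^ k) : ℂ) = _
      rw [← huv, hcom.mul_pow, hk₁ u ⟨b, hb⟩, hk₂ v hcop, map_mul, map_pow]
      simp only [MonoidHom.comp_apply, hv1, mul_one]
  -- irreducible products
  have hmul : ∀ (η : G ⧸ N →* ℂˣ) θ,
      IsIrrCharacter G ((infl η : G → ℂ) * (ext θ : G → ℂ)) := fun η θ => by
    refine CT.isIrr_of_inner_self (CT.isCharacter_mul (CT.isCharacter_of_isIrr (infl η).2)
      (CT.isCharacter_of_isIrr (ext θ).2)) ?_
    rw [CoprimeExt.inner_mul_ext N (ext θ) θ.1 (hextres θ) (infl η) (infl η) (hinfl1 η) (hinfl1 η),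
      if_pos rfl]
  let Φ : L × _ → IrrCharacter G := fun x => ⟨_, hmul x.1.1 x.2⟩
  have hΦres : ∀ x (n : N), (Φ x : G → ℂ) n = (x.2.1 : N → ℂ) n := fun x n => by
    show (infl x.1.1 : G → ℂ) n * (ext x.2 : G → ℂ) n = _
    rw [hinflN, one_mul, hextres]
  have hΦdeg : ∀ x, charDegree (Φ x : G → ℂ) = charDegree (x.2.1 : N → ℂ) := fun x => by
    have h1 := hΦres x 1
    rw [OneMemClass.coe_one, charDegree_cast, charDegree_cast] at h1
    exact_mod_cast h1
  have hquot : p ∣ Nat.card (G ⧸ N) := by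
    rw [← Subgroup.index_eq_card, hidx]
    refine dvd_pow_self p fun h0 => hnt (Subgroup.index_eq_one.mp ?_)
    rw [hidx, h0, pow_zero]
  have hm1 : ∀ x, Φ x ∈ principalBlock M G := fun x => by
    refine (mem_principal_iff hM N hNres _).mpr ⟨x.2.1, x.2.2.1, fun h0 => ?_⟩
    have h2 := CT.mult_spec (CT.isCharacter_restrict N (CT.isCharacter_of_isIrr (Φ x).2))
      (CT.isCharacter_of_isIrr x.2.1.2)
    rw [h0, Nat.cast_zero, show (fun n : N => (Φ x : G → ℂ) n) = (x.2.1 : N → ℂ) from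
      funext (hΦres x), CT.irr_inner_self x.2.1.2] at h2
    exact one_ne_zero h2
  have hm2 : ∀ x, ¬ p ∣ charDegree (Φ x : G → ℂ) := fun x => by
    rw [hΦdeg]; exact x.2.2.2.1
  have hm3 : ∀ x (g : G), (Φ x : G → ℂ) (g ^ k) = (Φ x : G → ℂ) g := fun x g => by
    show (infl x.1.1 : G → ℂ) (g ^ k) * (ext x.2 : G → ℂ) (g ^ k) = _
    obtain ⟨u, h1, h2⟩ := hval x.1.1 g
    have e : (x.1.1 u) ^ p = 1 := by
      rw [← MonoidHom.pow_apply, x.1.2, MonoidHom.one_apply]
    rw [h2, hextfix, pow_add, pow_one, e, mul_one, ← h1]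
    rfl
  refine Eq.trans ?_ (congrArg (· * _) (card_hom_pow_eq_one (p := p) hquot))
  rw [← Nat.card_prod]
  refine (Nat.card_eq_of_bijective (fun x => (⟨Φ x, hm1 x, hm2 x, hm3 x⟩ :
    {χ : IrrCharacter G // χ ∈ principalBlock M G ∧ ¬ p ∣ charDegree (χ : G → ℂ) ∧
      ∀ g : G, (χ : G → ℂ) (g ^ k) = (χ : G → ℂ) g})) ⟨?_, ?_⟩).symm
  · intro x y e
    have e1 : Φ x = Φ y := congrArg Subtype.val e
    have eθ : x.2 = y.2 := Subtype.ext (Subtype.ext (funext fun n => by
      rw [← hΦres x n, ← hΦres y n, e1]))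
    refine Prod.ext (Subtype.ext (hinfl_inj ?_)) eθ
    by_contra hne
    have h3 := CoprimeExt.inner_mul_ext N (ext x.2) x.2.1 (hextres _) (infl x.1.1) (infl y.1.1)
      (hinfl1 _) (hinfl1 _)
    rw [if_neg hne] at h3
    have e2 : (infl x.1.1 : G → ℂ) * (ext x.2 : G → ℂ) = (infl y.1.1 : G → ℂ) * (ext x.2 : G → ℂ) := by
      have := congrArg Subtype.val e1
      simp only [Φ] at this
      rw [← eθ] at this
      exact this
    rw [← e2, CT.irr_inner_self (hmul x.1.1 x.2)] at h3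
    exact one_ne_zero h3
  · rintro ⟨χ, hχB, hχd, hχf⟩
    obtain ⟨θ, hθ⟩ := CT.exists_constituent_restrict N χ.2
    have h1 := CT.clifford_mult N χ.2 θ.2 hθ
    rw [hdeg_eq] at hχd
    have hind : (CT.inertia N (θ : N → ℂ)).index = 1 := by
      have h2 : (CT.inertia N (θ : N → ℂ)).index ∣ p ^ a :=
        hidx ▸ Subgroup.index_dvd_of_le (CT.le_inertia N (CT.isClassFunction_of_isIrr θ.2))
      obtain ⟨j, -, hj⟩ := (Nat.dvd_prime_pow hp.out).mp h2
      rcases Nat.eq_zero_or_pos j with h0 | h0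
      · rw [hj, h0, pow_zero]
      · exact (hχd (h1 ▸ ((hj ▸ dvd_pow_self p h0.ne').trans (Dvd.intro_left _ rfl)).mul_right _)).elim
    have hinv : ∀ g, CT.conjFun N g (θ : N → ℂ) = (θ : N → ℂ) := fun g =>
      (CT.mem_inertia N).mp ((Subgroup.index_eq_one.mp hind).symm ▸ Subgroup.mem_top g)
    have hθd : ¬ p ∣ CT.deg (θ : N → ℂ) := fun h => hχd (h1 ▸ h.mul_left _)
    have hdo : ¬ p ∣ detOrder (θ : N → ℂ) := by
      subst hNres
      exact CoprimeExt.not_dvd_detOrder_residual _ (CT.isCharacter_of_isIrr θ.2)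
    obtain ⟨ψ₀, ⟨hψ₀, -⟩, -⟩ := CoprimeExt.exists_coprime_ext (N := N) θ
      (fun g n => congrFun (hinv g) n)
      (hidx ▸ (hp.out.coprime_iff_not_dvd.mpr hθd).pow_left a)
      (hidx ▸ (hp.out.coprime_iff_not_dvd.mpr hdo).pow_left a)
    -- factors over `N` are linear
    have hlin : ∀ η : IrrCharacter G, (∀ n ∈ N, (η : G → ℂ) n = (η : G → ℂ) 1) →
        ∃ l : G ⧸ N →* ℂˣ, infl l = η := by
      intro η hη
      obtain ⟨η', hη', hmk⟩ := CT.exists_quotient_irr η.2 N hη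
      obtain ⟨l, hl⟩ := CT.exists_hom_of_comm (fun x y => by
        obtain ⟨g, hg⟩ := IsCyclic.exists_generator (α := G ⧸ N)
        obtain ⟨i, rfl⟩ := Subgroup.mem_zpowers_iff.mp (hg x)
        obtain ⟨j, rfl⟩ := Subgroup.mem_zpowers_iff.mp (hg y)
        rw [← zpow_add, ← zpow_add, add_comm]) hη'
      refine ⟨l, Subtype.ext (funext fun g => ?_)⟩
      rw [← hmk g]
      exact (congrFun hl _).symm
    obtain ⟨η₀, hη₀, hχ₀⟩ := CoprimeExt.exists_eq_mul_of_over N ψ₀ θ hψ₀ χ hθ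
    obtain ⟨l₀, rfl⟩ := hlin η₀ hη₀
    have hres : ∀ n : N, (χ : G → ℂ) n = (θ : N → ℂ) n := fun n => by
      rw [hχ₀, Pi.mul_apply, hinflN, one_mul, hψ₀]
    have hθB : θ ∈ principalBlock M N := IsoBlocks.constituent_principal hχB θ hθ
    let θ' : {θ : IrrCharacter N // θ ∈ principalBlock M N ∧ ¬ p ∣ charDegree (θ : N → ℂ) ∧
      (∀ x ∈ (P : Subgroup G), ∀ n : N,
        (θ : N → ℂ) ⟨x * n * x⁻¹, hNn.conj_mem n n.2 x⟩ = (θ : N → ℂ) n) ∧
      ∀ n : N, (θ : N → ℂ) (n ^ k) = (θ : N → ℂ) n} :=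
      ⟨θ, hθB, by rwa [hdeg_eq], fun x _ n => congrFun (hinv x) n, fun n => by
        rw [← hres, ← hres, SubgroupClass.coe_pow, hχf]⟩
    obtain ⟨η, hη, hχη⟩ := CoprimeExt.exists_eq_mul_of_over N (ext θ') θ (hextres θ') χ hθ
    obtain ⟨l, rfl⟩ := hlin η hη
    have hlp : l ^ p = 1 := by
      have hpow : IsIrrCharacter G (fun g => (infl l : G → ℂ) (g ^ k)) :=
        OddChar.isIrr_map_pow (infl l).2 hk
      have hpowN : classInner (fun n : N => (infl l : G → ℂ) ((n : G) ^ k))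
          (fun _ => (1 : ℂ)) ≠ 0 := by
        have : ∀ n : N, (infl l : G → ℂ) ((n : G) ^ k) = (infl l : G → ℂ) n := fun n => by
          rw [hinflN, ← SubgroupClass.coe_pow, hinflN]
        simp only [this]
        exact hinfl1 l
      have h3 := CoprimeExt.inner_mul_ext N (ext θ') θ (hextres θ') ⟨_, hpow⟩ (infl l) hpowN
        (hinfl1 l)
      have e : (fun g => (infl l : G → ℂ) (g ^ k)) * (ext θ' : G → ℂ) =
          (infl l : G → ℂ) * (ext θ' : G → ℂ) := by
        funext g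
        have e1 := hχf g
        rw [hχη, Pi.mul_apply, Pi.mul_apply, hextfix] at e1
        exact e1
      have heq : (⟨_, hpow⟩ : IrrCharacter G) = infl l := by
        by_contra hne
        rw [if_neg hne] at h3
        rw [e, CT.irr_inner_self (hmul l θ')] at h3
        exact one_ne_zero h3
      refine MonoidHom.ext fun x => ?_
      obtain ⟨g, rfl⟩ := QuotientGroup.mk'_surjective N x
      obtain ⟨u, h1', h2'⟩ := hval l g
      have e1 := congrFun (congrArg Subtype.val heq) g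
      simp only at e1
      rw [h2', h1'] at e1
      have e2 : (l u) ^ p = 1 := by
        have := Units.ext e1
        rw [pow_add, pow_one] at this
        exact mul_eq_left.mp this
      have e3 : l ((QuotientGroup.mk' N) g) = l u := Units.ext h1'
      rw [MonoidHom.pow_apply, MonoidHom.one_apply, e3, e2]
    exact ⟨(⟨l, hlp⟩, θ'), Subtype.ext (Subtype.ext hχη.symm)⟩

end Cfsg.Agent.Blocks.CyclicResidual
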