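import Cfsg.Agent.Lib.Blocks.FirstMain
import Cfsg.Agent.Lib.Blocks.Regular
import Cfsg.Agent.Lib.Blocks.SecondMain

/-!
# Classes with nonzero central character and centres of defect groups
-/

namespace Cfsg.Agent.Blocks

open MonoidAlgebra
open scoped ComplexConjugate

universe u v

variable {G : Type u} [Group G] [Finite G] {p : ℕ} {M : Ideal AlgInt} [M.IsPrime]

set_option linter.unusedSectionVars false

theorem isPPart_coe [Fact p.Prime] {H : Subgroup G} {x z : H} (h : IsPPart p x z) :
    IsPPart p (x : G) (z : G) := by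
  have hk := ppart_pow_eq_one h
  obtain ⟨y, hy, hcom, -, hreg⟩ := h
  obtain ⟨k, hk⟩ := hk
  rw [← hy, Subgroup.coe_mul]
  exact isPPart_mk (hcom.map H.subtype)
    ⟨k, by rw [← SubmonoidClass.coe_pow, hk, OneMemClass.coe_one]⟩
    (by rwa [Subgroup.orderOf_coe])

/-- An element with nonzero central character has a conjugate centralizing a given defect group
with `p`-part in the centre of that defect group. -/
theorem exists_conj_ppart_center (hM : IsPModular p M) {B : Set (IrrCharacter G)}
    (hB : IsPBlock M B) {P : Subgroup G} (hP : IsDefectGroup p M B P) {χ : IrrCharacter G}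
    (hχ : χ ∈ B) {g : G} (hg : ¬ MemLocalIdeal M (centralChar (χ : G → ℂ) g)) :
    ∃ x : G, IsConj g x ∧ x ∈ Subgroup.centralizer (P : Set G) ∧
      ∀ z : G, IsPPart p x z → z ∈ P ∧ ∀ w ∈ P, z * w = w * z := by
  haveI : Fact p.Prime := ⟨hM.1⟩
  haveI := charP_res hM
  obtain ⟨-, -, -, hPp, -⟩ := defectGroup_spec hP
  obtain ⟨b, hb, hbD, hind⟩ := exists_normalizer_block hM hB hP
  obtain ⟨ξ, hξ⟩ := block_nonempty hb
  have h1 : omegaBar M ξ (brH P (Subgroup.normalizer (P : Set G)) hPp
      (Subgroup.centralizer_le_normalizer _) le_rfl (classSumZ (Res M) g)) ≠ 0 := by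
    rw [← indBar_eq_brH hM hPp Subgroup.le_normalizer,
      indBar_eq_of_isInducedBlock hind hξ hχ, omegaBar_classSumZ]
    exact (red_centralCharL_ne_zero_iff χ g).mpr hg
  obtain ⟨x, hx, hxξ⟩ := exists_class_of_omegaBar_ne_zero ξ h1
  rw [coe_brH, coeff_resH] at hx
  have hxC : (x : G) ∈ (Subgroup.centralizer (P : Set G) : Set G) := by
    by_contra h
    exact hx (coeff_trunc_of_notMem _ h)
  rw [coeff_trunc_of_mem _ hxC] at hx
  have hgx : IsConj g (x : G) := by
    by_contra h
    exact hx (by simp [classSum, classInd_neg h])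
  refine ⟨x, hgx, hxC, fun z hz => ?_⟩
  obtain ⟨z', hz', -⟩ := exists_isPPart (p := p) x
  obtain rfl : z = (z' : G) := ppart_unique hz (isPPart_coe hz')
  have hne : (ξ : Subgroup.normalizer (P : Set G) → ℂ) x ≠ 0 := fun h0 => hxξ (by
    rw [centralChar, h0, mul_zero, zero_div]; exact memLocalIdeal_zero)
  have hzP : (z' : G) ∈ P := by
    by_contra hnot
    refine hne (char_eq_zero_of_not_mem_defect hM hz' fun E hE hzE => hnot ?_)
    rw [← block_eq_blockOf hb hξ] at hE
    have hPN : P ≤ Subgroup.normalizer (P : Set G) := Subgroup.le_normalizer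
    have hle := normal_le_defect hM hb (Q := P.subgroupOf (Subgroup.normalizer (P : Set G)))
      (hPp.of_equiv (Subgroup.subgroupOfEquivOfLe hPN).symm) hE
    have := Subgroup.eq_of_le_of_card_ge hle (card_defect_eq hM hb hE hbD).le
    rw [← this] at hzE
    exact hzE
  refine ⟨hzP, fun w hw => ?_⟩
  obtain ⟨i, hi⟩ := Subgroup.mem_zpowers_iff.mp (ppart_mem_zpowers hz)
  rw [← hi]
  have hc : Commute (x : G) w := (Subgroup.mem_centralizer_iff.mp hxC w hw).symm
  exact (hc.zpow_left i).eq

/-- The centre of a defect group of an induced block fuses into the centre of a defect group of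
the inducing block. -/
theorem center_defect_fuses (hM : IsPModular p M) {H : Subgroup G} {b : Set (IrrCharacter H)}
    {B : Set (IrrCharacter G)} (hind : IsInducedBlock M H b B) {D : Subgroup H}
    (hD : IsDefectGroup p M b D) {P : Subgroup G} (hP : IsDefectGroup p M B P) {x : G}
    (hx : x ∈ P) (hxc : ∀ w ∈ P, x * w = w * x) :
    ∃ g : G, g * x * g⁻¹ ∈ D.map H.subtype ∧
      ∀ w ∈ D.map H.subtype, (g * x * g⁻¹) * w = w * (g * x * g⁻¹) := by
  haveI : Fact p.Prime := ⟨hM.1⟩
  obtain ⟨y, hy, hle, hPp, hcard⟩ := defectGroup_spec hP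
  obtain ⟨χ, hχ⟩ := block_nonempty hind.2.1
  obtain ⟨ξ, hξ⟩ := block_nonempty hind.1
  have hcom : Commute x y := Subgroup.mem_centralizer_singleton_iff.mp (hle hx)
  have hxk := exists_pow_eq_one_of_isPGroup hPp hx
  have hu := centralChar_defectClass_unit hM hind.2.1 hy hle hcard
    (fun w hw => Subgroup.mem_centralizer_singleton_iff.mpr (hxc w hw).symm) hcom hxk hχ
  have h1 : omegaBar M ξ (resZ H (classSumZ (Res M) (x * y))) ≠ 0 := by
    rw [← indBar_apply, indBar_eq_of_isInducedBlock hind hξ hχ, omegaBar_classSumZ]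
    exact (red_centralCharL_ne_zero_iff χ _).mpr hu
  obtain ⟨h, hh0, hh⟩ := exists_class_of_omegaBar_ne_zero ξ h1
  have hgh : IsConj (x * y) (h : G) := by
    by_contra hne
    exact hh0 (by simp [classSum, classInd_neg hne])
  obtain ⟨h', hh', -, hz⟩ := exists_conj_ppart_center hM hind.1 hD hξ hh
  obtain ⟨z, hzpp, -⟩ := exists_isPPart (p := p) h'
  have hconj : IsConj (x * y) (h' : G) := hgh.trans (H.subtype.map_isConj hh')
  obtain ⟨g, hg⟩ := isConj_iff.mp (isConj_of_isPPart hconj
    (isPPart_mk hcom hxk (regular_of_defectClass hM hind.2.1 hy)) (isPPart_coe hzpp))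
  refine ⟨g, hg ▸ Subgroup.mem_map_of_mem _ (hz z hzpp).1, ?_⟩
  rintro _ ⟨d, hd, rfl⟩
  rw [hg]
  exact congrArg Subtype.val ((hz z hzpp).2 d hd)

end Cfsg.Agent.Blocks
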