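import Cfsg.Agent.Lib.Blocks.Defect

/-!
# Blocks of given defect and regular classes of that defect
-/

namespace Cfsg.Agent.Blocks

open MonoidAlgebra

universe u

variable {G : Type u} [Group G] [Finite G] {p : ℕ} {M : Ideal AlgInt} [M.IsPrime]

set_option linter.unusedSectionVars false

theorem coeff_defect_le (hM : IsPModular p M) {B : Set (IrrCharacter G)} (hB : IsPBlock M B)
    {g : G} (hg : ¬ MemLocalIdeal M (blockCoeff B g)) :
    (Nat.card (Subgroup.centralizer ({g} : Set G))).factorization p ≤ blockDefect p B := by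
  haveI : Fact p.Prime := ⟨hM.1⟩
  obtain ⟨D, hD⟩ := exists_defectGroup (p := p) hB
  let S : Sylow p (Subgroup.centralizer ({g} : Set G)) := default
  obtain ⟨x, hx⟩ := conj_le_defect hM hB hD (S.isPGroup'.map (Subgroup.centralizer ({g} : Set G)).subtype)
    hg (Subgroup.map_subtype_le _)
  have h := Subgroup.card_le_of_le hx
  rw [card_map_conj, card_sylow_map, card_defectGroup hM hB hD] at h
  exact (Nat.pow_le_pow_iff_right hM.1.one_lt).mp h

theorem char_defect_ge (hM : IsPModular p M) {B : Set (IrrCharacter G)} (hB : IsPBlock M B)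
    {χ : IrrCharacter G} (hχ : χ ∈ B) {g : G}
    (hg : ¬ MemLocalIdeal M (centralChar (χ : G → ℂ) g)) :
    blockDefect p B ≤ (Nat.card (Subgroup.centralizer ({g} : Set G))).factorization p := by
  haveI : Fact p.Prime := ⟨hM.1⟩
  obtain ⟨D, hD⟩ := exists_defectGroup (p := p) hB
  obtain ⟨x, hx⟩ := defect_conj_le_centralizer hM hB hD hχ hg
  obtain ⟨-, -, -, hDp, -⟩ := defectGroup_spec hD
  have h := card_le_of_isPGroup_le hx (isPGroup_map_conj hDp x)
  rw [card_map_conj, card_defectGroup hM hB hD] at h
  exact (Nat.pow_le_pow_iff_right hM.1.one_lt).mp h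

/-- The classes that matter between two blocks of the same defect. -/
theorem term_eq_zero (hM : IsPModular p M) {B B' : Set (IrrCharacter G)} (hB : IsPBlock M B)
    (hB' : IsPBlock M B') (hd : blockDefect p B' = blockDefect p B) {χ : IrrCharacter G}
    (hχ : χ ∈ B') {g : G}
    (hg : ¬ (¬ p ∣ orderOf g ∧
      (Nat.card (Subgroup.centralizer ({g} : Set G))).factorization p = blockDefect p B)) :
    (bBar M B : MonoidAlgebra (Res M) G).coeff g * red M (centralCharL M χ g) = 0 := by
  by_contra h
  have h1 := (coeff_bBar_ne_zero_iff (blockCoeff_mem_loc hB) g).mp (left_ne_zero_of_mul h)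
  have h2 := (red_centralCharL_ne_zero_iff χ g).mp (right_ne_zero_of_mul h)
  have h3 := coeff_defect_le hM hB h1
  have h4 := char_defect_ge hM hB' hχ h2
  exact hg ⟨regular_of_red_blockCoeff hM hB h1, by omega⟩

theorem sameBlock_iff_of_defect (hM : IsPModular p M) {d : ℕ} {χ ψ : IrrCharacter G}
    (hχ : blockDefect p (blockOf M (χ : G → ℂ)) = d)
    (hψ : blockDefect p (blockOf M (ψ : G → ℂ)) = d) :
    SameBlock M (χ : G → ℂ) (ψ : G → ℂ) ↔ ∀ x : G, ¬ p ∣ orderOf x →
      (Nat.card (Subgroup.centralizer ({x} : Set G))).factorization p = d →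
      MemLocalIdeal M (centralChar (χ : G → ℂ) x - centralChar (ψ : G → ℂ) x) := by
  classical
  refine ⟨fun h x _ _ => h x, fun h => ?_⟩
  set B := blockOf M (χ : G → ℂ)
  have hB : IsPBlock M B := isPBlock_blockOf χ
  have hA := blockCoeff_mem_loc hB
  have e : omegaBar M ψ (bBar M B) = omegaBar M χ (bBar M B) := by
    rw [omegaBar_apply, omegaBar_apply]
    refine Finset.sum_congr rfl fun C _ => ?_
    by_cases hC : ¬ p ∣ orderOf (rep C) ∧
        (Nat.card (Subgroup.centralizer ({rep C} : Set G))).factorization p = blockDefect p B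
    · congr 1
      exact ((red_eq_iff (x := centralCharL M χ (rep C)) (y := centralCharL M ψ (rep C))).mpr
        (h _ hC.1 (hC.2.trans hχ))).symm
    · rw [term_eq_zero hM hB (isPBlock_blockOf ψ) (hψ.trans hχ.symm) (self_mem_blockOf ψ) hC,
        term_eq_zero hM hB hB rfl (self_mem_blockOf χ) hC]
  rw [omegaBar_bBar hA, omegaBar_bBar hA, if_pos (self_mem_blockOf χ)] at e
  by_contra hc
  rw [if_neg (show ψ ∉ B from hc)] at e
  exact zero_ne_one e

theorem card_blocks_defect_le (hM : IsPModular p M) (σ : ℕ) :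
    Nat.card {B : Set (IrrCharacter G) // IsPBlock M B ∧ blockDefect p B = σ} ≤
      Nat.card {C : ConjClasses G // ∃ g : G, ConjClasses.mk g = C ∧ ¬ p ∣ orderOf g ∧
        (Nat.card (Subgroup.centralizer ({g} : Set G))).factorization p = σ} := by
  classical
  set T := {C : ConjClasses G // ∃ g : G, ConjClasses.mk g = C ∧ ¬ p ∣ orderOf g ∧
    (Nat.card (Subgroup.centralizer ({g} : Set G))).factorization p = σ}
  set S := {B : Set (IrrCharacter G) // IsPBlock M B ∧ blockDefect p B = σ}
  haveI := Fintype.ofFinite S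
  haveI := Fintype.ofFinite T
  choose χ hχ using fun B : S => block_nonempty B.2.1
  let v : S → T → Res M := fun B C => (bBar M B.1 : MonoidAlgebra (Res M) G).coeff (rep C.1)
  have key : ∀ B B' : S, ∑ C : T, v B C * red M (centralCharL M (χ B') (rep C.1)) =
      if B = B' then 1 else 0 := by
    intro B B'
    have e : omegaBar M (χ B') (bBar M B.1) = if B = B' then 1 else 0 := by
      rw [omegaBar_bBar (blockCoeff_mem_loc B.2.1)]
      by_cases h : B = B'
      · rw [if_pos h, if_pos (h ▸ hχ B)]
      · rw [if_neg h, if_neg]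
        exact fun h' => h (Subtype.ext (block_eq_of_mem B.2.1 B'.2.1 h' (hχ B')))
    rw [← e, omegaBar_apply]
    refine Finset.sum_bij_ne_zero (fun C _ _ => C.1) (fun _ _ _ => Finset.mem_univ _)
      (fun a _ _ b _ _ h => Subtype.ext h) (fun C _ hC => ?_) (fun _ _ _ => rfl)
    obtain ⟨hreg, hd⟩ : ¬ p ∣ orderOf (rep C) ∧
        (Nat.card (Subgroup.centralizer ({rep C} : Set G))).factorization p =
          blockDefect p B.1 := by
      by_contra h
      exact hC (term_eq_zero hM B.2.1 B'.2.1 (B'.2.2.trans B.2.2.symm) (hχ B') h)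
    exact ⟨⟨C, rep C, mk_rep C, hreg, hd.trans B.2.2⟩, Finset.mem_univ _, hC, rfl⟩
  have hli : LinearIndependent (Res M) v := by
    rw [Fintype.linearIndependent_iff]
    intro c hc B'
    have h := congrArg (fun w : T → Res M => ∑ C, w C * red M (centralCharL M (χ B') (rep C.1))) hc
    simp only [Finset.sum_apply, Pi.smul_apply, smul_eq_mul, Pi.zero_apply, zero_mul,
      Finset.sum_const_zero, Finset.sum_mul] at h
    rw [Finset.sum_comm] at h
    simp only [mul_assoc, ← Finset.mul_sum, key, mul_ite, mul_one, mul_zero,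
      Finset.sum_ite_eq', Finset.mem_univ, if_true] at h
    rwa [Finset.sum_eq_single B' (fun b _ hb => if_neg hb) (by simp), if_pos rfl] at h
  have h := hli.fintype_card_le_finrank
  rw [Module.finrank_fintype_fun_eq_card] at h
  rwa [Nat.card_eq_fintype_card, Nat.card_eq_fintype_card]

end Cfsg.Agent.Blocks
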