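import Cfsg.Agent.Lib.Blocks.Inflation
import Cfsg.Agent.Lib.Blocks.FirstMain
import Cfsg.Agent.Lib.Blocks.Normal
import Cfsg.Agent.Lib.Blocks.Covering
import Cfsg.Agent.Lib.Blocks.Knorr
import Cfsg.Agent.Lib.CT.Degree
import Cfsg.Agent.Lib.BrauerPairs.Elem

/-!
# Characters of full degree modulo a normal `p`-subgroup
-/

namespace Cfsg.Agent.Blocks

open MonoidAlgebra
open scoped ComplexConjugate

universe u v

variable {G : Type u} [Group G] [Finite G] {p : ℕ} {M : Ideal AlgInt} [M.IsPrime]

set_option linter.unusedSectionVars false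

/-- A character of full degree has a class with `p'`-centralizer where its central character is a
unit. -/
theorem exists_regular_class_of_full_degree (hM : IsPModular p M) (θ : IrrCharacter G)
    (hθ : (charDegree (θ : G → ℂ)).factorization p = (Nat.card G).factorization p) :
    ∃ g : G, ¬ p ∣ Nat.card (Subgroup.centralizer ({g} : Set G)) ∧
      ¬ MemLocalIdeal M (centralChar (θ : G → ℂ) g) := by
  classical
  haveI : Fact p.Prime := ⟨hM.1⟩
  set a := (Nat.card G).factorization p with ha
  set n₁ := Nat.card G / p ^ a with hn₁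
  set n₃ := charDegree (θ : G → ℂ) / p ^ a with hn₃
  have hG : (Nat.card G : ℂ) = (p : ℂ) ^ a * (n₁ : ℂ) := by
    exact_mod_cast (Nat.ordProj_mul_ordCompl_eq_self (Nat.card G) p).symm
  have hdeg : (θ : G → ℂ) 1 = (p : ℂ) ^ a * (n₃ : ℂ) := by
    rw [charDegree_cast, hn₃, ← hθ]
    exact_mod_cast (Nat.ordProj_mul_ordCompl_eq_self (charDegree (θ : G → ℂ)) p).symm
  have hn₁u : ¬ MemLocalIdeal M (n₁ : ℂ) := by
    rw [memLocalIdeal_natCast hM]
    exact Nat.not_dvd_ordCompl hM.1 Nat.card_pos.ne'
  have hp0 : (p : ℂ) ≠ 0 := Nat.cast_ne_zero.mpr hM.1.ne_zero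
  have hcoeff : ∀ g : G, blockCoeff ({θ} : Set (IrrCharacter G)) g =
      (n₃ : ℂ) * (n₁ : ℂ)⁻¹ * conj ((θ : G → ℂ) g) := by
    intro g
    have hn0 : (n₁ : ℂ) ≠ 0 := fun h => hn₁u (h ▸ memLocalIdeal_zero)
    rw [blockCoeff, finsum_mem_singleton, hG, hdeg]
    field_simp
  have hA : ∀ g, blockCoeff ({θ} : Set (IrrCharacter G)) g ∈ Loc M := fun g => by
    rw [hcoeff]
    exact mul_mem (mul_mem (natCast_mem _ _) (inv_mem_loc (natCast_mem _ _) hn₁u))
      (integral_mem_loc (CT.isIntegral_conj (isIntegral_irr θ.2 g)))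
  have h1 : omegaBar M θ (bBar M ({θ} : Set (IrrCharacter G))) = 1 := by
    rw [omegaBar_bBar hA, if_pos (Set.mem_singleton θ)]
  rw [omegaBar_apply] at h1
  obtain ⟨K, -, hK⟩ := Finset.exists_ne_zero_of_sum_ne_zero (h1.trans_ne one_ne_zero)
  set g := rep K
  have hc := (coeff_bBar_ne_zero_iff hA g).mp (left_ne_zero_of_mul hK)
  have hω := (red_centralCharL_ne_zero_iff θ g).mp (right_ne_zero_of_mul hK)
  refine ⟨g, fun hdvd => hc ?_, hω⟩
  obtain ⟨c, hc'⟩ := hdvd
  have h2 := centralChar_mul θ g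
  rw [hc', hG, hdeg] at h2
  push_cast at h2
  have h3 : (n₁ : ℂ) * (θ : G → ℂ) g =
      ((c : ℂ) * (n₃ : ℂ) * centralChar (θ : G → ℂ) g) * (p : ℂ) := by
    apply mul_left_cancel₀ (pow_ne_zero a hp0)
    linear_combination -h2
  have h4 : MemLocalIdeal M ((n₁ : ℂ) * (θ : G → ℂ) g) := by
    rw [h3]
    exact memLocalIdeal_mul_left (mul_mem (mul_mem (natCast_mem _ _) (natCast_mem _ _))
      (integral_mem_loc (isIntegral_centralChar θ.2 g))) ((memLocalIdeal_natCast hM p).mpr dvd_rfl)
  have h5 := memLocalIdeal_of_mul (integral_mem_loc (isIntegral_irr θ.2 g)) (natCast_mem _ _) hn₁u h4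
  rw [hcoeff]
  exact memLocalIdeal_mul_left (mul_mem (natCast_mem _ _) (inv_mem_loc (natCast_mem _ _) hn₁u))
    (by
      obtain ⟨n, ρ, hρ, he⟩ := θ.2
      rw [← CT.char_inv_eq_conj (CT.isCharacter_of_isIrr θ.2)]
      have e : conj (blockCoeff ({θ} : Set (IrrCharacter G)) g) =
          (n₃ : ℂ) * (n₁ : ℂ)⁻¹ * (θ : G → ℂ) g := by
        rw [hcoeff]; simp
      have h6 := centralChar_mul θ g⁻¹
      rw [show Nat.card (Subgroup.centralizer ({g⁻¹} : Set G)) = p * c by
        rw [← hc']
        congr 2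
        ext x
        simp only [Subgroup.mem_centralizer_singleton_iff]
        exact ⟨fun h => by simpa using (Commute.inv_right (show Commute x g⁻¹ from h)).eq,
          fun h => (Commute.inv_right (show Commute x g from h)).eq⟩, hG, hdeg] at h6
      push_cast at h6
      have h7 : (n₁ : ℂ) * (θ : G → ℂ) g⁻¹ =
          ((c : ℂ) * (n₃ : ℂ) * centralChar (θ : G → ℂ) g⁻¹) * (p : ℂ) := by
        apply mul_left_cancel₀ (pow_ne_zero a hp0)
        linear_combination -h6
      refine memLocalIdeal_of_mul (integral_mem_loc (isIntegral_irr θ.2 _)) (natCast_mem _ _)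
        hn₁u ?_
      rw [h7]
      exact memLocalIdeal_mul_left (mul_mem (mul_mem (natCast_mem _ _) (natCast_mem _ _))
        (integral_mem_loc (isIntegral_centralChar θ.2 _)))
        ((memLocalIdeal_natCast hM p).mpr dvd_rfl))

/-- A group with a character of full degree has no nontrivial normal `p`-subgroup. -/
theorem eq_bot_of_full_degree (hM : IsPModular p M) (θ : IrrCharacter G)
    (hθ : (charDegree (θ : G → ℂ)).factorization p = (Nat.card G).factorization p)
    {R : Subgroup G} [R.Normal] (hR : IsPGroup p R) : R = ⊥ := by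
  haveI : Fact p.Prime := ⟨hM.1⟩
  obtain ⟨g, hg, hω⟩ := exists_regular_class_of_full_degree hM θ hθ
  have hB : IsPBlock M (blockOf M (θ : G → ℂ)) := isPBlock_blockOf θ
  obtain ⟨D, hD⟩ := exists_defectGroup (p := p) hB
  obtain ⟨x, hx⟩ := defect_conj_le_centralizer hM hB hD (self_mem_blockOf θ) hω
  obtain ⟨-, -, -, hDp, -⟩ := defectGroup_spec hD
  have h1 := card_le_of_isPGroup_le hx (isPGroup_map_conj hDp x)
  rw [card_map_conj, Nat.factorization_eq_zero_of_not_dvd hg, pow_zero] at h1
  refine Subgroup.eq_bot_of_card_le _ ((Subgroup.card_le_of_le (normal_le_defect hM hB hR hD)).trans h1)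

/-- A character trivial on a central `p`-subgroup and of full degree over it generates a block
with that subgroup as defect group. -/
theorem defect_eq_central (hM : IsPModular p M) {Z : Subgroup G} [Z.Normal]
    (hZc : Z ≤ Subgroup.center G) (hZ : IsPGroup p Z) (ψ : IrrCharacter (G ⧸ Z))
    (hψ : (charDegree (ψ : G ⧸ Z → ℂ)).factorization p = (Nat.card (G ⧸ Z)).factorization p)
    {B : Set (IrrCharacter G)} (hB : IsPBlock M B) (hmem : inflIrr ψ ∈ B) :
    IsDefectGroup p M B Z := by
  haveI : Fact p.Prime := ⟨hM.1⟩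
  obtain ⟨x, hx, hω⟩ := exists_regular_class_of_full_degree hM ψ hψ
  have hxr : ¬ p ∣ orderOf x := fun h => hx (h.trans (by
    have := Subgroup.orderOf_mk x (show x ∈ Subgroup.centralizer ({x} : Set (G ⧸ Z)) from
      Subgroup.mem_centralizer_singleton_iff.mpr rfl)
    rw [← this]
    exact _root_.orderOf_dvd_natCard _))
  obtain ⟨g, hg, rfl⟩ := exists_regular_lift (N := Z) hxr
  have hC : ∃ k : ℕ, (Subgroup.centralizer (Z : Set G)).index = p ^ k := by
    refine ⟨0, ?_⟩
    rw [pow_zero, Subgroup.index_eq_one, Subgroup.centralizer_eq_top_iff_subset]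
    exact hZc
  obtain ⟨D, hD⟩ := exists_defectGroup (p := p) hB
  obtain ⟨y, hy⟩ := defect_conj_le_centralizer hM hB hD hmem (h := g)
    (by rw [centralChar_inflIrr_regular hZ hC ψ hg]; exact hω)
  obtain ⟨-, -, -, hDp, -⟩ := defectGroup_spec hD
  have hZD := normal_le_defect hM hB hZ hD
  have hle : D.map (MulAut.conj y).toMonoidHom ≤ Z := by
    intro d hd
    have hdp := isPGroup_map_conj hDp y
    obtain ⟨j, hj⟩ := hdp ⟨d, hd⟩
    have hdC : (d : G ⧸ Z) ∈ Subgroup.centralizer ({(g : G ⧸ Z)} : Set (G ⧸ Z)) :=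
      Subgroup.mem_centralizer_singleton_iff.mpr
        (congrArg (QuotientGroup.mk' Z) (Subgroup.mem_centralizer_singleton_iff.mp (hy hd)))
    rw [← QuotientGroup.eq_one_iff]
    refine orderOf_eq_one_iff.mp (Nat.eq_one_of_dvd_coprimes
      ((hM.1.coprime_iff_not_dvd.mpr hx).pow_left j) (orderOf_dvd_of_pow_eq_one ?_) ?_)
    · rw [← QuotientGroup.mk_pow, show d ^ p ^ j = 1 from congrArg Subtype.val hj]
      rfl
    · rw [← Subgroup.orderOf_mk _ hdC]
      exact _root_.orderOf_dvd_natCard _
  have hcard : Nat.card D ≤ Nat.card Z := card_map_conj D y ▸ Subgroup.card_le_of_le hle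
  exact Subgroup.eq_of_le_of_card_ge hZD hcard ▸ hD

theorem classInner_comp_of_surjective {H : Type v} [Group H] [Fintype H] [Fintype G] (f : H →* G)
    (hf : Function.Surjective f) (a b : G → ℂ) :
    classInner (fun x => a (f x)) (fun x => b (f x)) = classInner a b := by
  classical
  simp only [classInner]
  have hfib : ∀ y : G, (Finset.univ.filter fun x : H => f x = y).card = Nat.card f.ker := by
    intro y
    obtain ⟨x₀, rfl⟩ := hf y
    rw [Nat.card_eq_fintype_card, ← Finset.card_univ]
    refine Finset.card_bij' (fun x hx => ⟨x₀⁻¹ * x, by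
        rw [MonoidHom.mem_ker, map_mul, map_inv, (Finset.mem_filter.mp hx).2, inv_mul_cancel]⟩)
      (fun z _ => x₀ * (z : H)) (fun _ _ => Finset.mem_univ _) (fun z _ => ?_) (fun x _ => ?_)
      fun z _ => ?_
    · simp [show f (z : H) = 1 from z.2]
    · simp
    · exact Subtype.ext (by simp)
  have hcard : Nat.card H = Nat.card f.ker * Nat.card G := by
    rw [← f.ker.card_mul_index]
    congr 1
    rw [Subgroup.index_ker]
    exact Nat.card_congr (Equiv.subtypeUnivEquiv fun y => hf y)
  have hsum : ∑ x : H, a (f x) * conj (b (f x)) =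
      (Nat.card f.ker : ℂ) * ∑ y : G, a y * conj (b y) := by
    rw [Finset.mul_sum, ← Finset.sum_fiberwise_of_maps_to (g := f) (t := Finset.univ)
      (fun _ _ => Finset.mem_univ _)]
    refine Finset.sum_congr rfl fun y _ => ?_
    rw [Finset.sum_congr rfl (g := fun _ => a y * conj (b y))
      (fun x hx => by rw [(Finset.mem_filter.mp hx).2]), Finset.sum_const, hfib, nsmul_eq_mul]
  have h0 : (Nat.card f.ker : ℂ) ≠ 0 := Nat.cast_ne_zero.mpr Nat.card_pos.ne'
  rw [hsum, hcard]
  push_cast
  field_simp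

/-- The data of a canonical character of the stabilizer of a pair. -/
theorem pair_defect_and_core (hM : IsPModular p M) {Q : Subgroup G} (hQ : IsPGroup p Q)
    {e : Set (IrrCharacter (Subgroup.centralizer (Q : Set G)))} (he : IsPBlock M e)
    {T : Subgroup G} (hQT : Q ≤ T) (hCT : Subgroup.centralizer (Q : Set G) ≤ T)
    (hTN : T ≤ Subgroup.normalizer (Q : Set G))
    {F' : Set (IrrCharacter T)} (hF' : IsPBlock M F')
    (hF'e : ∀ t : T, blockCoeff F' t =
      subgroupBlockCoeff (Subgroup.centralizer (Q : Set G)) e (t : G))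
    {χ : IrrCharacter T} (hχ : χ ∈ F')
    (hχQ : ∀ q : G, q ∈ Q → ∀ t t' : T, (t' : G) = q * (t : G) → (χ : T → ℂ) t' = (χ : T → ℂ) t)
    (hdeg : (charDegree (χ : T → ℂ)).factorization p + (Nat.card Q).factorization p =
      (Nat.card T).factorization p) :
    IsDefectGroup p M e ((Q ⊓ Subgroup.centralizer (Q : Set G)).subgroupOf
        (Subgroup.centralizer (Q : Set G))) ∧
      ∀ R : Subgroup G, R ≤ T → IsPGroup p R → (∀ t ∈ T, t ∈ Subgroup.normalizer (R : Set G)) →
        R ≤ Q := by
  classical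
  haveI : Fact p.Prime := ⟨hM.1⟩
  letI := Fintype.ofFinite G
  letI := Fintype.ofFinite T
  haveI hQn : (Q.subgroupOf T).Normal := (Subgroup.normal_subgroupOf_iff_le_normalizer hQT).mpr hTN
  haveI hCn : ((Subgroup.centralizer (Q : Set G)).subgroupOf T).Normal :=
    (Subgroup.normal_subgroupOf_iff_le_normalizer hCT).mpr fun t ht =>
      Subgroup.mem_normalizer_iff.mpr fun u => (centralizer_conj_mem (hTN ht)).symm
  have htriv : ∀ q ∈ Q.subgroupOf T, (χ : T → ℂ) q = (χ : T → ℂ) 1 := fun q hq =>
    hχQ q hq 1 q (by simp)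
  obtain ⟨χb, hχb, hχbe⟩ := CT.exists_quotient_irr χ.2 (Q.subgroupOf T) htriv
  have hcardQ : Nat.card (T ⧸ Q.subgroupOf T) * Nat.card Q = Nat.card T := by
    rw [← Nat.card_congr (Subgroup.subgroupOfEquivOfLe hQT).toEquiv]
    exact (Subgroup.card_eq_card_quotient_mul_card_subgroup _).symm
  have hdegb : (charDegree χb).factorization p =
      (Nat.card (T ⧸ Q.subgroupOf T)).factorization p := by
    have e1 : charDegree χb = charDegree (χ : T → ℂ) := by
      have : (charDegree χb : ℂ) = (charDegree (χ : T → ℂ) : ℂ) := by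
        rw [← charDegree_cast χ, ← charDegree_cast ⟨χb, hχb⟩, ← hχbe 1]
        rfl
      exact_mod_cast this
    have h := congrArg (fun n : ℕ => n.factorization p) hcardQ
    simp only [Nat.factorization_mul Nat.card_pos.ne' Nat.card_pos.ne', Finsupp.coe_add,
      Pi.add_apply] at h
    rw [e1]
    omega
  refine ⟨?_, fun R hRT hRp hRn r hr => ?_⟩
  swap
  · haveI : (R.subgroupOf T).Normal := (Subgroup.normal_subgroupOf_iff_le_normalizer hRT).mpr
      fun t ht => hRn t ht
    set R' := (R.subgroupOf T).map (QuotientGroup.mk' (Q.subgroupOf T))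
    haveI : R'.Normal := Subgroup.Normal.map inferInstance _ (QuotientGroup.mk'_surjective _)
    have hbot := eq_bot_of_full_degree hM ⟨χb, hχb⟩ hdegb (R := R')
      ((hRp.of_equiv (Subgroup.subgroupOfEquivOfLe hRT).symm).map _)
    have : QuotientGroup.mk' (Q.subgroupOf T) ⟨r, hRT hr⟩ ∈ R' := Subgroup.mem_map_of_mem _ hr
    rw [hbot, Subgroup.mem_bot, QuotientGroup.mk'_apply, QuotientGroup.eq_one_iff] at this
    exact this
  -- the image of the centralizer in the quotient
  let C' : Subgroup T := (Subgroup.centralizer (Q : Set G)).subgroupOf T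
  let f : Subgroup.centralizer (Q : Set G) →* T ⧸ Q.subgroupOf T :=
    (QuotientGroup.mk' (Q.subgroupOf T)).comp (Subgroup.inclusion hCT)
  haveI : f.range.Normal := by
    rw [MonoidHom.range_comp, show (Subgroup.inclusion hCT).range = C' from ?_]
    · exact Subgroup.Normal.map hCn _ (QuotientGroup.mk'_surjective _)
    · ext t
      exact ⟨fun ⟨c, hc⟩ => hc ▸ c.2, fun h => ⟨⟨(t : G), h⟩, rfl⟩⟩
  letI := Fintype.ofFinite (T ⧸ Q.subgroupOf T)
  letI := Fintype.ofFinite f.range
  letI := Fintype.ofFinite (Subgroup.centralizer (Q : Set G))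
  obtain ⟨φ, hφ⟩ := CT.exists_constituent_restrict f.range hχb
  obtain ⟨kk, hk, hkd⟩ := CT.deg_ratio_dvd_index f.range hχb φ.2 hφ
  set Z := (Q ⊓ Subgroup.centralizer (Q : Set G)).subgroupOf (Subgroup.centralizer (Q : Set G))
    with hZdef
  have hZc : Z ≤ Subgroup.center (Subgroup.centralizer (Q : Set G)) := by
    intro z hz
    rw [Subgroup.mem_center_iff]
    intro c
    exact Subtype.ext (Subgroup.mem_centralizer_iff.mp c.2 _ hz.1).symm
  haveI : Z.Normal := ⟨fun z hz c => by
    rw [(Subgroup.mem_center_iff.mp (hZc hz) c), mul_inv_cancel_right]; exact hz⟩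
  have hker : f.ker = Z := by
    ext c
    rw [MonoidHom.mem_ker]
    show QuotientGroup.mk' (Q.subgroupOf T) (Subgroup.inclusion hCT c) = 1 ↔ _
    rw [QuotientGroup.mk'_apply, QuotientGroup.eq_one_iff]
    exact ⟨fun h => ⟨h, c.2⟩, fun h => h.1⟩
  let iso : (Subgroup.centralizer (Q : Set G)) ⧸ Z ≃* f.range :=
    (QuotientGroup.quotientMulEquivOfEq hker.symm).trans (QuotientGroup.quotientKerEquivRange f)
  let ψ : IrrCharacter ((Subgroup.centralizer (Q : Set G)) ⧸ Z) :=
    ⟨fun x => (φ : f.range → ℂ) (iso x),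
      CT.isIrrCharacter_comp iso.toMonoidHom iso.surjective φ.2⟩
  have hψdeg : (charDegree (ψ : Subgroup.centralizer (Q : Set G) ⧸ Z → ℂ)).factorization p =
      (Nat.card ((Subgroup.centralizer (Q : Set G)) ⧸ Z)).factorization p := by
    have e1 : charDegree (ψ : Subgroup.centralizer (Q : Set G) ⧸ Z → ℂ) = charDegree (φ : f.range → ℂ) := by
      have : (charDegree (ψ : Subgroup.centralizer (Q : Set G) ⧸ Z → ℂ) : ℂ) = (charDegree (φ : f.range → ℂ) : ℂ) := by
        rw [← charDegree_cast ψ, ← charDegree_cast φ]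
        show (φ : f.range → ℂ) (iso 1) = _
        rw [map_one]
      exact_mod_cast this
    have h1 : charDegree χb = kk * charDegree (φ : f.range → ℂ) := hk
    have hdvd := charDegree_dvd_card φ
    have hk0 : kk ≠ 0 := fun h => by
      have := charDegree_pos ⟨χb, hχb⟩
      rw [show ((⟨χb, hχb⟩ : IrrCharacter _) : _ → ℂ) = χb from rfl, h1, h, zero_mul] at this
      exact lt_irrefl 0 this
    have h2 : kk.factorization p ≤ f.range.index.factorization p :=
      (Nat.factorization_le_iff_dvd hk0 Subgroup.index_ne_zero_of_finite).mpr hkd p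
    have h3 := congrArg (fun n : ℕ => n.factorization p) f.range.index_mul_card
    have h4 : (charDegree (φ : f.range → ℂ)).factorization p ≤
        (Nat.card f.range).factorization p :=
      (Nat.factorization_le_iff_dvd (charDegree_pos φ).ne' Nat.card_pos.ne').mpr hdvd p
    simp only [Nat.factorization_mul Subgroup.index_ne_zero_of_finite Nat.card_pos.ne',
      Finsupp.coe_add, Pi.add_apply] at h3
    rw [h1, Nat.factorization_mul hk0 (charDegree_pos φ).ne', Finsupp.coe_add, Pi.add_apply]
      at hdegb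
    rw [e1, Nat.card_congr iso.toEquiv]
    omega
  refine defect_eq_central hM hZc ((hQ.to_le inf_le_left).of_equiv
    (Subgroup.subgroupOfEquivOfLe inf_le_right).symm) ψ hψdeg he ?_
  -- the character belongs to the block
  set θ := inflIrr ψ
  set eC : C' ≃* Subgroup.centralizer (Q : Set G) := Subgroup.subgroupOfEquivOfLe hCT
  set e' := BPairs.pullSet eC e
  letI := Fintype.ofFinite C'
  have hembed : idemC F' = embH C' (idemC e') := by
    ext t
    simp only [idemC, coeff_ofFun]
    rw [hF'e]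
    by_cases ht : t ∈ C'
    · rw [coeff_embH C' _ ⟨t, ht⟩, coeff_ofFun, BPairs.blockCoeff_pullSet]
      simp only [subgroupBlockCoeff, dif_pos (show (t : G) ∈ Subgroup.centralizer (Q : Set G) from ht)]
      rfl
    · rw [coeff_embH_of_notMem _ _ ht]
      simp only [subgroupBlockCoeff,
        dif_neg (show (t : G) ∉ Subgroup.centralizer (Q : Set G) from ht)]
  have hst : ∀ (g : T) (n : C'),
      blockCoeff e' ⟨g * n * g⁻¹, hCn.conj_mem _ n.2 g⟩ = blockCoeff e' n := by
    intro g n
    have h := (mem_center_iff_isClassFn _).mp (idemC_mem_center F') (n : T) g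
    rw [hembed] at h
    simp only [coeff_embH C' _ n, coeff_embH C' _ ⟨g * n * g⁻¹, hCn.conj_mem _ n.2 g⟩, idemC,
      coeff_ofFun] at h
    exact h
  have hA' : HasConstituent e' (χ : T → ℂ) := by
    by_contra h
    have h0 := (omega_stable_eq_zero_iff (A := e') χ).mpr h
    rw [← hembed, omega_idemC, if_pos hχ] at h0
    exact one_ne_zero h0
  let θ' : IrrCharacter C' := Glauberman.compIrr eC θ
  have hθc : classInner (fun c : C' => (χ : T → ℂ) c) (θ' : C' → ℂ) ≠ 0 := by
    let g₀ : C' →* f.range := f.rangeRestrict.comp eC.toMonoidHom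
    have hg₀ : Function.Surjective g₀ :=
      f.rangeRestrict_surjective.comp eC.surjective
    have h := classInner_comp_of_surjective g₀ hg₀ (fun y : f.range => χb y) (φ : f.range → ℂ)
    refine fun h0 => hφ (h.symm.trans (Eq.trans ?_ h0))
    congr 1
    · funext c
      exact hχbe _
  have hmem : θ' ∈ e' := mem_of_hasConstituent hst hA' ((mult_ne_zero_iff χ θ').mpr hθc)
  exact (BPairs.compIrr_mem_pullSet eC).mp hmem

end Cfsg.Agent.Blocks
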