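import Cfsg.Agent.Lib.Blocks.DefectOneBound
import Cfsg.Agent.Lib.Blocks.DefectOneCombi
import Cfsg.Agent.Lib.Blocks.DefectZeroQuot
import Cfsg.Agent.Lib.Blocks.Height

/-!
# The structure of a block of defect one with Sylow subgroup of prime order
-/

set_option linter.unusedSectionVars false

namespace Cfsg.Agent.Blocks.D1

open scoped ComplexConjugate

universe u

variable {p : ℕ} [hp : Fact p.Prime] {G : Type u} [Group G] [Fintype G] {P : Sylow p G}
variable (S : Setup P) (θ : IrrCharacter (cC P))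

/-- The action on the Sylow subgroup, as a homomorphism on the stabilizer. -/
noncomputable def stabUnits : stab S θ →* (ZMod p)ˣ where
  toFun n := Units.mk0 (S.u n) (S.u_ne_zero _)
  map_one' := Units.ext (by simp [S.u_one])
  map_mul' a b := Units.ext (by simp [S.u_mul])

@[simp] theorem coe_stabUnits (n : stab S θ) : ((stabUnits S θ n : (ZMod p)ˣ) : ZMod p) = S.u n :=
  rfl

theorem card_ker_stabUnits : Nat.card (stabUnits S θ).ker = Nat.card (cC P) := by
  refine Nat.card_congr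
    { toFun := fun n => ⟨((n : stab S θ) : cN P), ?_⟩
      invFun := fun c => ⟨⟨⟨c, Subgroup.centralizer_le_normalizer _ c.2⟩, cC_le_stab S θ c.2⟩, ?_⟩
      left_inv := fun n => Subtype.ext (Subtype.ext (Subtype.ext rfl))
      right_inv := fun c => Subtype.ext rfl }
  · have := congrArg Units.val (MonoidHom.mem_ker.mp n.2)
    rw [coe_stabUnits, Units.val_one, S.u_eq_one_iff] at this
    exact this
  · rw [MonoidHom.mem_ker, Units.ext_iff, coe_stabUnits, Units.val_one, S.u_eq_one_iff]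
    exact c.2

theorem card_stab : Nat.card (stab S θ) = Nat.card (cC P) * Nat.card (stabUnits S θ).range := by
  rw [← Subgroup.card_mul_index (stabUnits S θ).ker, Subgroup.index_ker, card_ker_stabUnits]

/-- Sums over the stabilizer of functions of the action. -/
theorem sum_stab [DecidablePred (· ∈ stab S θ)] [Fintype (stabUnits S θ).range] (f : ZMod p → ℂ) :
    (∑ n : cN P, if n ∈ stab S θ then f (S.u n) else 0) =
      (Nat.card (cC P) : ℂ) * ∑ w : (stabUnits S θ).range, f ((w : (ZMod p)ˣ) : ZMod p) := by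
  classical
  letI := Fintype.ofFinite (stab S θ)
  rw [← Finset.sum_filter, Finset.sum_subtype _ (p := (· ∈ stab S θ)) (fun n => by simp),
    Finset.mul_sum, ← Finset.sum_fiberwise Finset.univ (stabUnits S θ).rangeRestrict]
  refine Finset.sum_congr rfl fun w _ => ?_
  obtain ⟨t₀, ht₀⟩ := (stabUnits S θ).rangeRestrict_surjective w
  rw [Finset.sum_congr rfl (g := fun _ => f ((w : (ZMod p)ˣ) : ZMod p)) fun t ht => ?_,
    Finset.sum_const, nsmul_eq_mul, ← card_ker_stabUnits S θ]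
  · congr 2
    letI := Fintype.ofFinite (stabUnits S θ).ker
    rw [Nat.card_eq_fintype_card, ← Finset.card_univ]
    symm
    refine Finset.card_bij (fun k _ => t₀ * (k : stab S θ)) (fun k _ => ?_)
      (fun a _ b _ e => Subtype.ext (mul_left_cancel e)) (fun t ht => ?_)
    · rw [Finset.mem_filter]
      refine ⟨Finset.mem_univ _, ?_⟩
      rw [map_mul, ht₀, show (stabUnits S θ).rangeRestrict (k : stab S θ) = 1 from
        Subtype.ext (MonoidHom.mem_ker.mp k.2), mul_one]
    · rw [Finset.mem_filter] at ht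
      refine ⟨⟨t₀⁻¹ * t, ?_⟩, Finset.mem_univ _, by simp⟩
      rw [MonoidHom.mem_ker, map_mul, map_inv]
      have h1 := congrArg Subtype.val ht₀
      have h2 := congrArg Subtype.val ht.2
      simp only [MonoidHom.coe_rangeRestrict] at h1 h2
      rw [h1, h2, inv_mul_cancel]
  · rw [Finset.mem_filter] at ht
    rw [← ht.2]
    rfl

variable {M : Ideal AlgInt} [M.IsPrime]
variable (hθ : ∀ c : cC P, (c : G) ∈ (P : Subgroup G) → (θ : cC P → ℂ) c = (θ : cC P → ℂ) 1)
variable (hM : IsPModular p M)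
variable {B : Set (IrrCharacter G)} (hBP : IsDefectGroup p M B (P : Subgroup G))
variable {b : Set (IrrCharacter (cC P))} (hind : IsInducedBlock M (cC P) b B) (hθb : θ ∈ b)
include hθ hM hBP hind hθb

/-- Every member is seen on the centralizer. -/
theorem exists_av_ne_zero {χ : IrrCharacter G} (hχ : χ ∈ B) : ∃ i : ZMod p, av S θ χ i ≠ 0 := by
  classical
  by_contra hall
  push Not at hall
  haveI := charP_res hM
  have hvan : ∀ g : G, p ∣ orderOf g → (χ : G → ℂ) g = 0 := by
    intro g hg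
    obtain ⟨h, hmem, hell⟩ := S.exists_conj_mem hg
    rw [CT.isClassFunction_isConj (CT.isClassFunction_of_isIrr χ.2)
      (isConj_iff.mpr ⟨h⁻¹, rfl⟩ : IsConj g (h⁻¹ * g * h⁻¹⁻¹)), inv_inv]
    have := apply_singular S θ hθ hM hBP hind hθb hχ (c := ⟨_, hmem⟩) hell
    simp only [hall, Int.cast_zero, zero_mul, Finset.sum_const_zero, mul_zero] at this
    exact (mul_eq_zero.mp this).resolve_left (Nat.cast_ne_zero.mpr Nat.card_pos.ne')
  have hdvd : p ∣ charDegree (χ : G → ℂ) := by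
    letI := Fintype.ofFinite (P : Subgroup G)
    have hres := CT.isCharacter_restrict (P : Subgroup G) (CT.isCharacter_of_isIrr χ.2)
    obtain ⟨k, hk⟩ := CT.classInner_character_nat hres (CT.isCharacter_one (G := (P : Subgroup G)))
    rw [classInner, Finset.sum_eq_single (1 : (P : Subgroup G)) (fun g _ hg => ?_) (by simp),
      show Nat.card (P : Subgroup G) = p from S.card] at hk
    · refine ⟨k, ?_⟩
      have hd : (χ : G → ℂ) 1 = ((p * k : ℕ) : ℂ) := by
        rw [map_one, mul_one, OneMemClass.coe_one,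
          inv_mul_eq_iff_eq_mul₀ (Nat.cast_ne_zero.mpr hp.out.ne_zero)] at hk
        rw [hk, Nat.cast_mul]
      rw [charDegree, hd, Complex.natCast_re, Nat.floor_natCast]
    · rw [hvan g ?_, zero_mul]
      rw [Subgroup.orderOf_coe]
      have : orderOf g ∣ p := by
        conv_rhs => rw [← (show Nat.card (P : Subgroup G) = p from S.card)]
        exact orderOf_dvd_natCard g
      rcases (Nat.dvd_prime hp.out).mp this with h | h
      · exact absurd (orderOf_eq_one_iff.mp h) hg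
      · rw [h]
  have hGp : (Nat.card G).factorization p = 1 := by
    have h1 := Subgroup.card_mul_index (P : Subgroup G)
    rw [show Nat.card (P : Subgroup G) = p from S.card] at h1
    rw [← h1, Nat.factorization_mul hp.out.ne_zero Subgroup.index_ne_zero_of_finite]
    simp [hp.out.factorization_self, Nat.factorization_eq_zero_of_not_dvd P.not_dvd_index]
  have hd0 : charDegree (χ : G → ℂ) ≠ 0 := fun h0 => by
    have := charDegree_dvd_card χ
    rw [h0, zero_dvd_iff] at this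
    exact Nat.card_pos.ne' this
  have hdeg : (charDegree (χ : G → ℂ)).factorization p = (Nat.card G).factorization p := by
    have hle : (charDegree (χ : G → ℂ)).factorization p ≤ (Nat.card G).factorization p :=
      (Nat.factorization_le_iff_dvd hd0 Nat.card_pos.ne').mpr (charDegree_dvd_card χ) p
    have hpos := hp.out.factorization_pos_of_dvd hd0 hdvd
    omega
  obtain ⟨g, hg, hω⟩ := exists_regular_class_of_full_degree hM χ hdeg
  obtain ⟨y, hy⟩ := defect_conj_le_centralizer hM hind.2.1 hBP hχ hω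
  obtain ⟨-, -, -, hPp, -⟩ := defectGroup_spec hBP
  have h1 := card_le_of_isPGroup_le hy (isPGroup_map_conj hPp y)
  rw [card_map_conj, Nat.factorization_eq_zero_of_not_dvd hg, pow_zero,
    show Nat.card (P : Subgroup G) = p from S.card] at h1
  exact absurd h1 (not_le.mpr hp.out.one_lt)

omit hθ hBP hind hθb in
/-- Congruent integers from equal reductions. -/
theorem int_modEq_of_red {a b : ℤ} (h : red M (a : Loc M) = red M (b : Loc M)) :
    a ≡ b [ZMOD p] := by
  haveI := charP_res hM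
  rw [map_intCast, map_intCast] at h
  exact (CharP.intCast_eq_intCast (Res M) p).mp h

/-- The structure of a block of defect one. -/
theorem exists_structure :
    ∃ (e : ℕ) (X Y : Set (IrrCharacter G)) (εX : IrrCharacter G → ℤ) (ε : ℤ),
      Nat.card (stab S θ) = Nat.card (cC P) * e ∧ e ∣ p - 1 ∧ B = X ∪ Y ∧ Disjoint X Y ∧
      Nat.card X = e ∧ Nat.card Y = (p - 1) / e ∧
      (∀ χ ∈ X, (εX χ = 1 ∨ εX χ = -1) ∧
        (charDegree (χ : G → ℂ) : ℤ) ≡
          εX χ * (((stab S θ).index * charDegree (θ : cC P → ℂ) : ℕ) : ℤ) [ZMOD p] ∧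
        ∀ c : cC P, S.ell c ≠ 0 → (Nat.card (stab S θ) : ℂ) * (χ : G → ℂ) c =
          (εX χ : ℂ) * ∑ n : cN P, (θ : cC P → ℂ) (S.cj n c)) ∧
      (ε = 1 ∨ ε = -1) ∧
      (∀ ψ ∈ Y, (charDegree (ψ : G → ℂ) : ℤ) ≡
        ε * (((stab S θ).index * e * charDegree (θ : cC P → ℂ) : ℕ) : ℤ) [ZMOD p]) ∧
      (∀ ψ ∈ Y, ∀ ψ' ∈ Y, ∀ g : G, ¬ p ∣ orderOf g → (ψ : G → ℂ) g = (ψ' : G → ℂ) g) ∧
      ∀ ψ ∈ Y, ∀ g : G, ¬ p ∣ orderOf g →
        (ε : ℂ) * (ψ : G → ℂ) g = ∑ᶠ χ ∈ X, (εX χ : ℂ) * (χ : G → ℂ) g := by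
  classical
  haveI := charP_res hM
  set U := (stabUnits S θ).range
  letI := Fintype.ofFinite U
  letI := Fintype.ofFinite ((ZMod p)ˣ ⧸ U)
  letI : Fintype {χ : IrrCharacter G // χ ∈ B} := Fintype.ofFinite _
  set e := Nat.card U with he_def
  let A : {χ : IrrCharacter G // χ ∈ B} → (ZMod p)ˣ ⧸ U → ℤ :=
    fun χ j => av S θ χ.1 ((Quotient.out j : (ZMod p)ˣ) : ZMod p)
  have hAv : ∀ (χ : {χ : IrrCharacter G // χ ∈ B}) (i : ZMod p) (hi : i ≠ 0),
      av S θ χ.1 i = A χ (QuotientGroup.mk (Units.mk0 i hi)) := by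
    intro χ i hi
    obtain ⟨⟨w, n, hn⟩, hw⟩ := QuotientGroup.mk_out_eq_mul U (Units.mk0 i hi)
    show _ = av S θ χ.1 _
    rw [hw, Units.val_mul, Units.val_mk0]
    show _ = av S θ χ.1 (i * (w : ZMod p))
    rw [← hn, coe_stabUnits, av_stab S θ hθ n.2]
  -- the Gram matrix
  have hBsum : ∀ f : IrrCharacter G → ℂ, (∀ χ, χ ∉ B → f χ = 0) →
      ∑ χ : {χ : IrrCharacter G // χ ∈ B}, f χ.1 = ∑ χ, f χ := by
    intro f hf
    refine Fintype.sum_of_injective Subtype.val Subtype.val_injective _ _ (fun χ hχ => hf χ ?_)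
      fun χ => rfl
    exact fun h => hχ ⟨⟨χ, h⟩, rfl⟩
  have hgram : ∀ j k, ∑ χ, A χ j * A χ k = (e : ℤ) + if j = k then 1 else 0 := by
    intro j k
    set i := ((Quotient.out j : (ZMod p)ˣ) : ZMod p)
    set i' := ((Quotient.out k : (ZMod p)ˣ) : ZMod p)
    have h := gram S θ hθ i i' (Units.ne_zero _) (Units.ne_zero _)
    rw [← hBsum _ (fun χ hχ => by
      rw [av_eq_zero_of_notMem S θ hθ hM hBP hind hθb hχ i, Int.cast_zero, zero_mul]),
      sum_stab S θ (fun w => 1 + if i = i' * w then 1 else 0),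
      inv_mul_cancel_left₀ (Nat.cast_ne_zero.mpr Nat.card_pos.ne'), Finset.sum_add_distrib,
      Finset.sum_const, Finset.card_univ, nsmul_eq_mul, mul_one, ← Nat.card_eq_fintype_card] at h
    have hcount : (∑ w : U, if i = i' * ((w : (ZMod p)ˣ) : ZMod p) then (1 : ℂ) else 0) =
        if j = k then 1 else 0 := by
      by_cases hjk : j = k
      · subst hjk
        rw [if_pos rfl, Finset.sum_eq_single (1 : U) (fun w _ hw => if_neg fun e' => hw ?_) (by simp),
          if_pos (by simp [i, i'])]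
        refine Subtype.ext (Units.ext ?_)
        exact mul_left_cancel₀ (Units.ne_zero (Quotient.out j)) (e'.symm.trans (mul_one i).symm)
      · rw [if_neg hjk]
        refine Finset.sum_eq_zero fun w _ => if_neg fun e' => hjk ?_
        rw [← QuotientGroup.out_eq' j, ← QuotientGroup.out_eq' k, QuotientGroup.eq]
        have : (Quotient.out j)⁻¹ * Quotient.out k = (w : (ZMod p)ˣ)⁻¹ := by
          have e'' : Quotient.out j = Quotient.out k * (w : (ZMod p)ˣ) := Units.ext e'
          rw [e'', mul_inv_rev, inv_mul_cancel_right]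
        rw [this]
        exact inv_mem w.2
    rw [hcount] at h
    have h' : ((∑ χ, A χ j * A χ k : ℤ) : ℂ) = (((e : ℤ) + if j = k then 1 else 0 : ℤ) : ℂ) := by
      push_cast
      exact h
    exact_mod_cast h'
  have hreg : ∀ (j : (ZMod p)ˣ ⧸ U) {g : G}, ¬ p ∣ orderOf g →
      ∑ χ : {χ : IrrCharacter G // χ ∈ B}, (A χ j : ℂ) * (χ.1 : G → ℂ) g = 0 := by
    intro j g hg
    rw [hBsum (fun χ => (av S θ χ ((Quotient.out j : (ZMod p)ˣ) : ZMod p) : ℂ) * (χ : G → ℂ) g)
      fun χ hχ => by rw [av_eq_zero_of_notMem S θ hθ hM hBP hind hθb hχ, Int.cast_zero, zero_mul]]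
    exact sum_av_mul_regular S θ hθ _ hg
  have h1reg : ¬ p ∣ orderOf (1 : G) := by rw [orderOf_one]; exact hp.out.not_dvd_one
  obtain ⟨cc, ε, bb, hε, hcinj, hA, hb0, hb1, -⟩ := Combi.exists_normal_form hgram
    (fun χ => (CT.deg (χ.1 : G → ℂ) : ℤ)) (fun χ => by exact_mod_cast CT.deg_pos χ.1.2)
    (fun j => by
      have h := hreg j h1reg
      have h' : ((∑ χ : {χ : IrrCharacter G // χ ∈ B}, (CT.deg (χ.1 : G → ℂ) : ℤ) * A χ j : ℤ) : ℂ)
          = ((0 : ℤ) : ℂ) := by
        push_cast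
        rw [← h]
        refine Finset.sum_congr rfl fun χ _ => ?_
        rw [CT.deg_eq (CT.isCharacter_of_isIrr χ.1.2), mul_comm]
      exact_mod_cast h')
    (fun χ => by
      obtain ⟨i, hi⟩ := exists_av_ne_zero S θ hθ hM hBP hind hθb χ.2
      have hi0 : i ≠ 0 := fun h => hi (h ▸ av_zero S θ χ.1)
      exact ⟨_, by rwa [← hAv χ i hi0]⟩)
    (QuotientGroup.mk 1) (Int.natCast_nonneg e)
    (fun χ v hv => by
      refine abs_le_one S θ hθ hM hBP hind hθb (X := {χ.1}) (by simp)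
        (Finset.singleton_nonempty _) (fun i hi => ?_) (by simp)
      rw [Finset.sum_singleton, hAv χ i hi, hv])
    (fun cc b' ε' hε' hinj _ hA' hout => by
      have hinj' : Function.Injective fun k => (cc k).1 := Subtype.val_injective.comp hinj
      have heq : ∀ j k, ∀ g : G, ¬ p ∣ orderOf g →
          ((cc j).1 : G → ℂ) g = ((cc k).1 : G → ℂ) g := by
        intro j k g hg
        have h : ∑ χ : {χ : IrrCharacter G // χ ∈ B}, ((A χ j : ℂ) - A χ k) * (χ.1 : G → ℂ) g = 0 := by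
          simp only [sub_mul, Finset.sum_sub_distrib, hreg j hg, hreg k hg, sub_zero]
        rw [← Fintype.sum_of_injective cc hinj
          (fun i => ((ε' : ℂ) * if i = j then 1 else 0) * ((cc i).1 : G → ℂ) g -
            ((ε' : ℂ) * if i = k then 1 else 0) * ((cc i).1 : G → ℂ) g) _
          (fun χ hχ => by rw [hout χ (fun i e => hχ ⟨i, e⟩) j k, sub_self, zero_mul])
          (fun i => by
            rw [hA', hA']
            split_ifs <;> push_cast <;> ring)] at h
        rw [Finset.sum_sub_distrib,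
          Finset.sum_eq_single j (fun x _ hx => by rw [if_neg hx, mul_zero, zero_mul]) (by simp),
          Finset.sum_eq_single k (fun x _ hx => by rw [if_neg hx, mul_zero, zero_mul]) (by simp),
          if_pos rfl, if_pos rfl, mul_one] at h
        have hε0 : (ε' : ℂ) ≠ 0 := by rcases hε' with rfl | rfl <;> norm_num
        exact mul_left_cancel₀ hε0 (sub_eq_zero.mp h)
      refine abs_le_one S θ hθ hM hBP hind hθb (X := Finset.univ.image fun k => (cc k).1)
        (fun χ hχ => ?_) (Finset.Nonempty.image ⟨QuotientGroup.mk 1, Finset.mem_univ _⟩ _)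
        (fun i hi => ?_) (fun χ hχ χ' hχ' g hg => ?_)
      · obtain ⟨k, -, rfl⟩ := Finset.mem_image.mp hχ
        exact (cc k).2
      · rw [Finset.sum_image fun a _ a' _ e => hinj' e,
          Finset.sum_congr rfl fun k _ => hAv (cc k) i hi, Finset.sum_congr rfl fun k _ => hA' k _,
          Finset.sum_add_distrib, Finset.sum_const, Finset.card_univ, nsmul_eq_mul,
          Finset.sum_eq_single _ (fun x _ hx => by rw [if_neg hx, mul_zero]) (by simp), if_pos rfl,
          mul_one]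
      · obtain ⟨k, -, rfl⟩ := Finset.mem_image.mp hχ
        obtain ⟨k', -, rfl⟩ := Finset.mem_image.mp hχ'
        exact heq k k' g hg)
  set Y : Set (IrrCharacter G) := Set.range fun j => (cc j).1 with hY
  set εX : IrrCharacter G → ℤ := fun χ => if h : χ ∈ B then -bb ⟨χ, h⟩ else 0 with hεX
  have hεXB : ∀ χ : {χ : IrrCharacter G // χ ∈ B}, εX χ.1 = -bb χ := fun χ => dif_pos χ.2
  have hYB : Y ⊆ B := by rintro _ ⟨j, rfl⟩; exact (cc j).2
  have hXmem : ∀ χ : {χ : IrrCharacter G // χ ∈ B}, χ.1 ∈ B \ Y → ∀ j, cc j ≠ χ :=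
    fun χ hχ j h => hχ.2 ⟨j, congrArg Subtype.val h⟩
  have hAX : ∀ χ : {χ : IrrCharacter G // χ ∈ B}, χ.1 ∈ B \ Y → ∀ j, A χ j = bb χ :=
    fun χ hχ j => by rw [hA, if_neg (fun h => hXmem χ hχ j h.symm), mul_zero, add_zero]
  have hrel : ∀ j, ∀ g : G, ¬ p ∣ orderOf g →
      (ε : ℂ) * ((cc j).1 : G → ℂ) g = ∑ᶠ χ ∈ B \ Y, (εX χ : ℂ) * (χ : G → ℂ) g := by
    intro j g hg
    have h := hreg j hg
    simp only [hA, Int.cast_add, Int.cast_mul, add_mul, Finset.sum_add_distrib] at h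
    rw [add_comm, Finset.sum_eq_single (cc j) (fun χ _ hχ => by rw [if_neg hχ]; simp) (by simp),
      if_pos rfl, Int.cast_one, mul_one] at h
    rw [finsum_mem_irr, ← hBsum _ (fun χ hχ => if_neg fun h' => hχ h'.1)]
    rw [eq_neg_of_add_eq_zero_left h, ← Finset.sum_neg_distrib]
    refine Finset.sum_congr rfl fun χ _ => ?_
    by_cases hχ : χ.1 ∈ B \ Y
    · rw [if_pos hχ, hεXB]; push_cast; ring
    · obtain ⟨k, hk⟩ : χ.1 ∈ Y := by_contra fun h' => hχ ⟨χ.2, h'⟩
      rw [if_neg hχ, ← Subtype.ext (p := (· ∈ B)) hk, hb0]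
      simp
  have hXcard : Nat.card ↥(B \ Y) = e := by
    obtain ⟨j₀⟩ : Nonempty ((ZMod p)ˣ ⧸ U) := inferInstance
    have h := hgram j₀ j₀
    rw [if_pos rfl] at h
    have hsq : ∀ χ : {χ : IrrCharacter G // χ ∈ B}, A χ j₀ * A χ j₀ =
        (if χ.1 ∈ B \ Y then 1 else 0) + if χ = cc j₀ then 1 else 0 := by
      intro χ
      by_cases hχ : χ.1 ∈ B \ Y
      · rw [if_pos hχ, if_neg (fun h' => hXmem χ hχ j₀ h'.symm), hAX χ hχ, add_zero]
        rcases hb1 χ (hXmem χ hχ) with h' | h' <;> rw [h'] <;> norm_num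
      · obtain ⟨k, hk⟩ : χ.1 ∈ Y := by_contra fun h' => hχ ⟨χ.2, h'⟩
        rw [if_neg hχ, hA, ← Subtype.ext (p := (· ∈ B)) hk, hb0, zero_add, zero_add]
        split_ifs <;> rcases hε with h' | h' <;> rw [h'] <;> norm_num
    rw [Finset.sum_congr rfl fun χ _ => hsq χ, Finset.sum_add_distrib, Finset.sum_boole,
      Finset.sum_ite_eq', if_pos (Finset.mem_univ _), add_left_inj] at h
    have hc : (Finset.univ.filter fun χ : {χ : IrrCharacter G // χ ∈ B} => χ.1 ∈ B \ Y).card = e := by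
      exact_mod_cast h
    rw [← hc, ← Fintype.card_subtype, ← Nat.card_eq_fintype_card]
    exact Nat.card_congr
      { toFun := fun χ => ⟨⟨χ.1, χ.2.1⟩, χ.2⟩
        invFun := fun χ => ⟨χ.1.1, χ.2⟩
        left_inv := fun χ => rfl
        right_inv := fun χ => rfl }
  have hp1 : Nat.card (ZMod p)ˣ = p - 1 := by rw [Nat.card_eq_fintype_card, ZMod.card_units]
  have hmul := Subgroup.card_eq_card_quotient_mul_card_subgroup U
  rw [hp1] at hmul
  have hXdeg : ∀ χ ∈ B \ Y, (εX χ = 1 ∨ εX χ = -1) ∧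
        (charDegree (χ : G → ℂ) : ℤ) ≡
          εX χ * (((stab S θ).index * charDegree (θ : cC P → ℂ) : ℕ) : ℤ) [ZMOD p] ∧
        ∀ c : cC P, S.ell c ≠ 0 → (Nat.card (stab S θ) : ℂ) * (χ : G → ℂ) c =
          (εX χ : ℂ) * ∑ n : cN P, (θ : cC P → ℂ) (S.cj n c) := by
    intro χ hχ
    have hb := hb1 ⟨χ, hχ.1⟩ (hXmem ⟨χ, hχ.1⟩ hχ)
    have hεv : εX χ = -bb ⟨χ, hχ.1⟩ := dif_pos hχ.1
    have hsing : ∀ c : cC P, S.ell c ≠ 0 → (Nat.card (stab S θ) : ℂ) * (χ : G → ℂ) c =
        (εX χ : ℂ) * ∑ n : cN P, (θ : cC P → ℂ) (S.cj n c) := fun c hc => by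
      have h := sum_apply_singular S θ hθ hM hBP hind hθb (X := {χ})
        (by simpa using hχ.1) (v := bb ⟨χ, hχ.1⟩) (fun i hi => by
          rw [Finset.sum_singleton, hAv ⟨χ, hχ.1⟩ i hi, hAX ⟨χ, hχ.1⟩ hχ]) hc
      rw [Finset.sum_singleton] at h
      rw [h, hεv, Int.cast_neg]
    refine ⟨by omega, int_modEq_of_red hM ?_, hsing⟩
    have hxv := hsing S.xC (by rw [S.ell_xC]; exact one_ne_zero)
    have hθv : ∀ n : cN P, (θ : cC P → ℂ) (S.cj n S.xC) = (charDegree (θ : cC P → ℂ) : ℂ) := fun n => by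
      rw [hθ _ ((Subgroup.mem_normalizer_iff.mp n.2 _).mp S.x_mem_P)]
      exact CT.deg_eq (CT.isCharacter_of_isIrr θ.2)
    rw [Finset.sum_congr rfl fun n _ => hθv n, Finset.sum_const, Finset.card_univ, nsmul_eq_mul,
      ← Nat.card_eq_fintype_card, ← Subgroup.card_mul_index (stab S θ), Nat.cast_mul] at hxv
    have hχx : (χ : G → ℂ) S.x =
        (εX χ : ℂ) * (((stab S θ).index * charDegree (θ : cC P → ℂ) : ℕ) : ℂ) := by
      refine mul_left_cancel₀ (Nat.cast_ne_zero.mpr (Nat.card_pos (α := stab S θ)).ne') ?_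
      refine hxv.trans ?_
      push_cast; ring
    have h := red_charL_mul (M := M) (p := p) χ (x := S.x) (y := 1) (Commute.one_right _)
      ⟨1, by rw [pow_one]; exact orderOf_dvd_iff_pow_eq_one.mp (dvd_of_eq S.hx)⟩ h1reg
    rw [mul_one] at h
    have e1 : charL M χ 1 = (((charDegree (χ : G → ℂ) : ℕ) : ℤ) : Loc M) := Subtype.ext (by
      push_cast
      exact CT.deg_eq (CT.isCharacter_of_isIrr χ.2))
    have e2 : charL M χ S.x =
        ((εX χ * (((stab S θ).index * charDegree (θ : cC P → ℂ) : ℕ) : ℤ) : ℤ) : Loc M) :=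
      Subtype.ext (by rw [coe_charL, hχx]; push_cast; ring)
    rw [← e1, ← e2]
    exact h.symm
  have hYdeg : ∀ ψ ∈ Y, (charDegree (ψ : G → ℂ) : ℤ) ≡
      ε * (((stab S θ).index * e * charDegree (θ : cC P → ℂ) : ℕ) : ℤ) [ZMOD p] := by
    rintro _ ⟨j, rfl⟩
    have h := hrel j 1 h1reg
    letI : Fintype ↥(B \ Y) := Fintype.ofFinite _
    rw [finsum_mem_eq_toFinset_sum] at h
    have hZ : ε * (charDegree ((cc j).1 : G → ℂ) : ℤ) =
        ∑ χ ∈ (B \ Y).toFinset, εX χ * (charDegree (χ : G → ℂ) : ℤ) := by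
      have h' : ((ε * (charDegree ((cc j).1 : G → ℂ) : ℤ) : ℤ) : ℂ) =
          ((∑ χ ∈ (B \ Y).toFinset, εX χ * (charDegree (χ : G → ℂ) : ℤ) : ℤ) : ℂ) := by
        push_cast
        have hcd : ∀ χ : IrrCharacter G, (χ : G → ℂ) 1 = (charDegree (χ : G → ℂ) : ℂ) :=
          fun χ => CT.deg_eq (CT.isCharacter_of_isIrr χ.2)
        simp only [← hcd]
        exact h
      exact_mod_cast h'
    have hsum : ∑ χ ∈ (B \ Y).toFinset, εX χ * (charDegree (χ : G → ℂ) : ℤ) ≡
        ((e * ((stab S θ).index * charDegree (θ : cC P → ℂ)) : ℕ) : ℤ) [ZMOD p] := by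
      rw [← hXcard, Nat.card_eq_card_toFinset, Nat.cast_mul, Finset.cast_card, Finset.sum_mul]
      simp only [one_mul]
      refine Int.modEq_iff_dvd.mpr ?_
      rw [← Finset.sum_sub_distrib]
      refine Finset.dvd_sum fun χ hχ => Int.modEq_iff_dvd.mp ?_
      rw [Set.mem_toFinset] at hχ
      obtain ⟨hs, hm, -⟩ := hXdeg χ hχ
      refine (Int.ModEq.mul_left (εX χ) hm).trans ?_
      rcases hs with h' | h' <;> rw [h'] <;> simp
    rw [← hZ] at hsum
    have := Int.ModEq.mul_left ε hsum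
    have hεε : ε * ε = 1 := by rcases hε with rfl | rfl <;> norm_num
    rw [← mul_assoc, hεε, one_mul] at this
    rwa [show (stab S θ).index * e * charDegree (θ : cC P → ℂ) =
      e * ((stab S θ).index * charDegree (θ : cC P → ℂ)) by ring]
  refine ⟨e, B \ Y, Y, εX, ε, card_stab S θ, ⟨_, hmul.trans (mul_comm _ _)⟩,
    (Set.sdiff_union_of_subset hYB).symm, Set.disjoint_sdiff_left, hXcard, ?_, hXdeg, hε, hYdeg,
    ?_, ?_⟩
  · rw [hY, Nat.card_range_of_injective (f := fun j => (cc j).1) (Subtype.val_injective.comp hcinj),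
      hmul, Nat.mul_div_cancel _ Nat.card_pos]
  · rintro _ ⟨j, rfl⟩ _ ⟨k, rfl⟩ g hg
    have hε0 : (ε : ℂ) ≠ 0 := by rcases hε with rfl | rfl <;> norm_num
    exact mul_left_cancel₀ hε0 ((hrel j g hg).trans (hrel k g hg).symm)
  · rintro _ ⟨j, rfl⟩ g hg
    exact hrel j g hg

end Cfsg.Agent.Blocks.D1
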