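import Cfsg.Agent.Lib.Blocks.DefectOneLocal
import Mathlib.LinearAlgebra.Charpoly.Basic
import Mathlib.LinearAlgebra.Eigenspace.Charpoly
import Mathlib.LinearAlgebra.Eigenspace.Minpoly
import Mathlib.RingTheory.IntegralClosure.IsIntegralClosure.Basic

/-!
# The bound on the restriction to the centralizer in a block of defect one
-/

set_option linter.unusedSectionVars false

namespace Cfsg.Agent.Blocks.D1

open scoped ComplexConjugate
open Module Polynomial

universe u w

variable {p : ℕ} [hp : Fact p.Prime] {M : Ideal AlgInt} [hMp : M.IsPrime]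

section General

variable {Q : Type u} [Group Q] [Fintype Q]

/-- A minimal stable subspace on which a class function acts as the identity is seen by an
irreducible character of at least its dimension. -/
theorem exists_irr_of_min (hM : IsPModular p M) (hQ : ¬ p ∣ Nat.card Q)
    {H : Type w} [AddCommGroup H] [Module (Res M) H] [FiniteDimensional (Res M) H]
    {σ : Representation (Res M) Q H} {T : Submodule (Res M) H} (hT : Trans.IsMinStable σ T)
    (e : Q → R0 M p) (he : IsClassFunction Q fun q => (e q : ℂ))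
    (hid : ∀ v : H, ∑ q, red0 M p (e q) • σ q v = v) :
    ∃ ξ : IrrCharacter Q, finrank (Res M) T ≤ CT.deg (ξ : Q → ℂ) ∧
      ¬ MemLocalIdeal M (∑ q, (e q : ℂ) * (ξ : Q → ℂ) q) := by
  classical
  haveI := charP_res hM
  haveI := isPrincipalIdealRing_R0 (p := p) hM
  haveI := isAlgClosed_res hM
  have hreg : ∀ q : Q, ¬ p ∣ orderOf q := fun q hd => hQ (hd.trans (orderOf_dvd_natCard q))
  have hQk : (Fintype.card Q : Res M) ≠ 0 := by
    rw [Ne, CharP.cast_eq_zero_iff (Res M) p, ← Nat.card_eq_fintype_card]; exact hQ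
  let val : IrrCharacter Q → Q → R0 M p := fun ξ q =>
    ⟨(ξ : Q → ℂ) q, wRing_le_R0 (irr_apply_mem_wRing ξ.2 (hreg q))⟩
  let E : IrrCharacter Q → Q → R0 M p := fun ξ q => val ξ 1 * val ξ q⁻¹
  have hEc : ∀ ξ r q, E ξ (r * q * r⁻¹) = E ξ q := fun ξ r q => by
    simp only [E]
    congr 1
    refine Subtype.ext ?_
    show (ξ : Q → ℂ) (r * q * r⁻¹)⁻¹ = (ξ : Q → ℂ) q⁻¹
    rw [show (r * q * r⁻¹)⁻¹ = r * q⁻¹ * r⁻¹ by group]
    exact CT.isClassFunction_of_isIrr ξ.2 q⁻¹ r
  let A : IrrCharacter Q → H →ₗ[Res M] H := fun ξ => ∑ q, red0 M p (E ξ q) • σ q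
  have hA : ∀ ξ v, A ξ v = ∑ q, red0 M p (E ξ q) • σ q v := fun ξ v => by
    simp [A, LinearMap.sum_apply]
  have hAc : ∀ ξ r, Commute (σ r) (A ξ) := fun ξ r => by
    show σ r * _ = _ * σ r
    simp only [A, Finset.mul_sum, Finset.sum_mul]
    refine Fintype.sum_equiv (MulAut.conj r).toEquiv _ _ fun q => ?_
    simp only [MulEquiv.toEquiv_eq_coe, MulEquiv.coe_toEquiv, MulAut.conj_apply, hEc,
      mul_smul_comm, smul_mul_assoc, ← map_mul, inv_mul_cancel_right]
  have hscal : ∀ ξ, ∃ c, ∀ v ∈ T, A ξ v = c • v := fun ξ =>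
    exists_scalar_of_min hT (A ξ) (hAc ξ) fun v hv => by
      rw [hA]
      exact Submodule.sum_mem _ fun q _ => Submodule.smul_mem _ _ (hT.2.1 q v hv)
  choose c hc using hscal
  have hsum : ∀ q, ∑ ξ, E ξ q = if q = 1 then (Fintype.card Q : R0 M p) else 0 := by
    intro q
    refine Subtype.ext ?_
    have h := CT.regular_eq_sum q⁻¹ (G := Q)
    simp only [inv_eq_one, Nat.card_eq_fintype_card] at h
    push_cast [E, val]
    rw [h]
    split_ifs <;> simp
  obtain ⟨v, hv, hv0⟩ := Submodule.exists_mem_ne_zero_of_ne_bot hT.1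
  obtain ⟨ξ, hξ⟩ : ∃ ξ, c ξ ≠ 0 := by
    by_contra hall
    push Not at hall
    refine smul_ne_zero hQk hv0 ?_
    calc (Fintype.card Q : Res M) • v = ∑ ξ, A ξ v := by
          simp only [hA]
          rw [Finset.sum_comm]
          simp only [← Finset.sum_smul, ← map_sum, hsum]
          rw [Finset.sum_eq_single 1 (fun q _ hq => by simp [hq]) (by simp)]
          simp
      _ = 0 := Finset.sum_eq_zero fun ξ _ => by rw [hc ξ v hv, hall ξ, zero_smul]
  refine ⟨ξ, ?_, fun hI => hξ ?_⟩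
  · have hn0 : (Nat.card Q : R0 M p) ≠ 0 := fun h => by
      have h' := congrArg (fun t : R0 M p => (t : ℂ)) h
      simp at h'
    have hEE : ∀ g, ∑ u, E ξ u * E ξ (u⁻¹ * g) = (Nat.card Q : R0 M p) * E ξ g := by
      intro g
      refine Subtype.ext ?_
      push_cast [E, val]
      simp only [mul_inv_rev, inv_inv]
      have h := sum_irr_mul_irr ξ ξ g⁻¹
      rw [if_pos rfl] at h
      calc ∑ u, (ξ : Q → ℂ) 1 * (ξ : Q → ℂ) u⁻¹ * ((ξ : Q → ℂ) 1 * (ξ : Q → ℂ) (g⁻¹ * u))
          = (ξ : Q → ℂ) 1 * (ξ : Q → ℂ) 1 * ∑ u, (ξ : Q → ℂ) u⁻¹ * (ξ : Q → ℂ) (g⁻¹ * u) := by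
            rw [Finset.mul_sum]; exact Finset.sum_congr rfl fun u _ => by ring
        _ = _ := by
            rw [h]
            field_simp [CT.irr_one_ne_zero ξ.2]
    have h1 := Trans.sq_finrank_le_lat σ (red0 M p) hQk (E ξ) hT hξ
      (fun w hw => (hA ξ w).symm.trans (hc ξ w hw))
    have h2 := congrArg (fun t : R0 M p => (t : ℂ)) (Trans.finrank_lat hn0 hEE rfl)
    simp only [E, val, SubringClass.coe_natCast, Subring.coe_mul, inv_one,
      CT.deg_eq (CT.isCharacter_of_isIrr ξ.2)] at h2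
    have h3 : finrank (R0 M p) (Trans.lat (E ξ)) = CT.deg (ξ : Q → ℂ) * CT.deg (ξ : Q → ℂ) := by
      exact_mod_cast h2
    rw [h3] at h1
    exact Nat.mul_self_le_mul_self_iff.mp h1
  · have hW : (∑ q, e q * val ξ q : R0 M p) = (⟨∑ q, (e q : ℂ) * (ξ : Q → ℂ) q, by
        exact sum_mem fun q _ => mul_mem (e q).2 (val ξ q).2⟩ : R0 M p) :=
      Subtype.ext (by simp [val])
    have hred : red0 M p (∑ q, e q * val ξ q) = 0 := by
      rw [red0_eq_zero_iff', hW]; exact hI
    have hconv : ∀ r, ∑ u, e u * E ξ (r * u⁻¹) = (∑ q, e q * val ξ q) * val ξ r⁻¹ := by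
      intro r
      refine Subtype.ext ?_
      push_cast [E, val]
      simp only [mul_inv_rev, inv_inv]
      have h := sum_classFun_mul_irr he ξ r⁻¹
      have e1 : ∀ u, (ξ : Q → ℂ) (u * r⁻¹) = (ξ : Q → ℂ) (r⁻¹ * u) := fun u =>
        CT.isClassFunction_mul_comm (CT.isClassFunction_of_isIrr ξ.2) _ _
      simp only [e1]
      calc ∑ u, (e u : ℂ) * ((ξ : Q → ℂ) 1 * (ξ : Q → ℂ) (r⁻¹ * u))
          = (ξ : Q → ℂ) 1 * ∑ u, (e u : ℂ) * (ξ : Q → ℂ) (r⁻¹ * u) := by
            rw [Finset.mul_sum]; exact Finset.sum_congr rfl fun u _ => by ring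
        _ = _ := by
            rw [h]
            field_simp [CT.irr_one_ne_zero ξ.2]
    have hz : c ξ • v = 0 := by
      rw [← hc ξ v hv]
      conv_lhs => rw [← hid v]
      rw [map_sum]
      calc ∑ u, A ξ (red0 M p (e u) • σ u v)
          = ∑ u, ∑ q, (red0 M p (e u) * red0 M p (E ξ q)) • σ (q * u) v := by
            refine Finset.sum_congr rfl fun u _ => ?_
            rw [map_smul, hA, Finset.smul_sum]
            refine Finset.sum_congr rfl fun q _ => ?_
            rw [smul_smul, ← Module.End.mul_apply, ← map_mul σ]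
        _ = ∑ r, (∑ u, red0 M p (e u * E ξ (r * u⁻¹))) • σ r v := by
            simp only [Finset.sum_smul]
            conv_rhs => rw [Finset.sum_comm]
            refine Finset.sum_congr rfl fun u _ => ?_
            refine Fintype.sum_equiv (Equiv.mulRight u) _ _ fun q => ?_
            simp only [Equiv.coe_mulRight, mul_inv_cancel_right, map_mul]
        _ = 0 := Finset.sum_eq_zero fun r _ => by
            rw [← map_sum, hconv, map_mul, hred, zero_mul, zero_smul]
    exact (smul_eq_zero.mp hz).resolve_right hv0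

theorem sum_induction_aux {ι : Type*} [Fintype ι] (f : ι → ℂ) (h : ∀ i, MemLocalIdeal M (f i)) :
    MemLocalIdeal M (∑ i, f i) :=
  Finset.sum_induction f (MemLocalIdeal M) (fun _ _ => memLocalIdeal_add) memLocalIdeal_zero
    fun i _ => h i

end General

variable {G : Type u} [Group G] [Fintype G] {P : Sylow p G}
variable (S : Setup P) (θ : IrrCharacter (cC P))
variable (hθ : ∀ c : cC P, (c : G) ∈ (P : Subgroup G) → (θ : cC P → ℂ) c = (θ : cC P → ℂ) 1)
variable (hM : IsPModular p M)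
variable {B : Set (IrrCharacter G)} (hBP : IsDefectGroup p M B (P : Subgroup G))
variable {b : Set (IrrCharacter (cC P))} (hind : IsInducedBlock M (cC P) b B) (hθb : θ ∈ b)

/-- The coefficients of the block idempotent in `R0`. -/
noncomputable def eB (hB : IsPBlock M B) (g : G) : R0 M p :=
  ⟨blockCoeff B g, blockCoeff_mem_R0 S hM hB g⟩

section Degree

variable {Q : Subgroup G} (hQN : Q ≤ cN P) (hQ : ¬ p ∣ Nat.card Q)
variable (hNQ : cN P ≤ Subgroup.zpowers S.x ⊔ Q)

include S hθ hM hBP hind hθb hQN hQ hNQ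

/-- The characters of the complement seen by the block lie over conjugates of `θ`. -/
theorem deg_le_of_not_mem [Fintype Q] [DecidablePred fun q : Q => (q : G) ∈ cC P] (ξ : IrrCharacter Q)
    (hξ : ¬ MemLocalIdeal M
      (∑ q : Q, (if (q : G) ∈ cC P then blockCoeff B (q : G) else 0) * (ξ : Q → ℂ) q)) :
    CT.deg (ξ : Q → ℂ) ≤ (stab S θ).index * CT.deg (θ : cC P → ℂ) := by
  classical
  haveI := charP_res hM
  haveI := normal_regular S hQN
  set K : Subgroup Q := (cC P).subgroupOf Q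
  haveI : IsCyclic (Q ⧸ K) := isCyclic_quotient S hQN
  letI := Fintype.ofFinite K
  have hregQ : ∀ q : Q, ¬ p ∣ orderOf (q : G) := fun q hd =>
    hQ (hd.trans (Subgroup.orderOf_dvd_natCard Q q.2))
  -- some constituent on the regular elements of the centralizer is seen
  have hresK : IsCharacter K (fun k : K => (ξ : Q → ℂ) k) :=
    CT.isCharacter_restrict K (CT.isCharacter_of_isIrr ξ.2)
  obtain ⟨η, hm, hη⟩ : ∃ η : IrrCharacter K,
      CT.mult (fun k : K => (ξ : Q → ℂ) k) (η : K → ℂ) ≠ 0 ∧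
      ¬ MemLocalIdeal M (∑ k : K, blockCoeff B ((k : Q) : G) * (η : K → ℂ) k) := by
    by_contra hall
    push Not at hall
    refine hξ ?_
    have e1 : ∑ q : Q, (if (q : G) ∈ cC P then blockCoeff B (q : G) else 0) * (ξ : Q → ℂ) q =
        ∑ η : IrrCharacter K, (CT.mult (fun k : K => (ξ : Q → ℂ) k) (η : K → ℂ) : ℂ) *
          ∑ k : K, blockCoeff B ((k : Q) : G) * (η : K → ℂ) k := by
      simp only [Finset.mul_sum, ite_mul, zero_mul, ← Finset.sum_filter]
      rw [Finset.sum_comm, Finset.sum_subtype _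
        (p := fun q => q ∈ K) (fun q => by simp [K, Subgroup.mem_subgroupOf])]
      refine Finset.sum_congr rfl fun k _ => ?_
      rw [congrFun (CT.character_eq_sum hresK) k]
      simp only [Finset.sum_apply, Pi.smul_apply, smul_eq_mul, Finset.mul_sum]
      exact Finset.sum_congr rfl fun η _ => by ring
    rw [e1]
    refine sum_induction_aux _ fun η => ?_
    by_cases hm : CT.mult (fun k : K => (ξ : Q → ℂ) k) (η : K → ℂ) = 0
    · rw [hm, Nat.cast_zero, zero_mul]; exact memLocalIdeal_zero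
    · exact memLocalIdeal_mul_left (natCast_mem _ _) (hall η hm)
  have hover : classInner (fun k : K => (ξ : Q → ℂ) k) (η : K → ℂ) ≠ 0 := by
    rw [CT.mult_spec hresK (CT.isCharacter_of_isIrr η.2)]
    exact Nat.cast_ne_zero.mpr hm
  -- the character of the centralizer
  set π := regProj S hQN hQ hNQ with hπdef
  let φ : IrrCharacter (cC P) := ⟨fun c => (η : K → ℂ) (π c),
    CT.isIrrCharacter_comp π (regProj_surjective S hQN hQ hNQ) η.2⟩
  have hφ1 : (φ : cC P → ℂ) 1 = (η : K → ℂ) 1 := by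
    show (η : K → ℂ) (π 1) = _
    rw [map_one]
  have hφP : ∀ c : cC P, (c : G) ∈ (P : Subgroup G) → (φ : cC P → ℂ) c = (φ : cC P → ℂ) 1 :=
    fun c hc => by
      show (η : K → ℂ) (π c) = (η : K → ℂ) (π 1)
      rw [regProj_mem_P S hQN hQ hNQ hc, map_one]
  obtain ⟨B', hB'⟩ := exists_inducedBlock hM P.2 S.P_le_cC le_rfl
    (Subgroup.centralizer_le_normalizer _) (isPBlock_blockOf (M := M) φ)
  have hBB : B' = B := by
    obtain ⟨χ, hχ⟩ := block_nonempty hB'.2.1
    have hA := blockCoeff_mem_loc hind.2.1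
    have h1 := indBar_eq_of_isInducedBlock hB' (self_mem_blockOf φ) hχ (bBar M B)
    rw [omegaBar_bBar hA] at h1
    by_cases hχB : χ ∈ B
    · exact block_eq_of_mem hB'.2.1 hind.2.1 hχ hχB
    rw [if_neg hχB, indBar_apply,
      show resZ (cC P) (bBar M B) = redZ M (cC P) (resZ (cC P) (bIdem M B)) from
        Subtype.ext (by simp [bBar, map_resH]), omegaBar_redZ, red_eq_zero_iff, coe_omegaL] at h1
    exfalso
    refine hη ?_
    have e2 : ∑ k : K, blockCoeff B ((k : Q) : G) * (η : K → ℂ) k =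
        (η : K → ℂ) 1 * omega (φ : cC P → ℂ) (toC M (cC P)
          ((resZ (cC P) (bIdem M B) : ZG (Loc M) (cC P)) : MonoidAlgebra (Loc M) (cC P))) := by
      rw [omega, hφ1, mul_div_cancel₀ _ (CT.irr_one_ne_zero η.2), ev_eq_sum]
      refine Fintype.sum_of_injective (fun k : K => (⟨((k : Q) : G), k.2⟩ : cC P))
        (fun a a' e => Subtype.ext (Subtype.ext (congrArg (fun c : cC P => (c : G)) e))) _ _
        (fun c hc => ?_) fun k => ?_
      · have hsing : S.ell c ≠ 0 := fun h0 => hc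
          ⟨⟨⟨(c : G), (ell_eq_zero_iff_mem S hQN hQ hNQ c).mp h0⟩, c.2⟩, rfl⟩
        simp [coeff_bIdem hA,
          blockCoeff_block_eq_zero hM hind.2.1 ((S.singular_iff c).mpr hsing)]
      · simp only [coe_resZ, coeff_map', coeff_resH, coeff_bIdem hA, Subring.coe_subtype]
        congr 1
        exact congrArg (η : K → ℂ) (regProj_of_regular S hQN hQ hNQ k).symm
    rw [e2]
    exact memLocalIdeal_mul_left (integral_mem_loc (isIntegral_irr η.2 1)) h1
  -- it is a conjugate of `θ`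
  rw [hBB] at hB'
  obtain ⟨n, hn⟩ := first_main_conj S hM hBP hind hB'
  have hφθ : φ = compIrr (S.cj n) θ := by
    refine (card_block_of_induced S hM hBP hB').1.unique ⟨self_mem_blockOf φ, hφP⟩
      ⟨hn θ hθb, fun c hc => ?_⟩
    rw [coe_compIrr]
    show (θ : cC P → ℂ) (S.cj n c) = (θ : cC P → ℂ) (S.cj n 1)
    rw [map_one]
    exact hθ _ ((Subgroup.mem_normalizer_iff.mp n.2 _).mp hc)
  have hidx : (CT.inertia K (η : K → ℂ)).index ≤ (stab S θ).index := by
    have e : CT.inertia K (η : K → ℂ) = (stab S φ).comap (Subgroup.inclusion hQN) := by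
      ext q
      rw [Subgroup.mem_comap, CT.mem_inertia, mem_stab_iff]
      have hcj : ∀ k : K, (φ : cC P → ℂ) (S.cj (Subgroup.inclusion hQN q) ⟨((k : Q) : G), k.2⟩) =
          CT.conjFun K q (η : K → ℂ) k := by
        intro k
        show (η : K → ℂ) (π _) = _
        refine congrArg (η : K → ℂ) ?_
        rw [← regProj_of_regular S hQN hQ hNQ
          ⟨q * k * q⁻¹, (normal_regular S hQN).conj_mem (k : Q) k.2 q⟩, hπdef]
        congr 1
      constructor
      · intro h c
        obtain ⟨y, hy, hy0⟩ := S.exists_decomp c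
        set x' := S.xC ^ (S.ell c).val
        have hxP : ((x' : cC P) : G) ∈ (P : Subgroup G) := S.mem_P_iff.mpr ⟨_, rfl⟩
        have hk : (y : G) ∈ Q := (ell_eq_zero_iff_mem S hQN hQ hNQ y).mp hy0
        show (η : K → ℂ) (π _) = (η : K → ℂ) (π c)
        rw [hy, map_mul (S.cj _), map_mul, map_mul, regProj_mem_P S hQN hQ hNQ hxP,
          regProj_mem_P S hQN hQ hNQ ((Subgroup.mem_normalizer_iff.mp (hQN q.2) _).mp hxP),
          one_mul, one_mul]
        have hπy : π y = ⟨⟨y, hk⟩, y.2⟩ := regProj_of_regular S hQN hQ hNQ ⟨⟨y, hk⟩, y.2⟩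
        exact (hcj ⟨⟨y, hk⟩, y.2⟩).trans ((congrFun h _).trans (congrArg _ hπy.symm))
      · intro h
        funext k
        rw [← hcj k, h]
        exact congrArg (η : K → ℂ) (regProj_of_regular S hQN hQ hNQ k)
    rw [e, Subgroup.index_comap, hφθ, stab_compIrr]
    exact (Subgroup.relIndex_le_of_le_right le_top
      (by rw [Subgroup.relIndex_top_right]; exact Subgroup.index_ne_zero_of_finite)).trans_eq
      (Subgroup.relIndex_top_right _)
  have hθ1 : (η : K → ℂ) 1 = (θ : cC P → ℂ) 1 := by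
    rw [← hφ1, hφθ, coe_compIrr]; simp
  have hd := deg_eq_index_mul K η.2 ξ.2 hover
  rw [CT.deg_eq (CT.isCharacter_of_isIrr ξ.2), hθ1, CT.deg_eq (CT.isCharacter_of_isIrr θ.2)] at hd
  have hd' : CT.deg (ξ : Q → ℂ) = (CT.inertia K (η : K → ℂ)).index * CT.deg (θ : cC P → ℂ) := by
    exact_mod_cast hd
  rw [hd']
  exact Nat.mul_le_mul_right _ hidx

/-- The bound on the simple constituents of the Tate groups. -/
theorem finrank_le_of_min {E : G → R0 M p}
    (hact : ∀ u : Trans.lat E, ∑ g, eB S hM hind.2.1 g • Trans.latRep E g u = u)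
    (Pr : Tate.Pair (Trans.latRep E) S.x p (cN P)) {m : ℕ}
    (bI : Basis (Fin m) (R0 M p) Pr.I)
    [IsPrincipalIdealRing (R0 M p)]
    {T : Submodule (Res M) (Tate.tateSpace (red0 M p) Pr.K Pr.I Pr.hpK bI)}
    [Fintype Q] (hT : Trans.IsMinStable (Tate.tateRep Pr (isRed_red0 hM) bI hQN) T) :
    finrank (Res M) T ≤ (stab S θ).index * CT.deg (θ : cC P → ℂ) := by
  classical
  haveI := charP_res hM
  have hB := hind.2.1
  have hCx : Subgroup.centralizer ({S.x} : Set G) = cC P := S.centralizer_x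
  let e : Q → R0 M p := fun q => if (q : G) ∈ cC P then eB S hM hB q else 0
  have hid : ∀ t, ∑ q : Q, red0 M p (e q) • Tate.tateRep Pr (isRed_red0 hM) bI hQN q t = t := by
    intro t
    obtain ⟨u, rfl⟩ := Tate.clsT_surjective (red0 M p) Pr.K Pr.I Pr.hpK bI (isRed_red0 hM) t
    set u' : Pr.K := ∑ q : Q, e q • ⟨Trans.latRep E q u, Pr.hK q (hQN q.2) u u.2⟩ with hu'
    have hcls : Tate.cls (red0 M p) Pr.K Pr.I Pr.hpK bI u' =
        Tate.cls (red0 M p) Pr.K Pr.I Pr.hpK bI u := by
      have hdiff : ((u - u' : Pr.K) : Trans.lat E) ∈ Pr.I := by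
        have h := orbit_reduction (ρ := Trans.latRep E) hp.out S.hx Pr.hT
          (f := eB S hM hB) (fun g => Subtype.ext
            (blockCoeff_congr B (isConj_iff.mpr ⟨S.x, rfl⟩)).symm) u.2
        rw [hact] at h
        have e1 : (u' : Trans.lat E) = ∑ g ∈ Finset.univ.filter
            (· ∈ Subgroup.centralizer ({S.x} : Set G)), eB S hM hB g • Trans.latRep E g u := by
          rw [hu', Submodule.coe_sum]
          simp only [Submodule.coe_smul]
          rw [Finset.sum_filter]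
          have e2 : ∀ g : G, (if g ∈ Subgroup.centralizer ({S.x} : Set G) then
              eB S hM hB g • Trans.latRep E g u else 0) =
              if g ∈ Q then (if g ∈ cC P then eB S hM hB g else 0) • Trans.latRep E g u else 0 := by
            intro g
            rw [hCx]
            by_cases hC : g ∈ cC P
            swap
            · simp [hC]
            by_cases hQ' : g ∈ Q
            · simp [hC, hQ']
            rw [if_pos hC, if_neg hQ']
            have hsing : S.ell ⟨g, hC⟩ ≠ 0 := fun h0 =>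
              hQ' ((ell_eq_zero_iff_mem S hQN hQ hNQ ⟨g, hC⟩).mp h0)
            have : eB S hM hB g = 0 :=
              Subtype.ext (blockCoeff_block_eq_zero hM hB ((S.singular_iff _).mpr hsing))
            rw [this, zero_smul]
          rw [Finset.sum_congr rfl fun g _ => e2 g, ← Finset.sum_filter,
            Finset.sum_subtype (Finset.univ.filter (· ∈ Q)) (p := (· ∈ Q)) (fun g => by simp)]
        rw [Submodule.coe_sub, e1]
        exact h
      have h0 := (Tate.cls_eq_zero_iff (red0 M p) Pr.K Pr.I Pr.hpK bI (isRed_red0 hM) _).mpr hdiff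
      have hadd := Tate.cls_add (red0 M p) Pr.K Pr.I Pr.hpK bI (u - u') u'
      rw [h0, zero_add, show u - u' + u' = u from sub_add_cancel u u'] at hadd
      exact hadd.symm
    refine Subtype.ext ?_
    rw [Tate.coe_clsT, ← hcls, hu', Tate.cls_sum, Submodule.coe_sum]
    refine Finset.sum_congr rfl fun q _ => ?_
    rw [Tate.cls_smul, Submodule.coe_smul, Tate.tateRep_cls, Tate.coe_clsT]
  have hQr : ¬ p ∣ Nat.card Q := hQ
  have hCF : IsClassFunction Q fun q => (e q : ℂ) := by
    intro q r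
    haveI := normal_regular S hQN
    have hiff : ((r * q * r⁻¹ : Q) : G) ∈ cC P ↔ (q : G) ∈ cC P := by
      constructor
      · intro h
        have := (normal_regular S hQN).conj_mem (r * q * r⁻¹) h r⁻¹
        simpa [mul_assoc, Subgroup.mem_subgroupOf] using this
      · intro h
        exact (normal_regular S hQN).conj_mem q h r
    simp only [e]
    by_cases h : (q : G) ∈ cC P
    · rw [if_pos h, if_pos (hiff.mpr h)]
      exact blockCoeff_congr B (isConj_iff.mpr ⟨(r : G), by simp⟩).symm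
    · rw [if_neg h, if_neg (mt hiff.mp h)]
  obtain ⟨ξ, hle, hξ⟩ := exists_irr_of_min hM hQr hT e hCF hid
  refine hle.trans (deg_le_of_not_mem S θ hθ hM hBP hind hθb hQN hQ hNQ ξ ?_)
  convert hξ using 4 with q
  simp only [e]
  split_ifs <;> rfl

end Degree

include hθ hM hBP hind hθb

/-- The values of a sum of members on singular elements of the centralizer. -/
theorem sum_apply_singular {X : Finset (IrrCharacter G)} (hX : ∀ χ ∈ X, χ ∈ B) {v : ℤ}
    (hv : ∀ i : ZMod p, i ≠ 0 → ∑ χ ∈ X, av S θ χ i = v) {c : cC P} (hc : S.ell c ≠ 0) :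
    (Nat.card (stab S θ) : ℂ) * ∑ χ ∈ X, (χ : G → ℂ) c =
      -(v : ℂ) * ∑ n : cN P, (θ : cC P → ℂ) (S.cj n c) := by
  classical
  rw [Finset.mul_sum, Finset.sum_congr rfl fun χ hχ =>
    apply_singular S θ hθ hM hBP hind hθb (hX χ hχ) hc, Finset.sum_comm, Finset.mul_sum]
  refine Finset.sum_congr rfl fun n _ => ?_
  rw [← Finset.mul_sum, Finset.sum_comm, mul_comm]
  congr 1
  have hk : S.u n * S.ell c ≠ 0 := mul_ne_zero (S.u_ne_zero n) hc
  calc ∑ i : ZMod p, ∑ χ ∈ X, (av S θ χ i : ℂ) * psi (i * (S.u n * S.ell c))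
      = ∑ i : ZMod p, ((v : ℂ) * psi (S.u n * S.ell c * i) - if i = 0 then (v : ℂ) else 0) := by
        refine Finset.sum_congr rfl fun i _ => ?_
        rw [← Finset.sum_mul, ← Int.cast_sum]
        by_cases hi : i = 0
        · subst hi
          simp [av_zero, psi_zero]
        · rw [hv i hi, if_neg hi, sub_zero, mul_comm (S.u n * S.ell c) i]
    _ = -(v : ℂ) := by
        rw [Finset.sum_sub_distrib, ← Finset.mul_sum, sum_psi_mul, if_neg hk]
        simp

/-- Sums of members with constant multiplicity sums take values in `R0`. -/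
theorem sum_mem_R0 {X : Finset (IrrCharacter G)} (hX : ∀ χ ∈ X, χ ∈ B) {v : ℤ}
    (hv : ∀ i : ZMod p, i ≠ 0 → ∑ χ ∈ X, av S θ χ i = v) (g : G) :
    ∑ χ ∈ X, (χ : G → ℂ) g ∈ R0 M p := by
  classical
  by_cases hg : p ∣ orderOf g
  swap
  · exact sum_mem fun χ _ => wRing_le_R0 (irr_apply_mem_wRing χ.2 hg)
  obtain ⟨h, hmem, hell⟩ := S.exists_conj_mem hg
  have e : ∀ χ : IrrCharacter G, (χ : G → ℂ) g = (χ : G → ℂ) (⟨_, hmem⟩ : cC P) := fun χ =>
    CT.isClassFunction_isConj (CT.isClassFunction_of_isIrr χ.2) (isConj_iff.mpr ⟨h⁻¹, by simp⟩)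
  simp only [e]
  obtain ⟨s, hs, hsum⟩ := exists_sum_eq_card_mul (stab S θ)
    (fun n => (θ : cC P → ℂ) (S.cj n ⟨_, hmem⟩)) (fun t ht n => by rw [S.cj_mul, ht])
    (R0 M p) (fun n => by
      obtain ⟨y, hy, hy0⟩ := S.exists_decomp (S.cj n ⟨_, hmem⟩)
      rw [hy, theta_xpow_mul S θ hθ]
      refine wRing_le_R0 (irr_apply_mem_wRing θ.2 ?_)
      rw [← Subgroup.orderOf_coe]
      exact (S.ell_eq_zero_iff y).mp hy0)
  have h1 := sum_apply_singular S θ hθ hM hBP hind hθb hX hv (c := ⟨_, hmem⟩) hell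
  rw [hsum, mul_left_comm] at h1
  rw [mul_left_cancel₀ (Nat.cast_ne_zero.mpr (Nat.card_pos (α := stab S θ)).ne') h1]
  exact mul_mem (neg_mem (intCast_mem _ v)) hs

omit hθ hBP hind hθb in
/-- Characteristic polynomials are congruent to polynomials over the local ring. -/
theorem exists_charpoly_lift {n : ℕ} (ρ : Representation ℂ G (Fin n → ℂ))
    (l : MonoidAlgebra (R0 M p) G) :
    ∃ c : (Loc M)[X], c.Monic ∧ c.natDegree = n ∧ ∀ l' : MonoidAlgebra (R0 M p) G,
      ∑ i ∈ Finset.range (n + 1), (c.coeff i : ℂ) *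
        ∑ g, ((l' * l ^ i).coeff g : ℂ) * ρ.character g = 0 := by
  classical
  let φ : MonoidAlgebra (R0 M p) G →ₐ[R0 M p] Module.End ℂ (Fin n → ℂ) :=
    MonoidAlgebra.lift (R0 M p) (Module.End ℂ (Fin n → ℂ)) G ρ
  obtain ⟨q, hqm, hq⟩ := (IsIntegral.of_finite (R0 M p) l).map φ
  set A := φ l
  have hroot : ∀ μ ∈ A.charpoly.roots, μ ∈ Loc M := by
    intro μ hμ
    have hev : Module.End.HasEigenvalue A μ :=
      (Module.End.hasEigenvalue_iff_isRoot_charpoly _ _).mpr
        ((mem_roots (LinearMap.charpoly_monic A).ne_zero).mp hμ)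
    obtain ⟨x, hx⟩ := hev.exists_hasEigenvector
    refine isAlgClosed_res.mem_loc_of_isRoot (hqm.map (R0.toLoc M p)) ?_
    rw [IsRoot.def, Polynomial.map_map,
      show (Loc M).subtype.comp (R0.toLoc M p) = algebraMap (R0 M p) ℂ from rfl]
    have h := Module.End.aeval_apply_of_hasEigenvector (p := q.map (algebraMap (R0 M p) ℂ)) hx
    rw [aeval_map_algebraMap, aeval_def, hq, LinearMap.zero_apply] at h
    exact (smul_eq_zero.mp h.symm).resolve_right hx.2
  let c : (Loc M)[X] := (A.charpoly.roots.attach.map fun μ => X - C ⟨μ.1, hroot μ.1 μ.2⟩).prod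
  have hmap : c.map (Loc M).subtype = A.charpoly := by
    conv_rhs => rw [(IsAlgClosed.splits A.charpoly).eq_prod_roots_of_monic
      (LinearMap.charpoly_monic A)]
    simp only [c, Polynomial.map_multiset_prod, Multiset.map_map, Function.comp_def,
      Polynomial.map_sub, map_X, map_C, Subring.coe_subtype]
    rw [Multiset.attach_map_val' _ fun μ : ℂ => X - C μ]
  have hinj : Function.Injective (Loc M).subtype := Subtype.val_injective
  refine ⟨c, monic_of_injective hinj (hmap ▸ LinearMap.charpoly_monic A), ?_, fun l' => ?_⟩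
  · rw [← natDegree_map_eq_of_injective hinj, hmap, LinearMap.charpoly_natDegree, finrank_fin_fun]
  · have htr : ∀ a : MonoidAlgebra (R0 M p) G,
        LinearMap.trace ℂ _ (φ a) = ∑ g, (a.coeff g : ℂ) * ρ.character g := by
      intro a
      conv_lhs => rw [eq_sum_single a]
      simp only [map_sum, φ, MonoidAlgebra.lift_single]
      refine Finset.sum_congr rfl fun g _ => ?_
      rw [Subring.smul_def, map_smul, smul_eq_mul]
      rfl
    have h0 := LinearMap.aeval_self_charpoly A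
    rw [aeval_eq_sum_range' (show A.charpoly.natDegree < n + 1 by
      rw [LinearMap.charpoly_natDegree, finrank_fin_fun]; omega)] at h0
    have h1 := congrArg (fun T => LinearMap.trace ℂ _ (φ l' * T)) h0
    simp only [Finset.mul_sum, mul_smul_comm, map_sum, map_smul, smul_eq_mul, mul_zero, map_zero]
      at h1
    rw [← h1]
    refine Finset.sum_congr rfl fun i _ => ?_
    rw [← hmap, coeff_map, ← htr, map_mul, map_pow]
    rfl

/-- The bound: constant multiplicity sums have absolute value at most one. -/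
theorem abs_le_one {X : Finset (IrrCharacter G)} (hX : ∀ χ ∈ X, χ ∈ B) (hne : X.Nonempty)
    {v : ℤ} (hv : ∀ i : ZMod p, i ≠ 0 → ∑ χ ∈ X, av S θ χ i = v)
    (heq : ∀ χ ∈ X, ∀ χ' ∈ X, ∀ g : G, ¬ p ∣ orderOf g → (χ : G → ℂ) g = (χ' : G → ℂ) g) :
    |v| ≤ 1 := by
  classical
  haveI := charP_res hM
  haveI := isPrincipalIdealRing_R0 (p := p) hM
  haveI := isAlgClosed_res hM
  obtain ⟨χ₀, hχ₀⟩ := hne
  set D := CT.deg (χ₀ : G → ℂ)
  have hD : ∀ χ ∈ X, (χ : G → ℂ) 1 = D := fun χ hχ => by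
    rw [heq χ hχ χ₀ hχ₀ 1 (by rw [orderOf_one]; exact hp.out.not_dvd_one)]
    exact CT.deg_eq (CT.isCharacter_of_isIrr χ₀.2)
  have hD0 : (D : ℂ) ≠ 0 := Nat.cast_ne_zero.mpr (CT.deg_pos χ₀.2).ne'
  have hsumR := sum_mem_R0 S θ hθ hM hBP hind hθb hX hv
  let E : G → R0 M p := fun g => (D : R0 M p) * ⟨_, hsumR g⁻¹⟩
  have hEval : ∀ g, (E g : ℂ) = (D : ℂ) * ∑ χ ∈ X, (χ : G → ℂ) g⁻¹ := fun g => by simp [E]
  have hcl : ∀ a a' : G, E (a * a') = E (a' * a) := fun a a' => Subtype.ext (by
    rw [hEval, hEval]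
    congr 1
    refine Finset.sum_congr rfl fun χ _ => ?_
    rw [mul_inv_rev, mul_inv_rev]
    exact CT.isClassFunction_mul_comm (CT.isClassFunction_of_isIrr χ.2) _ _)
  have hG0 : (Nat.card G : R0 M p) ≠ 0 := fun h => by
    have h' := congrArg (fun t : R0 M p => (t : ℂ)) h
    simp at h'
  have hE : ∀ g, ∑ u, E u * E (u⁻¹ * g) = (Nat.card G : R0 M p) * E g := by
    intro g
    refine Subtype.ext ?_
    push_cast
    simp only [hEval, mul_inv_rev, inv_inv]
    calc ∑ u, (D : ℂ) * (∑ χ ∈ X, (χ : G → ℂ) u⁻¹) * ((D : ℂ) * ∑ ψ ∈ X, (ψ : G → ℂ) (g⁻¹ * u))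
        = (D : ℂ) * D * ∑ χ ∈ X, ∑ ψ ∈ X, ∑ u, (χ : G → ℂ) u⁻¹ * (ψ : G → ℂ) (g⁻¹ * u) := by
          rw [Finset.sum_congr rfl fun χ (_ : χ ∈ X) => Finset.sum_comm, Finset.sum_comm,
            Finset.mul_sum]
          refine Finset.sum_congr rfl fun u _ => ?_
          rw [← Finset.sum_mul_sum]
          ring
      _ = _ := by
          simp only [sum_irr_mul_irr, Finset.sum_ite_eq]
          rw [Finset.mul_sum, Finset.mul_sum, Finset.mul_sum]
          refine Finset.sum_congr rfl fun χ hχ => ?_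
          rw [if_pos hχ, hD χ hχ]
          field_simp
  have hB := hind.2.1
  have hact : ∀ u : Trans.lat E, ∑ g, eB S hM hB g • Trans.latRep E g u = u := by
    intro u
    obtain ⟨a, rfl⟩ := Trans.act_surjective E u
    have key : ∀ h y : G, ∑ g, eB S hM hB g * E (h⁻¹ * (g⁻¹ * y)) = E (h⁻¹ * y) := by
      intro h y
      refine Subtype.ext ?_
      push_cast
      simp only [hEval, eB, mul_inv_rev, inv_inv, Finset.mul_sum]
      rw [Finset.sum_comm]
      refine Finset.sum_congr rfl fun χ hχ => ?_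
      have hcl' : IsClassFunction G fun g => blockCoeff B g := fun g x =>
        blockCoeff_congr B (isConj_iff.mpr ⟨x, rfl⟩).symm
      have h1 := sum_classFun_mul_irr hcl' χ (h * y⁻¹)
      have h2 : (∑ g, blockCoeff B g * (χ : G → ℂ) g) / (χ : G → ℂ) 1 = 1 := by
        have := omega_idemC B χ
        rw [omega, idemC, ev_ofFun, if_pos (hX χ hχ)] at this
        exact this
      rw [h2, one_mul, CT.isClassFunction_mul_comm (CT.isClassFunction_of_isIrr χ.2) h y⁻¹] at h1
      rw [← h1, Finset.mul_sum]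
      refine Finset.sum_congr rfl fun g _ => ?_
      rw [show h * y⁻¹ * g = h * (y⁻¹ * g) from mul_assoc _ _ _,
        CT.isClassFunction_mul_comm (CT.isClassFunction_of_isIrr χ.2) h (y⁻¹ * g)]
      ring
    refine Subtype.ext (funext fun y => ?_)
    simp only [Submodule.coe_sum, Submodule.coe_smul, Finset.sum_apply, Pi.smul_apply, smul_eq_mul,
      Trans.coe_latRep, Trans.shiftRep_apply, Trans.coe_act, Finset.mul_sum]
    rw [Finset.sum_comm]
    refine Finset.sum_congr rfl fun h _ => ?_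
    rw [← key h y, Finset.mul_sum]
    exact Finset.sum_congr rfl fun g _ => by ring
  -- congruence of the members
  have hcong : ∀ χ ∈ X, ∀ g, red M (charL M χ g) = red M (charL M χ₀ g) := by
    intro χ hχ g
    obtain ⟨z, ⟨y, rfl, hzy, ⟨j, hj⟩, hy⟩, -⟩ := exists_isPPart (p := p) g
    have hzp : ∃ k : ℕ, z ^ p ^ k = 1 := ⟨j, hj ▸ pow_orderOf_eq_one z⟩
    rw [red_charL_mul χ hzy hzp hy, red_charL_mul χ₀ hzy hzp hy]
    exact congrArg (red M) (Subtype.ext (heq χ hχ χ₀ hχ₀ y hy))
  obtain ⟨n, ρ, -, hρ⟩ := id χ₀.2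
  have hnD : n = D := by
    have := CT.deg_eq (CT.isCharacter_of_isIrr χ₀.2)
    have h1 : (χ₀ : G → ℂ) 1 = (n : ℂ) := by
      rw [← hρ, Representation.char_one, finrank_fin_fun]
    rw [h1] at this
    exact_mod_cast this
  have hn : ∀ l : MonoidAlgebra (R0 M p) G, ∃ c : (Res M)[X], c.Monic ∧ c.natDegree ≤ n ∧
      ∀ l' : MonoidAlgebra (R0 M p) G, ∑ i ∈ Finset.range (n + 1),
        c.coeff i * red0 M p (ev (fun g => E g⁻¹) (l' * l ^ i)) = 0 := by
    intro l
    obtain ⟨c, hcm, hcd, hc⟩ := exists_charpoly_lift hM ρ l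
    refine ⟨c.map (red M), hcm.map _, natDegree_map_le.trans_eq hcd, fun l' => ?_⟩
    let x : ℕ → Loc M := fun i => ∑ g, R0.toLoc M p ((l' * l ^ i).coeff g) * charL M χ₀ g
    have hx0 : ∑ i ∈ Finset.range (n + 1), c.coeff i * x i = 0 := by
      refine Subtype.ext ?_
      push_cast [x]
      refine Eq.trans (Finset.sum_congr rfl fun i _ => ?_) (hc l')
      rw [hρ]
      rfl
    have hterm : ∀ i, red0 M p (ev (fun g => E g⁻¹) (l' * l ^ i)) =
        (D : Res M) * (X.card : Res M) * red M (x i) := by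
      intro i
      rw [ev_eq_sum, map_sum, map_sum, Finset.mul_sum]
      refine Finset.sum_congr rfl fun g _ => ?_
      have hEg : red0 M p (E g⁻¹) = (D : Res M) * (X.card : Res M) * red M (charL M χ₀ g) := by
        have e : R0.toLoc M p (E g⁻¹) = (D : Loc M) * ∑ χ ∈ X, charL M χ g := Subtype.ext (by
          show (E g⁻¹ : ℂ) = _
          rw [hEval, inv_inv]
          simp)
        show red M (R0.toLoc M p (E g⁻¹)) = _
        rw [e, map_mul, map_natCast, map_sum, Finset.sum_congr rfl fun χ hχ => hcong χ hχ g,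
          Finset.sum_const, nsmul_eq_mul, mul_assoc]
      rw [map_mul, hEg, map_mul]
      show red M (R0.toLoc M p ((l' * l ^ i).coeff g)) * _ = _
      ring
    simp only [hterm, coeff_map]
    calc ∑ i ∈ Finset.range (n + 1), red M (c.coeff i) * ((D : Res M) * (X.card : Res M) * red M (x i))
        = (D : Res M) * (X.card : Res M) * red M (∑ i ∈ Finset.range (n + 1), c.coeff i * x i) := by
          rw [map_sum, Finset.mul_sum]
          exact Finset.sum_congr rfl fun i _ => by rw [map_mul]; ring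
      _ = 0 := by rw [hx0, map_zero, mul_zero]
  obtain ⟨Q, hQN, hQ, hNQ⟩ := S.exists_complement
  letI := Fintype.ofFinite Q
  have hidx : (((cN P).index : ℕ) : Res M) = 1 := by
    rw [← Nat.cast_one, CharP.natCast_eq_natCast (Res M) p]
    exact S.index_cN_modEq
  obtain ⟨a, a', ha, ha', heqn⟩ := Tate.tate_bound (isRed_red0 hM) S.hx
    (Subgroup.le_normalizer S.x_mem_P) (fun g hg => mem_cN_of_conj_x S hg) hidx hNQ hQN hQ
    (fun q hq => conj_x_mem S (hQN hq)) hcl hG0 hE (n := n)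
    (d := (stab S θ).index * CT.deg (θ : cC P → ℂ)) hn
    (fun Pr m bI T hT => finrank_le_of_min S θ hθ hM hBP hind hθb hQN hQ hNQ hact Pr bI hT)
  set m := (stab S θ).index
  set d := CT.deg (θ : cC P → ℂ)
  -- read off the values
  have hval : ∀ i ∈ Finset.Ico 1 p, ∑ χ ∈ X, (χ : G → ℂ) (S.x ^ i) = -(v : ℂ) * m * d := by
    intro i hi
    rw [Finset.mem_Ico] at hi
    have hi0 : S.ell (S.xC ^ i) ≠ 0 := by
      rw [S.ell_pow, S.ell_xC, mul_one, Ne, ZMod.natCast_eq_zero_iff]
      exact fun hd => absurd (Nat.le_of_dvd hi.1 hd) (by omega)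
    have h := sum_apply_singular S θ hθ hM hBP hind hθb hX hv hi0
    have hth : ∀ n : cN P, (θ : cC P → ℂ) (S.cj n (S.xC ^ i)) = d := fun n => by
      rw [hθ _ ((Subgroup.mem_normalizer_iff.mp n.2 _).mp
        (by rw [SubmonoidClass.coe_pow]; exact pow_mem S.x_mem_P i))]
      exact CT.deg_eq (CT.isCharacter_of_isIrr θ.2)
    rw [Finset.sum_congr rfl fun n _ => hth n, Finset.sum_const, Finset.card_univ, nsmul_eq_mul,
      ← Nat.card_eq_fintype_card, ← Subgroup.card_mul_index (stab S θ), Nat.cast_mul] at h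
    have hcoe : ∀ χ : IrrCharacter G, (χ : G → ℂ) (S.x ^ i) = (χ : G → ℂ) ((S.xC ^ i : cC P) : G) :=
      fun χ => by rw [SubmonoidClass.coe_pow]; rfl
    rw [Finset.sum_congr rfl fun χ _ => hcoe χ]
    refine mul_left_cancel₀ (Nat.cast_ne_zero.mpr (Nat.card_pos (α := stab S θ)).ne') (h.trans ?_)
    ring
  have heq' := congrArg (fun t : R0 M p => (t : ℂ)) heqn
  push_cast at heq'
  simp only [hEval, inv_one, inv_inv] at heq'
  rw [Finset.range_eq_Ico, Finset.sum_eq_sum_Ico_succ_bot hp.out.pos, pow_zero, zero_add,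
    Finset.sum_congr rfl fun (i : ℕ) (hi : i ∈ Finset.Ico 1 p) => congrArg _ (hval i hi),
    Finset.sum_const, Nat.card_Ico,
    nsmul_eq_mul, Nat.cast_sub hp.out.one_le, Nat.cast_one] at heq'
  have hp1 : (p : ℂ) - 1 ≠ 0 := sub_ne_zero.mpr (by exact_mod_cast hp.out.ne_one)
  have h2 : ((a : ℂ) - a') = -(v : ℂ) * (D * m * d) := by
    refine mul_left_cancel₀ hp1 ?_
    linear_combination heq'
  have h3 : (a : ℤ) - a' = -v * ((D * m * d : ℕ) : ℤ) := by
    have : (((a : ℤ) - a' : ℤ) : ℂ) = ((-v * ((D * m * d : ℕ) : ℤ) : ℤ) : ℂ) := by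
      push_cast; exact h2
    exact_mod_cast this
  have hpos : 0 < D * m * d :=
    Nat.mul_pos (Nat.mul_pos (CT.deg_pos χ₀.2)
      (Nat.pos_of_ne_zero Subgroup.index_ne_zero_of_finite)) (CT.deg_pos θ.2)
  rw [hnD, ← mul_assoc] at ha ha'
  have ha1 : (a : ℤ) ≤ ((D * m * d : ℕ) : ℤ) := by exact_mod_cast ha
  have ha2 : (a' : ℤ) ≤ ((D * m * d : ℕ) : ℤ) := by exact_mod_cast ha'
  have hW : (0 : ℤ) < ((D * m * d : ℕ) : ℤ) := by exact_mod_cast hpos
  rw [abs_le]
  constructor <;> nlinarith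

end Cfsg.Agent.Blocks.D1
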