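import Cfsg.Agent.Lib.Blocks.DefectOneSetup
import Cfsg.Agent.Lib.Blocks.SecondMain
import Cfsg.Agent.Lib.Blocks.FirstMain
import Cfsg.Agent.Lib.Blocks.Knorr
import Cfsg.Agent.S0914
import Mathlib.Analysis.SpecialFunctions.Complex.CircleAddChar

/-!
# Blocks of defect one: restriction to the centralizer of the Sylow subgroup
-/

set_option linter.unusedSectionVars false

namespace Cfsg.Agent.Blocks.D1

open scoped ComplexConjugate

universe u

variable {G : Type u} [Group G] [Fintype G] {p : ℕ} [hp : Fact p.Prime]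

/-- The standard additive character of `ℤ/p`. -/
noncomputable def psi (a : ZMod p) : ℂ := ZMod.stdAddChar a

theorem psi_add (a b : ZMod p) : psi (a + b) = psi a * psi b := AddChar.map_add_eq_mul _ a b

theorem psi_zero : psi (0 : ZMod p) = 1 := AddChar.map_zero_eq_one _

theorem psi_ne_zero (a : ZMod p) : psi a ≠ 0 := fun h => by
  have := psi_add a (-a)
  rw [add_neg_cancel, psi_zero, h, zero_mul] at this
  exact one_ne_zero this

theorem psi_injective : Function.Injective (psi : ZMod p → ℂ) := ZMod.injective_stdAddChar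

theorem psi_mul_conj (a : ZMod p) : psi a * conj (psi a) = 1 := by
  rw [Complex.mul_conj, Complex.normSq_eq_norm_sq, psi, ZMod.stdAddChar_apply, Circle.norm_coe]
  norm_num

theorem sum_psi_mul (a : ZMod p) : ∑ k : ZMod p, psi (a * k) = if a = 0 then (p : ℂ) else 0 := by
  classical
  have := AddChar.sum_mulShift (R' := ℂ) a (ZMod.isPrimitive_stdAddChar p)
  simp only [mul_comm _ a, ZMod.card] at this
  refine this.trans ?_
  split_ifs <;> simp

variable {P : Sylow p G} (S : Setup P) (θ : IrrCharacter (cC P))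

/-- `ψ(i ·) × θ`. -/
noncomputable def lamFun (i : ZMod p) : cC P → ℂ := fun c => psi (i * S.ell c) * (θ : cC P → ℂ) c

theorem isIrr_lamFun (i : ZMod p) : IsIrrCharacter (cC P) (lamFun S θ i) := by
  let lam : cC P →* ℂˣ :=
    { toFun := fun c => Units.mk0 (psi (i * S.ell c)) (psi_ne_zero _)
      map_one' := Units.ext (by simp [S.ell_one, psi_zero])
      map_mul' := fun a b => Units.ext (by simp [S.ell_mul, mul_add, psi_add]) }
  have hc : IsCharacter (cC P) (lamFun S θ i) :=
    CT.isCharacter_mul (CT.isCharacter_lin lam) (CT.isCharacter_of_isIrr θ.2)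
  refine CT.isIrr_of_inner_self hc ?_
  conv_rhs => rw [← CT.irr_inner_self θ.2]
  simp only [classInner, lamFun]
  congr 1
  refine Finset.sum_congr rfl fun c _ => ?_
  rw [map_mul, mul_mul_mul_comm, psi_mul_conj, one_mul]

/-- The characters `ψ(i ·) × θ`. -/
noncomputable def Lam (i : ZMod p) : IrrCharacter (cC P) := ⟨lamFun S θ i, isIrr_lamFun S θ i⟩

theorem Lam_apply (i : ZMod p) (c : cC P) :
    (Lam S θ i : cC P → ℂ) c = psi (i * S.ell c) * (θ : cC P → ℂ) c := rfl

theorem Lam_zero : Lam S θ 0 = θ := Subtype.ext (funext fun c => by simp [Lam_apply, psi_zero])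

variable (hθ : ∀ c : cC P, (c : G) ∈ (P : Subgroup G) → (θ : cC P → ℂ) c = (θ : cC P → ℂ) 1)
include hθ

theorem theta_xpow_mul (k : ZMod p) (c : cC P) :
    (θ : cC P → ℂ) (S.xC ^ k.val * c) = (θ : cC P → ℂ) c := by
  have hk : S.xC ^ k.val ∈ CT.kerChar (θ : cC P → ℂ) :=
    (CT.mem_kerChar_iff (CT.isCharacter_of_isIrr θ.2)).mpr (hθ _ (S.mem_P_iff.mpr ⟨k, rfl⟩))
  rw [(S.xC_central k.val c).eq]
  exact hk c

theorem theta_xpow (k : ZMod p) :
    (θ : cC P → ℂ) (S.xC ^ k.val) = (θ : cC P → ℂ) 1 := hθ _ (S.mem_P_iff.mpr ⟨k, rfl⟩)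

theorem Lam_xpow (i k : ZMod p) :
    (Lam S θ i : cC P → ℂ) (S.xC ^ k.val) = psi (i * k) * (θ : cC P → ℂ) 1 := by
  rw [Lam_apply, S.ell_xpow, theta_xpow S θ hθ]

theorem Lam_injective : Function.Injective (Lam S θ) := by
  intro i j h
  have e := congrArg (fun ξ : IrrCharacter (cC P) => (ξ : cC P → ℂ) (S.xC ^ (1 : ZMod p).val)) h
  simp only [Lam_xpow S θ hθ, mul_one] at e
  exact psi_injective (mul_right_cancel₀ (CT.irr_one_ne_zero θ.2) e)

omit hθ

/-- The elements of the normalizer fixing `θ`. -/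
def stab : Subgroup (cN P) where
  carrier := {n | ∀ c, (θ : cC P → ℂ) (S.cj n c) = (θ : cC P → ℂ) c}
  one_mem' c := congrArg _ (Subtype.ext (by simp))
  mul_mem' {a b} ha hb c := by rw [S.cj_mul, ha, hb]
  inv_mem' {a} ha c := by
    have h := ha (S.cj a⁻¹ c)
    rw [← S.cj_mul, mul_inv_cancel] at h
    rw [← h]
    exact congrArg _ (Subtype.ext (by simp))

theorem mem_stab_iff {n : cN P} :
    n ∈ stab S θ ↔ ∀ c, (θ : cC P → ℂ) (S.cj n c) = (θ : cC P → ℂ) c := Iff.rfl

theorem cC_le_stab {n : cN P} (hn : (n : G) ∈ cC P) : n ∈ stab S θ := fun c => by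
  have e : S.cj n c = (⟨n, hn⟩ : cC P) * c * (⟨n, hn⟩ : cC P)⁻¹ := Subtype.ext (by simp)
  rw [e]
  exact CT.isClassFunction_of_isIrr θ.2 c ⟨n, hn⟩

include hθ

theorem eq_compIrr_cj_iff (n : cN P) (i j : ZMod p) :
    Lam S θ i = compIrr (S.cj n) (Lam S θ j) ↔ n ∈ stab S θ ∧ i = j * S.u n := by
  constructor
  · intro h
    have hc : ∀ c, psi (i * S.ell c) * (θ : cC P → ℂ) c =
        psi (j * (S.u n * S.ell c)) * (θ : cC P → ℂ) (S.cj n c) := fun c => by
      have := congrArg (fun ξ : IrrCharacter (cC P) => (ξ : cC P → ℂ) c) h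
      simpa [Lam_apply, S.ell_cj] using this
    have hij : i = j * S.u n := by
      have e := hc (S.xC ^ (1 : ZMod p).val)
      rw [S.ell_xpow, theta_xpow S θ hθ, mul_one, mul_one,
        show (θ : cC P → ℂ) (S.cj n (S.xC ^ (1 : ZMod p).val)) = (θ : cC P → ℂ) 1 from ?_] at e
      · exact psi_injective (mul_right_cancel₀ (CT.irr_one_ne_zero θ.2) e)
      · refine hθ _ ?_
        rw [S.coe_cj]
        exact (Subgroup.mem_normalizer_iff.mp n.2 _).mp (S.mem_P_iff.mpr ⟨_, rfl⟩)
    refine ⟨fun c => ?_, hij⟩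
    have e := hc c
    rw [hij, mul_assoc] at e
    exact (mul_left_cancel₀ (psi_ne_zero _) e).symm
  · rintro ⟨hn, rfl⟩
    refine Subtype.ext (funext fun c => ?_)
    rw [coe_compIrr, Lam_apply, Lam_apply, S.ell_cj, hn c, mul_assoc]

theorem inner_Lam_cj (n : cN P) (i j : ZMod p) [Decidable (n ∈ stab S θ)] :
    classInner (Lam S θ i : cC P → ℂ) (fun c => (Lam S θ j : cC P → ℂ) (S.cj n c)) =
      if n ∈ stab S θ then (if i = j * S.u n then 1 else 0) else 0 := by
  classical
  have h := CT.irr_inner_subtype (Lam S θ i) (compIrr (S.cj n) (Lam S θ j))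
  refine h.trans ?_
  rw [if_congr (eq_compIrr_cj_iff S θ hθ n i j) rfl rfl, ite_and]

omit hθ

/-- `θ - ψ(i ·) θ`. -/
noncomputable def alpha (i : ZMod p) : cC P → ℂ := fun c =>
  (Lam S θ 0 : cC P → ℂ) c - (Lam S θ i : cC P → ℂ) c

theorem alpha_regular (i : ZMod p) {c : cC P} (hc : S.ell c = 0) : alpha S θ i c = 0 := by
  simp [alpha, Lam_apply, hc]

/-- The induced function only sees the normalizer. -/
theorem indFun_alpha (i : ZMod p) (c : cC P) :
    indFun (cC P) (alpha S θ i) (c : G) =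
      (Nat.card (cC P) : ℂ)⁻¹ * ∑ n : cN P, alpha S θ i (S.cj n c) := by
  classical
  rw [indFun]
  congr 1
  rw [← Fintype.sum_equiv (Equiv.inv G) (fun g => extendByZero (cC P) (alpha S θ i) (g * c * g⁻¹))
    (fun g => extendByZero (cC P) (alpha S θ i) (g⁻¹ * c * g)) (fun g => by simp)]
  symm
  refine Finset.sum_bij_ne_zero (fun n _ _ => (n : G)) (fun n _ _ => Finset.mem_univ _)
    (fun a _ _ b _ _ e => Subtype.ext e) (fun g _ hg => ?_) (fun n _ _ => ?_)
  · by_cases hm : g * c * g⁻¹ ∈ cC P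
    swap
    · exact absurd (CT.extendByZero_not_mem _ _ hm) hg
    rw [CT.extendByZero_mem _ _ hm] at hg
    have hell : S.ell (⟨_, hm⟩ : cC P) ≠ 0 := fun h => hg (alpha_regular S θ i h)
    have hgN : g ∈ cN P := S.mem_cN_of_conj (c := ⟨_, hm⟩) hell (by
      show g⁻¹ * (g * c * g⁻¹) * g ∈ cC P
      simp [mul_assoc, c.2])
    exact ⟨⟨g, hgN⟩, Finset.mem_univ _, hg, rfl⟩
  · rw [CT.extendByZero_mem _ _ (S.conj_mem n.2 c.2)]
    rfl

theorem indFun_alpha_regular (i : ZMod p) {g : G} (hg : ¬ p ∣ orderOf g) :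
    indFun (cC P) (alpha S θ i) g = 0 := by
  rw [indFun]
  refine mul_eq_zero_of_right _ (Finset.sum_eq_zero fun x _ => ?_)
  by_cases hm : x⁻¹ * g * x ∈ cC P
  · rw [CT.extendByZero_mem _ _ hm]
    refine alpha_regular S θ i ((S.ell_eq_zero_iff _).mpr ?_)
    have := orderOf_injective (MulAut.conj x⁻¹).toMonoidHom (MulAut.conj x⁻¹).injective g
    show ¬ p ∣ orderOf (x⁻¹ * g * x)
    simp only [MulEquiv.coe_toMonoidHom, MulAut.conj_apply, inv_inv] at this
    rwa [this]
  · exact CT.extendByZero_not_mem _ _ hm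

/-- The multiplicities in the restriction. -/
noncomputable def mlt (χ : IrrCharacter G) (i : ZMod p) : ℕ :=
  CT.mult (fun c : cC P => (χ : G → ℂ) c) (Lam S θ i : cC P → ℂ)

theorem classInner_res (χ : IrrCharacter G) (i : ZMod p) :
    classInner (fun c : cC P => (χ : G → ℂ) c) (Lam S θ i : cC P → ℂ) = (mlt S θ χ i : ℂ) :=
  CT.mult_spec (CT.isCharacter_restrict _ (CT.isCharacter_of_isIrr χ.2))
    (CT.isCharacter_of_isIrr (Lam S θ i).2)

/-- The reduced multiplicities. -/
noncomputable def av (χ : IrrCharacter G) (i : ZMod p) : ℤ :=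
  (mlt S θ χ i : ℤ) - (mlt S θ χ 0 : ℤ)

theorem av_zero (χ : IrrCharacter G) : av S θ χ 0 = 0 := sub_self _

theorem classInner_indFun_alpha (χ : IrrCharacter G) (i : ZMod p) :
    classInner (indFun (cC P) (alpha S θ i)) (χ : G → ℂ) = -(av S θ χ i : ℂ) := by
  rw [CT.frobenius_reciprocity _ _ (CT.isClassFunction_of_isIrr χ.2)]
  have h := classInner_res S θ χ
  have hc : ∀ j, classInner (Lam S θ j : cC P → ℂ) (fun c : cC P => (χ : G → ℂ) c) =
      (mlt S θ χ j : ℂ) := fun j => by
    rw [← CT.classInner_conj_symm, h, map_natCast]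
  show classInner ((Lam S θ 0 : cC P → ℂ) - (Lam S θ i : cC P → ℂ)) _ = _
  rw [CT.classInner_sub_left, hc, hc, av]
  push_cast
  ring

include hθ

/-- The Gram matrix. -/
theorem gram [DecidablePred (· ∈ stab S θ)] (i j : ZMod p) (hi : i ≠ 0) (hj : j ≠ 0) :
    ∑ χ : IrrCharacter G, (av S θ χ i : ℂ) * (av S θ χ j : ℂ) =
      (Nat.card (cC P) : ℂ)⁻¹ *
        ∑ n : cN P, if n ∈ stab S θ then (1 + if i = j * S.u n then (1 : ℂ) else 0) else 0 := by
  have h1 : classInner (indFun (cC P) (alpha S θ i)) (indFun (cC P) (alpha S θ j)) =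
      ∑ χ : IrrCharacter G, (av S θ χ i : ℂ) * (av S θ χ j : ℂ) := by
    rw [CT.classInner_eq_sum (CT.isClassFunction_indFun _ _)]
    refine Finset.sum_congr rfl fun χ _ => ?_
    rw [classInner_indFun_alpha, classInner_indFun_alpha]
    simp
  rw [← h1, CT.frobenius_reciprocity _ _ (CT.isClassFunction_indFun _ _)]
  simp only [indFun_alpha]
  set K : ℂ := (Nat.card (cC P) : ℂ)⁻¹ with hK
  have hlin : classInner (alpha S θ i) (fun c => K * ∑ n : cN P, alpha S θ j (S.cj n c)) =
      K * ∑ n : cN P, classInner (alpha S θ i) (fun c => alpha S θ j (S.cj n c)) := by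
    have e : (fun c => K * ∑ n : cN P, alpha S θ j (S.cj n c)) =
        K • ∑ n : cN P, (fun c => alpha S θ j (S.cj n c)) := by
      funext c; simp [Finset.sum_apply]
    rw [e, CT.classInner_smul_right, CT.classInner_sum_right]
    congr 1
    rw [hK]; simp
  rw [hlin]
  congr 1
  refine Finset.sum_congr rfl fun n _ => ?_
  show classInner ((Lam S θ 0 : cC P → ℂ) - (Lam S θ i : cC P → ℂ))
    ((fun c => (Lam S θ 0 : cC P → ℂ) (S.cj n c)) - fun c => (Lam S θ j : cC P → ℂ) (S.cj n c)) = _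
  rw [CT.classInner_sub_left, CT.classInner_sub_right, CT.classInner_sub_right,
    inner_Lam_cj S θ hθ, inner_Lam_cj S θ hθ, inner_Lam_cj S θ hθ, inner_Lam_cj S θ hθ]
  have hu := S.u_ne_zero n
  simp only [zero_mul, if_true, hi, if_false, if_neg (mul_ne_zero hj hu).symm]
  split_ifs <;> ring

theorem mlt_stab {n : cN P} (hn : n ∈ stab S θ) (χ : IrrCharacter G) (i : ZMod p) :
    mlt S θ χ (i * S.u n) = mlt S θ χ i := by
  have h := classInner_res S θ χ
  have e : classInner (fun c : cC P => (χ : G → ℂ) c) (Lam S θ (i * S.u n) : cC P → ℂ) =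
      classInner (fun c : cC P => (χ : G → ℂ) c) (Lam S θ i : cC P → ℂ) := by
    rw [(eq_compIrr_cj_iff S θ hθ n (i * S.u n) i).mpr ⟨hn, rfl⟩]
    simp only [classInner, coe_compIrr]
    congr 1
    refine Fintype.sum_equiv (S.cj n).toEquiv _ _ fun c => ?_
    congr 1
    rw [MulEquiv.toEquiv_eq_coe, EquivLike.coe_coe, S.coe_cj]
    exact (CT.isClassFunction_of_isIrr χ.2 (c : G) (n : G)).symm
  rw [h, h] at e
  exact_mod_cast e

theorem av_stab {n : cN P} (hn : n ∈ stab S θ) (χ : IrrCharacter G) (i : ZMod p) :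
    av S θ χ (i * S.u n) = av S θ χ i := by
  rw [av, av, mlt_stab S θ hθ hn]

/-- Relations on regular elements. -/
theorem sum_av_mul_regular (i : ZMod p) {g : G} (hg : ¬ p ∣ orderOf g) :
    ∑ χ : IrrCharacter G, (av S θ χ i : ℂ) * (χ : G → ℂ) g = 0 := by
  have h := congrFun (CT.classFunction_eq_sum (CT.isClassFunction_indFun (H := cC P) (alpha S θ i))) g
  rw [indFun_alpha_regular S θ i hg] at h
  simp only [Finset.sum_apply, Pi.smul_apply, smul_eq_mul, classInner_indFun_alpha, neg_mul,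
    Finset.sum_neg_distrib] at h
  exact neg_eq_zero.mp h.symm

/-! ### The block -/

variable {M : Ideal AlgInt} [M.IsPrime] (hM : IsPModular p M)
variable {B : Set (IrrCharacter G)} (hBP : IsDefectGroup p M B (P : Subgroup G))
variable {b : Set (IrrCharacter (cC P))} (hind : IsInducedBlock M (cC P) b B) (hθb : θ ∈ b)
include hM hBP hind hθb

omit hθ hind hθb in
include S in
theorem card_block_of_induced {b' : Set (IrrCharacter (cC P))}
    (hind' : IsInducedBlock M (cC P) b' B) :
    (∃! η : IrrCharacter (cC P), η ∈ b' ∧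
      ∀ c : cC P, (c : G) ∈ (P : Subgroup G) → (η : cC P → ℂ) c = (η : cC P → ℂ) 1) ∧
      Nat.card b' = p := by
  have hPC : (P : Subgroup G) ≤ cC P := S.P_le_cC
  have hD := defect_of_induced hM hPC le_rfl (Subgroup.centralizer_le_normalizer _) hind' hBP
  have htop : (P : Subgroup G).subgroupOf (cC P) ⊔
      Subgroup.centralizer (((P : Subgroup G).subgroupOf (cC P) : Subgroup (cC P)) : Set (cC P)) =
      ⊤ := by
    refine top_le_iff.mp fun c _ => Subgroup.mem_sup_right ?_
    rw [mem_centralizer_subgroupOf hPC]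
    exact c.2
  obtain ⟨h1, -, h3⟩ := central_product_block hM (P.2.comap_subtype) htop hind'.1 hD
  refine ⟨?_, ?_⟩
  · exact h1
  · refine h3.trans ?_
    show Nat.card (ConjClasses ((P : Subgroup G).subgroupOf (cC P))) = p
    haveI : IsCyclic ((P : Subgroup G).subgroupOf (cC P)) :=
      isCyclic_of_prime_card (p := p) (by rw [card_subgroupOf hPC]; exact S.card)
    letI := IsCyclic.commGroup (α := (P : Subgroup G).subgroupOf (cC P))
    rw [← Nat.card_congr (ConjClasses.mkEquiv (α := (P : Subgroup G).subgroupOf (cC P))),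
      card_subgroupOf hPC]
    exact S.card

theorem Lam_mem (i : ZMod p) : Lam S θ i ∈ b := by
  haveI := charP_res hM
  refine (mem_block_iff hind.1 hθb).mpr (fun c => ?_)
  obtain ⟨η, hη⟩ : ∃ η : IrrCharacter (cC P), η = Lam S θ i := ⟨_, rfl⟩
  have hval : centralChar (Lam S θ i : cC P → ℂ) c =
      psi (i * S.ell c) * centralChar (θ : cC P → ℂ) c := by
    simp only [centralChar, Lam_apply, S.ell_one, mul_zero, psi_zero, one_mul]
    ring
  have hroot : psi (i * S.ell c) ^ p ^ 1 = 1 := by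
    rw [pow_one, psi, ← AddChar.map_nsmul_eq_pow, ZModModule.char_nsmul_eq_zero,
      AddChar.map_zero_eq_one]
  have hint : IsIntegral ℤ (psi (i * S.ell c)) :=
    IsIntegral.of_pow (pow_pos hp.out.pos 1) (by rw [hroot]; exact isIntegral_one)
  have hω : centralChar (θ : cC P → ℂ) c ∈ Loc M :=
    integral_mem_loc (isIntegral_centralChar θ.2 c)
  have h1 : red M (⟨_, integral_mem_loc hint⟩ * ⟨_, hω⟩) = red M ⟨_, hω⟩ := by
    rw [map_mul, red_root_eq_one hM (k := 1) (Subtype.ext (by simpa using hroot)), one_mul]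
  have h2 := red_eq_iff.mp h1.symm
  rw [hval]
  exact h2

theorem block_eq_range : b = Set.range (Lam S θ) := by
  classical
  refine (Set.eq_of_subset_of_ncard_le ?_ ?_ (Set.toFinite _)).symm
  · rintro _ ⟨i, rfl⟩
    exact Lam_mem S θ hθ hM hBP hind hθb i
  · rw [Set.ncard_range_of_injective (Lam_injective S θ hθ), ← Nat.card_coe_set_eq,
      (card_block_of_induced S hM hBP hind).2, Nat.card_zmod]

omit hθ hθb in
/-- Blocks of the centralizer inducing `B` are conjugate. -/
theorem first_main_conj {b' : Set (IrrCharacter (cC P))} (hind' : IsInducedBlock M (cC P) b' B) :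
    ∃ n : cN P, ∀ η ∈ b, compIrr (S.cj n) η ∈ b' := by
  classical
  haveI := charP_res hM
  set L := cC P
  set N := cN P
  have hPL : (P : Subgroup G) ≤ L := S.P_le_cC
  have hLN : L ≤ N := Subgroup.centralizer_le_normalizer _
  haveI hn' : (L.subgroupOf N).Normal := ⟨fun c hc n => by
    rw [Subgroup.mem_subgroupOf] at hc ⊢
    simpa using S.conj_mem n.2 hc⟩
  letI := Fintype.ofFinite (L.subgroupOf N)
  obtain ⟨-, -, -, hPp, -⟩ := defectGroup_spec hBP
  obtain ⟨ξ, hξ⟩ := block_nonempty hind.1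
  obtain ⟨ξ', hξ'⟩ := block_nonempty hind'.1
  set eL := Subgroup.subgroupOfEquivOfLe hLN
  obtain ⟨η, hη⟩ := CT.exists_irr_over (L.subgroupOf N) (compIrr eL ξ).2
  obtain ⟨η', hη'⟩ := CT.exists_irr_over (L.subgroupOf N) (compIrr eL ξ').2
  have hi := induced_of_cover hM hPp hPL le_rfl hLN hind hξ hη
  have hi' := induced_of_cover hM hPp hPL le_rfl hLN hind' hξ' hη'
  have hββ' := induced_normalizer_unique hM hPp (defect_of_induced_normalizer hM hi hBP) hi hi'
  obtain ⟨n, hn⟩ := covered_conj (isPBlock_blockOf η) (isPBlock_blockOf (compIrr eL ξ))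
    (self_mem_blockOf η) (self_mem_blockOf (compIrr eL ξ)) hη
    (hββ' ▸ self_mem_blockOf η') hη'
  refine ⟨n⁻¹, fun θ' hθ' => (mem_block_iff hind'.1 hξ').mpr (sameBlock_of_compIrr eL ?_)⟩
  have h1 : SameBlock M (compIrr eL ξ : L.subgroupOf N → ℂ)
      (compIrr eL θ' : L.subgroupOf N → ℂ) :=
    sameBlock_compIrr eL ((mem_block_iff hind.1 hξ).mp hθ')
  have h2 := sameBlock_conjIrr (n⁻¹) (sameBlock_trans (sameBlock_symm hn) h1)
  rw [← conjIrr_mul, mul_inv_cancel, conjIrr_one] at h2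
  have e : conjIrr n⁻¹ (compIrr eL θ') = compIrr eL (compIrr (S.cj n⁻¹) θ') := by
    refine Subtype.ext (funext fun u => ?_)
    simp only [coe_conjIrr, CT.conjFun_eq_comp, coe_compIrr]
    refine congrArg _ (Subtype.ext ?_)
    show (((MulAut.conjNormal n⁻¹) u : L.subgroupOf N) : N) = ((n⁻¹ : N) : G) * _ * _
    rw [MulAut.conjNormal_apply]
    rfl
  rwa [e] at h2

omit hθb in
/-- `χ` restricted to singular elements of the centralizer only involves blocks inducing its own. -/
theorem blockPart_eq_zero {χ : IrrCharacter G} {b' : Set (IrrCharacter (cC P))}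
    (hb' : IsPBlock M b') (hnot : ¬ IsInducedBlock M (cC P) b' (blockOf M (χ : G → ℂ)))
    {c : cC P} (hc : S.ell c ≠ 0) :
    blockPart b' (fun d : cC P => (χ : G → ℂ) d) c = 0 := by
  haveI := charP_res hM
  obtain ⟨B', hB'⟩ := exists_inducedBlock hM P.2 S.P_le_cC le_rfl
    (Subgroup.centralizer_le_normalizer _) hb'
  have hχ : χ ∉ B' := fun h =>
    hnot (block_eq_of_mem (isPBlock_blockOf χ) hB'.2.1 (self_mem_blockOf χ) h ▸ hB')
  obtain ⟨y, hy, hy0⟩ := S.exists_decomp c
  have hz := S.ppart_of_decomp hy hy0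
  have hC : Subgroup.centralizer ({((S.xC ^ (S.ell c).val : cC P) : G)} : Set G) ≤ cC P := by
    rw [← centralizer_zpowers_eq]
    have : Subgroup.zpowers ((S.xC ^ (S.ell c).val : cC P) : G) = (P : Subgroup G) := by
      refine Subgroup.eq_of_le_of_card_ge
        (Subgroup.zpowers_le.mpr (S.mem_P_iff.mpr ⟨_, rfl⟩)) ?_
      rw [Nat.card_zpowers, Subgroup.orderOf_coe, orderOf_pow, S.orderOf_xC,
        (hp.out.coprime_iff_not_dvd.mpr fun hd => hc ((ZMod.val_eq_zero _).mp
          (Nat.eq_zero_of_dvd_of_lt hd (ZMod.val_lt _)))).gcd_eq_one, Nat.div_one]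
      exact le_of_eq S.card
    rw [this]
  have h0 := second_main hM hB' hz hC hχ
  rw [← embH_single, ← map_mul, ev_embH] at h0
  rw [blockPart_eq_ev b' (CT.isClassFunction_of_isCharacter
    (CT.isCharacter_restrict _ (CT.isCharacter_of_isIrr χ.2)))]
  exact h0

/-- The `b`-part of the restriction. -/
theorem blockPart_b (χ : IrrCharacter G) (c : cC P) :
    blockPart b (fun d : cC P => (χ : G → ℂ) d) c =
      ∑ i, (mlt S θ χ i : ℂ) * (Lam S θ i : cC P → ℂ) c := by
  rw [blockPart, block_eq_range S θ hθ hM hBP hind hθb,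
    finsum_mem_range (Lam_injective S θ hθ), finsum_eq_sum_of_fintype]
  refine Finset.sum_congr rfl fun i _ => ?_
  rw [← classInner_res S θ χ i]

theorem av_eq_zero_of_notMem {χ : IrrCharacter G} (hχ : χ ∉ B) (i : ZMod p) : av S θ χ i = 0 := by
  classical
  have hnot : ¬ IsInducedBlock M (cC P) b (blockOf M (χ : G → ℂ)) := fun h =>
    hχ (inducedBlock_unique h hind ▸ self_mem_blockOf χ)
  have hF : ∀ k : ZMod p, k ≠ 0 → ∑ j, (mlt S θ χ j : ℂ) * psi (j * k) = 0 := by
    intro k hk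
    have h := blockPart_eq_zero S θ hθ hM hBP hind (χ := χ) hind.1 hnot
      (c := S.xC ^ k.val) (by rwa [S.ell_xpow])
    rw [blockPart_b S θ hθ hM hBP hind hθb] at h
    simp only [Lam_xpow S θ hθ, ← mul_assoc, ← Finset.sum_mul] at h
    exact (mul_eq_zero.mp h).resolve_right (CT.irr_one_ne_zero θ.2)
  -- Fourier inversion
  have key : ∀ i, (p : ℂ) * (mlt S θ χ i : ℂ) = ∑ j, (mlt S θ χ j : ℂ) := by
    intro i
    have h1 : ∑ k : ZMod p, psi (-(i * k)) * ∑ j, (mlt S θ χ j : ℂ) * psi (j * k) =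
        (p : ℂ) * (mlt S θ χ i : ℂ) := by
      simp only [Finset.mul_sum]
      rw [Finset.sum_comm]
      have e : ∀ j : ZMod p, ∑ k : ZMod p, psi (-(i * k)) * ((mlt S θ χ j : ℂ) * psi (j * k)) =
          (mlt S θ χ j : ℂ) * if j - i = 0 then (p : ℂ) else 0 := by
        intro j
        rw [← sum_psi_mul, Finset.mul_sum]
        refine Finset.sum_congr rfl fun k _ => ?_
        rw [show (j - i) * k = -(i * k) + j * k by ring, psi_add]
        ring
      rw [Finset.sum_congr rfl fun j _ => e j]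
      simp [sub_eq_zero, mul_comm]
    rw [← h1, Finset.sum_eq_single 0 (fun k _ hk => by rw [hF k hk, mul_zero]) (by simp)]
    simp [psi_zero]
  have h2 := (key i).trans (key 0).symm
  have h3 : (mlt S θ χ i : ℂ) = (mlt S θ χ 0 : ℂ) :=
    mul_left_cancel₀ (Nat.cast_ne_zero.mpr hp.out.ne_zero) h2
  rw [av, Nat.cast_inj.mp h3, sub_self]

/-- The values on singular elements of the centralizer. -/
theorem apply_singular {χ : IrrCharacter G} (hχ : χ ∈ B) {c : cC P} (hc : S.ell c ≠ 0) :
    (Nat.card (stab S θ) : ℂ) * (χ : G → ℂ) c =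
      ∑ n : cN P, (θ : cC P → ℂ) (S.cj n c) *
        ∑ i, (av S θ χ i : ℂ) * psi (i * (S.u n * S.ell c)) := by
  classical
  set Xi : Finset (IrrCharacter (cC P)) :=
    Finset.univ.filter fun ξ => IsInducedBlock M (cC P) (blockOf M (ξ : cC P → ℂ)) B with hXi
  have hresC : IsClassFunction (cC P) (fun d : cC P => (χ : G → ℂ) d) :=
    CT.isClassFunction_of_isCharacter (CT.isCharacter_restrict _ (CT.isCharacter_of_isIrr χ.2))
  set F : IrrCharacter (cC P) → ℂ := fun ξ =>
    classInner (fun d : cC P => (χ : G → ℂ) d) (ξ : cC P → ℂ) * (ξ : cC P → ℂ) c with hFdef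
  have hsum : (χ : G → ℂ) c = ∑ ξ ∈ Xi, F ξ := by
    have h := congrFun (CT.classFunction_eq_sum hresC) c
    simp only [Finset.sum_apply, Pi.smul_apply, smul_eq_mul] at h
    rw [h, hXi, Finset.sum_filter, ← Finset.sum_fiberwise Finset.univ
      (fun ξ : IrrCharacter (cC P) => blockOf M (ξ : cC P → ℂ))]
    refine Eq.trans ?_ (Finset.sum_fiberwise Finset.univ
      (fun ξ : IrrCharacter (cC P) => blockOf M (ξ : cC P → ℂ)) _)
    refine Finset.sum_congr rfl fun b' _ => ?_
    by_cases hb' : IsInducedBlock M (cC P) b' B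
    · refine Finset.sum_congr rfl fun ξ hξ => ?_
      rw [if_pos ((Finset.mem_filter.mp hξ).2.symm ▸ hb')]
    · refine Eq.trans ?_ (Finset.sum_eq_zero fun ξ hξ =>
        if_neg ((Finset.mem_filter.mp hξ).2.symm ▸ hb')).symm
      by_cases hne : (Finset.univ.filter fun ξ : IrrCharacter (cC P) =>
          blockOf M (ξ : cC P → ℂ) = b').Nonempty
      · obtain ⟨ξ₀, hξ₀⟩ := hne
        have e0 : blockOf M (ξ₀ : cC P → ℂ) = b' := (Finset.mem_filter.mp hξ₀).2
        have hblk : IsPBlock M b' := e0 ▸ isPBlock_blockOf ξ₀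
        have h1 := blockPart_eq_zero S θ hθ hM hBP hind (χ := χ) hblk
          (fun h' => hb' (block_eq_of_mem h'.2.1 hind.2.1 (self_mem_blockOf χ) hχ ▸ h')) hc
        rw [blockPart, finsum_mem_irr] at h1
        rw [Finset.sum_filter]
        refine Eq.trans (Finset.sum_congr rfl fun ξ _ => ?_) h1
        refine if_congr ⟨fun e => e ▸ self_mem_blockOf ξ, fun hm => ?_⟩ (by simp only [classInner]) rfl
        exact block_eq_of_mem (isPBlock_blockOf ξ) hblk (self_mem_blockOf ξ) hm
      · rw [Finset.not_nonempty_iff_eq_empty.mp hne, Finset.sum_empty]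
  -- parametrization by the normalizer
  set g : cN P × ZMod p → IrrCharacter (cC P) := fun ni => compIrr (S.cj ni.1) (Lam S θ ni.2) with hg
  have hmaps : ∀ ni ∈ (Finset.univ : Finset (cN P × ZMod p)), g ni ∈ Xi := by
    rintro ⟨n, i⟩ -
    rw [hXi, Finset.mem_filter]
    refine ⟨Finset.mem_univ _, ?_⟩
    have hb : blockOf M (g (n, i) : cC P → ℂ) = blockOf M (compIrr (S.cj n) θ : cC P → ℂ) :=
      (block_eq_blockOf (isPBlock_blockOf _)
        (sameBlock_compIrr (S.cj n) ((mem_block_iff hind.1 hθb).mp (Lam_mem S θ hθ hM hBP hind hθb i))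
          : g (n, i) ∈ blockOf M (compIrr (S.cj n) θ : cC P → ℂ))).symm
    rw [hb]
    refine isInducedBlock_of_conj S θ hM hind hθb n
  have hfib : ∀ ξ ∈ Xi, (Finset.univ.filter fun ni => g ni = ξ).card = Nat.card (stab S θ) := by
    intro ξ hξ
    have hξB : IsInducedBlock M (cC P) (blockOf M (ξ : cC P → ℂ)) B := (Finset.mem_filter.mp hξ).2
    obtain ⟨n, hn⟩ := first_main_conj S hM hBP hind hξB
    have hsub : compIrr (S.cj n) '' b ⊆ blockOf M (ξ : cC P → ℂ) :=
      Set.image_subset_iff.mpr fun η hη => hn η hη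
    have hcinj : Function.Injective (compIrr (S.cj n) : IrrCharacter (cC P) → IrrCharacter (cC P)) :=
      fun a a' e => Subtype.ext (funext fun d => by
        have := congrArg (fun η : IrrCharacter (cC P) => (η : cC P → ℂ) ((S.cj n).symm d)) e
        simpa using this)
    obtain ⟨i, hi⟩ : ∃ i, g (n, i) = ξ := by
      have hall : compIrr (S.cj n) '' b = blockOf M (ξ : cC P → ℂ) := by
        refine Set.eq_of_subset_of_ncard_le hsub ?_ (Set.toFinite _)
        rw [Set.ncard_image_of_injective _ hcinj, ← Nat.card_coe_set_eq, ← Nat.card_coe_set_eq,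
          (card_block_of_induced S hM hBP hind).2, (card_block_of_induced S hM hBP hξB).2]
      obtain ⟨η, hη, e⟩ : ξ ∈ compIrr (S.cj n) '' b := hall ▸ self_mem_blockOf ξ
      rw [block_eq_range S θ hθ hM hBP hind hθb] at hη
      obtain ⟨i, rfl⟩ := hη
      exact ⟨i, e⟩
    rw [Nat.card_eq_fintype_card, ← Finset.card_univ]
    symm
    refine Finset.card_bij (fun t _ => ((t : cN P) * n, i * (S.u t)⁻¹)) (fun t _ => ?_)
      (fun t _ t' _ e => Subtype.ext (mul_right_cancel (congrArg Prod.fst e))) (fun mj hmj => ?_)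
    · rw [Finset.mem_filter]
      refine ⟨Finset.mem_univ _, ?_⟩
      rw [← hi]
      refine Subtype.ext (funext fun d => ?_)
      show (Lam S θ (i * (S.u t)⁻¹) : cC P → ℂ) (S.cj ((t : cN P) * n) d) = _
      rw [S.cj_mul, Lam_apply, S.ell_cj, t.2 (S.cj n d), ← mul_assoc,
        inv_mul_cancel_right₀ (S.u_ne_zero t)]
      rfl
    · obtain ⟨m, j⟩ := mj
      rw [Finset.mem_filter] at hmj
      have e : compIrr (S.cj n) (Lam S θ i) = compIrr (S.cj m) (Lam S θ j) := hi.trans hmj.2.symm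
      have e' : Lam S θ i = compIrr (S.cj (m * n⁻¹)) (Lam S θ j) := by
        refine Subtype.ext (funext fun d => ?_)
        have := congrArg (fun η : IrrCharacter (cC P) => (η : cC P → ℂ) (S.cj n⁻¹ d)) e
        simp only [coe_compIrr, ← S.cj_mul, mul_inv_cancel] at this
        rw [show S.cj 1 d = d from Subtype.ext (by simp)] at this
        exact this
      obtain ⟨ht, hij⟩ := (eq_compIrr_cj_iff S θ hθ _ i j).mp e'
      refine ⟨⟨_, ht⟩, Finset.mem_univ _, Prod.ext (inv_mul_cancel_right m n) ?_⟩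
      rw [hij, mul_inv_cancel_right₀ (S.u_ne_zero _)]
  have hcount : ∑ ni : cN P × ZMod p, F (g ni) = (Nat.card (stab S θ) : ℂ) * (χ : G → ℂ) c := by
    rw [hsum, ← Finset.sum_fiberwise_of_maps_to hmaps, Finset.mul_sum]
    refine Finset.sum_congr rfl fun ξ hξ => ?_
    rw [Finset.sum_congr rfl fun ni hni => congrArg F (Finset.mem_filter.mp hni).2,
      Finset.sum_const, hfib ξ hξ, nsmul_eq_mul]
  rw [← hcount, Fintype.sum_prod_type]
  refine Finset.sum_congr rfl fun n _ => ?_
  have hmult : ∀ i, classInner (fun d : cC P => (χ : G → ℂ) d) (g (n, i) : cC P → ℂ) =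
      (mlt S θ χ i : ℂ) := by
    intro i
    rw [← classInner_res S θ χ i]
    simp only [classInner, hg, coe_compIrr]
    congr 1
    refine Fintype.sum_equiv (S.cj n).toEquiv _ _ fun d => ?_
    congr 1
    rw [MulEquiv.toEquiv_eq_coe, EquivLike.coe_coe, S.coe_cj]
    exact (CT.isClassFunction_of_isIrr χ.2 (d : G) (n : G)).symm
  have hk : S.u n * S.ell c ≠ 0 := mul_ne_zero (S.u_ne_zero n) hc
  simp only [hFdef, hmult]
  simp only [hg, coe_compIrr, Lam_apply, S.ell_cj]
  have h0 : ∑ i : ZMod p, psi (i * (S.u n * S.ell c)) = 0 := by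
    have := sum_psi_mul (S.u n * S.ell c)
    rw [if_neg hk] at this
    simpa [mul_comm] using this
  calc ∑ i, (mlt S θ χ i : ℂ) * (psi (i * (S.u n * S.ell c)) * (θ : cC P → ℂ) (S.cj n c))
      = (θ : cC P → ℂ) (S.cj n c) * ∑ i, (mlt S θ χ i : ℂ) * psi (i * (S.u n * S.ell c)) := by
        rw [Finset.mul_sum]; exact Finset.sum_congr rfl fun i _ => by ring
    _ = _ := by
        congr 1
        simp only [av, Int.cast_sub, Int.cast_natCast, sub_mul, Finset.sum_sub_distrib,
          ← Finset.mul_sum, h0, mul_zero, sub_zero]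
where
  isInducedBlock_of_conj (S : Setup P) (θ : IrrCharacter (cC P)) (hM : IsPModular p M)
      (hind : IsInducedBlock M (cC P) b B) (hθb : θ ∈ b) (n : cN P) :
      IsInducedBlock M (cC P) (blockOf M (compIrr (S.cj n) θ : cC P → ℂ)) B := by
    obtain ⟨χ, hχ⟩ := block_nonempty hind.2.1
    refine ⟨isPBlock_blockOf _, hind.2.1, fun ξ hξ χ' hχ' g => ?_⟩
    have hξ' : compIrr (S.cj n).symm ξ ∈ b := by
      refine (mem_block_iff hind.1 hθb).mpr (sameBlock_of_compIrr (S.cj n) ?_)
      have : compIrr (S.cj n) (compIrr (S.cj n).symm ξ) = ξ := Subtype.ext (funext fun d => by simp)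
      rw [this]
      exact hξ
    have h1 := hind.2.2 _ hξ' χ' hχ' g
    have e : inducedCentralChar (cC P) (ξ : cC P → ℂ) g =
        inducedCentralChar (cC P) (compIrr (S.cj n).symm ξ : cC P → ℂ) g := by
      classical
      simp only [inducedCentralChar, finsum_mem_eq_toFinset_sum]
      refine Finset.sum_equiv (S.cj n).toEquiv (fun d => ?_) fun d _ => ?_
      · simp only [Set.mem_toFinset, Set.mem_ofPred_eq, MulEquiv.toEquiv_eq_coe, EquivLike.coe_coe,
          S.coe_cj]
        exact ⟨fun h => h.trans (isConj_iff.mpr ⟨(n : G), rfl⟩),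
          fun h => h.trans (isConj_iff.mpr ⟨(n : G), rfl⟩).symm⟩
      · simp
    rwa [e]

end Cfsg.Agent.Blocks.D1
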