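import Cfsg.Agent.Lib.Blocks.DefectOne
import Cfsg.Agent.Lib.CT.Degree
import Cfsg.Agent.Lib.Blocks.BrauerFeit

/-!
# Characters of degree prime to `p` when the Sylow subgroup has order `p`
-/

set_option linter.unusedSectionVars false

namespace Cfsg.Agent.Blocks.D1

open scoped ComplexConjugate

universe u v

variable {p : ℕ} [hp : Fact p.Prime] {G : Type u} [Group G] [Fintype G] {P : Sylow p G}

/-- The characters of the centralizer that are trivial on the Sylow subgroup. -/
def trivSet (P : Sylow p G) : Set (IrrCharacter (cC P)) :=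
  {θ | ∀ c : cC P, (c : G) ∈ (P : Subgroup G) → (θ : cC P → ℂ) c = (θ : cC P → ℂ) 1}

/-- The contribution of a character of the centralizer, times the order of the normalizer. -/
noncomputable def weight (S : Setup P) (θ : IrrCharacter (cC P)) : ℕ :=
  Nat.card (stab S θ) * (Nat.card (stab S θ) / Nat.card (cC P) +
    (p - 1) / (Nat.card (stab S θ) / Nat.card (cC P)))

variable (S : Setup P)

theorem factorization_card (hP : Nat.card P = p) : (Nat.card G).factorization p = 1 := by
  rw [← Subgroup.card_mul_index (P : Subgroup G), Nat.factorization_mul Nat.card_pos.ne'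
    Subgroup.index_ne_zero_of_finite, Finsupp.add_apply,
    show Nat.card (P : Subgroup G) = p from hP,
    Nat.factorization_eq_zero_of_not_dvd P.not_dvd_index, hp.out.factorization_self]

include S in
theorem not_dvd_deg_trivSet (θ : IrrCharacter (cC P)) :
    ¬ p ∣ charDegree (θ : cC P → ℂ) := by
  intro h
  haveI : ((P : Subgroup G).subgroupOf (cC P)).Normal :=
    (Subgroup.normal_subgroupOf_iff_le_normalizer S.P_le_cC).mpr
      (Subgroup.centralizer_le_normalizer _)
  letI := Fintype.ofFinite ((P : Subgroup G).subgroupOf (cC P))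
  have hd := CT.deg_dvd_index_of_comm (N := (P : Subgroup G).subgroupOf (cC P)) θ.2 fun a b =>
    Subtype.ext (Subtype.ext (Subgroup.mem_centralizer_iff.mp (a : cC P).2 _ b.2).symm)
  refine P.not_dvd_index (h.trans (dvd_trans ?_ (Subgroup.relIndex_dvd_index_of_le S.P_le_cC)))
  exact hd

variable {M : Ideal AlgInt} [M.IsPrime]
include S

/-- The block induced by the block of a character trivial on the Sylow subgroup. -/
theorem exists_induced_defect (hM : IsPModular p M) (θ : IrrCharacter (cC P)) :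
    ∃ B, IsInducedBlock M (cC P) (blockOf M (θ : cC P → ℂ)) B ∧
      IsDefectGroup p M B (P : Subgroup G) := by
  haveI := charP_res hM
  obtain ⟨B, hB⟩ := exists_inducedBlock hM P.2 S.P_le_cC le_rfl
    (Subgroup.centralizer_le_normalizer _) (isPBlock_blockOf θ)
  refine ⟨B, hB, ?_⟩
  obtain ⟨D, hD⟩ := exists_defectGroup (p := p) hB.2.1
  obtain ⟨u, huC, huB, -⟩ := exists_support_of_induced hM P.2 S.P_le_cC le_rfl
    (Subgroup.centralizer_le_normalizer _) hB (self_mem_blockOf θ)
  obtain ⟨y, hy⟩ := conj_le_defect hM hB.2.1 hD P.2 huB (le_centralizer_singleton.mpr huC)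
  obtain ⟨-, -, -, hDp, -⟩ := defectGroup_spec hD
  have heq : (P : Subgroup G).map (MulAut.conj y).toMonoidHom = D := by
    refine Subgroup.eq_of_le_of_card_ge hy ?_
    rw [card_map_conj, show Nat.card (P : Subgroup G) = p from S.card, card_defectGroup hM hB.2.1 hD]
    have h1 : blockDefect p B ≤ 1 := (Nat.sub_le _ _).trans (factorization_card S.card).le
    calc p ^ blockDefect p B ≤ p ^ 1 := Nat.pow_le_pow_right hp.out.pos h1
      _ = p := pow_one p
  have := isDefectGroup_conj hD y⁻¹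
  rwa [← heq, map_conj_map_conj, inv_mul_cancel, map_conj_one] at this

/-- The block attached to a character of the centralizer. -/
noncomputable def blk (hM : IsPModular p M) (θ : IrrCharacter (cC P)) : Set (IrrCharacter G) :=
  (exists_induced_defect S hM θ).choose

theorem blk_spec (hM : IsPModular p M) (θ : IrrCharacter (cC P)) :
    IsInducedBlock M (cC P) (blockOf M (θ : cC P → ℂ)) (blk S hM θ) ∧
      IsDefectGroup p M (blk S hM θ) (P : Subgroup G) :=
  (exists_induced_defect S hM θ).choose_spec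

theorem inducedCentralChar_cj (n : cN P) (θ : IrrCharacter (cC P)) (g : G) :
    inducedCentralChar (cC P) (compIrr (S.cj n) θ : cC P → ℂ) g =
      inducedCentralChar (cC P) (θ : cC P → ℂ) g := by
  unfold inducedCentralChar
  refine finsum_mem_eq_of_bijOn (S.cj n) ⟨fun h hh => ?_, (S.cj n).injective.injOn, fun h hh => ?_⟩
    fun h _ => by simp
  · exact (show IsConj g (h : G) from hh).trans (isConj_iff.mpr ⟨n, rfl⟩)
  · refine ⟨(S.cj n).symm h, ?_, (S.cj n).apply_symm_apply h⟩
    refine (show IsConj g (h : G) from hh).trans (isConj_iff.mpr ⟨(n : G)⁻¹, ?_⟩)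
    show (n : G)⁻¹ * (h : G) * (n : G)⁻¹⁻¹ = (n : G)⁻¹ * h * n
    rw [inv_inv]

theorem blk_compIrr (hM : IsPModular p M) (n : cN P) (θ : IrrCharacter (cC P)) :
    blk S hM (compIrr (S.cj n) θ) = blk S hM θ := by
  obtain ⟨h1, -⟩ := blk_spec S hM θ
  obtain ⟨h2, -⟩ := blk_spec S hM (compIrr (S.cj n) θ)
  obtain ⟨χ, hχ⟩ := block_nonempty h1.2.1
  obtain ⟨χ', hχ'⟩ := block_nonempty h2.2.1
  refine block_eq_of_mem h2.2.1 h1.2.1 hχ' ((mem_block_iff h1.2.1 hχ).mpr fun g => ?_)
  have a := h1.2.2 θ (self_mem_blockOf θ) χ hχ g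
  have b := h2.2.2 _ (self_mem_blockOf _) χ' hχ' g
  rw [inducedCentralChar_cj] at b
  have := memLocalIdeal_sub b a
  rwa [sub_sub_sub_cancel_left] at this

theorem exists_conj_of_blk_eq (hM : IsPModular p M) {θ η : IrrCharacter (cC P)}
    (hθ : θ ∈ trivSet P) (hη : η ∈ trivSet P) (h : blk S hM η = blk S hM θ) :
    ∃ n : cN P, compIrr (S.cj n) θ = η := by
  obtain ⟨h1, hd⟩ := blk_spec S hM θ
  obtain ⟨h2, -⟩ := blk_spec S hM η
  rw [h] at h2
  obtain ⟨n, hn⟩ := first_main_conj S hM hd h1 h2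
  refine ⟨n, ?_⟩
  have hmem := hn θ (self_mem_blockOf θ)
  rw [block_eq_range S η hη hM hd h2 (self_mem_blockOf η)] at hmem
  obtain ⟨i, hi⟩ := hmem
  have hpi : psi (i * 1) * (η : cC P → ℂ) 1 = (η : cC P → ℂ) 1 := by
    rw [← Lam_xpow S η hη, hi]
    have hx : ((S.xC ^ (1 : ZMod p).val : cC P) : G) ∈ (P : Subgroup G) := S.mem_P_iff.mpr ⟨1, rfl⟩
    have hx' : ((S.cj n (S.xC ^ (1 : ZMod p).val) : cC P) : G) ∈ (P : Subgroup G) := by
      rw [S.coe_cj]
      exact (Subgroup.mem_normalizer_iff.mp n.2 _).mp hx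
    rw [coe_compIrr, hθ _ hx']
    have h11 := congrFun (congrArg Subtype.val hi) 1
    simpa [Lam_apply, S.ell_one, psi_zero] using h11.symm
  have hi0 : i = 0 := psi_injective (by
    rw [psi_zero, ← mul_one i]
    exact mul_right_cancel₀ (CT.irr_one_ne_zero η.2) (hpi.trans (one_mul _).symm))
  rw [← hi, hi0, Lam_zero]

/-- Size of a block and its degrees. -/
theorem card_blk (hM : IsPModular p M) {θ : IrrCharacter (cC P)} (hθ : θ ∈ trivSet P) :
    Nat.card (blk S hM θ) = Nat.card (stab S θ) / Nat.card (cC P) +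
      (p - 1) / (Nat.card (stab S θ) / Nat.card (cC P)) ∧
    ∀ χ ∈ blk S hM θ, ¬ p ∣ charDegree (χ : G → ℂ) := by
  obtain ⟨hind, hd⟩ := blk_spec S hM θ
  obtain ⟨e, X, Y, εX, ε, hst, hdvd, hXY, hdis, hXc, hYc, hX, hε, hY, -, -⟩ :=
    exists_structure S θ hθ hM hd hind (self_mem_blockOf θ)
  have he : Nat.card (stab S θ) / Nat.card (cC P) = e := by
    rw [hst, Nat.mul_div_cancel_left _ Nat.card_pos]
  have hθd := not_dvd_deg_trivSet S θ
  have hidx : ¬ p ∣ (stab S θ).index := by
    intro h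
    refine P.not_dvd_index (h.trans ?_)
    have hle : (P : Subgroup G).subgroupOf (cN P) ≤ stab S θ := fun n hn =>
      cC_le_stab S θ (S.P_le_cC hn)
    exact (Subgroup.index_dvd_of_le hle).trans
      (Subgroup.relIndex_dvd_index_of_le Subgroup.le_normalizer)
  have hep : ¬ p ∣ e := fun h => by
    have := Nat.le_of_dvd (Nat.sub_pos_of_lt hp.out.one_lt) (h.trans hdvd)
    have := hp.out.pos
    omega
  refine ⟨?_, fun χ hχ hdd => ?_⟩
  · rw [he, ← hXc, hXY, Nat.card_coe_set_eq, Set.ncard_union_eq hdis (Set.toFinite _) (Set.toFinite _),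
      ← Nat.card_coe_set_eq, ← Nat.card_coe_set_eq, hXc, hYc]
  · have hz : ∀ (s : ℤ) (m : ℕ), (s = 1 ∨ s = -1) → ¬ p ∣ m →
        (charDegree (χ : G → ℂ) : ℤ) ≡ s * (m : ℤ) [ZMOD p] → False := by
      intro s m hs hm hmod
      have h0 : (p : ℤ) ∣ (charDegree (χ : G → ℂ) : ℤ) := Int.natCast_dvd_natCast.mpr hdd
      have h1 : (p : ℤ) ∣ s * (m : ℤ) := (Int.ModEq.dvd_iff hmod).mp h0
      refine hm (Int.natCast_dvd_natCast.mp ?_)
      rcases hs with rfl | rfl
      · simpa using h1
      · simpa using h1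
    rw [hXY] at hχ
    rcases hχ with hχ | hχ
    · refine hz _ _ (hX χ hχ).1 (fun h => ?_) (hX χ hχ).2.1
      rcases hp.out.dvd_mul.mp h with h | h
      exacts [hidx h, hθd h]
    · refine hz _ _ hε (fun h => ?_) (hY χ hχ)
      rcases hp.out.dvd_mul.mp h with h | h
      · rcases hp.out.dvd_mul.mp h with h | h
        exacts [hidx h, hep h]
      · exact hθd h

theorem exists_blk_eq (hM : IsPModular p M) {χ : IrrCharacter G}
    (hχ : ¬ p ∣ charDegree (χ : G → ℂ)) :
    ∃ θ ∈ trivSet P, blk S hM θ = blockOf M (χ : G → ℂ) := by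
  haveI := charP_res hM
  set B := blockOf M (χ : G → ℂ)
  have hB : IsPBlock M B := isPBlock_blockOf χ
  obtain ⟨D, hD⟩ := exists_defectGroup (p := p) hB
  have h1 : blockDefect p B = 1 := by
    have h2 := le_blockDefect_add (p := p) (self_mem_blockOf (M := M) χ)
    rw [factorization_card S.card, Nat.factorization_eq_zero_of_not_dvd hχ, add_zero] at h2
    exact le_antisymm ((Nat.sub_le _ _).trans (factorization_card S.card).le) h2
  have hDc : Nat.card D = p ^ (Nat.card G).factorization p := by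
    rw [card_defectGroup hM hB hD, h1, factorization_card S.card]
  obtain ⟨x, hx⟩ := MulAction.exists_smul_eq G (Sylow.ofCard D hDc) P
  have hBP : IsDefectGroup p M B (P : Subgroup G) := by
    have hh := isDefectGroup_conj hD x
    rw [← hx]
    exact hh
  obtain ⟨ξ, hξ⟩ := exists_block_inducing hM P.2 S.P_le_cC le_rfl
    (Subgroup.centralizer_le_normalizer _) hB
    ((br_bBar_ne_zero_iff hM hB hBP P.2).mpr ⟨1, by rw [map_conj_one]⟩)
  obtain ⟨θ, ⟨hθb, hθ⟩, -⟩ := (card_block_of_induced S hM hBP hξ).1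
  refine ⟨θ, hθ, ?_⟩
  obtain ⟨h1', -⟩ := blk_spec S hM θ
  obtain ⟨χ', hχ'⟩ := block_nonempty h1'.2.1
  refine block_eq_of_mem h1'.2.1 hB hχ' ((mem_block_iff hB (self_mem_blockOf χ)).mpr fun g => ?_)
  have a := hξ.2.2 θ hθb χ (self_mem_blockOf χ) g
  have b := h1'.2.2 θ (self_mem_blockOf θ) χ' hχ' g
  have := memLocalIdeal_sub b a
  rwa [sub_sub_sub_cancel_left] at this

/-- The counting formula. -/
theorem card_mul_count (hM : IsPModular p M) [Fintype (trivSet P)] :
    Nat.card (cN P) * Nat.card {χ : IrrCharacter G // ¬ p ∣ charDegree (χ : G → ℂ)} =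
      ∑ θ : trivSet P, weight S θ := by
  classical
  set A := (Finset.univ : Finset (IrrCharacter G)).filter fun χ : IrrCharacter G => ¬ p ∣ charDegree (χ : G → ℂ)
  set R := (Finset.univ : Finset (trivSet P)).image fun θ => blk S hM θ.1
  have hmaps : ∀ χ ∈ A, blockOf M (χ : G → ℂ) ∈ R := fun χ hχ => by
    obtain ⟨θ, hθ, e⟩ := exists_blk_eq S hM (Finset.mem_filter.mp hχ).2
    exact Finset.mem_image.mpr ⟨⟨θ, hθ⟩, Finset.mem_univ _, e⟩
  rw [Nat.card_eq_fintype_card (α := {χ : IrrCharacter G // _}), Fintype.card_subtype,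
    Finset.card_eq_sum_card_fiberwise (f := fun χ : IrrCharacter G => blockOf M (χ : G → ℂ)) (t := R)
      hmaps,
    ← Finset.sum_fiberwise_of_maps_to (s := (Finset.univ : Finset (trivSet P))) (t := R)
      (g := fun θ => blk S hM θ.1) (fun θ hθ => Finset.mem_image_of_mem _ hθ), Finset.mul_sum]
  refine Finset.sum_congr rfl fun B hB => ?_
  obtain ⟨⟨θ, hθ⟩, -, rfl⟩ := Finset.mem_image.mp hB
  obtain ⟨hcard, hdeg⟩ := card_blk S hM hθ
  obtain ⟨hind, -⟩ := blk_spec S hM θ
  have hA : (A.filter fun χ : IrrCharacter G => blockOf M (χ : G → ℂ) = blk S hM θ).card =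
      Nat.card (blk S hM θ) := by
    rw [Nat.card_eq_fintype_card, ← Set.toFinset_card]
    congr 1
    ext χ
    simp only [A, Finset.mem_filter, Finset.mem_univ, true_and, Set.mem_toFinset]
    constructor
    · rintro ⟨-, e⟩
      rw [← e]; exact self_mem_blockOf χ
    · intro h
      exact ⟨hdeg χ h, block_eq_of_mem (isPBlock_blockOf χ) hind.2.1 (self_mem_blockOf χ) h⟩
  rw [hA, hcard]
  have hw : ∀ η ∈ (Finset.univ : Finset (trivSet P)).filter
      (fun η => blk S hM η.1 = blk S hM θ), weight S η.1 = weight S θ := by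
    intro η hη
    obtain ⟨n, hn⟩ := exists_conj_of_blk_eq S hM hθ η.2 (Finset.mem_filter.mp hη).2
    rw [weight, weight, ← hn, stab_compIrr]
  rw [Finset.sum_congr rfl hw, Finset.sum_const, smul_eq_mul, weight, ← mul_assoc]
  congr 1
  rw [← Subgroup.card_mul_index (stab S θ), mul_comm]
  congr 1
  have hmem : ∀ n : cN P, compIrr (S.cj n) θ ∈ trivSet P := fun n c hc => by
    rw [coe_compIrr, coe_compIrr, map_one]
    refine hθ _ ?_
    rw [S.coe_cj]
    exact (Subgroup.mem_normalizer_iff.mp n.2 _).mp hc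
  have hc : ∀ a b : cN P, ∀ η : IrrCharacter (cC P),
      compIrr (S.cj b) (compIrr (S.cj a) η) = compIrr (S.cj (a * b)) η := fun a b η =>
    Subtype.ext (funext fun c => by simp [S.cj_mul])
  have h1' : compIrr (S.cj 1) θ = θ := Subtype.ext (funext fun c => by
    rw [coe_compIrr]; exact congrArg _ (Subtype.ext (by simp)))
  rw [Subgroup.index, ← Fintype.card_coe, ← Nat.card_eq_fintype_card]
  refine Nat.card_congr (Equiv.ofBijective (Quotient.lift (fun n : cN P =>
    (⟨⟨compIrr (S.cj n⁻¹) θ, hmem _⟩, Finset.mem_filter.mpr ⟨Finset.mem_univ _,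
      blk_compIrr S hM _ θ⟩⟩ : ((Finset.univ : Finset (trivSet P)).filter
        (fun η => blk S hM η.1 = blk S hM θ) : Finset _))) fun a b hab => ?_) ⟨?_, ?_⟩)
  · have hab := QuotientGroup.leftRel_apply.mp hab
    refine Subtype.ext (Subtype.ext ?_)
    show compIrr (S.cj a⁻¹) θ = compIrr (S.cj b⁻¹) θ
    refine Subtype.ext (funext fun c => ?_)
    have h := (mem_stab_iff S θ).mp hab (S.cj b⁻¹ c)
    rw [← S.cj_mul, mul_assoc, mul_inv_cancel, mul_one] at h
    simpa only [coe_compIrr] using h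
  · intro a b
    induction a using Quotient.inductionOn with
    | h a =>
      induction b using Quotient.inductionOn with
      | h b =>
        intro h
        have h' : compIrr (S.cj a⁻¹) θ = compIrr (S.cj b⁻¹) θ :=
          congrArg (fun t => ((t : trivSet P) : IrrCharacter (cC P))) (congrArg Subtype.val h)
        refine Quotient.sound (QuotientGroup.leftRel_apply.mpr ?_)
        refine (mem_stab_iff S θ).mpr fun c => ?_
        have h'' := congrArg (compIrr (S.cj b)) h'
        rw [hc, hc, inv_mul_cancel, h1'] at h''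
        exact congrFun (congrArg Subtype.val h'') c
  · rintro ⟨⟨η, hη⟩, hf⟩
    obtain ⟨n, hn⟩ := exists_conj_of_blk_eq S hM hθ hη (Finset.mem_filter.mp hf).2
    exact ⟨QuotientGroup.mk n⁻¹, Subtype.ext (Subtype.ext (by show compIrr (S.cj n⁻¹⁻¹) θ = η; rw [inv_inv]; exact hn))⟩

/-- Transport of the weight sum. -/
theorem sum_weight_congr {H : Type v} [Group H] [Fintype H] {Q : Sylow p H}
    (T : Setup Q) (e : cC Q ≃* cC P) (en : cN Q ≃* cN P)
    (hP : ∀ c : cC Q, (c : H) ∈ (Q : Subgroup H) ↔ (e c : G) ∈ (P : Subgroup G))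
    (hcomp : ∀ n c, e (T.cj n c) = S.cj (en n) (e c))
    [Fintype (trivSet P)] [Fintype (trivSet Q)] :
    ∑ θ : trivSet P, weight S θ = ∑ θ : trivSet Q, weight T θ := by
  have hst : ∀ θ : IrrCharacter (cC P), Nat.card (stab T (compIrr e θ)) = Nat.card (stab S θ) := by
    intro θ
    refine Nat.card_congr (en.toEquiv.subtypeEquiv fun n => ?_)
    simp only [mem_stab_iff, coe_compIrr, hcomp, MulEquiv.toEquiv_eq_coe, MulEquiv.coe_toEquiv]
    exact ⟨fun h c => by have := h (e.symm c); rwa [e.apply_symm_apply] at this, fun h c => h (e c)⟩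
  have hC : Nat.card (cC Q) = Nat.card (cC P) := Nat.card_congr e.toEquiv
  let φ : trivSet P ≃ trivSet Q :=
    { toFun := fun θ => ⟨compIrr e θ.1, fun c hc => by
        rw [coe_compIrr, coe_compIrr, map_one]; exact θ.2 _ ((hP c).mp hc)⟩
      invFun := fun θ => ⟨compIrr e.symm θ.1, fun c hc => by
        rw [coe_compIrr, coe_compIrr, map_one]
        exact θ.2 _ ((hP _).mpr (by rwa [e.apply_symm_apply]))⟩
      left_inv := fun θ => Subtype.ext (Subtype.ext (funext fun c => by simp))
      right_inv := fun θ => Subtype.ext (Subtype.ext (funext fun c => by simp)) }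
  refine Fintype.sum_equiv φ _ _ fun θ => ?_
  show weight S θ.1 = weight T (compIrr e θ.1)
  rw [weight, weight, hst, hC]

end Cfsg.Agent.Blocks.D1
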