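import Cfsg.Agent.Lib.Blocks.FirstMain
import Cfsg.Agent.Lib.Blocks.DefectCount
import Cfsg.Agent.Lib.Blocks.Inflation
import Cfsg.Agent.Lib.Blocks.FullDefect
import Cfsg.Agent.Lib.Blocks.Height
import Cfsg.Agent.Lib.OddChar.GaloisChar
import Cfsg.Agent.Lib.CT.Clifford
import Cfsg.Agent.Lib.CT.Tables

/-!
# Blocks fixed by a power map inverting the elements of odd order
-/

set_option linter.unusedSectionVars false

namespace Cfsg.Agent.Blocks

open scoped ComplexConjugate
open CT

universe u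

variable {G : Type u} [Group G] [Finite G] {p : ℕ} {M : Ideal AlgInt} [M.IsPrime] {k : ℕ}

theorem centralizer_pow_coprime (hk : k.Coprime (Nat.card G)) (g : G) :
    Subgroup.centralizer ({g ^ k} : Set G) = Subgroup.centralizer ({g} : Set G) := by
  ext x
  simp only [Subgroup.mem_centralizer_singleton_iff]
  refine ⟨fun h => ?_, fun h => ((show Commute x g from h).pow_right k)⟩
  obtain ⟨m, hm⟩ := exists_pow_eq_self_of_coprime (x := g)
    (hk.coprime_dvd_right (orderOf_dvd_natCard g))
  rw [← hm]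
  exact (show Commute x (g ^ k) from h).pow_right m

theorem pow_injective_coprime (hk : k.Coprime (Nat.card G)) :
    Function.Injective fun g : G => g ^ k :=
  (powCoprime (hk.symm)).injective

/-- The image of an irreducible character under the power map. -/
noncomputable def powIrr (hk : k.Coprime (Nat.card G)) (χ : IrrCharacter G) : IrrCharacter G :=
  letI := Fintype.ofFinite G
  ⟨fun g => (χ : G → ℂ) (g ^ k), OddChar.isIrr_map_pow χ.2 hk⟩

theorem powIrr_apply (hk : k.Coprime (Nat.card G)) (χ : IrrCharacter G) (g : G) :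
    (powIrr hk χ : G → ℂ) g = (χ : G → ℂ) (g ^ k) := rfl

theorem centralChar_powIrr (hk : k.Coprime (Nat.card G)) (χ : IrrCharacter G) (g : G) :
    centralChar (powIrr hk χ : G → ℂ) g = centralChar (χ : G → ℂ) (g ^ k) := by
  simp [centralChar, powIrr_apply, centralizer_pow_coprime hk]

theorem sameBlock_powIrr (hk : k.Coprime (Nat.card G)) {χ ψ : IrrCharacter G}
    (h : SameBlock M (χ : G → ℂ) (ψ : G → ℂ)) :
    SameBlock M (powIrr hk χ : G → ℂ) (powIrr hk ψ : G → ℂ) := fun g => by
  rw [centralChar_powIrr, centralChar_powIrr]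
  exact h _

theorem powIrr_injective (hk : k.Coprime (Nat.card G)) :
    Function.Injective (powIrr (G := G) hk) := fun χ ψ h => Subtype.ext (funext fun g => by
  obtain ⟨x, hx⟩ := (powCoprime hk.symm).surjective g
  have := congrFun (congrArg Subtype.val h) x
  rw [← hx]; exact this)

theorem sameBlock_powIrr_iff (hk : k.Coprime (Nat.card G)) {χ ψ : IrrCharacter G} :
    SameBlock M (powIrr hk χ : G → ℂ) (powIrr hk ψ : G → ℂ) ↔
      SameBlock M (χ : G → ℂ) (ψ : G → ℂ) := by
  refine ⟨fun h g => ?_, sameBlock_powIrr hk⟩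
  obtain ⟨x, rfl⟩ := (powCoprime hk.symm).surjective g
  have := h x
  rwa [centralChar_powIrr, centralChar_powIrr] at this

theorem memLocalIdeal_intCast_iff (hM : IsPModular p M) (z : ℤ) :
    MemLocalIdeal M (z : ℂ) ↔ (p : ℤ) ∣ z := by
  rw [Int.natCast_dvd]
  obtain h | h := Int.natAbs_eq z
  · rw [h, Int.cast_natCast, memLocalIdeal_natCast hM, Int.natAbs_natCast]
  · rw [h, Int.cast_neg, Int.cast_natCast, Int.natAbs_neg, Int.natAbs_natCast,
      ← memLocalIdeal_natCast hM]
    exact ⟨fun h => by simpa using memLocalIdeal_neg h, memLocalIdeal_neg⟩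

theorem inducedCentralChar_powIrr (hk : k.Coprime (Nat.card G)) {H : Subgroup G}
    (hkH : k.Coprime (Nat.card H)) (ξ : IrrCharacter H) (g : G) :
    inducedCentralChar H (powIrr hkH ξ : H → ℂ) g =
      inducedCentralChar H (ξ : H → ℂ) (g ^ k) := by
  unfold inducedCentralChar
  have hbij := (powCoprime hkH.symm).bijective
  refine finsum_mem_eq_of_bijOn (fun h : H => h ^ k) ⟨fun h hh => ?_, fun a _ b _ e => hbij.1 e,
    fun h hh => ?_⟩ fun h _ => by simp [powIrr_apply]
  · obtain ⟨c, hc⟩ := isConj_iff.mp (show IsConj g (h : G) from hh)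
    show IsConj (g ^ k) ((h ^ k : H) : G)
    rw [Subgroup.coe_pow, ← hc, conj_pow]
    exact isConj_iff.mpr ⟨c, rfl⟩
  · obtain ⟨h', hh'⟩ := hbij.2 h
    refine ⟨h', ?_, hh'⟩
    obtain ⟨c, hc⟩ := isConj_iff.mp (show IsConj (g ^ k) (h : G) from hh)
    refine isConj_iff.mpr ⟨c, pow_injective_coprime hk ?_⟩
    show (c * g * c⁻¹) ^ k = (h' : G) ^ k
    rw [conj_pow, hc, ← hh']
    rfl

/-- A normal subgroup of a group of odd order on which an irreducible character is real modulo `M`
lies in the kernel. -/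
theorem eq_deg_of_odd_congr (hM : IsPModular 2 M) {Q : Type u} [Group Q] [Finite Q]
    (hodd : Odd (Nat.card Q)) (hkQ : k.Coprime (Nat.card Q)) (hk₂ : ∀ q : Q, q ^ k = q⁻¹)
    (N : Subgroup Q) [N.Normal] (χ : IrrCharacter Q)
    (h : ∀ n : N, MemLocalIdeal M ((χ : Q → ℂ) n - (χ : Q → ℂ) ((n : Q) ^ k))) (n : N) :
    (χ : Q → ℂ) n = (χ : Q → ℂ) 1 := by
  classical
  haveI := Fintype.ofFinite Q
  haveI := Fintype.ofFinite N
  have hNodd : Odd (Nat.card N) := hodd.of_dvd_nat (Subgroup.card_subgroup_dvd_card N)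
  have hkN : k.Coprime (Nat.card N) := hkQ.coprime_dvd_right (Subgroup.card_subgroup_dvd_card N)
  set r : N → ℂ := fun n => (χ : Q → ℂ) n with hr
  have hrc : IsCharacter N r := isCharacter_restrict N (isCharacter_of_isIrr χ.2)
  -- multiplicities of conjugate constituents agree modulo 2
  have hmult : ∀ η : IrrCharacter N, (mult r (η : N → ℂ) : ℤ) % 2 =
      (mult r (powIrr hkN η : N → ℂ) : ℤ) % 2 := by
    intro η
    have e : classInner r (η : N → ℂ) - classInner r (powIrr hkN η : N → ℂ) =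
        (Nat.card N : ℂ)⁻¹ * ∑ n : N, conj ((η : N → ℂ) n) * (r n - r (n ^ k)) := by
      have e2 : ∑ n : N, r n * conj ((η : N → ℂ) (n ^ k)) =
          ∑ n : N, r (n ^ k) * conj ((η : N → ℂ) n) := by
        refine Fintype.sum_equiv (powCoprime hkN.symm) _ _ fun n => ?_
        have : (n ^ k) ^ k = n := by
          apply Subtype.ext
          simp only [Subgroup.coe_pow]
          rw [hk₂ (n : Q), inv_pow, hk₂, inv_inv]
        show _ = r ((n ^ k) ^ k) * conj ((η : N → ℂ) (n ^ k))
        rw [this]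
      simp only [classInner, powIrr_apply]
      rw [e2, ← mul_sub, ← Finset.sum_sub_distrib]
      congr 1
      exact Finset.sum_congr rfl fun n _ => by ring
    rw [mult_spec hrc (isCharacter_of_isIrr η.2),
      mult_spec hrc (isCharacter_of_isIrr (powIrr hkN η).2)] at e
    have h0 : MemLocalIdeal M ((Nat.card N : ℂ) *
        (((mult r (η : N → ℂ) : ℤ) - (mult r (powIrr hkN η : N → ℂ) : ℤ) : ℤ) : ℂ)) := by
      push_cast
      rw [e, ← mul_assoc, mul_inv_cancel₀ card_ne_zero, one_mul]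
      refine Finset.sum_induction _ (MemLocalIdeal M) (fun a b => memLocalIdeal_add)
        memLocalIdeal_zero fun n _ => memLocalIdeal_mul_left
          (integral_mem_loc (isIntegral_conj (isIntegral_irr η.2 n))) ?_
      simpa [hr] using h n
    have h1 := memLocalIdeal_of_mul (M := M) (integral_mem_loc (by simpa using (isIntegral_algebraMap (R := ℤ) (A := ℂ) (x := (mult r (η : N → ℂ) : ℤ) - (mult r (powIrr hkN η : N → ℂ) : ℤ)))))
      (integral_mem_loc (CT.isIntegral_natCast _))
      (fun hc => (Nat.not_even_iff_odd.mpr hNodd) (even_iff_two_dvd.mpr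
        ((memLocalIdeal_natCast hM _).mp hc))) h0
    have h2 : (2 : ℤ) ∣ (mult r (η : N → ℂ) : ℤ) - (mult r (powIrr hkN η : N → ℂ) : ℤ) :=
      by exact_mod_cast (memLocalIdeal_intCast_iff hM _).mp h1
    omega
  -- the constituents form an orbit of odd size stable under conjugation
  obtain ⟨φ, hφ⟩ := exists_constituent hrc fun h0 => irr_one_ne_zero χ.2
    (by simpa [hr] using congrFun h0 1)
  have hd := clifford_mult N χ.2 φ.2 hφ
  have hdo : Odd (deg (χ : Q → ℂ)) := hodd.of_dvd_nat (by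
    obtain ⟨n, ρ, hρ, hχρ⟩ := χ.2
    rw [← hχρ, deg_eq_finrank]
    exact finrank_dvd_card ρ)
  rw [hd, Nat.odd_mul, Nat.odd_mul] at hdo
  set O := conjOrbit N (φ : N → ℂ) with hO
  have hOirr : ∀ ψ ∈ O, IsIrrCharacter N ψ := fun ψ hψ => by
    obtain ⟨g, rfl⟩ := (mem_conjOrbit N).mp hψ
    exact isIrrCharacter_conjFun N g φ.2
  have hstab : ∀ ψ ∈ O, (fun n => ψ (n ^ k)) ∈ O := by
    intro ψ hψ
    have hψi := hOirr ψ hψ
    obtain ⟨g, hg⟩ := (mem_conjOrbit N).mp hψ
    have hm : mult r ψ = mult r (φ : N → ℂ) := by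
      have := classInner_restrict_conjFun N (isClassFunction_of_isIrr χ.2) (φ : N → ℂ) g
      rw [hg, mult_spec hrc (isCharacter_of_isIrr hψi),
        mult_spec hrc (isCharacter_of_isIrr φ.2)] at this
      exact_mod_cast this
    have := hmult ⟨ψ, hψi⟩
    rw [hm] at this
    have hne : mult r (powIrr hkN ⟨ψ, hψi⟩ : N → ℂ) ≠ 0 := fun h0 => by
      obtain ⟨⟨c, hc⟩, -⟩ := hdo.1
      rw [h0, hc] at this
      omega
    exact (mem_conjOrbit N).mpr (exists_conj_of_constituent N χ.2 φ.2 (powIrr hkN ⟨ψ, hψi⟩).2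
      hφ (show classInner r (powIrr hkN ⟨ψ, hψi⟩ : N → ℂ) ≠ 0 by
        rw [mult_spec hrc (isCharacter_of_isIrr (powIrr hkN ⟨ψ, hψi⟩).2)]
        exact_mod_cast hne))
  have hkk : ∀ n : N, (n ^ k) ^ k = n := fun n => by
    apply Subtype.ext
    simp only [Subgroup.coe_pow]
    rw [hk₂ (n : Q), inv_pow, hk₂, inv_inv]
  obtain ⟨ψ, hψ, hfix⟩ : ∃ ψ ∈ O, (fun n => ψ (n ^ k)) = ψ := by
    by_contra hno
    push Not at hno
    have h0 : ∑ ψ ∈ O, (1 : ZMod 2) = 0 :=
      Finset.sum_involution (fun ψ _ => fun n => ψ (n ^ k)) (fun _ _ => by decide)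
        (fun ψ hψ _ => hno ψ hψ) hstab (fun ψ _ => funext fun n => by simp [hkk])
    rw [Finset.sum_const, nsmul_eq_mul, mul_one, ZMod.natCast_eq_zero_iff] at h0
    rw [hO, card_conjOrbit] at h0
    exact (Nat.not_even_iff_odd.mpr hdo.1.2) (even_iff_two_dvd.mpr h0)
  have hψi := hOirr ψ hψ
  have hreal : ∀ n : N, (ψ n).im = 0 := fun n => by
    have h2 : ψ (n ^ k) = ψ n := congrFun hfix n
    rw [show n ^ k = n⁻¹ from Subtype.ext (by simp [hk₂]),
      char_inv_eq_conj (isCharacter_of_isIrr hψi)] at h2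
    exact Complex.conj_eq_iff_im.mp h2
  have h1 : ψ = fun _ => 1 := congrArg Subtype.val
    (real_irr_eq_one_of_odd hNodd (χ := ⟨ψ, hψi⟩) hreal)
  obtain ⟨g, hg⟩ := (mem_conjOrbit N).mp hψ
  have hin : classInner r ψ ≠ 0 := by
    rw [← hg, classInner_restrict_conjFun N (isClassFunction_of_isIrr χ.2)]
    exact hφ
  have hres := restrict_eq_smul_of_invariant N χ.2 hψi hin fun g => by
    subst h1; rfl
  have e1 := congrFun hres n
  have e2 := congrFun hres 1
  simp only [Pi.smul_apply, h1, smul_eq_mul, OneMemClass.coe_one] at e1 e2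
  rw [e1, e2]

theorem blockDefect_eq_of_normal_sylow (hM : IsPModular p M) {P : Subgroup G} [P.Normal]
    (hP : IsPGroup p P) (hidx : ¬ p ∣ P.index) {B : Set (IrrCharacter G)} (hB : IsPBlock M B) :
    blockDefect p B = (Nat.card G).factorization p := by
  haveI : Fact p.Prime := ⟨hM.1⟩
  obtain ⟨D, hD⟩ := exists_defectGroup (p := p) hB
  have h1 := Subgroup.card_le_of_le (normal_le_defect hM hB hP hD)
  rw [factorization_card_of_index hP hidx, card_defectGroup hM hB hD] at h1
  exact le_antisymm (Nat.sub_le _ _) ((Nat.pow_le_pow_iff_right hM.1.one_lt).mp h1)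

/-- With a normal Sylow 2-subgroup only the principal block is stable. -/
theorem eq_principal_of_stable_normal (hM : IsPModular 2 M) (hk : k.Coprime (Nat.card G))
    (hk₂ : ∀ g : G, Odd (orderOf g) → g ^ k = g⁻¹) {P : Subgroup G} [P.Normal]
    (hP : IsPGroup 2 P) (hidx : ¬ 2 ∣ P.index) {b : Set (IrrCharacter G)} (hb : IsPBlock M b)
    (hst : ∀ χ ∈ b, powIrr hk χ ∈ b) : b = principalBlock M G := by
  classical
  haveI : Fact (Nat.Prime 2) := ⟨Nat.prime_two⟩
  haveI := Fintype.ofFinite G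
  obtain ⟨χ, hχ⟩ := exists_trivial_on_pGroup hM hP hb
  set a := (Nat.card G).factorization 2 with ha
  have hfull : ∀ B : Set (IrrCharacter G), IsPBlock M B → blockDefect 2 B = a := fun B hB =>
    blockDefect_eq_of_normal_sylow hM hP hidx hB
  -- regular elements of full defect centralize `P`
  have hcen : ∀ x : G, (Nat.card (Subgroup.centralizer ({x} : Set G))).factorization 2 = a →
      x ∈ Subgroup.centralizer (P : Set G) := by
    intro x hx
    let S : Sylow 2 (Subgroup.centralizer ({x} : Set G)) := default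
    have hSP : (S : Subgroup (Subgroup.centralizer ({x} : Set G))).map
        (Subgroup.centralizer ({x} : Set G)).subtype ≤ P := fun u hu => by
      obtain ⟨j, hj⟩ := IsPGroup.iff_orderOf.mp (S.isPGroup'.map _) ⟨u, hu⟩
      exact mem_of_pElement hidx ⟨j, by rwa [Subgroup.orderOf_mk] at hj⟩
    have heq := Subgroup.eq_of_le_of_card_ge hSP
      (by rw [factorization_card_of_index hP hidx, card_sylow_map, hx])
    refine le_centralizer_singleton.mp ?_
    rw [← heq]
    exact Subgroup.map_subtype_le _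
  have hQodd : Odd (Nat.card (G ⧸ P)) := by
    rw [← Subgroup.index_eq_card]
    exact Nat.odd_iff.mpr (Nat.two_dvd_ne_zero.mp hidx)
  have hkQ : k.Coprime (Nat.card (G ⧸ P)) :=
    hk.coprime_dvd_right (by rw [← Subgroup.index_eq_card]; exact P.index_dvd_card)
  have hQ2 : ∀ q : G ⧸ P, q ^ k = q⁻¹ := fun q => by
    obtain ⟨g, hg, rfl⟩ := exists_regular_lift (p := 2) (N := P) (x := q)
      fun h => (Nat.not_even_iff_odd.mpr hQodd)
        (even_iff_two_dvd.mpr (h.trans (orderOf_dvd_natCard q)))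
    rw [← QuotientGroup.mk_pow, hk₂ g (Nat.odd_iff.mpr (Nat.two_dvd_ne_zero.mp hg))]
    rfl
  set N : Subgroup (G ⧸ P) :=
    (Subgroup.centralizer (P : Set G)).map (QuotientGroup.mk' P) with hN
  haveI : N.Normal := Subgroup.Normal.map inferInstance _ (QuotientGroup.mk'_surjective P)
  have hreal : ∀ n : N, MemLocalIdeal M ((χ : G ⧸ P → ℂ) n - (χ : G ⧸ P → ℂ) ((n : G ⧸ P) ^ k)) := by
    rintro ⟨_, c, hc, rfl⟩
    have h := (mem_block_iff hb hχ).mp (hst _ hχ) c
    rw [centralChar_powIrr] at h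
    simp only [centralChar, centralizer_pow_coprime hk, inflIrr_apply] at h
    have hodd : ¬ 2 ∣ (Subgroup.centralizer ({c} : Set G)).index := fun h2 =>
      hidx (h2.trans (Subgroup.index_dvd_of_le (le_centralizer_singleton.mpr hc)))
    have hd1 : (χ : G ⧸ P → ℂ) ((1 : G) : G ⧸ P) ≠ 0 := by
      rw [QuotientGroup.mk_one]; exact irr_one_ne_zero χ.2
    set i := (Subgroup.centralizer ({c} : Set G)).index
    set d := charDegree (χ : G ⧸ P → ℂ) with hd
    have hu : MemLocalIdeal M ((i : ℂ) *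
        ((χ : G ⧸ P → ℂ) c - (χ : G ⧸ P → ℂ) ((c ^ k : G) : G ⧸ P))) := by
      have := memLocalIdeal_mul_left (integral_mem_loc (CT.isIntegral_natCast d)) h
      rwa [hd, ← charDegree_cast χ, ← QuotientGroup.mk_one, ← sub_div, mul_div_cancel₀ _ hd1,
        ← mul_sub] at this
    exact memLocalIdeal_of_mul
      (integral_mem_loc ((isIntegral_irr χ.2 _).sub (isIntegral_irr χ.2 _)))
      (integral_mem_loc (CT.isIntegral_natCast i))
      (fun h => hodd ((memLocalIdeal_natCast hM i).mp h)) hu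
  have hker := eq_deg_of_odd_congr hM hQodd hkQ hQ2 N χ hreal
  have hs : SameBlock M (inflIrr χ : G → ℂ) ((trivIrr G : IrrCharacter G) : G → ℂ) := by
    refine (sameBlock_iff_of_defect (d := a) hM (hfull _ (isPBlock_blockOf _))
      (hfull _ (isPBlock_blockOf _))).mpr fun x hx hxd => ?_
    have e : centralChar (inflIrr χ : G → ℂ) x = centralChar (fun _ : G => (1 : ℂ)) x := by
      simp only [centralChar, inflIrr_apply]
      rw [show (χ : G ⧸ P → ℂ) (x : G ⧸ P) = (χ : G ⧸ P → ℂ) 1 from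
          hker ⟨_, x, hcen x hxd, rfl⟩, QuotientGroup.mk_one,
        mul_div_assoc, div_self (irr_one_ne_zero χ.2), div_one, mul_one]
    rw [show ((trivIrr G : IrrCharacter G) : G → ℂ) = fun _ => 1 from rfl, e, sub_self]
    exact memLocalIdeal_zero
  refine block_eq_of_mem hb ⟨trivIrr G, rfl⟩ hχ ?_
  intro g
  have := memLocalIdeal_neg (hs g)
  rwa [neg_sub] at this

/-- A full defect 2-block stable under the power map is the principal block. -/
theorem eq_principal_of_stable (hM : IsPModular 2 M) (hk : k.Coprime (Nat.card G))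
    (hk₂ : ∀ g : G, Odd (orderOf g) → g ^ k = g⁻¹) {B : Set (IrrCharacter G)}
    (hB : IsPBlock M B) (hdef : blockDefect 2 B = (Nat.card G).factorization 2)
    (hst : ∀ χ ∈ B, powIrr hk χ ∈ B) : B = principalBlock M G := by
  haveI : Fact (Nat.Prime 2) := ⟨Nat.prime_two⟩
  obtain ⟨D, hD⟩ := exists_defectGroup (p := 2) hB
  obtain ⟨-, -, -, hDp, -⟩ := defectGroup_spec hD
  set N := Subgroup.normalizer (D : Set G) with hNdef
  obtain ⟨b, hb, hbD, hind⟩ := exists_normalizer_block hM hB hD
  have hkN : k.Coprime (Nat.card N) := hk.coprime_dvd_right (Subgroup.card_subgroup_dvd_card N)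
  have hstb : ∀ ξ ∈ b, powIrr hkN ξ ∈ b := by
    intro ξ hξ
    have hb' : IsInducedBlock M N (blockOf M (powIrr hkN ξ : N → ℂ)) B := by
      refine ⟨⟨_, rfl⟩, hB, fun η hη χ hχ g => ?_⟩
      obtain ⟨ξ', rfl⟩ := (Finite.injective_iff_surjective.mp (powIrr_injective hkN)) η
      obtain ⟨χ', rfl⟩ := (Finite.injective_iff_surjective.mp (powIrr_injective hk)) χ
      rw [inducedCentralChar_powIrr hk hkN, centralChar_powIrr]
      have hξ' : ξ' ∈ b := (mem_block_iff hb hξ).mpr (sameBlock_powIrr_iff hkN |>.mp hη)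
      obtain ⟨χ₀, hχ₀⟩ := block_nonempty hB
      have hχ' : χ' ∈ B := by
        have := (mem_block_iff hB (hst _ hχ₀)).mp hχ
        exact (mem_block_iff hB hχ₀).mpr ((sameBlock_powIrr_iff hk).mp this)
      exact hind.2.2 ξ' hξ' χ' hχ' _
    rw [induced_normalizer_unique hM hDp hbD hind hb']
    exact self_mem_blockOf _
  have hDN : D ≤ N := Subgroup.le_normalizer
  haveI : (D.subgroupOf N).Normal := Subgroup.normal_in_normalizer
  have hidx : ¬ 2 ∣ (D.subgroupOf N).index := by
    intro h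
    have h1 : 2 ^ ((Nat.card G).factorization 2 + 1) ∣ Nat.card G := by
      refine dvd_trans ?_ (Subgroup.card_subgroup_dvd_card N)
      rw [← (D.subgroupOf N).card_mul_index, card_subgroupOf hDN, card_defectGroup hM hB hD, hdef,
        pow_succ]
      exact mul_dvd_mul_left _ h
    exact absurd ((Nat.prime_two.pow_dvd_iff_le_factorization Nat.card_pos.ne').mp h1) (by omega)
  have hbp := eq_principal_of_stable_normal hM hkN
    (fun g hg => Subtype.ext (by simpa using hk₂ g (by rwa [Subgroup.orderOf_coe])))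
    (hDp.of_equiv (Subgroup.subgroupOfEquivOfLe hDN).symm) hidx hb hstb
  subst hbp
  obtain ⟨χ, hχ⟩ := block_nonempty hB
  have h3 : IsInducedBlock M N (principalBlock M N) (principalBlock M G) :=
    (third_main hM ⟨B, hind⟩).mpr rfl
  exact inducedBlock_unique hind h3

end Cfsg.Agent.Blocks
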