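import Cfsg.Agent.Lib.Blocks.DefectOne
import Cfsg.Agent.Lib.CT.SmallFaithful.Counting
import Cfsg.Agent.Lib.CT.GaloisFixed

/-!
# The exceptional family of a block of defect one
-/

set_option linter.unusedSectionVars false

namespace Cfsg.Agent.Blocks.D1

open scoped ComplexConjugate Classical
open CT.SmallFaithful

universe u

variable {p : ℕ} [hp : Fact p.Prime] {G : Type u} [Group G] [Fintype G] {P : Sylow p G}
variable (S : Setup P)
include S

/-- Regular elements are fixed by the exponents. -/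
theorem pow_expo_regular (k : (ZMod p)ˣ) {g : G} (hg : ¬ p ∣ orderOf g) :
    g ^ expo (P := P) k = g := by
  have hd : orderOf g ∣ (P : Subgroup G).index := by
    have h1 : orderOf g ∣ p * (P : Subgroup G).index := card_eq_mul S ▸ orderOf_dvd_natCard g
    exact ((hp.out.coprime_iff_not_dvd.mpr hg).symm.dvd_of_dvd_mul_left h1)
  conv_rhs => rw [← pow_one g]
  rw [pow_eq_pow_iff_modEq]
  exact (expo_modEq k).of_dvd hd

theorem sig_apply_regular (k : (ZMod p)ˣ) (ξ : IrrCharacter G) {g : G} (hg : ¬ p ∣ orderOf g) :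
    (sig S k ξ : G → ℂ) g = (ξ : G → ℂ) g := by
  rw [sig_apply, pow_expo_regular S k hg]

theorem sig_mul (k l : (ZMod p)ˣ) (ξ : IrrCharacter G) :
    sig S (k * l) ξ = sig S k (sig S l ξ) := by
  refine Subtype.ext (funext fun g => ?_)
  rw [sig_apply, sig_apply, sig_apply, pow_expo_mul S]

theorem sig_one (ξ : IrrCharacter G) : sig S 1 ξ = ξ := by
  refine Subtype.ext (funext fun g => ?_)
  rw [sig_apply, pow_expo_one S]

theorem sig_injective (k : (ZMod p)ˣ) : Function.Injective (sig S k) := fun a b e => by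
  rw [← sig_one S a, ← sig_one S b, ← inv_mul_cancel k, sig_mul, sig_mul, e]

/-- Blocks are closed under the action. -/
theorem sig_mem {M : Ideal AlgInt} [M.IsPrime] (hM : IsPModular p M)
    {B : Set (IrrCharacter G)} (hB : IsPBlock M B) (k : (ZMod p)ˣ) {ξ : IrrCharacter G}
    (hξ : ξ ∈ B) : sig S k ξ ∈ B := by
  by_contra h
  have h1 := omega_idemC B ξ
  have h2 := omega_idemC B (sig S k ξ)
  rw [if_pos hξ] at h1
  rw [if_neg h] at h2
  refine one_ne_zero (α := ℂ) (h1.symm.trans (Eq.trans ?_ h2))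
  rw [omega, omega, idemC, ev_ofFun, ev_ofFun,
    sig_apply_regular S k ξ (g := 1) (by rw [orderOf_one]; exact hp.out.not_dvd_one)]
  congr 1
  refine Finset.sum_congr rfl fun g _ => ?_
  by_cases hg : p ∣ orderOf g
  · rw [blockCoeff_block_eq_zero hM hB hg, zero_mul, zero_mul]
  · rw [sig_apply_regular S k ξ hg]

variable (θ : IrrCharacter (cC P))
  (hθ : ∀ c : cC P, (c : G) ∈ (P : Subgroup G) → (θ : cC P → ℂ) c = (θ : cC P → ℂ) 1)
include hθ

theorem theta_pow_expo (k : (ZMod p)ˣ) (c : cC P) :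
    (θ : cC P → ℂ) (c ^ expo (P := P) k) = (θ : cC P → ℂ) c := by
  obtain ⟨y, hy, hy0⟩ := S.exists_decomp c
  have hyp : y ^ expo (P := P) k = y :=
    Subtype.ext (by
      rw [SubmonoidClass.coe_pow]
      exact pow_expo_regular S k ((S.ell_eq_zero_iff y).mp hy0))
  obtain ⟨q, hq⟩ : ∃ q : ZMod p, (S.xC ^ (S.ell c).val) ^ expo (P := P) k = S.xC ^ q.val :=
    ⟨(((S.ell c).val * expo (P := P) k : ℕ) : ZMod p), by
      rw [← pow_mul, pow_eq_pow_iff_modEq, S.orderOf_xC, ZMod.val_natCast]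
      exact (Nat.mod_modEq _ _).symm⟩
  conv_rhs => rw [hy, theta_xpow_mul S θ hθ]
  conv_lhs => rw [hy, (S.xC_central _ y).mul_pow, hyp, hq, theta_xpow_mul S θ hθ]

theorem Lam_pow_expo (k : (ZMod p)ˣ) (i : ZMod p) (c : cC P) :
    (Lam S θ i : cC P → ℂ) (c ^ expo (P := P) k) = (Lam S θ (k * i) : cC P → ℂ) c := by
  rw [Lam_apply, Lam_apply, theta_pow_expo S θ hθ, ell_pow_expo, mul_left_comm, mul_assoc]

theorem mlt_sig (k : (ZMod p)ˣ) (ξ : IrrCharacter G) (i : ZMod p) :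
    mlt S θ (sig S k ξ) (k * i) = mlt S θ ξ i := by
  have h : classInner (fun c : cC P => (sig S k ξ : G → ℂ) c) (Lam S θ (k * i) : cC P → ℂ) =
      classInner (fun c : cC P => (ξ : G → ℂ) c) (Lam S θ i : cC P → ℂ) := by
    have hco : (expo (P := P) k).Coprime (Nat.card (cC P)) :=
      (expo_coprime S k).coprime_dvd_right (Subgroup.card_subgroup_dvd_card _)
    simp only [classInner]
    congr 1
    refine Fintype.sum_equiv (powCoprime hco.symm) _ _ fun c => ?_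
    simp only [powCoprime_apply, sig_apply, Lam_pow_expo S θ hθ, SubmonoidClass.coe_pow]
  rw [classInner_res, classInner_res] at h
  exact_mod_cast h

theorem av_sig (k : (ZMod p)ˣ) (ξ : IrrCharacter G) (i : ZMod p) :
    av S θ (sig S k ξ) (k * i) = av S θ ξ i := by
  rw [av, av, mlt_sig S θ hθ, show mlt S θ (sig S k ξ) 0 = mlt S θ ξ 0 from ?_]
  simpa using mlt_sig S θ hθ k ξ 0

variable {M : Ideal AlgInt} [M.IsPrime] (hM : IsPModular p M)
variable {B : Set (IrrCharacter G)} (hBP : IsDefectGroup p M B (P : Subgroup G))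
variable {b : Set (IrrCharacter (cC P))} (hind : IsInducedBlock M (cC P) b B) (hθb : θ ∈ b)
include hM hBP hind hθb

theorem stable_sum_singular {T : Finset (IrrCharacter G)} (hT : ∀ χ ∈ T, χ ∈ B)
    (hst : ∀ (k : (ZMod p)ˣ), ∀ χ ∈ T, sig S k χ ∈ T) :
    ∃ v : ℤ, ∀ c : cC P, S.ell c ≠ 0 →
      (Nat.card (stab S θ) : ℂ) * ∑ χ ∈ T, (χ : G → ℂ) c =
        (v : ℂ) * ∑ n : cN P, (θ : cC P → ℂ) (S.cj n c) := by
  refine ⟨-∑ χ ∈ T, av S θ χ 1, fun c hc => ?_⟩
  rw [Int.cast_neg]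
  refine sum_apply_singular S θ hθ hM hBP hind hθb hT (fun i hi => ?_) hc
  refine (Finset.sum_bij (fun χ _ => sig S (Units.mk0 i hi) χ) (fun χ hχ => hst _ χ hχ)
    (fun a _ b _ e => sig_injective S _ e)
    (fun χ hχ => ⟨sig S (Units.mk0 i hi)⁻¹ χ, hst _ χ hχ, by
      rw [← sig_mul, mul_inv_cancel, sig_one]⟩)
    fun χ _ => ?_).symm
  simpa using (av_sig S θ hθ (Units.mk0 i hi) χ 1).symm

/-- A block of defect one is a union of fixed characters and one exceptional orbit. -/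
theorem exists_exceptional :
    ∃ (e : ℕ) (Y : Set (IrrCharacter G)) (δ : IrrCharacter G → ℤ),
      0 < e ∧ e ∣ p - 1 ∧ Y ⊆ B ∧ Y.Nonempty ∧ Nat.card Y = (p - 1) / e ∧ Nat.card B = e + (p - 1) / e ∧
      (∀ χ ∈ B, χ ∉ Y → ∀ k, sig S k χ = χ) ∧
      (∀ ψ ∈ Y, ∀ ψ', (∃ k, ψ' = sig S k ψ) ↔ ψ' ∈ Y) ∧
      (∀ χ ∈ B, δ χ = 1 ∨ δ χ = -1) ∧
      ∀ g : G, ¬ p ∣ orderOf g → ∀ ψ ∈ Y,
        (∑ᶠ χ ∈ B \ Y, (δ χ : ℂ) * (χ : G → ℂ) g) + (δ ψ : ℂ) * (ψ : G → ℂ) g = 0 := by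
  obtain ⟨e, X, Y, εX, ε, -, hdvd, hXY, hdis, hXc, hYc, hX, hε, -, hag, hrel⟩ :=
    exists_structure S θ hθ hM hBP hind hθb
  have hp1 : p - 1 ≠ 0 := by have := hp.out.two_le; omega
  have he : 0 < e := Nat.pos_of_dvd_of_pos hdvd (Nat.pos_of_ne_zero hp1)
  have hYsub : Y ⊆ B := hXY ▸ Set.subset_union_right
  have hXsub : X ⊆ B := hXY ▸ Set.subset_union_left
  have hdiff : B \ Y = X := by rw [hXY, Set.union_sdiff_cancel_right hdis.le_bot]
  have hB := hind.2.1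
  -- the fixed part
  have hfix : ∀ χ ∈ X, ∀ k, sig S k χ = χ := by
    intro χ hχ k
    refine Subtype.ext (funext fun g => ?_)
    by_cases hg : p ∣ orderOf g
    · obtain ⟨h, hm, hell⟩ := S.exists_conj_mem hg
      have hcl := CT.isClassFunction_of_isIrr χ.2
      have hcl' := CT.isClassFunction_of_isIrr (sig S k χ).2
      have hconj : IsConj g (h⁻¹ * g * h) := isConj_iff.mpr ⟨h⁻¹, by rw [inv_inv]⟩
      rw [CT.isClassFunction_isConj hcl' hconj, CT.isClassFunction_isConj hcl hconj]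
      obtain ⟨-, -, hv⟩ := hX χ hχ
      set c : cC P := ⟨_, hm⟩
      have hc' : S.ell (c ^ expo (P := P) k) ≠ 0 := by
        rw [ell_pow_expo]; exact mul_ne_zero k.ne_zero hell
      refine mul_left_cancel₀ (Nat.cast_ne_zero.mpr (Nat.card_pos (α := stab S θ)).ne') ?_
      refine ((congrArg _ ?_).trans (hv _ hc')).trans (Eq.trans ?_ (hv c hell).symm)
      · rw [sig_apply, SubmonoidClass.coe_pow]
      · congr 1
        exact Finset.sum_congr rfl fun n _ => by rw [map_pow, theta_pow_expo S θ hθ]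
    · exact sig_apply_regular S k χ hg
  have hYclosed : ∀ ψ ∈ Y, ∀ k, sig S k ψ ∈ Y := by
    intro ψ hψ k
    have h := sig_mem S hM hB k (hYsub hψ)
    rw [hXY] at h
    refine h.resolve_left fun hx => ?_
    have e1 := hfix _ hx k⁻¹
    rw [← sig_mul, inv_mul_cancel, sig_one] at e1
    exact Set.disjoint_left.mp hdis (e1 ▸ hx : ψ ∈ X) hψ
  -- a fixed member and its values on the singular elements
  obtain ⟨χ₀, hχ₀⟩ : X.Nonempty := Set.nonempty_of_ncard_ne_zero (by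
    rw [← Nat.card_coe_set_eq, hXc]; exact he.ne')
  obtain ⟨hs₀, -, hv₀⟩ := hX χ₀ hχ₀
  set Sg := Finset.univ.filter fun g : G => p ∣ orderOf g
  set N : ℂ := ∑ g ∈ Sg, (χ₀ : G → ℂ) g * conj ((χ₀ : G → ℂ) g)
  have hN : N ≠ 0 := by
    have hx0 : (χ₀ : G → ℂ) S.x ≠ 0 := by
      intro h0
      have h := hv₀ S.xC (by rw [S.ell_xC]; exact one_ne_zero)
      rw [show (S.xC : G) = S.x from rfl, h0, mul_zero, Finset.sum_congr rfl fun n _ =>
        hθ _ ((Subgroup.mem_normalizer_iff.mp n.2 _).mp S.x_mem_P), Finset.sum_const,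
        Finset.card_univ, nsmul_eq_mul] at h
      have hc : (εX χ₀ : ℂ) ≠ 0 := by rcases hs₀ with h' | h' <;> rw [h'] <;> norm_num
      exact mul_ne_zero hc (mul_ne_zero (Nat.cast_ne_zero.mpr Fintype.card_ne_zero)
        (CT.irr_one_ne_zero θ.2)) h.symm
    have hmem : S.x ∈ Sg := by simp [Sg, S.hx]
    intro h0
    have h1 : ∑ g ∈ Sg, Complex.normSq ((χ₀ : G → ℂ) g) = 0 := by
      have : ((∑ g ∈ Sg, Complex.normSq ((χ₀ : G → ℂ) g) : ℝ) : ℂ) = 0 := by
        rw [← h0, Complex.ofReal_sum]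
        exact Finset.sum_congr rfl fun g _ => (Complex.mul_conj _).symm
      exact_mod_cast this
    rw [Finset.sum_eq_zero_iff_of_nonneg fun g _ => Complex.normSq_nonneg _] at h1
    exact hx0 (Complex.normSq_eq_zero.mp (h1 _ hmem))
  -- stable parts of the exceptional set
  have key : ∀ T : Finset (IrrCharacter G), (∀ χ ∈ T, χ ∈ Y) →
      (∀ (k : (ZMod p)ˣ), ∀ χ ∈ T, sig S k χ ∈ T) → ∀ ψ ∈ Y, ∃ lam : ℂ,
        (∀ g : G, p ∣ orderOf g → ∑ χ ∈ T, (χ : G → ℂ) g = lam * (χ₀ : G → ℂ) g) ∧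
        lam * N = -((T.card : ℂ) *
          ∑ g ∈ Finset.univ.filter (fun g : G => ¬ p ∣ orderOf g),
            (ψ : G → ℂ) g * conj ((χ₀ : G → ℂ) g)) := by
    intro T hT hst ψ hψ
    obtain ⟨v, hv⟩ := stable_sum_singular S θ hθ hM hBP hind hθb (fun χ h => hYsub (hT χ h)) hst
    have hlam : ∀ g : G, p ∣ orderOf g →
        ∑ χ ∈ T, (χ : G → ℂ) g = ((v * εX χ₀ : ℤ) : ℂ) * (χ₀ : G → ℂ) g := by
      intro g hg
      obtain ⟨h, hm, hell⟩ := S.exists_conj_mem hg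
      have hconj : IsConj g (h⁻¹ * g * h) := isConj_iff.mpr ⟨h⁻¹, by rw [inv_inv]⟩
      rw [CT.isClassFunction_isConj (CT.isClassFunction_of_isIrr χ₀.2) hconj,
        Finset.sum_congr rfl fun χ _ =>
          CT.isClassFunction_isConj (CT.isClassFunction_of_isIrr χ.2) hconj]
      refine mul_left_cancel₀ (Nat.cast_ne_zero.mpr (Nat.card_pos (α := stab S θ)).ne') ?_
      refine (hv _ hell).trans ?_
      rw [mul_left_comm, hv₀ _ hell, ← mul_assoc]
      rcases hs₀ with h' | h' <;> rw [h'] <;> simp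
    refine ⟨_, hlam, ?_⟩
    have horth : ∑ g : G, (∑ χ ∈ T, (χ : G → ℂ) g) * conj ((χ₀ : G → ℂ) g) = 0 := by
      simp only [Finset.sum_mul]
      rw [Finset.sum_comm]
      refine Finset.sum_eq_zero fun χ hχ => ?_
      have h0 : classInner (χ : G → ℂ) (χ₀ : G → ℂ) = 0 :=
        CT.irr_inner_of_ne χ.2 χ₀.2 fun e =>
          Set.disjoint_left.mp hdis hχ₀ (Subtype.ext e ▸ hT χ hχ)
      rw [classInner] at h0
      exact (mul_eq_zero.mp h0).resolve_left (inv_ne_zero CT.card_ne_zero)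
    rw [← Finset.sum_filter_add_sum_filter_not Finset.univ (fun g : G => p ∣ orderOf g)] at horth
    rw [eq_neg_iff_add_eq_zero, Finset.mul_sum, Finset.mul_sum]
    refine Eq.trans (congrArg₂ (· + ·) ?_ ?_) horth
    · exact Finset.sum_congr rfl fun g hg => by rw [hlam g (Finset.mem_filter.mp hg).2, mul_assoc]
    · refine Finset.sum_congr rfl fun g hg => ?_
      rw [Finset.sum_congr rfl fun χ hχ => hag χ (hT χ hχ) ψ hψ g (Finset.mem_filter.mp hg).2,
        Finset.sum_const, nsmul_eq_mul, mul_assoc]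
  refine ⟨e, Y, fun χ => if χ ∈ Y then -ε else εX χ, he, hdvd, hYsub, ?_, hYc, ?_,
    fun χ hχ hn k => hfix χ (hdiff ▸ ⟨hχ, hn⟩) k, fun ψ hψ ψ' => ⟨?_, fun hψ' => ?_⟩, ?_, ?_⟩
  · refine Set.nonempty_of_ncard_ne_zero ?_
    rw [← Nat.card_coe_set_eq, hYc]
    obtain ⟨q, hq⟩ := hdvd
    rw [hq, Nat.mul_div_cancel_left _ he]
    rintro rfl
    exact hp1 (by rw [hq, mul_zero])
  · rw [hXY, Nat.card_coe_set_eq, Set.ncard_union_eq hdis (Set.toFinite _) (Set.toFinite _),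
      ← Nat.card_coe_set_eq, ← Nat.card_coe_set_eq, hXc, hYc]
  · rintro ⟨k, rfl⟩
    exact hYclosed ψ hψ k
  · by_contra hno
    set T₁ := Finset.univ.filter fun χ : IrrCharacter G => ∃ k, χ = sig S k ψ
    set T₂ := Finset.univ.filter fun χ : IrrCharacter G => χ ∈ Y ∧ ¬ ∃ k, χ = sig S k ψ
    have m1 : ∀ χ, χ ∈ T₁ ↔ ∃ k, χ = sig S k ψ := fun χ => by simp [T₁]
    have m2 : ∀ χ, χ ∈ T₂ ↔ χ ∈ Y ∧ ¬ ∃ k, χ = sig S k ψ := fun χ => by simp [T₂]
    have hψ1 : ψ ∈ T₁ := (m1 _).mpr ⟨1, (sig_one S ψ).symm⟩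
    have hψ2 : ψ' ∈ T₂ := (m2 _).mpr ⟨hψ', hno⟩
    obtain ⟨l1, hl1, hN1⟩ := key T₁ (fun χ h => by
        obtain ⟨k, rfl⟩ := (m1 χ).mp h; exact hYclosed ψ hψ k)
      (fun k χ h => by
        obtain ⟨l, rfl⟩ := (m1 χ).mp h; exact (m1 _).mpr ⟨k * l, (sig_mul S k l ψ).symm⟩) ψ hψ
    obtain ⟨l2, hl2, hN2⟩ := key T₂ (fun χ h => ((m2 χ).mp h).1)
      (fun k χ h => by
        obtain ⟨hY', hn'⟩ := (m2 χ).mp h
        refine (m2 _).mpr ⟨hYclosed χ hY' k, fun ⟨l, hl⟩ => hn' ⟨k⁻¹ * l, ?_⟩⟩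
        rw [sig_mul, ← hl, ← sig_mul, inv_mul_cancel, sig_one]) ψ hψ
    have hmul : (T₂.card : ℂ) * l1 = (T₁.card : ℂ) * l2 := by
      refine mul_right_cancel₀ hN ?_
      rw [mul_assoc, mul_assoc, hN1, hN2]; ring
    have hF : (T₂.card : ℂ) • (∑ χ ∈ T₁, (χ : G → ℂ)) = (T₁.card : ℂ) • ∑ χ ∈ T₂, (χ : G → ℂ) := by
      funext g
      simp only [Pi.smul_apply, Finset.sum_apply, smul_eq_mul]
      by_cases hg : p ∣ orderOf g
      · rw [hl1 g hg, hl2 g hg, ← mul_assoc, hmul, mul_assoc]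
      · rw [Finset.sum_congr rfl fun χ hχ => hag χ (by
            obtain ⟨k, rfl⟩ := (m1 χ).mp hχ; exact hYclosed ψ hψ k) ψ hψ g hg,
          Finset.sum_congr rfl fun χ hχ => hag χ ((m2 χ).mp hχ).1 ψ hψ g hg,
          Finset.sum_const, Finset.sum_const, nsmul_eq_mul, nsmul_eq_mul]
        ring
    have h := congrArg (fun f => classInner f (ψ : G → ℂ)) hF
    simp only [CT.classInner_smul_left, CT.classInner_sum_left, CT.irr_inner_subtype,
      Finset.sum_ite_eq', if_pos hψ1] at h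
    rw [if_neg (fun hm => ((m2 ψ).mp hm).2 ⟨1, (sig_one S ψ).symm⟩), mul_zero, mul_one] at h
    exact Nat.cast_ne_zero.mpr (Finset.card_ne_zero_of_mem hψ2) h
  · intro χ hχ
    dsimp only
    split_ifs with h
    · omega
    · exact (hX χ (hdiff ▸ ⟨hχ, h⟩)).1
  · intro g hg ψ hψ
    dsimp only
    rw [if_pos hψ, finsum_mem_congr rfl (g := fun χ => (εX χ : ℂ) * (χ : G → ℂ) g)
      (fun χ hχ => by rw [if_neg hχ.2]), hdiff, ← hrel ψ hψ g hg]
    push_cast; ring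

end Cfsg.Agent.Blocks.D1
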