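import Cfsg.Agent.Lib.Blocks.TransLattice
import Cfsg.Agent.Lib.Blocks.LatticeTate
import Cfsg.Agent.Lib.Blocks.SecondMain
import Cfsg.Agent.Lib.CT.Integral
import Cfsg.Agent.Lib.CT.CliffordLe
import Cfsg.Agent.Lib.CT.Kernel
import Cfsg.Agent.Lib.CoprimeExt.Gallagher
import Cfsg.Agent.S0886

/-!
# General tools for the bound in blocks of defect one
-/

set_option linter.unusedSectionVars false

namespace Cfsg.Agent.Blocks.D1

open Module

universe u v w z

variable {G : Type u} [Group G] [Fintype G]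

/-- Convolution of an irreducible character with a class function. -/
theorem sum_classFun_mul_irr {f : G → ℂ} (hf : IsClassFunction G f) (ψ : IrrCharacter G) (y : G) :
    ∑ v, f v * (ψ : G → ℂ) (y * v) =
      (∑ v, f v * (ψ : G → ℂ) v) / (ψ : G → ℂ) 1 * (ψ : G → ℂ) y := by
  obtain ⟨n, ρ, hρ, e⟩ := ψ.2
  have h := congrArg (fun T => LinearMap.trace ℂ (Fin n → ℂ) (ρ y * T))
    (CT.weighted_sum_scalar ρ hf)
  simp only [Finset.mul_sum, mul_smul_comm, map_sum, map_smul, smul_eq_mul, ← map_mul] at h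
  rw [show (LinearMap.id : (Fin n → ℂ) →ₗ[ℂ] Fin n → ℂ) = 1 from rfl, mul_one] at h
  rw [← e, Representation.char_one]
  simp only [Representation.character] at h ⊢
  exact h

/-- Convolution of two irreducible characters. -/
theorem sum_irr_mul_irr (χ ψ : IrrCharacter G) (y : G) [Decidable (χ = ψ)] :
    ∑ v, (χ : G → ℂ) v⁻¹ * (ψ : G → ℂ) (y * v) =
      if χ = ψ then (Nat.card G : ℂ) / (ψ : G → ℂ) 1 * (ψ : G → ℂ) y else 0 := by
  classical
  have hχc : IsClassFunction G fun v => (χ : G → ℂ) v⁻¹ :=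
    CT.isClassFunction_of_isCharacter (CT.isCharacter_inv_arg (CT.isCharacter_of_isIrr χ.2))
  rw [sum_classFun_mul_irr hχc ψ y]
  have h : ∑ v, (χ : G → ℂ) v⁻¹ * (ψ : G → ℂ) v = (Nat.card G : ℂ) * if ψ = χ then 1 else 0 := by
    rw [← CT.irr_inner_subtype, classInner, mul_inv_cancel_left₀ (CT.card_ne_zero (G := G))]
    exact Finset.sum_congr rfl fun v _ => by
      rw [mul_comm, CT.char_inv_eq_conj (CT.isCharacter_of_isIrr χ.2)]
  rw [h]
  by_cases hχψ : χ = ψ
  · rw [if_pos hχψ.symm, if_pos hχψ, mul_one]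
  · rw [if_neg (Ne.symm hχψ), if_neg hχψ]; simp

/-- Sums of functions invariant under left translation by a subgroup. -/
theorem exists_sum_eq_card_mul (H : Subgroup G) (f : G → ℂ) (hf : ∀ h ∈ H, ∀ g, f (h * g) = f g)
    (T : Subring ℂ) (hfT : ∀ g, f g ∈ T) :
    ∃ s ∈ T, ∑ g, f g = (Nat.card H : ℂ) * s := by
  classical
  letI := Fintype.ofFinite (G ⧸ H)
  letI := Fintype.ofFinite H
  refine ⟨∑ q : G ⧸ H, f q.out⁻¹, sum_mem fun q _ => hfT _, ?_⟩
  rw [← Fintype.sum_equiv (Equiv.inv G) (fun g => f g⁻¹) f fun g => rfl,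
    ← Finset.sum_fiberwise Finset.univ (QuotientGroup.mk : G → G ⧸ H), Finset.mul_sum]
  refine Finset.sum_congr rfl fun q _ => ?_
  rw [Finset.sum_congr rfl (g := fun _ => f q.out⁻¹) fun g hg => ?_, Finset.sum_const, nsmul_eq_mul]
  · congr 2
    rw [Nat.card_eq_fintype_card, ← Finset.card_univ]
    symm
    refine Finset.card_bij (fun h _ => q.out * (h : G)) (fun h _ => ?_)
      (fun a _ b _ e => Subtype.ext (mul_left_cancel e)) (fun g hg => ?_)
    · rw [Finset.mem_filter]
      refine ⟨Finset.mem_univ _, ?_⟩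
      conv_rhs => rw [← QuotientGroup.out_eq' q]
      exact QuotientGroup.eq.mpr (by simp)
    · rw [Finset.mem_filter] at hg
      have : q.out⁻¹ * g ∈ H := QuotientGroup.eq.mp (by rw [QuotientGroup.out_eq']; exact hg.2.symm)
      exact ⟨⟨_, this⟩, Finset.mem_univ _, by simp⟩
  · rw [Finset.mem_filter] at hg
    have : q.out⁻¹ * g ∈ H := QuotientGroup.eq.mp (by rw [QuotientGroup.out_eq']; exact hg.2.symm)
    have e := hf _ (H.inv_mem this) q.out⁻¹
    rw [← e]
    congr 1
    group

section Orbit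

variable {R : Type v} [CommRing R] {L : Type w} [AddCommGroup L] [Module R L]
variable {ρ : Representation R G L} {x : G} {p : ℕ}

/-- Modulo relative traces only the centralizer of `x` contributes. -/
theorem orbit_reduction (hp : p.Prime) (hx : orderOf x = p) {K I : Submodule R L}
    (hT : ∀ ψ : L →ₗ[R] L, ∀ u ∈ K, Tate.relTrace ρ x p ψ u ∈ I)
    {f : G → R} (hf : ∀ g, f (x * g * x⁻¹) = f g) {u : L} (hu : u ∈ K)
    [DecidablePred (· ∈ Subgroup.centralizer ({x} : Set G))] :
    ∑ g, f g • ρ g u - ∑ g ∈ Finset.univ.filter (· ∈ Subgroup.centralizer ({x} : Set G)),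
      f g • ρ g u ∈ I := by
  classical
  set Cx := Subgroup.centralizer ({x} : Set G)
  have hxp : x ^ p = 1 := hx ▸ pow_orderOf_eq_one x
  let c : ℕ → G → G := fun i g => x ^ i * g * (x ^ i)⁻¹
  have hc : ∀ i j g, c i (c j g) = c (i + j) g := fun i j g => by simp [c, pow_add, mul_assoc]
  have hcp : ∀ i g, c (i % p) g = c i g := fun i g => by
    simp only [c]
    rw [← hx, pow_mod_orderOf]
  have hcf : ∀ i g, f (c i g) = f g := fun i => by
    induction i with
    | zero => intro g; simp [c]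
    | succ i ih =>
      intro g
      rw [add_comm, ← hc, show c 1 (c i g) = x * c i g * x⁻¹ by simp [c], hf, ih]
  let key : G → ℕ := fun g => (Fintype.equivFin G g : ℕ)
  have hkey : Function.Injective key := fun a b e => (Fintype.equivFin G).injective (Fin.ext e)
  set R₀ := Finset.univ.filter fun g => g ∉ Cx ∧ ∀ i < p, key g ≤ key (c i g)
  have hmemC : ∀ i g, c i g ∈ Cx ↔ g ∈ Cx := by
    intro i g
    have hxi : x ^ i ∈ Cx := Subgroup.mem_centralizer_singleton_iff.mpr
      ((Commute.refl x).pow_right i).eq.symm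
    simp only [c]
    rw [Subgroup.mul_mem_cancel_right _ (inv_mem hxi), Subgroup.mul_mem_cancel_left _ hxi]
  have hfix : ∀ k, ¬ p ∣ k → ∀ g, c k g = g → g ∈ Cx := by
    intro k hk g hg
    have hgen : Subgroup.zpowers (x ^ k) = Subgroup.zpowers x := by
      refine Subgroup.eq_of_le_of_card_ge (Subgroup.zpowers_le.mpr (pow_mem (Subgroup.mem_zpowers x) k)) ?_
      rw [Nat.card_zpowers, Nat.card_zpowers, orderOf_pow, hx,
        ((hp.coprime_iff_not_dvd).mpr hk).gcd_eq_one, Nat.div_one]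
    rw [show Cx = Subgroup.centralizer ({x} : Set G) from rfl, ← centralizer_zpowers_eq, ← hgen,
      centralizer_zpowers_eq, Subgroup.mem_centralizer_singleton_iff]
    have : x ^ k * g = g * x ^ k := mul_inv_eq_iff_eq_mul.mp hg
    exact this.symm
  have hrep : ∀ g ∉ Cx, ∃ r ∈ R₀, ∃ i < p, c i r = g := by
    intro g hg
    obtain ⟨j, hj, hmin⟩ := Finset.exists_min_image (Finset.range p) (fun i => key (c i g))
      ⟨0, Finset.mem_range.mpr hp.pos⟩
    refine ⟨c j g, ?_, (p - j) % p, Nat.mod_lt _ hp.pos, ?_⟩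
    · refine Finset.mem_filter.mpr ⟨Finset.mem_univ _, fun h => hg ((hmemC j g).mp h), fun i hi => ?_⟩
      rw [hc, ← hcp (i + j)]
      exact hmin _ (Finset.mem_range.mpr (Nat.mod_lt _ hp.pos))
    · rw [hcp, hc, show p - j + j = p by rw [Finset.mem_range] at hj; omega, ← hcp p]
      simp [c]
  have hsplit : ∑ g, f g • ρ g u - ∑ g ∈ Finset.univ.filter (· ∈ Cx), f g • ρ g u =
      ∑ r ∈ R₀, f r • Tate.relTrace ρ x p (ρ r) u := by
    rw [sub_eq_iff_eq_add', ← Finset.sum_filter_add_sum_filter_not Finset.univ (· ∈ Cx)]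
    congr 1
    have e : ∀ r, f r • Tate.relTrace ρ x p (ρ r) u =
        ∑ i ∈ Finset.range p, f (c i r) • ρ (c i r) u := by
      intro r
      rw [Tate.relTrace, LinearMap.sum_apply, Finset.smul_sum]
      refine Finset.sum_congr rfl fun i _ => ?_
      rw [hcf, ← map_mul, ← map_mul]
    rw [Finset.sum_congr rfl fun r _ => e r, ← Finset.sum_product']
    symm
    refine Finset.sum_bij (fun ri _ => c ri.2 ri.1) (fun ri hri => ?_) (fun a ha b hb e' => ?_)
      (fun g hg => ?_) (fun ri _ => rfl)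
    · rw [Finset.mem_product, Finset.mem_filter] at hri
      exact Finset.mem_filter.mpr ⟨Finset.mem_univ _, fun h => hri.1.2.1 ((hmemC _ _).mp h)⟩
    · rw [Finset.mem_product, Finset.mem_filter, Finset.mem_range] at ha hb
      obtain ⟨⟨-, ha1, ha2⟩, hai⟩ := ha
      obtain ⟨⟨-, hb1, hb2⟩, hbi⟩ := hb
      obtain ⟨r, i⟩ := a
      obtain ⟨s, j⟩ := b
      simp only at *
      have h1 : c ((p - j) + i) r = s := by
        rw [← hc, e', hc, show p - j + j = p by omega, ← hcp p]
        simp [c]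
      have h2 : c ((p - i) + j) s = r := by
        rw [← hc, ← e', hc, show p - i + i = p by omega, ← hcp p]
        simp [c]
      have hrs : r = s := by
        refine hkey (le_antisymm ?_ ?_)
        · conv_rhs => rw [← h1, ← hcp]
          exact ha2 _ (Nat.mod_lt _ hp.pos)
        · conv_rhs => rw [← h2, ← hcp]
          exact hb2 _ (Nat.mod_lt _ hp.pos)
      subst hrs
      refine Prod.ext rfl ?_
      by_contra hne
      refine ha1 (hfix _ (fun hd => hne ?_) r h1)
      obtain ⟨m, hm⟩ := hd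
      rcases m with _ | _ | m
      · omega
      · omega
      · exfalso
        rw [Nat.mul_add, Nat.mul_add] at hm
        omega
    · obtain ⟨r, hr, i, hi, e'⟩ := hrep g (Finset.mem_filter.mp hg).2
      exact ⟨(r, i), Finset.mem_product.mpr ⟨hr, Finset.mem_range.mpr hi⟩, e'⟩
  have hmem : ∑ g, f g • ρ g u - ∑ g ∈ Finset.univ.filter (· ∈ Cx), f g • ρ g u ∈ I :=
    (congrArg (· ∈ I) hsplit).mpr
      (Submodule.sum_mem _ fun r _ => Submodule.smul_mem _ _ (hT _ u hu))
  convert hmem using 3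
  ext g
  simp [Cx]

end Orbit

section Scalar

variable {k : Type z} [Field k] [IsAlgClosed k] {H : Type w} [AddCommGroup H] [Module k H]
  [FiniteDimensional k H] {Q : Type v} [Group Q] [Fintype Q] {σ : Representation k Q H}

/-- An endomorphism commuting with the action is scalar on a minimal stable subspace. -/
theorem exists_scalar_of_min {S : Submodule k H} (hS : Trans.IsMinStable σ S) (A : H →ₗ[k] H)
    (hA : ∀ q, Commute (σ q) A) (hAS : ∀ v ∈ S, A v ∈ S) : ∃ c : k, ∀ v ∈ S, A v = c • v := by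
  obtain ⟨hS0, hst, hmin⟩ := hS
  haveI : Nontrivial S := Submodule.nontrivial_iff_ne_bot.mpr hS0
  obtain ⟨c, hc⟩ := Module.End.exists_eigenvalue (K := k) (A.restrict hAS)
  obtain ⟨v, hv⟩ := hc.exists_hasEigenvector
  refine ⟨c, ?_⟩
  rcases hmin (S ⊓ Module.End.eigenspace A c) inf_le_left (fun q w hw => ⟨hst q w hw.1, Module.End.mem_eigenspace_iff.mpr (by
      rw [← Module.End.mul_apply, ← (hA q).eq, Module.End.mul_apply,
        Module.End.mem_eigenspace_iff.mp hw.2, map_smul])⟩) with h | h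
  · exfalso
    refine hv.2 (Subtype.ext ?_)
    have hm : (v : H) ∈ S ⊓ Module.End.eigenspace A c :=
      ⟨v.2, Module.End.mem_eigenspace_iff.mpr
        (congrArg Subtype.val (Module.End.mem_eigenspace_iff.mp hv.1))⟩
    rw [h] at hm
    exact (Submodule.mem_bot k).mp hm
  · exact fun w hw => Module.End.mem_eigenspace_iff.mp (h.symm ▸ hw : w ∈ S ⊓ _).2

end Scalar

section Degree

/-- Over an invariant character with cyclic quotient the degree does not grow. -/
theorem deg_eq_of_cyclic (N : Subgroup G) [N.Normal] [Fintype N] [IsCyclic (G ⧸ N)]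
    {θ : N → ℂ} (hθ : IsIrrCharacter N θ) (hinv : ∀ g, CT.conjFun N g θ = θ)
    {χ : G → ℂ} (hχ : IsIrrCharacter G χ) (hover : classInner (fun n : N => χ n) θ ≠ 0) :
    χ 1 = θ 1 := by
  obtain ⟨ψ, hψ, hψN⟩ := Cfsg.Agent.S0886.result N ‹_› θ hθ fun g n => congrFun (hinv g) n
  obtain ⟨η, hηN, e⟩ :=
    CoprimeExt.exists_eq_mul_of_over N ⟨ψ, hψ⟩ ⟨θ, hθ⟩ hψN ⟨χ, hχ⟩ hover
  obtain ⟨η', hη', hη''⟩ := CT.exists_quotient_irr η.2 N hηN
  have h1 : (η : G → ℂ) 1 = 1 := by
    rw [← hη'' 1]
    letI := IsCyclic.commGroup (α := G ⧸ N)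
    exact CT.irr_degree_one_of_comm (fun a b => mul_comm a b) hη'
  have := congrFun e 1
  rw [Pi.mul_apply, h1, one_mul] at this
  rw [show χ 1 = ψ 1 from this]
  exact hψN 1

/-- The degree over a character with cyclic inertia quotient. -/
theorem deg_eq_index_mul (N : Subgroup G) [hN : N.Normal] [Fintype N] [IsCyclic (G ⧸ N)]
    {θ : N → ℂ} (hθ : IsIrrCharacter N θ) {χ : G → ℂ} (hχ : IsIrrCharacter G χ)
    (hover : classInner (fun n : N => χ n) θ ≠ 0) :
    χ 1 = ((CT.inertia N θ).index : ℂ) * θ 1 := by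
  classical
  set T := CT.inertia N θ
  have hNT : N ≤ T := CT.le_inertia N (CT.isClassFunction_of_isIrr hθ)
  obtain ⟨ψ, hψ, hover'⟩ := CT.exists_correspondent_le N hθ T le_rfl hNT hχ hover
  rw [← hψ, CT.indFun_one_eval]
  congr 1
  set L : Subgroup T := N.subgroupOf T
  letI := Fintype.ofFinite L
  let e : L ≃* N := Subgroup.subgroupOfEquivOfLe hNT
  haveI : IsCyclic (T ⧸ L) :=
    isCyclic_of_injective (QuotientGroup.map L N T.subtype le_rfl) (by
      rw [← MonoidHom.ker_eq_bot_iff, eq_bot_iff]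
      intro a ha
      obtain ⟨t, rfl⟩ := QuotientGroup.mk_surjective a
      have ha' : ((t : G) : G ⧸ N) = 1 := ha
      rw [QuotientGroup.eq_one_iff] at ha'
      rw [Subgroup.mem_bot, QuotientGroup.eq_one_iff]
      exact ha')
  have h1 := deg_eq_of_cyclic L (θ := fun l => θ (e l))
    (CT.isIrrCharacter_comp e.toMonoidHom e.surjective hθ)
    (fun t => funext fun l => congrFun t.2 (e l)) ψ.2 ?_
  · rw [h1, map_one]
  · refine fun h0 => hover' ?_
    rw [← h0]
    simp only [classInner]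
    rw [Nat.card_congr e.toEquiv]
    congr 1
    exact (Fintype.sum_equiv e.toEquiv _ _ fun m => rfl).symm

end Degree

end Cfsg.Agent.Blocks.D1
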