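import Cfsg.Agent.Lib.Blocks.GroupAlg
import Mathlib.RepresentationTheory.Basic
import Mathlib.LinearAlgebra.Trace
import Mathlib.LinearAlgebra.FreeModule.PID
import Mathlib.LinearAlgebra.Eigenspace.Triangularizable

/-!
# Lattices spanned by the translates of a class function

If `E : G → R` convolves with itself to a multiple of itself, the span `lat E` of its left
translates is a lattice; its equivariant endomorphisms are right multiplications by elements of
the group algebra, and their traces are read off from `E`.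
Also: splitting of representations of a group of order prime to the characteristic.
-/

set_option linter.unusedSectionVars false

namespace Cfsg.Agent.Blocks.Trans

open Module

universe u v w

variable {G : Type u} [Group G] [Fintype G] {R : Type v} [CommRing R]

/-- Left translation on functions. -/
def shiftRep (R : Type v) [CommRing R] (G : Type u) [Group G] : Representation R G (G → R) where
  toFun h :=
    { toFun := fun f g => f (h⁻¹ * g)
      map_add' := fun _ _ => rfl
      map_smul' := fun _ _ => rfl }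
  map_one' := LinearMap.ext fun f => funext fun g => by simp
  map_mul' a b := LinearMap.ext fun f => funext fun g => by simp [mul_assoc]

@[simp] theorem shiftRep_apply (h : G) (f : G → R) (g : G) : shiftRep R G h f g = f (h⁻¹ * g) := rfl

/-- The span of the translates of `E`. -/
def lat (E : G → R) : Submodule R (G → R) :=
  Submodule.span R (Set.range fun h : G => shiftRep R G h E)

theorem shift_mem_lat (E : G → R) (h : G) : shiftRep R G h E ∈ lat E :=
  Submodule.subset_span ⟨h, rfl⟩

theorem shift_lat (E : G → R) (h : G) {f : G → R} (hf : f ∈ lat E) :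
    shiftRep R G h f ∈ lat E := by
  have : lat E ≤ (lat E).comap (shiftRep R G h) := by
    refine Submodule.span_le.mpr ?_
    rintro _ ⟨u, rfl⟩
    show shiftRep R G h (shiftRep R G u E) ∈ lat E
    rw [← Module.End.mul_apply, ← map_mul]
    exact shift_mem_lat E _
  exact this hf

/-- The representation on `lat E`. -/
def latRep (E : G → R) : Representation R G (lat E) where
  toFun h := (shiftRep R G h).restrict fun _ => shift_lat E h
  map_one' := LinearMap.ext fun f => Subtype.ext (by
    show shiftRep R G 1 (f : G → R) = _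
    rw [map_one]; rfl)
  map_mul' a b := LinearMap.ext fun f => Subtype.ext (by
    show shiftRep R G (a * b) (f : G → R) = shiftRep R G a (shiftRep R G b f)
    rw [map_mul]; rfl)

@[simp] theorem coe_latRep (E : G → R) (h : G) (f : lat E) :
    ((latRep E h f : lat E) : G → R) = shiftRep R G h f := rfl

/-- The generator. -/
def gen (E : G → R) : lat E := ⟨E, by simpa using shift_mem_lat E 1⟩

theorem coe_gen (E : G → R) : (gen E : G → R) = E := rfl

/-- The action of the group algebra on the generator. -/
noncomputable def act (E : G → R) (a : MonoidAlgebra R G) : lat E :=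
  (latRep E).asAlgebraHom a (gen E)

theorem coe_act (E : G → R) (a : MonoidAlgebra R G) (g : G) :
    (act E a : G → R) g = ∑ h, a.coeff h * E (h⁻¹ * g) := by
  rw [act]
  conv_lhs => rw [eq_sum_single a]
  simp [map_sum, LinearMap.sum_apply, Representation.asAlgebraHom_single, Finset.sum_apply, coe_gen]

theorem act_surjective (E : G → R) : Function.Surjective (act E) := by
  rintro ⟨f, hf⟩
  obtain ⟨c, rfl⟩ := Submodule.mem_span_range_iff_exists_fun R |>.mp hf
  refine ⟨∑ h, MonoidAlgebra.single h (c h), Subtype.ext ?_⟩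
  simp [act, map_sum, LinearMap.sum_apply, Representation.asAlgebraHom_single, coe_gen]

theorem map_act {E : G → R} (Φ : lat E →ₗ[R] lat E) (hΦ : ∀ g : G, Commute (latRep E g) Φ)
    (a : MonoidAlgebra R G) : Φ (act E a) = (latRep E).asAlgebraHom a (Φ (gen E)) := by
  rw [act]
  conv_lhs => rw [eq_sum_single a]
  conv_rhs => rw [eq_sum_single a]
  simp only [map_sum, LinearMap.sum_apply, Representation.asAlgebraHom_single, LinearMap.smul_apply,
    map_smul]
  refine Finset.sum_congr rfl fun h _ => ?_
  congr 1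
  exact (LinearMap.congr_fun (hΦ h).eq (gen E)).symm

/-- Composition of equivariant endomorphisms reverses the multiplication. -/
theorem comp_gen {E : G → R} {Φ Ψ : lat E →ₗ[R] lat E} (hΦ : ∀ g : G, Commute (latRep E g) Φ)
    {a b : MonoidAlgebra R G} (ha : Φ (gen E) = act E a) (hb : Ψ (gen E) = act E b) :
    (Φ * Ψ) (gen E) = act E (b * a) := by
  rw [Module.End.mul_apply, hb, map_act Φ hΦ, ha, act, act, map_mul, Module.End.mul_apply]

/-- The convolution with `E`. -/
def conv (E : G → R) : (G → R) →ₗ[R] (G → R) where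
  toFun f g := ∑ u, f u * E (u⁻¹ * g)
  map_add' a b := funext fun g => by simp [add_mul, Finset.sum_add_distrib]
  map_smul' r a := funext fun g => by simp [Finset.mul_sum, mul_assoc]

theorem conv_mem (E : G → R) (f : G → R) : conv E f ∈ lat E := by
  have : conv E f = ∑ u, f u • shiftRep R G u E := funext fun g => by simp [conv, Finset.sum_apply]
  rw [this]
  exact Submodule.sum_mem _ fun u _ => Submodule.smul_mem _ _ (shift_mem_lat E u)

theorem conv_of_mem {E : G → R} {n : R} (hE : ∀ g, ∑ v, E v * E (v⁻¹ * g) = n * E g)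
    {f : G → R} (hf : f ∈ lat E) : conv E f = n • f := by
  have hle : lat E ≤ LinearMap.ker (conv E - n • LinearMap.id) := by
    refine Submodule.span_le.mpr ?_
    rintro _ ⟨h, rfl⟩
    rw [SetLike.mem_coe, LinearMap.mem_ker, LinearMap.sub_apply, LinearMap.smul_apply,
      LinearMap.id_apply, sub_eq_zero]
    funext g
    show ∑ u, E (h⁻¹ * u) * E (u⁻¹ * g) = n * E (h⁻¹ * g)
    rw [← hE]
    refine Fintype.sum_equiv (Equiv.mulLeft h⁻¹) _ _ fun u => ?_
    simp [mul_assoc]
  have := hle hf
  rwa [LinearMap.mem_ker, LinearMap.sub_apply, sub_eq_zero] at this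

variable [IsDomain R] [IsPrincipalIdealRing R]

instance lat_free (E : G → R) : Module.Free R (lat E) :=
  Module.Free.of_basis (Submodule.basisOfPid (Pi.basisFun R G) (lat E)).2

instance lat_finite (E : G → R) : Module.Finite R (lat E) :=
  Module.Finite.of_basis (Submodule.basisOfPid (Pi.basisFun R G) (lat E)).2

/-- The trace of an equivariant endomorphism. -/
theorem trace_eq {E : G → R} {n : R} (hn : n ≠ 0) (hE : ∀ g, ∑ v, E v * E (v⁻¹ * g) = n * E g)
    (hnG : n = (Nat.card G : R)) (Φ : lat E →ₗ[R] lat E) (hΦ : ∀ g : G, Commute (latRep E g) Φ)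
    {a : MonoidAlgebra R G} (ha : Φ (gen E) = act E a) :
    LinearMap.trace R (lat E) Φ = ev (fun h => E h⁻¹) a := by
  classical
  let q : (G → R) →ₗ[R] lat E := (conv E).codRestrict (lat E) (conv_mem E)
  have hq : q ∘ₗ ((lat E).subtype ∘ₗ Φ) = n • Φ := by
    refine LinearMap.ext fun f => Subtype.ext ?_
    exact conv_of_mem hE (Φ f).2
  have h1 := LinearMap.trace_comp_comm' ((lat E).subtype ∘ₗ Φ) q
  rw [hq, map_smul, smul_eq_mul] at h1
  refine mul_left_cancel₀ hn (h1.trans ?_)
  rw [LinearMap.trace_eq_matrix_trace R (Pi.basisFun R G), Matrix.trace]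
  have key : ∀ u : G, Matrix.diag (LinearMap.toMatrix (Pi.basisFun R G) (Pi.basisFun R G)
      (((lat E).subtype ∘ₗ Φ) ∘ₗ q)) u = ev (fun h => E h⁻¹) a := by
    intro u
    rw [Matrix.diag_apply, LinearMap.toMatrix_apply, Pi.basisFun_repr, Pi.basisFun_apply]
    have e : q (Pi.single u 1) = latRep E u (gen E) := Subtype.ext (funext fun g => by
      show ∑ v, (Pi.single u 1 : G → R) v * E (v⁻¹ * g) = E (u⁻¹ * g)
      rw [Finset.sum_eq_single u (fun v _ hv => by simp [hv]) (by simp)]
      simp)
    show (Φ (q (Pi.single u 1)) : G → R) u = _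
    rw [e, ← Module.End.mul_apply Φ, ← (hΦ u).eq, Module.End.mul_apply, ha, coe_latRep,
      shiftRep_apply, inv_mul_cancel, coe_act, ev_eq_sum]
    exact Finset.sum_congr rfl fun h _ => by rw [mul_one]
  rw [Finset.sum_congr rfl fun u _ => key u, Finset.sum_const, Finset.card_univ, nsmul_eq_mul,
    hnG, Nat.card_eq_fintype_card]

theorem finrank_lat {E : G → R} {n : R} (hn : n ≠ 0) (hE : ∀ g, ∑ v, E v * E (v⁻¹ * g) = n * E g)
    (hnG : n = (Nat.card G : R)) : (finrank R (lat E) : R) = E 1 := by
  rw [← LinearMap.trace_one, trace_eq hn hE hnG 1 (fun g => Commute.one_right _)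
    (a := MonoidAlgebra.single 1 1) (by simp [act]), ev_single, inv_one, one_mul]

theorem trace_shift {E : G → R} {n : R} (hn : n ≠ 0) (hE : ∀ g, ∑ v, E v * E (v⁻¹ * g) = n * E g)
    (hnG : n = (Nat.card G : R)) (hcl : ∀ a b : G, E (a * b) = E (b * a)) (x : G) :
    LinearMap.trace R (lat E) (latRep E x) = E x⁻¹ := by
  classical
  let q : (G → R) →ₗ[R] lat E := (conv E).codRestrict (lat E) (conv_mem E)
  have hq : q ∘ₗ ((lat E).subtype ∘ₗ latRep E x) = n • latRep E x :=
    LinearMap.ext fun f => Subtype.ext (conv_of_mem hE (latRep E x f).2)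
  have h1 := LinearMap.trace_comp_comm' ((lat E).subtype ∘ₗ latRep E x) q
  rw [hq, map_smul, smul_eq_mul] at h1
  refine mul_left_cancel₀ hn (h1.trans ?_)
  rw [LinearMap.trace_eq_matrix_trace R (Pi.basisFun R G), Matrix.trace]
  have key : ∀ u : G, Matrix.diag (LinearMap.toMatrix (Pi.basisFun R G) (Pi.basisFun R G)
      (((lat E).subtype ∘ₗ latRep E x) ∘ₗ q)) u = E x⁻¹ := by
    intro u
    rw [Matrix.diag_apply, LinearMap.toMatrix_apply, Pi.basisFun_repr, Pi.basisFun_apply]
    show ∑ v, (Pi.single u 1 : G → R) v * E (v⁻¹ * (x⁻¹ * u)) = E x⁻¹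
    rw [Finset.sum_eq_single u (fun v _ hv => by simp [hv]) (by simp), Pi.single_eq_same, one_mul,
      hcl, mul_assoc, mul_inv_cancel, mul_one]
  rw [Finset.sum_congr rfl fun u _ => key u, Finset.sum_const, Finset.card_univ, nsmul_eq_mul,
    hnG, Nat.card_eq_fintype_card]

/-! ### Groups of order prime to the characteristic -/

variable {k : Type w} [Field k] {H : Type*} [AddCommGroup H] [Module k H] [FiniteDimensional k H]
variable {Q : Type*} [Group Q] [Fintype Q] (σ : Representation k Q H)

/-- A stable subspace without proper nonzero stable subspaces. -/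
def IsMinStable (S : Submodule k H) : Prop :=
  S ≠ ⊥ ∧ (∀ q, ∀ v ∈ S, σ q v ∈ S) ∧
    ∀ T : Submodule k H, T ≤ S → (∀ q, ∀ v ∈ T, σ q v ∈ T) → T = ⊥ ∨ T = S

theorem exists_equivariant_proj (hQ : (Fintype.card Q : k) ≠ 0) (S : Submodule k H)
    (hS : ∀ q, ∀ v ∈ S, σ q v ∈ S) :
    ∃ π : H →ₗ[k] H, (∀ q, Commute (σ q) π) ∧ (∀ v, π v ∈ S) ∧ ∀ v ∈ S, π v = v := by
  obtain ⟨f, hf⟩ := LinearMap.exists_extend (LinearMap.id : S →ₗ[k] S)
  set π₀ : H →ₗ[k] H := S.subtype ∘ₗ f
  refine ⟨(Fintype.card Q : k)⁻¹ • ∑ q, σ q * π₀ * σ q⁻¹, fun q => ?_, fun v => ?_, fun v hv => ?_⟩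
  · refine Commute.smul_right ?_ _
    show σ q * _ = _ * σ q
    rw [Finset.mul_sum, Finset.sum_mul]
    refine Fintype.sum_equiv (Equiv.mulLeft q) _ _ fun r => ?_
    simp only [Equiv.coe_mulLeft, mul_inv_rev, map_mul]
    simp only [mul_assoc, ← map_mul, inv_mul_cancel, map_one, mul_one]
    rw [← mul_assoc, ← map_mul]
  · rw [LinearMap.smul_apply, LinearMap.sum_apply]
    refine Submodule.smul_mem _ _ (Submodule.sum_mem _ fun q _ => hS q _ ?_)
    exact (f (σ q⁻¹ v)).2
  · rw [LinearMap.smul_apply, LinearMap.sum_apply, inv_smul_eq_iff₀ hQ]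
    have : ∀ q : Q, (σ q * π₀ * σ q⁻¹) v = v := by
      intro q
      have e : f (σ q⁻¹ v) = ⟨σ q⁻¹ v, hS _ v hv⟩ :=
        LinearMap.congr_fun hf (⟨σ q⁻¹ v, hS _ v hv⟩ : S)
      simp only [Module.End.mul_apply, π₀, LinearMap.comp_apply, e, Submodule.subtype_apply]
      rw [← Module.End.mul_apply, ← map_mul, mul_inv_cancel, map_one, Module.End.one_apply]
    rw [Finset.sum_congr rfl fun q _ => this q, Finset.sum_const, Finset.card_univ,
      Nat.cast_smul_eq_nsmul]

theorem exists_orth_aux (hQ : (Fintype.card Q : k) ≠ 0) :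
    ∀ (m : ℕ) (e : H →ₗ[k] H), (∀ q, Commute (σ q) e) → e * e = e →
      finrank k (LinearMap.range e) ≤ m →
      ∃ (r : ℕ) (π : Fin r → (H →ₗ[k] H)), (∀ i q, Commute (σ q) (π i)) ∧
        (∀ i j, π i * π j = if i = j then π i else 0) ∧ (∑ i, π i = e) ∧
        (∀ i, e * π i = π i ∧ π i * e = π i) ∧
        ∀ i, IsMinStable σ (LinearMap.range (π i)) := by
  intro m
  induction m with
  | zero =>
    intro e _ _ hm
    have : e = 0 := LinearMap.range_eq_bot.mp (Submodule.finrank_eq_zero.mp (Nat.le_zero.mp hm))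
    exact ⟨0, fun i => i.elim0, fun i => i.elim0, fun i => i.elim0, by simp [this],
      fun i => i.elim0, fun i => i.elim0⟩
  | succ m ih =>
    intro e he hee hm
    have hst : ∀ q, ∀ v ∈ LinearMap.range e, σ q v ∈ LinearMap.range e := by
      rintro q _ ⟨v, rfl⟩
      exact ⟨σ q v, (LinearMap.congr_fun (he q).eq v).symm⟩
    by_cases h0 : e = 0
    · exact ⟨0, fun i => i.elim0, fun i => i.elim0, fun i => i.elim0, by simp [h0],
        fun i => i.elim0, fun i => i.elim0⟩
    by_cases hmin : IsMinStable σ (LinearMap.range e)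
    · refine ⟨1, fun _ => e, fun _ => he, fun i j => ?_, by simp, fun _ => ⟨hee, hee⟩, fun _ => hmin⟩
      rw [if_pos (Subsingleton.elim i j)]; exact hee
    have hne : LinearMap.range e ≠ ⊥ := fun h => h0 (LinearMap.range_eq_bot.mp h)
    obtain ⟨S, hSle, hSst, hS0, hSne⟩ : ∃ S : Submodule k H, S ≤ LinearMap.range e ∧
        (∀ q, ∀ v ∈ S, σ q v ∈ S) ∧ S ≠ ⊥ ∧ S ≠ LinearMap.range e := by
      by_contra hall
      push Not at hall
      refine hmin ⟨hne, hst, fun T hT hTs => ?_⟩
      by_cases hT0 : T = ⊥
      · exact Or.inl hT0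
      · exact Or.inr (hall T hT hTs hT0)
    obtain ⟨π, hπc, hπS, hπid⟩ := exists_equivariant_proj σ hQ S hSst
    have heS : ∀ v ∈ S, e v = v := by
      intro v hv
      obtain ⟨w, rfl⟩ := hSle hv
      rw [← Module.End.mul_apply, hee]
    set e₁ := π * e with he₁
    have h11 : e₁ * e₁ = e₁ := LinearMap.ext fun v => by
      simp only [he₁, Module.End.mul_apply]
      rw [heS _ (hπS _), hπid _ (hπS _)]
    have he1 : e * e₁ = e₁ := LinearMap.ext fun v => by
      simp only [he₁, Module.End.mul_apply]
      exact heS _ (hπS _)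
    have h1e : e₁ * e = e₁ := by rw [he₁, mul_assoc, hee]
    set e₂ := e - e₁ with he₂
    have h22 : e₂ * e₂ = e₂ := by
      rw [he₂, sub_mul, mul_sub, mul_sub, hee, he1, h1e, h11, sub_self, sub_zero]
    have he2 : e * e₂ = e₂ := by rw [he₂, mul_sub, hee, he1]
    have h2e : e₂ * e = e₂ := by rw [he₂, sub_mul, hee, h1e]
    have h12 : e₁ * e₂ = 0 := by rw [he₂, mul_sub, h1e, h11, sub_self]
    have h21 : e₂ * e₁ = 0 := by rw [he₂, sub_mul, he1, h11, sub_self]
    have hr1 : LinearMap.range e₁ = S := by
      refine le_antisymm ?_ fun v hv => ⟨v, ?_⟩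
      · rintro _ ⟨v, rfl⟩; exact hπS _
      · simp only [he₁, Module.End.mul_apply]
        rw [heS v hv, hπid v hv]
    have hlt1 : finrank k (LinearMap.range e₁) ≤ m := by
      rw [hr1]
      have := Submodule.finrank_lt_finrank_of_lt (lt_of_le_of_ne hSle hSne)
      omega
    have hlt2 : finrank k (LinearMap.range e₂) ≤ m := by
      have hle : LinearMap.range e₂ ≤ LinearMap.range e := by
        rw [← he2]; exact LinearMap.range_comp_le_range _ _
      have hne2 : LinearMap.range e₂ ≠ LinearMap.range e := by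
        intro h
        obtain ⟨v, hv, hv0⟩ := Submodule.exists_mem_ne_zero_of_ne_bot hS0
        obtain ⟨w, hw⟩ : v ∈ LinearMap.range e₂ := h ▸ hSle hv
        apply hv0
        have e1 : e₂ v = v := by rw [← hw, ← Module.End.mul_apply, h22]
        have e2 : e₂ v = 0 := by
          obtain ⟨u, rfl⟩ : v ∈ LinearMap.range e₁ := hr1.symm ▸ hv
          rw [← Module.End.mul_apply, h21, LinearMap.zero_apply]
        rw [← e1, e2]
      have := Submodule.finrank_lt_finrank_of_lt (lt_of_le_of_ne hle hne2)
      omega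
    have hc1 : ∀ q, Commute (σ q) e₁ := fun q => (hπc q).mul_right (he q)
    obtain ⟨r₁, π₁, a1, b1, c1, d1, f1⟩ := ih e₁ hc1 h11 hlt1
    obtain ⟨r₂, π₂, a2, b2, c2, d2, f2⟩ := ih e₂ (fun q => (he q).sub_right (hc1 q)) h22 hlt2
    refine ⟨r₁ + r₂, Fin.append π₁ π₂, fun i => ?_, fun i j => ?_, ?_, fun i => ?_, fun i => ?_⟩
    · induction i using Fin.addCases with
      | left i => rw [Fin.append_left]; exact a1 i
      | right i => rw [Fin.append_right]; exact a2 i
    · induction i using Fin.addCases with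
      | left i =>
        induction j using Fin.addCases with
        | left j =>
          rw [Fin.append_left, Fin.append_left, b1]
          simp [Fin.ext_iff]
        | right j =>
          rw [Fin.append_left, Fin.append_right, if_neg (by intro h; simp [Fin.ext_iff] at h; omega)]
          rw [← (d1 i).2, ← (d2 j).1, mul_assoc, ← mul_assoc e₁, h12, zero_mul, mul_zero]
      | right i =>
        induction j using Fin.addCases with
        | left j =>
          rw [Fin.append_right, Fin.append_left, if_neg (by intro h; simp [Fin.ext_iff] at h; omega)]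
          rw [← (d2 i).2, ← (d1 j).1, mul_assoc, ← mul_assoc e₂, h21, zero_mul, mul_zero]
        | right j =>
          rw [Fin.append_right, Fin.append_right, b2]
          simp [Fin.ext_iff]
    · rw [Fin.sum_univ_add]
      simp only [Fin.append_left, Fin.append_right, c1, c2, he₂, add_sub_cancel]
    · induction i using Fin.addCases with
      | left i =>
        rw [Fin.append_left]
        exact ⟨by rw [← (d1 i).1, ← mul_assoc, he1], by rw [← (d1 i).2, mul_assoc, h1e]⟩
      | right i =>
        rw [Fin.append_right]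
        exact ⟨by rw [← (d2 i).1, ← mul_assoc, he2], by rw [← (d2 i).2, mul_assoc, h2e]⟩
    · induction i using Fin.addCases with
      | left i => rw [Fin.append_left]; exact f1 i
      | right i => rw [Fin.append_right]; exact f2 i

variable [IsAlgClosed k]

/-- The Schur average of a rank one map on a minimal stable subspace. -/
theorem schur_average {S : Submodule k H} (hS : IsMinStable σ S) (φ : H →ₗ[k] k) {v' : H}
    (hv' : v' ∈ S) {w : H} (hw : w ∈ S) :
    ((finrank k S : ℕ) : k) • ∑ q, φ (σ q⁻¹ w) • σ q v' =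
      ((Fintype.card Q : k) * φ v') • w := by
  obtain ⟨hS0, hst, hmin⟩ := hS
  haveI : Nontrivial S := Submodule.nontrivial_iff_ne_bot.mpr hS0
  let τ : Q → (S →ₗ[k] S) := fun q => (σ q).restrict (hst q)
  have hτ : ∀ a b, τ (a * b) = τ a * τ b := fun a b => LinearMap.ext fun v => Subtype.ext (by
    show σ (a * b) (v : H) = σ a (σ b v)
    rw [map_mul]; rfl)
  have hτ1 : τ 1 = 1 := LinearMap.ext fun v => Subtype.ext (by
    show σ 1 (v : H) = _
    rw [map_one]; rfl)
  let A : S →ₗ[k] S := (φ ∘ₗ S.subtype).smulRight ⟨v', hv'⟩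
  set B : S →ₗ[k] S := ∑ q, τ q * A * τ q⁻¹
  have hB : ∀ q, τ q * B = B * τ q := by
    intro q
    simp only [B, Finset.mul_sum, Finset.sum_mul]
    refine Fintype.sum_equiv (Equiv.mulLeft q) _ _ fun r => ?_
    simp only [Equiv.coe_mulLeft, mul_inv_rev, hτ]
    simp only [mul_assoc, ← hτ, inv_mul_cancel, hτ1, mul_one]
    rw [← mul_assoc, ← hτ]
  obtain ⟨s, hs⟩ := Module.End.exists_eigenvalue (K := k) B
  have htop : Module.End.eigenspace B s = ⊤ := by
    let T : Submodule k H := (Module.End.eigenspace B s).map S.subtype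
    have hT : ∀ q, ∀ v ∈ T, σ q v ∈ T := by
      rintro q _ ⟨v, hv, rfl⟩
      refine ⟨τ q v, Module.End.mem_eigenspace_iff.mpr ?_, rfl⟩
      rw [← Module.End.mul_apply, ← hB, Module.End.mul_apply, Module.End.mem_eigenspace_iff.mp hv,
        map_smul]
    rcases hmin T (Submodule.map_subtype_le _ _) hT with h | h
    · exact absurd (Submodule.map_injective_of_injective S.subtype_injective (h.trans (Submodule.map_bot _).symm))
        (Module.End.hasEigenvalue_iff.mp hs)
    · exact Submodule.map_injective_of_injective S.subtype_injective (h.trans (Submodule.map_subtype_top S).symm)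
  have hBs : B = s • 1 := LinearMap.ext fun v => by
    rw [LinearMap.smul_apply, Module.End.one_apply]
    exact Module.End.mem_eigenspace_iff.mp (htop ▸ Submodule.mem_top)
  have htrA : LinearMap.trace k S A = φ v' := by
    rw [LinearMap.trace_smulRight]; rfl
  have htr : s * (finrank k S : k) = (Fintype.card Q : k) * φ v' := by
    have h1 : LinearMap.trace k S B = (Fintype.card Q : k) * φ v' := by
      simp only [B, map_sum]
      have : ∀ q, LinearMap.trace k S (τ q * A * τ q⁻¹) = φ v' := fun q => by
        rw [LinearMap.trace_mul_comm, ← mul_assoc, ← hτ, inv_mul_cancel, hτ1, one_mul, htrA]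
      simp [this, Finset.card_univ, nsmul_eq_mul]
    rw [← h1, hBs, map_smul, LinearMap.trace_one, smul_eq_mul]
  have e := congrArg Subtype.val (LinearMap.congr_fun hBs ⟨w, hw⟩)
  simp only [B, LinearMap.sum_apply, Module.End.mul_apply, LinearMap.smul_apply,
    Module.End.one_apply, Submodule.coe_sum, Submodule.coe_smul] at e
  rw [← htr, mul_comm s, mul_smul]
  congr 1
  refine Eq.trans ?_ e
  refine Finset.sum_congr rfl fun q _ => ?_
  show _ = σ q ((φ (σ q⁻¹ w) • (⟨v', hv'⟩ : S) : S) : H)
  rw [Submodule.coe_smul, map_smul]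

theorem finrank_ne_zero_of_min (hQ : (Fintype.card Q : k) ≠ 0) {S : Submodule k H}
    (hS : IsMinStable σ S) : ((finrank k S : ℕ) : k) ≠ 0 := by
  intro h0
  obtain ⟨v, hv, hv0⟩ := Submodule.exists_mem_ne_zero_of_ne_bot hS.1
  obtain ⟨φ₀, hφ₀⟩ := Module.Projective.exists_dual_ne_zero k hv0
  obtain ⟨φ, hφ⟩ : ∃ φ : H →ₗ[k] k, φ v = 1 :=
    ⟨(φ₀ v)⁻¹ • φ₀, by rw [LinearMap.smul_apply, smul_eq_mul, inv_mul_cancel₀ hφ₀]⟩
  have := schur_average σ hS φ hv hv
  rw [h0, zero_smul, hφ, mul_one] at this
  exact hv0 ((smul_eq_zero.mp this.symm).resolve_left hQ)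

/-- The square of the dimension of a minimal stable subspace on which a convolution idempotent
acts by a non-zero scalar is bounded by the rank of its lattice. -/
theorem sq_finrank_le_lat {R : Type v} [CommRing R] [IsDomain R] [IsPrincipalIdealRing R]
    (red : R →+* k) (hQ : (Fintype.card Q : k) ≠ 0) (E : Q → R) {S : Submodule k H}
    (hS : IsMinStable σ S) {c : k} (hc : c ≠ 0)
    (hact : ∀ v ∈ S, ∑ q, red (E q) • σ q v = c • v) :
    finrank k S * finrank k S ≤ finrank R (lat E) := by
  classical
  let b := (Submodule.basisOfPid (Pi.basisFun R Q) (lat E)).2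
  set r := (Submodule.basisOfPid (Pi.basisFun R Q) (lat E)).1
  let τ : Q → (S →ₗ[k] S) := fun q => (σ q).restrict (hS.2.1 q)
  let Θ : (Q → k) →ₗ[k] (S →ₗ[k] S) := Fintype.linearCombination k τ
  set V : Submodule k (Q → k) :=
    Submodule.span k (Set.range fun i => fun q => red ((b i : Q → R) q))
  have hV : finrank k V ≤ finrank R (lat E) := by
    rw [Module.finrank_eq_card_basis b]
    exact finrank_range_le_card _
  have hred : ∀ f : lat E, (fun q => red ((f : Q → R) q)) ∈ V := by
    intro f
    have : (fun q => red ((f : Q → R) q)) = ∑ i, red (b.repr f i) • fun q => red ((b i : Q → R) q) := by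
      funext q
      have e : (f : Q → R) = ∑ i, b.repr f i • (b i : Q → R) := by
        refine (congrArg Subtype.val (b.sum_repr f)).symm.trans ?_
        simp only [Submodule.coe_sum, Submodule.coe_smul]
      rw [e]
      simp only [Finset.sum_apply, Pi.smul_apply, smul_eq_mul, map_sum, map_mul]
    rw [this]
    exact Submodule.sum_mem _ fun i _ => Submodule.smul_mem _ _ (Submodule.subset_span ⟨i, rfl⟩)
  -- every endomorphism comes from the reduction of the lattice
  have hsur : (⊤ : Submodule k (S →ₗ[k] S)) ≤ V.map Θ := by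
    have hd := finrank_ne_zero_of_min σ hQ hS
    let bS := Module.finBasis k S
    intro ψ _
    have hψ : ψ = ∑ i, (bS.coord i).smulRight (ψ (bS i)) := LinearMap.ext fun v => by
      simp only [LinearMap.sum_apply, LinearMap.smulRight_apply, Basis.coord_apply, ← map_smul,
        ← map_sum, bS.sum_repr]
    rw [hψ]
    refine Submodule.sum_mem _ fun i _ => ?_
    obtain ⟨φ, hφ⟩ := LinearMap.exists_extend (bS.coord i)
    set u := ψ (bS i)
    let f : Q → k := fun q => ((finrank k S : ℕ) : k) * ((Fintype.card Q : k) * c)⁻¹ * φ (σ q⁻¹ u)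
    have hshift : ∀ h : Q, (fun q => red (E (h⁻¹ * q))) ∈ V := fun h =>
      hred ⟨_, shift_mem_lat E h⟩
    refine ⟨∑ h, f h • (fun q => red (E (h⁻¹ * q))),
      Submodule.sum_mem _ fun h _ => Submodule.smul_mem _ _ (hshift h), ?_⟩
    refine LinearMap.ext fun v => Subtype.ext ?_
    have hΘ : ∀ g : Q → k, ((Θ g v : S) : H) = ∑ q, g q • σ q v := fun g => by
      simp [Θ, Fintype.linearCombination_apply, LinearMap.sum_apply, Submodule.coe_sum, τ]
    rw [map_sum, LinearMap.sum_apply, Submodule.coe_sum]
    have hterm : ∀ h : Q, ((Θ (f h • fun q => red (E (h⁻¹ * q))) v : S) : H) =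
        f h • σ h (c • (v : H)) := by
      intro h
      rw [hΘ, ← hact v v.2, map_sum, Finset.smul_sum]
      refine Fintype.sum_equiv (Equiv.mulLeft h⁻¹) _ _ fun q => ?_
      simp only [Pi.smul_apply, smul_eq_mul, Equiv.coe_mulLeft, map_smul, mul_smul]
      rw [← Module.End.mul_apply, ← map_mul, mul_inv_cancel_left]
    rw [Finset.sum_congr rfl fun h _ => hterm h]
    simp only [f, map_smul, smul_smul, LinearMap.smulRight_apply, Submodule.coe_smul]
    have hav := schur_average σ hS φ v.2 u.2
    have hφv : φ (v : H) = bS.coord i v := LinearMap.congr_fun hφ v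
    rw [← hφv]
    calc ∑ h, ((finrank k S : ℕ) * ((Fintype.card Q : k) * c)⁻¹ * φ (σ h⁻¹ (u : H)) * c) • σ h (v : H)
        = (Fintype.card Q : k)⁻¹ • (((finrank k S : ℕ) : k) • ∑ h, φ (σ h⁻¹ (u : H)) • σ h (v : H)) := by
          simp only [Finset.smul_sum, smul_smul]
          refine Finset.sum_congr rfl fun h _ => ?_
          congr 1
          field_simp
      _ = φ (v : H) • (u : H) := by rw [hav, smul_smul, ← mul_assoc, inv_mul_cancel₀ hQ, one_mul]
  have h1 := Submodule.finrank_mono hsur
  rw [finrank_top, Module.finrank_linearMap] at h1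
  exact h1.trans ((Submodule.finrank_map_le _ _).trans hV)

end Cfsg.Agent.Blocks.Trans
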