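import Cfsg.Agent.Lib.Blocks.LatticeEuler
import Cfsg.Agent.Lib.Blocks.TransLattice

/-!
# The bound on the Herbrand quotient of a translation lattice
-/

set_option linter.unusedSectionVars false

namespace Cfsg.Agent.Blocks.Tate

open Module Trans

universe u v w z

variable {R : Type u} [CommRing R] [IsDomain R] {k : Type z} [Field k] {p : ℕ}
variable {G : Type v} [Group G] [Fintype G]

section Pair

variable {L : Type w} [AddCommGroup L] [Module R L] (ρ : Representation R G L) (x : G)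

/-- A pair `I ≤ K` defining one of the two Tate groups. -/
structure Pair (p : ℕ) (N : Subgroup G) where
  K : Submodule R L
  I : Submodule R L
  hpK : ∀ u ∈ K, (p : R) • u ∈ I
  hIK : I ≤ K
  hK : ∀ n ∈ N, ∀ u ∈ K, ρ n u ∈ K
  hI : ∀ n ∈ N, ∀ u ∈ I, ρ n u ∈ I
  hT : ∀ ψ : L →ₗ[R] L, ∀ u ∈ K, relTrace ρ x p ψ u ∈ I

variable {ρ x} {N : Subgroup G} (P : Pair ρ x p N) {red : R →+* k} (h : IsRed p red)
variable {ι : Type*} [Fintype ι] (bI : Basis ι R P.I) [Module.Free R L] [Module.Finite R L]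

/-- The endomorphism of `K / I` induced by an element of `N`. -/
noncomputable def tateAct (g : N) :
    tateSpace red P.K P.I P.hpK bI →ₗ[k] tateSpace red P.K P.I P.hpK bI :=
  (exists_descend red P.K P.I P.hpK bI h (ρ g) (P.hK g g.2) (P.hI g g.2)).choose

theorem tateAct_cls (g : N) (u : P.K) :
    tateAct P h bI g (clsT red P.K P.I P.hpK bI u) =
      clsT red P.K P.I P.hpK bI ⟨ρ g u, P.hK g g.2 u u.2⟩ :=
  ((exists_descend red P.K P.I P.hpK bI h (ρ g) (P.hK g g.2) (P.hI g g.2)).choose_spec u).symm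

/-- The representation of a subgroup of the normalizer on `K / I`. -/
noncomputable def tateRep {Q : Subgroup G} (hQN : Q ≤ N) :
    Representation k Q (tateSpace red P.K P.I P.hpK bI) where
  toFun q := tateAct P h bI ⟨q, hQN q.2⟩
  map_one' := LinearMap.ext fun c => by
    obtain ⟨u, rfl⟩ := clsT_surjective red P.K P.I P.hpK bI h c
    rw [tateAct_cls, Module.End.one_apply]
    congr 1
    exact Subtype.ext (by simp)
  map_mul' a b := LinearMap.ext fun c => by
    obtain ⟨u, rfl⟩ := clsT_surjective red P.K P.I P.hpK bI h c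
    rw [Module.End.mul_apply, tateAct_cls, tateAct_cls, tateAct_cls]
    congr 1
    exact Subtype.ext (by simp)

theorem tateRep_cls {Q : Subgroup G} (hQN : Q ≤ N) (q : Q) (u : P.K) :
    tateRep P h bI hQN q (clsT red P.K P.I P.hpK bI u) =
      clsT red P.K P.I P.hpK bI ⟨ρ q u, P.hK q (hQN q.2) u u.2⟩ :=
  tateAct_cls P h bI ⟨q, hQN q.2⟩ u

end Pair

variable [IsPrincipalIdealRing R] [IsAlgClosed k] [CharP k p] [Fact p.Prime]
variable {red : R →+* k} (h : IsRed p red) {x : G} (hx : orderOf x = p)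
variable {N Q : Subgroup G} (hxN : x ∈ N) (hN : ∀ g : G, g⁻¹ * x * g ∈ N → g ∈ N)
variable (hidx : ((N.index : ℕ) : k) = 1) (hNQ : N ≤ Subgroup.zpowers x ⊔ Q) (hQN : Q ≤ N)
variable (hQ : ¬ p ∣ Nat.card Q) (hQx : ∀ q ∈ Q, q⁻¹ * x * q ∈ Subgroup.zpowers x)
variable {E : G → R} (hcl : ∀ a b : G, E (a * b) = E (b * a))
variable (hG0 : (Nat.card G : R) ≠ 0)
variable (hE : ∀ g, ∑ v, E v * E (v⁻¹ * g) = (Nat.card G : R) * E g)

include h hx hxN hN hidx hNQ hQN hQ hQx hcl hG0 hE

open Polynomial in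
/-- The dimension of a Tate group is bounded by the number of eigenvalues times the bound on the
simple constituents. -/
theorem dim_le (P : Pair (latRep E) x p N) {ι : Type*} [Fintype ι] (bI : Basis ι R P.I)
    {sgn : k} (hsgn : sgn ≠ 0)
    (h1 : ∀ (g : tateSpace red P.K P.I P.hpK bI →ₗ[k] k) (v : P.K),
      ∃ φ : lat E →ₗ[R] lat E, Commute (latRep E x) φ ∧
      (∀ u : P.K, ∃ hu : φ u ∈ P.K,
        clsT red _ _ P.hpK bI ⟨φ u, hu⟩ =
          g (clsT red _ _ P.hpK bI u) • clsT red _ _ P.hpK bI v) ∧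
      ∀ Φ : lat E →ₗ[R] lat E, Commute (latRep E x) Φ → ∀ hv : Φ v ∈ P.K,
        red (LinearMap.trace R (lat E) (Φ * φ)) = sgn * g (clsT red _ _ P.hpK bI ⟨Φ v, hv⟩))
    {n d : ℕ}
    (hn : ∀ l : MonoidAlgebra R G, ∃ c : k[X], c.Monic ∧ c.natDegree ≤ n ∧
      ∀ l' : MonoidAlgebra R G,
        ∑ i ∈ Finset.range (n + 1), c.coeff i * red (ev (fun g => E g⁻¹) (l' * l ^ i)) = 0)
    (hd : ∀ S, IsMinStable (tateRep P h bI hQN) S → finrank k S ≤ d) :
    finrank k (tateSpace red P.K P.I P.hpK bI) ≤ n * d := by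
  classical
  letI : Fintype Q := Fintype.ofFinite Q
  have hQk : (Fintype.card Q : k) ≠ 0 := by
    rw [Ne, CharP.cast_eq_zero_iff k p, ← Nat.card_eq_fintype_card]; exact hQ
  set σ := tateRep P h bI hQN
  obtain ⟨r, π, hπc, hπo, hπs, -, hπm⟩ := exists_orth_aux σ hQk _ 1
    (fun q => Commute.one_right _) (one_mul 1) le_rfl
  -- lifts of equivariant endomorphisms
  have hlift : ∀ a : tateSpace red P.K P.I P.hpK bI →ₗ[k] tateSpace red P.K P.I P.hpK bI,
      (∀ q, Commute (σ q) a) → ∃ Φ : lat E →ₗ[R] lat E, (∀ g : G, Commute (latRep E g) Φ) ∧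
        (∀ u : P.K, ∃ hu : Φ u ∈ P.K,
          clsT red _ _ P.hpK bI ⟨Φ u, hu⟩ = a (clsT red _ _ P.hpK bI u)) ∧
        ∀ Φ' : lat E →ₗ[R] lat E, (∀ g : G, Commute (latRep E g) Φ') →
          ∀ b : tateSpace red P.K P.I P.hpK bI →ₗ[k] tateSpace red P.K P.I P.hpK bI,
          (∀ u : P.K, ∃ hu : Φ' u ∈ P.K,
            clsT red _ _ P.hpK bI ⟨Φ' u, hu⟩ = b (clsT red _ _ P.hpK bI u)) →
          red (LinearMap.trace R (lat E) (Φ' * Φ)) = sgn * LinearMap.trace k _ (b * a) := by
    intro a ha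
    obtain ⟨φ, hφx, hφ, hφt⟩ := exists_lift_of_rank_one red P.K P.I P.hpK bI h
      (fun φ => Commute (latRep E x) φ) (Commute.zero_right _) (fun _ _ h1 h2 => h1.add_right h2)
      sgn (fun Φ => Commute (latRep E x) Φ) h1 a
    obtain ⟨Φ, hΦc, hΦ, hΦt⟩ := exists_lift_group red P.K P.I P.hpK bI (latRep E) x h hx hxN hN
      hidx hNQ hQN hQ hQx P.hK P.hI P.hIK P.hT a (fun q hq u u' e => by
        rw [← tateRep_cls P h bI hQN ⟨q, hq⟩ u, ← Module.End.mul_apply, ← (ha ⟨q, hq⟩).eq,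
          Module.End.mul_apply, e, tateRep_cls]) φ hφx hφ
    exact ⟨Φ, hΦc, hΦ, fun Φ' hΦ' b hb => by rw [hΦt Φ' hΦ', hφt Φ' (hΦ' x) b hb]⟩
  -- `r ≤ n`
  have hr : r ≤ n := by
    obtain ⟨lam⟩ : Nonempty (Fin r ↪ k) := ⟨(Fin.valEmbedding).trans (Infinite.natEmbedding k)⟩
    set a := ∑ i, lam i • π i with ha
    have hac : ∀ q, Commute (σ q) a := fun q =>
      Commute.sum_right _ _ _ fun i _ => (hπc i q).smul_right _
    obtain ⟨Φ, hΦc, hΦ, -⟩ := hlift a hac
    obtain ⟨l, hl⟩ := act_surjective E (Φ (gen E))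
    obtain ⟨c, hcm, hcd, hc⟩ := hn l
    have haπ : ∀ (i : ℕ) (j : Fin r), a ^ i * π j = lam j ^ i • π j := by
      intro i j
      induction i with
      | zero => simp
      | succ i ih =>
        rw [pow_succ', mul_assoc, ih, mul_smul_comm, ha, Finset.sum_mul,
          Finset.sum_eq_single j (fun b _ hb => by rw [smul_mul_assoc, hπo, if_neg hb, smul_zero])
            (by simp), smul_mul_assoc, hπo, if_pos rfl, smul_smul, pow_succ]
    have hpow : ∀ i : ℕ, (∀ g : G, Commute (latRep E g) (Φ ^ i)) ∧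
        (Φ ^ i) (gen E) = act E (l ^ i) ∧ ∀ u : P.K, ∃ hu : (Φ ^ i) u ∈ P.K,
          clsT red _ _ P.hpK bI ⟨(Φ ^ i) u, hu⟩ = (a ^ i) (clsT red _ _ P.hpK bI u) := by
      intro i
      refine ⟨fun g => (hΦc g).pow_right i, ?_, ?_⟩
      · induction i with
        | zero => simp [act]
        | succ i ih => rw [pow_succ', comp_gen hΦc hl.symm ih, pow_succ]
      · induction i with
        | zero => exact fun u => ⟨by simp, by simp [clsT]⟩
        | succ i ih =>
          intro u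
          obtain ⟨hu, e⟩ := ih u
          obtain ⟨hu', e'⟩ := hΦ ⟨_, hu⟩
          have h2 : (Φ ^ (i + 1)) (u : lat E) = Φ ((Φ ^ i) u) := by
            rw [pow_succ', Module.End.mul_apply]
          refine ⟨h2 ▸ hu', ?_⟩
          rw [pow_succ' a, Module.End.mul_apply, ← e, ← e']
          congr 1
          exact Subtype.ext h2
    have hroot : ∀ j : Fin r, c.IsRoot (lam j) := by
      intro j
      obtain ⟨Ψ, hΨc, -, hΨt⟩ := hlift (π j) (hπc j)
      obtain ⟨l', hl'⟩ := act_surjective E (Ψ (gen E))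
      have h0 := hc l'
      have hterm : ∀ i : ℕ, red (ev (fun g => E g⁻¹) (l' * l ^ i)) =
          sgn * (lam j ^ i * ((finrank k (LinearMap.range (π j)) : ℕ) : k)) := by
        intro i
        have hcomm : ∀ g : G, Commute (latRep E g) (Φ ^ i * Ψ) :=
          fun g => ((hpow i).1 g).mul_right (hΨc g)
        have e1 := trace_eq hG0 hE rfl (Φ ^ i * Ψ) hcomm
          (comp_gen (hpow i).1 (hpow i).2.1 hl'.symm)
        haveI : Module.Free k (LinearMap.range (π j)) := @Module.Free.of_divisionRing k (LinearMap.range (π j)) _ (LinearMap.range (π j)).addCommGroup (LinearMap.range (π j)).module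
        haveI : Module.Free k (LinearMap.ker (π j)) := @Module.Free.of_divisionRing k (LinearMap.ker (π j)) _ (LinearMap.ker (π j)).addCommGroup (LinearMap.ker (π j)).module
        rw [← e1, hΨt _ (hpow i).1 _ (hpow i).2.2, haπ, map_smul, smul_eq_mul]
        congr 2
        refine LinearMap.IsProj.trace ⟨fun v => ⟨v, rfl⟩, ?_⟩
        rintro _ ⟨v, rfl⟩
        rw [← Module.End.mul_apply, hπo, if_pos rfl]
      simp only [hterm] at h0
      rw [IsRoot.def, eval_eq_sum_range' (show c.natDegree < n + 1 by omega)]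
      have hdne : sgn * ((finrank k (LinearMap.range (π j)) : ℕ) : k) ≠ 0 :=
        mul_ne_zero hsgn (finrank_ne_zero_of_min σ hQk (hπm j))
      refine (mul_eq_zero.mp ?_).resolve_right hdne
      rw [Finset.sum_mul]
      refine Eq.trans (Finset.sum_congr rfl fun i _ => ?_) h0
      ring
    calc r = (Finset.univ.map lam).card := by simp
      _ ≤ c.roots.toFinset.card := Finset.card_le_card fun y hy => by
          obtain ⟨j, -, rfl⟩ := Finset.mem_map.mp hy
          rw [Multiset.mem_toFinset, mem_roots hcm.ne_zero]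
          exact hroot j
      _ ≤ Multiset.card c.roots := Multiset.toFinset_card_le _
      _ ≤ n := (card_roots' c).trans hcd
  -- the dimension
  let S : (Π i, LinearMap.range (π i)) →ₗ[k] tateSpace red P.K P.I P.hpK bI :=
    ∑ i, (LinearMap.range (π i)).subtype ∘ₗ LinearMap.proj i
  have hS : Function.Surjective S := fun v =>
    ⟨fun i => ⟨π i v, ⟨v, rfl⟩⟩, by
      simp only [S, LinearMap.sum_apply, LinearMap.comp_apply, LinearMap.proj_apply,
        Submodule.subtype_apply]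
      rw [← LinearMap.sum_apply, hπs, Module.End.one_apply]⟩
  refine (LinearMap.finrank_le_finrank_of_surjective hS).trans ?_
  rw [Module.finrank_pi_fintype]
  calc ∑ i, finrank k (LinearMap.range (π i)) ≤ ∑ _i : Fin r, d :=
        Finset.sum_le_sum fun i _ => hd _ (hπm i)
    _ = r * d := by simp
    _ ≤ n * d := Nat.mul_le_mul_right d hr

omit hN hidx hQ hcl hG0 hE in
theorem pow_conj_mem {g : G} (hg : g ∈ N) : g⁻¹ * x * g ∈ Subgroup.zpowers x := by
  have hle : Subgroup.zpowers x ⊔ Q ≤ Subgroup.normalizer ((Subgroup.zpowers x : Subgroup G) : Set G) := by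
    refine sup_le Subgroup.le_normalizer fun q hq => ?_
    rw [← inv_mem_iff]
    refine mem_normalizer_of_conj_le (Subgroup.zpowers x) ?_
    rintro _ ⟨y, hy, rfl⟩
    obtain ⟨i, rfl⟩ := Subgroup.mem_zpowers_iff.mp hy
    show q⁻¹ * x ^ i * q⁻¹⁻¹ ∈ Subgroup.zpowers x
    rw [← conj_zpow]
    refine Subgroup.zpow_mem _ ?_ i
    rw [inv_inv]; exact hQx q hq
  have h2 := (Subgroup.mem_normalizer_iff.mp (inv_mem (hle (hNQ hg))) x).mp (Subgroup.mem_zpowers x)
  simpa using h2
where
  mem_normalizer_of_conj_le (H : Subgroup G) {q : G}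
      (hle : H.map (MulAut.conj q).toMonoidHom ≤ H) : q ∈ Subgroup.normalizer (H : Set G) := by
    refine Subgroup.mem_normalizer_iff_map_conj_eq.mpr (Subgroup.eq_of_le_of_card_ge hle ?_)
    exact le_of_eq (Subgroup.card_map_of_injective (MulAut.conj q).injective).symm

omit hN hidx hQ hcl hG0 hE in
/-- The image of the norm commutes with the normalizer. -/
theorem normSum_conj {L : Type w} [AddCommGroup L] [Module R L] (ρ : Representation R G L)
    {g : G} (hg : g ∈ N) : ρ g * normSum ρ x p = normSum ρ x p * ρ g := by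
  classical
  have hsum : normSum ρ x p = ∑ y ∈ (Finset.range p).image (x ^ ·), ρ y := by
    rw [Finset.sum_image]
    · rfl
    · intro i hi j hj e
      exact pow_injOn_Iio_orderOf (hx ▸ Finset.mem_range.mp hi) (hx ▸ Finset.mem_range.mp hj) e
  have hmem : ∀ y, y ∈ (Finset.range p).image (x ^ ·) ↔ y ∈ Subgroup.zpowers x := fun y => by
    rw [mem_zpowers_iff_mem_range_orderOf, hx]
  rw [hsum, Finset.mul_sum, Finset.sum_mul]
  refine Finset.sum_bij (fun y _ => g * y * g⁻¹) (fun y hy => ?_) (fun a _ b _ e => by simpa using e)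
    (fun y hy => ⟨g⁻¹ * y * g, ?_, by group⟩) (fun y _ => ?_)
  · rw [hmem] at hy ⊢
    obtain ⟨i, rfl⟩ := Subgroup.mem_zpowers_iff.mp hy
    rw [← conj_zpow]
    refine Subgroup.zpow_mem _ ?_ i
    simpa using pow_conj_mem h hx hxN hNQ hQN hQx (inv_mem hg)
  · rw [hmem] at hy ⊢
    obtain ⟨i, rfl⟩ := Subgroup.mem_zpowers_iff.mp hy
    have e : g⁻¹ * x ^ i * g = (g⁻¹ * x * g⁻¹⁻¹) ^ i := by rw [conj_zpow, inv_inv]
    rw [e]
    refine Subgroup.zpow_mem _ ?_ i
    rw [inv_inv]; exact pow_conj_mem h hx hxN hNQ hQN hQx hg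
  · rw [← map_mul, ← map_mul, inv_mul_cancel_right]

omit hN hidx hQ hcl hG0 hE in
theorem aug_stable {L : Type w} [AddCommGroup L] [Module R L] (ρ : Representation R G L)
    {g : G} (hg : g ∈ N) : ∀ u ∈ augI ρ x, ρ g u ∈ augI ρ x := by
  rintro _ ⟨v, rfl⟩
  have hgx := pow_conj_mem h hx hxN hNQ hQN hQx (inv_mem hg)
  rw [inv_inv] at hgx
  classical
  obtain ⟨i, -, hi⟩ := Finset.mem_image.mp (mem_zpowers_iff_mem_range_orderOf.mp hgx)
  have e : ρ g ((ρ x - 1) v) = ρ (x ^ i) (ρ g v) - ρ g v := by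
    rw [LinearMap.sub_apply, Module.End.one_apply, map_sub, ← Module.End.mul_apply, ← map_mul,
      show x ^ i = g * x * g⁻¹ from hi, ← Module.End.mul_apply, ← map_mul, inv_mul_cancel_right]
  rw [e]
  exact pow_sub_one_mem_augI ρ x i _

omit hN hidx hQ hcl hG0 hE in
theorem fix_stable {L : Type w} [AddCommGroup L] [Module R L] (ρ : Representation R G L)
    {g : G} (hg : g ∈ N) : ∀ u ∈ fixK ρ x, ρ g u ∈ fixK ρ x := by
  classical
  intro u hu
  obtain ⟨i, -, hi⟩ := Finset.mem_image.mp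
    (mem_zpowers_iff_mem_range_orderOf.mp (pow_conj_mem h hx hxN hNQ hQN hQx hg))
  rw [mem_fixK, ← Module.End.mul_apply, ← map_mul,
    show x * g = g * x ^ i by rw [show x ^ i = g⁻¹ * x * g from hi]; group, map_mul,
    Module.End.mul_apply, rho_pow_fix ρ x hu]

omit hN hidx hQ hcl hG0 hE in
theorem normI_stable {L : Type w} [AddCommGroup L] [Module R L] (ρ : Representation R G L)
    {g : G} (hg : g ∈ N) : ∀ u ∈ normI p ρ x, ρ g u ∈ normI p ρ x := by
  rintro _ ⟨v, rfl⟩
  refine ⟨ρ g v, ?_⟩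
  rw [← Module.End.mul_apply, ← Module.End.mul_apply, normSum_conj h hx hxN hNQ hQN hQx ρ hg]

omit hN hidx hQ hcl hG0 hE in
theorem normK_stable {L : Type w} [AddCommGroup L] [Module R L] (ρ : Representation R G L)
    {g : G} (hg : g ∈ N) : ∀ u ∈ normK p ρ x, ρ g u ∈ normK p ρ x := by
  intro u hu
  rw [LinearMap.mem_ker, ← Module.End.mul_apply, ← normSum_conj h hx hxN hNQ hQN hQx ρ hg,
    Module.End.mul_apply, show normSum ρ x p u = 0 from hu, map_zero]

/-- The bound on the Herbrand quotient of a translation lattice. -/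
theorem tate_bound {n d : ℕ}
    (hn : ∀ l : MonoidAlgebra R G, ∃ c : Polynomial k, c.Monic ∧ c.natDegree ≤ n ∧
      ∀ l' : MonoidAlgebra R G,
        ∑ i ∈ Finset.range (n + 1), c.coeff i * red (ev (fun g => E g⁻¹) (l' * l ^ i)) = 0)
    (hd : ∀ (P : Pair (latRep E) x p N) (m : ℕ) (bI : Basis (Fin m) R P.I),
      ∀ S, IsMinStable (tateRep P h bI hQN) S → finrank k S ≤ d) :
    ∃ a b : ℕ, a ≤ n * d ∧ b ≤ n * d ∧
      ((p : R) - 1) * ((a : R) - (b : R)) + E 1 = ∑ i ∈ Finset.range p, E (x ^ i)⁻¹ := by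
  classical
  have hxp : x ^ p = 1 := hx ▸ pow_orderOf_eq_one x
  let P₁ : Pair (latRep E) x p N :=
    ⟨fixK (latRep E) x, normI p (latRep E) x, p_fix_mem (latRep E) x,
      normI_le_fixK (latRep E) x hxp,
      fun g hg => fix_stable h hx hxN hNQ hQN hQx (latRep E) hg,
      fun g hg => normI_stable h hx hxN hNQ hQN hQx (latRep E) hg, relTrace_fix (latRep E) x⟩
  let P₂ : Pair (latRep E) x p N :=
    ⟨normK p (latRep E) x, augI (latRep E) x, p_ker_mem (latRep E) x,
      augI_le_normK (latRep E) x hxp,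
      fun g hg => normK_stable h hx hxN hNQ hQN hQx (latRep E) hg,
      fun g hg => aug_stable h hx hxN hNQ hQN hQx (latRep E) hg, relTrace_ker (latRep E) x hxp⟩
  haveI : Module.Free R (normI p (latRep E) x) :=
    Module.Free.of_basis (Submodule.basisOfPid (Module.finBasis R (lat E)) _).2
  haveI : Module.Free R (augI (latRep E) x) :=
    Module.Free.of_basis (Submodule.basisOfPid (Module.finBasis R (lat E)) _).2
  let b₁ := Module.finBasis R (normI p (latRep E) x)
  let b₂ := Module.finBasis R (augI (latRep E) x)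
  refine ⟨_, _,
    dim_le h hx hxN hN hidx hNQ hQN hQ hQx hcl hG0 hE P₁ b₁ one_ne_zero
      (exists_rank_one_fix red (latRep E) x h hxp b₁) hn (hd P₁ _ b₁),
    dim_le h hx hxN hN hidx hNQ hQN hQ hQx hcl hG0 hE P₂ b₂ (neg_ne_zero.mpr one_ne_zero)
      (exists_rank_one_ker red (latRep E) x h hxp b₂) hn (hd P₂ _ b₂), ?_⟩
  have he := euler (latRep E) x red h (Fact.out : p.Prime) hxp b₁ b₂
  rw [finrank_lat hG0 hE rfl, normSum, map_sum] at he
  simp only [trace_shift hG0 hE rfl hcl] at he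
  exact he

end Cfsg.Agent.Blocks.Tate
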