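import Cfsg.Agent.Lib.Blocks.DefectOneChar
import Cfsg.Agent.Lib.Blocks.DefectOneTools
import Cfsg.Agent.Lib.Blocks.UnramRing
import Cfsg.Agent.Lib.Blocks.TateBound

/-!
# The local bound in a block of defect one

The simple constituents of the Tate groups over a complement `Q` of the Sylow subgroup in its
normalizer lie over conjugates of `θ`, so their dimension is at most `[N : T] θ(1)`.
-/

set_option linter.unusedSectionVars false

namespace Cfsg.Agent.Blocks.D1

open scoped ComplexConjugate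
open Module

universe u

variable {G : Type u} [Group G] [Fintype G] {p : ℕ} [hp : Fact p.Prime] {P : Sylow p G}
variable (S : Setup P) {Q : Subgroup G} (hQN : Q ≤ cN P) (hQ : ¬ p ∣ Nat.card Q)
variable (hNQ : cN P ≤ Subgroup.zpowers S.x ⊔ Q)

include S in
/-- The conjugates of the generator by the normalizer. -/
theorem conj_x_mem {n : G} (hn : n ∈ cN P) : n⁻¹ * S.x * n ∈ Subgroup.zpowers S.x := by
  rw [S.hxP]
  have h := (Subgroup.mem_normalizer_iff.mp (inv_mem hn) S.x).mp S.x_mem_P
  rwa [inv_inv] at h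

include S in
/-- The generator lies in a single conjugate of the Sylow subgroup. -/
theorem mem_cN_of_conj_x {g : G} (hg : g⁻¹ * S.x * g ∈ cN P) : g ∈ cN P := by
  set y := g⁻¹ * S.x * g with hy
  have hoy : orderOf y = p := by
    have := orderOf_injective (MulAut.conj g⁻¹).toMonoidHom (MulAut.conj g⁻¹).injective S.x
    simp only [MulEquiv.coe_toMonoidHom, MulAut.conj_apply, inv_inv] at this
    rw [hy, this, S.hx]
  have hyp : IsPGroup p (Subgroup.zpowers y) :=
    IsPGroup.of_card (n := 1) (by rw [Nat.card_zpowers, hoy, pow_one])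
  have hle : Subgroup.zpowers y ⊔ (P : Subgroup G) = (P : Subgroup G) :=
    P.3 (IsPGroup.to_sup_of_normal_right' hyp P.2 (Subgroup.zpowers_le.mpr hg)) le_sup_right
  have hyP : y ∈ (P : Subgroup G) := hle ▸ Subgroup.mem_sup_left (Subgroup.mem_zpowers y)
  exact S.mem_cN_of_conj (c := S.xC) (by rw [S.ell_xC]; exact one_ne_zero) (S.P_le_cC hyP)

section Complement

include S hQN hQ hNQ

/-- The regular elements of the centralizer lie in the complement. -/
theorem ell_eq_zero_iff_mem (c : cC P) : S.ell c = 0 ↔ (c : G) ∈ Q := by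
  constructor
  · intro h0
    have hle : Q ≤ Subgroup.normalizer ((Subgroup.zpowers S.x : Subgroup G) : Set G) := by
      rw [S.hxP]; exact hQN
    have hc : (c : G) ∈ Subgroup.zpowers S.x ⊔ Q :=
      hNQ (Subgroup.centralizer_le_normalizer _ c.2)
    rw [← SetLike.mem_coe, Subgroup.coe_mul_of_right_le_normalizer_left _ _ hle] at hc
    obtain ⟨a, ha, q, hq, e⟩ := hc
    have haP : a ∈ (P : Subgroup G) := S.hxP ▸ ha
    have haC : a ∈ cC P := S.P_le_cC haP
    have hqC : q ∈ cC P := by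
      have : q = a⁻¹ * (c : G) := by rw [← e]; simp
      rw [this]; exact mul_mem (inv_mem haC) c.2
    have hq0 : S.ell ⟨q, hqC⟩ = 0 := (S.ell_eq_zero_iff _).mpr fun hd =>
      hQ (hd.trans (Subgroup.orderOf_dvd_natCard Q hq))
    have e' : c = ⟨a, haC⟩ * ⟨q, hqC⟩ := Subtype.ext e.symm
    obtain ⟨k, hk⟩ := (S.mem_P_iff (c := ⟨a, haC⟩)).mp haP
    have hk0 : k = 0 := by
      rw [e', S.ell_mul, hq0, add_zero, hk, S.ell_xpow] at h0
      exact h0
    rw [hk0, ZMod.val_zero, pow_zero] at hk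
    have ha1 : a = 1 := congrArg Subtype.val hk
    rw [← e, ha1]; simpa using hq
  · exact fun h => (S.ell_eq_zero_iff c).mpr fun hd =>
      hQ (hd.trans (Subgroup.orderOf_dvd_natCard Q h))

/-- The projection of the centralizer onto the regular elements. -/
noncomputable def regProj : cC P →* (cC P).subgroupOf Q where
  toFun c := ⟨⟨((S.xC ^ (S.ell c).val)⁻¹ * c : cC P),
    (ell_eq_zero_iff_mem S hQN hQ hNQ _).mp (by
      rw [S.ell_mul, S.ell_inv, S.ell_xpow, neg_add_cancel])⟩,
    Subgroup.mem_subgroupOf.mpr (((S.xC ^ (S.ell c).val)⁻¹ * c : cC P).2)⟩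
  map_one' := Subtype.ext (Subtype.ext (by simp [S.ell_one]))
  map_mul' a b := by
    refine Subtype.ext (Subtype.ext ?_)
    show (((S.xC ^ (S.ell (a * b)).val)⁻¹ * (a * b) : cC P) : G) =
      (((S.xC ^ (S.ell a).val)⁻¹ * a : cC P) : G) * (((S.xC ^ (S.ell b).val)⁻¹ * b : cC P) : G)
    rw [← Subgroup.coe_mul]
    congr 1
    have e : S.xC ^ (S.ell (a * b)).val = S.xC ^ (S.ell a).val * S.xC ^ (S.ell b).val := by
      rw [← pow_add, pow_eq_pow_iff_modEq, S.orderOf_xC, S.ell_mul, ZMod.val_add]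
      exact Nat.mod_modEq _ _
    rw [e, (S.xC_central (S.ell a).val _).mul_inv,
      ((S.xC_central (S.ell b).val a).inv_left).mul_mul_mul_comm]

theorem regProj_of_regular (k : (cC P).subgroupOf Q) :
    regProj S hQN hQ hNQ ⟨((k : Q) : G), k.2⟩ = k := by
  refine Subtype.ext (Subtype.ext ?_)
  show (((S.xC ^ (S.ell ⟨((k : Q) : G), k.2⟩).val)⁻¹ * ⟨((k : Q) : G), k.2⟩ : cC P) : G) = _
  rw [(ell_eq_zero_iff_mem S hQN hQ hNQ _).mpr (k : Q).2]
  simp

theorem regProj_surjective : Function.Surjective (regProj S hQN hQ hNQ) :=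
  fun k => ⟨_, regProj_of_regular S hQN hQ hNQ k⟩

theorem regProj_mem_P {c : cC P} (hc : (c : G) ∈ (P : Subgroup G)) :
    regProj S hQN hQ hNQ c = 1 := by
  obtain ⟨k, rfl⟩ := S.mem_P_iff.mp hc
  refine Subtype.ext (Subtype.ext ?_)
  show (((S.xC ^ (S.ell (S.xC ^ k.val)).val)⁻¹ * S.xC ^ k.val : cC P) : G) = _
  rw [S.ell_xpow, inv_mul_cancel]
  rfl

omit hQN hQ hNQ in
/-- The quotient of the complement by its part in the centralizer is cyclic. -/
theorem exists_units_hom (hQN : Q ≤ cN P) : ∃ u' : Q →* (ZMod p)ˣ, u'.ker = (cC P).subgroupOf Q :=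
  ⟨{ toFun := fun q => Units.mk0 (S.u (Subgroup.inclusion hQN q)) (S.u_ne_zero _)
     map_one' := Units.ext (by simp [S.u_one])
     map_mul' := fun a b => Units.ext (by simp [S.u_mul]) }, by
    ext q
    rw [MonoidHom.mem_ker, Units.ext_iff, Subgroup.mem_subgroupOf]
    exact S.u_eq_one_iff (Subgroup.inclusion hQN q)⟩

omit hQ hNQ in
theorem normal_regular : ((cC P).subgroupOf Q).Normal := by
  obtain ⟨u', hu'⟩ := exists_units_hom S hQN
  rw [← hu']; infer_instance

omit hQ hNQ in
theorem isCyclic_quotient [((cC P).subgroupOf Q).Normal] :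
    IsCyclic (Q ⧸ (cC P).subgroupOf Q) := by
  obtain ⟨u', hu'⟩ := exists_units_hom S hQN
  refine isCyclic_of_injective (QuotientGroup.lift ((cC P).subgroupOf Q) u' (le_of_eq hu'.symm)) ?_
  rw [← MonoidHom.ker_eq_bot_iff, eq_bot_iff]
  intro a ha
  obtain ⟨t, rfl⟩ := QuotientGroup.mk_surjective a
  rw [MonoidHom.mem_ker, QuotientGroup.lift_mk] at ha
  rw [Subgroup.mem_bot, QuotientGroup.eq_one_iff, ← hu']
  exact MonoidHom.mem_ker.mpr ha

end Complement

variable {M : Ideal AlgInt} [M.IsPrime]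

include S in
/-- The coefficients of a block idempotent lie in `R0`. -/
theorem blockCoeff_mem_R0 (hM : IsPModular p M) {B : Set (IrrCharacter G)} (hB : IsPBlock M B)
    (g : G) : blockCoeff B g ∈ R0 M p := by
  classical
  haveI := charP_res hM
  by_cases hg : p ∣ orderOf g
  · rw [blockCoeff_block_eq_zero hM hB hg]; exact zero_mem _
  set m := (P : Subgroup G).index
  have hGm : Nat.card G = p * m := by
    rw [← Subgroup.card_mul_index (P : Subgroup G)]
    exact congrArg (· * m) S.card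
  set a := ∑ᶠ χ ∈ B, (χ : G → ℂ) 1 * conj ((χ : G → ℂ) g) with ha
  have haW : a ∈ wRing p := by
    rw [ha, finsum_mem_irr]
    refine sum_mem fun χ _ => ?_
    split_ifs
    · refine mul_mem (irr_apply_mem_wRing χ.2 (by rw [orderOf_one]; exact hp.out.not_dvd_one)) ?_
      rw [← CT.char_inv_eq_conj (CT.isCharacter_of_isIrr χ.2)]
      exact irr_apply_mem_wRing χ.2 (by rwa [orderOf_inv])
    · exact zero_mem _
  have hbc : blockCoeff B g = a / ((p : ℂ) * m) := by
    rw [blockCoeff, hGm, Nat.cast_mul, inv_mul_eq_div]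
  have hp0 : (p : ℂ) ≠ 0 := Nat.cast_ne_zero.mpr hp.out.ne_zero
  have hm0 : (m : ℂ) ≠ 0 := Nat.cast_ne_zero.mpr Subgroup.index_ne_zero_of_finite
  have hI : MemLocalIdeal M a := by
    have hL := blockCoeff_mem_loc hB g
    have e : (⟨a, wRing_le_loc haW⟩ : Loc M) = (p : Loc M) * ((m : Loc M) * ⟨_, hL⟩) := by
      refine Subtype.ext ?_
      simp only [Subring.coe_mul, SubringClass.coe_natCast, hbc]
      field_simp
    have : red M (⟨a, wRing_le_loc haW⟩ : Loc M) = 0 := by
      rw [e, map_mul, map_natCast, CharP.cast_eq_zero, zero_mul]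
    exact red_eq_zero_iff.mp this
  obtain ⟨w, hw⟩ := p_dvd_of_memLocalIdeal hM (z := ⟨a, wRing_le_R0 haW⟩) hI
  have hw' : a = (p : ℂ) * (w : ℂ) := congrArg (fun t : R0 M p => (t : ℂ)) hw
  rw [hbc, hw', show (p : ℂ) * (w : ℂ) / ((p : ℂ) * m) = (w : ℂ) * (m : ℂ)⁻¹ by field_simp]
  refine mul_mem w.2 (inv_mem_R0 (natCast_mem _ m) fun h => P.not_dvd_index ?_)
  rw [← CharP.cast_eq_zero_iff (Res M) p]
  have : red M (m : Loc M) = 0 := red_eq_zero_iff.mpr h
  rwa [map_natCast] at this

variable (θ : IrrCharacter (cC P))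

/-- The stabilizer of a conjugate. -/
theorem stab_compIrr (n : cN P) : stab S (compIrr (S.cj n) θ) = stab S θ := by
  have hC : ∀ m : cN P, ((n * m * n⁻¹ * m⁻¹ : cN P) : G) ∈ cC P := fun m => by
    rw [← S.u_eq_one_iff, S.u_mul, S.u_mul, S.u_mul]
    have hn := S.u_mul n n⁻¹
    have hm := S.u_mul m m⁻¹
    rw [mul_inv_cancel, S.u_one] at hn hm
    calc S.u n * S.u m * S.u n⁻¹ * S.u m⁻¹ = (S.u n * S.u n⁻¹) * (S.u m * S.u m⁻¹) := by ring
      _ = 1 := by rw [← hn, ← hm, mul_one]
  ext m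
  have e : m ∈ stab S (compIrr (S.cj n) θ) ↔ n * m * n⁻¹ ∈ stab S θ := by
    simp only [mem_stab_iff, coe_compIrr]
    constructor
    · intro h c
      have := h (S.cj n⁻¹ c)
      simp only [← S.cj_mul] at this
      rw [← mul_assoc] at this
      rw [this, mul_inv_cancel, show S.cj 1 c = c from Subtype.ext (by simp)]
    · intro h c
      have := h (S.cj n c)
      simp only [← S.cj_mul] at this
      rw [← S.cj_mul, ← this]
      simp [mul_assoc]
  rw [e]
  have hk := cC_le_stab S θ (hC m)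
  constructor
  · intro h
    have := mul_mem (inv_mem hk) h
    simpa [mul_assoc] using this
  · intro h
    have := mul_mem hk h
    simpa [mul_assoc] using this

end Cfsg.Agent.Blocks.D1
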