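import Cfsg.Agent.Lib.Blocks.DefectOne
import Cfsg.Agent.S4652

/-!
# The principal block when the Sylow subgroup has prime order
-/

set_option linter.unusedSectionVars false

namespace Cfsg.Agent.Blocks.D1

universe u

variable {p : ℕ} [hp : Fact p.Prime] {G : Type u} [Group G] [Fintype G]
variable {M : Ideal AlgInt} [M.IsPrime]

/-- The structure of the principal block. -/
theorem exists_principal_structure (hM : IsPModular p M) (P : Sylow p G) (hP : Nat.card P = p)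
    {e : ℕ} (he : (cC P).relIndex (cN P) = e) :
    ∃ (X Y : Set (IrrCharacter G)) (εX : IrrCharacter G → ℤ) (ε : ℤ),
      e ∣ p - 1 ∧ principalBlock M G = X ∪ Y ∧ Disjoint X Y ∧ Nat.card X = e ∧
      Nat.card Y = (p - 1) / e ∧
      (∀ χ ∈ X, (εX χ = 1 ∨ εX χ = -1) ∧
        (charDegree (χ : G → ℂ) : ℤ) ≡ εX χ [ZMOD p] ∧
        ∀ x : G, x ∈ (P : Subgroup G) → x ≠ 1 → ∀ y : G, y ∈ cC P → ¬ p ∣ orderOf y →
          (χ : G → ℂ) (x * y) = (εX χ : ℂ)) ∧
      (ε = 1 ∨ ε = -1) ∧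
      (∀ ψ ∈ Y, (charDegree (ψ : G → ℂ) : ℤ) ≡ ε * (e : ℤ) [ZMOD p]) ∧
      (∀ ψ ∈ Y, ∀ ψ' ∈ Y, ∀ g : G, ¬ p ∣ orderOf g → (ψ : G → ℂ) g = (ψ' : G → ℂ) g) ∧
      ∀ ψ ∈ Y, ∀ g : G, ¬ p ∣ orderOf g →
        (ε : ℂ) * (ψ : G → ℂ) g = ∑ᶠ χ ∈ X, (εX χ : ℂ) * (χ : G → ℂ) g := by
  classical
  obtain ⟨S⟩ := exists_setup P hP
  have hBP : IsDefectGroup p M (principalBlock M G) (P : Subgroup G) :=
    (Cfsg.Agent.S4652.result p M hM _).mpr ⟨P, rfl⟩
  have hdef : InducedBlockDefined M (cC P) (principalBlock M (cC P)) :=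
    exists_inducedBlock hM P.2 S.P_le_cC le_rfl (Subgroup.centralizer_le_normalizer _)
      isPBlock_principalBlock
  have hind := (third_main hM hdef).mpr rfl
  obtain ⟨e₀, X, Y, εX, ε, hst, hdvd, hXY, hdis, hXc, hYc, hX, hε, hY, hag, hrel⟩ :=
    exists_structure S (CT.trivIrr (cC P)) (fun c _ => rfl) hM hBP hind trivIrr_mem_principalBlock
  have htop : stab S (CT.trivIrr (cC P)) = ⊤ :=
    top_le_iff.mp fun n _ c => rfl
  have hidx : (stab S (CT.trivIrr (cC P))).index = 1 := by rw [htop, Subgroup.index_top]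
  have h1 := Subgroup.card_mul_index ((cC P).subgroupOf (cN P))
  rw [card_subgroupOf (Subgroup.centralizer_le_normalizer _),
    show ((cC P).subgroupOf (cN P)).index = e from he] at h1
  have h2 : Nat.card (stab S (CT.trivIrr (cC P))) = Nat.card (cN P) := by
    rw [htop]; exact Nat.card_congr Subgroup.topEquiv.toEquiv
  rw [h2, ← h1] at hst
  have hee : e = e₀ := Nat.eq_of_mul_eq_mul_left Nat.card_pos hst
  subst hee
  have hd : charDegree ((CT.trivIrr (cC P) : IrrCharacter (cC P)) : cC P → ℂ) = 1 := by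
    simp [charDegree]
  refine ⟨X, Y, εX, ε, hdvd, hXY, hdis, hXc, hYc, fun χ hχ => ?_, hε, fun ψ hψ => ?_, hag, hrel⟩
  · obtain ⟨hs, hm, hv⟩ := hX χ hχ
    rw [hidx, hd, one_mul, Nat.cast_one, mul_one] at hm
    refine ⟨hs, hm, fun x hxP hx1 y hy hyr => ?_⟩
    have hxC : x ∈ cC P := S.P_le_cC hxP
    obtain ⟨k, hk⟩ := (S.mem_P_iff (c := ⟨x, hxC⟩)).mp hxP
    have hy0 : S.ell ⟨y, hy⟩ = 0 := (S.ell_eq_zero_iff _).mpr hyr
    have hk0 : k ≠ 0 := fun h0 => hx1 (by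
      rw [h0, ZMod.val_zero, pow_zero] at hk
      exact congrArg Subtype.val hk)
    have h := hv (⟨x, hxC⟩ * ⟨y, hy⟩) (by rw [S.ell_mul, hy0, add_zero, hk, S.ell_xpow]; exact hk0)
    simp only [CT.trivIrr_apply, Finset.sum_const, Finset.card_univ, nsmul_eq_mul, mul_one,
      ← Nat.card_eq_fintype_card, h2] at h
    rw [mul_comm (εX χ : ℂ)] at h
    exact mul_left_cancel₀ (Nat.cast_ne_zero.mpr Nat.card_pos.ne') h
  · have := hY ψ hψ
    rwa [hidx, hd, one_mul, mul_one] at this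

end Cfsg.Agent.Blocks.D1
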