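import Cfsg.Agent.Lib.Blocks.CentralProduct
import Cfsg.Agent.Lib.Blocks.Extended
import Cfsg.Agent.Lib.Blocks.UnramRing
import Cfsg.Agent.Lib.CT.Induced
import Cfsg.Agent.Lib.CT.Kernel
import Mathlib.GroupTheory.SchurZassenhaus
import Mathlib.NumberTheory.LegendreSymbol.AddCharacter

/-!
# Sylow subgroups of prime order: the local structure
-/

set_option linter.unusedSectionVars false

namespace Cfsg.Agent.Blocks.D1

universe u

variable {G : Type u} [Group G] [Fintype G] {p : ℕ} [hp : Fact p.Prime]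

/-- The centralizer of the Sylow subgroup. -/
abbrev cC (P : Sylow p G) : Subgroup G := Subgroup.centralizer ((P : Subgroup G) : Set G)

/-- The normalizer of the Sylow subgroup. -/
abbrev cN (P : Sylow p G) : Subgroup G := Subgroup.normalizer ((P : Subgroup G) : Set G)

noncomputable scoped instance fintypeCC (P : Sylow p G) : Fintype (cC P) := Fintype.ofFinite _

noncomputable scoped instance fintypeCN (P : Sylow p G) : Fintype (cN P) := Fintype.ofFinite _

theorem mem_cC_of_mem {P : Sylow p G} (hP : Nat.card P = p) {z : G} (hz : z ∈ (P : Subgroup G)) :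
    z ∈ cC P := by
  haveI : IsCyclic P := isCyclic_of_prime_card hP
  rw [Subgroup.mem_centralizer_iff]
  intro y hy
  letI := IsCyclic.commGroup (α := P)
  exact congrArg Subtype.val (mul_comm (⟨y, hy⟩ : P) ⟨z, hz⟩)

/-- A generator of the Sylow subgroup with the projection of its centralizer onto `ℤ/p`. -/
structure Setup (P : Sylow p G) where
  card : Nat.card P = p
  x : G
  hx : orderOf x = p
  hxP : Subgroup.zpowers x = (P : Subgroup G)
  ell : cC P → ZMod p
  ell_mul : ∀ a b, ell (a * b) = ell a + ell b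
  ell_x : ∀ h : x ∈ cC P, ell ⟨x, h⟩ = 1
  ell_eq_zero_iff : ∀ c : cC P, ell c = 0 ↔ ¬ p ∣ orderOf (c : G)

theorem exists_setup (P : Sylow p G) (hP : Nat.card P = p) : Nonempty (Setup P) := by
  classical
  haveI : IsCyclic P := isCyclic_of_prime_card hP
  obtain ⟨g, hg⟩ := IsCyclic.exists_generator (α := P)
  set x : G := (g : G)
  have hgtop : Subgroup.zpowers g = ⊤ := (Subgroup.eq_top_iff' _).mpr hg
  have hox : orderOf x = p := by
    rw [Subgroup.orderOf_coe, ← Nat.card_zpowers, hgtop, Subgroup.card_top]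
    exact hP
  have hxP : Subgroup.zpowers x = (P : Subgroup G) := by
    refine Subgroup.eq_of_le_of_card_ge (Subgroup.zpowers_le.mpr g.2) ?_
    rw [Nat.card_zpowers, hox]; exact le_of_eq hP
  have hxC : x ∈ cC P := mem_cC_of_mem hP g.2
  set xC : cC P := ⟨x, hxC⟩
  have hoxC : orderOf xC = p := by rw [← Subgroup.orderOf_coe]; exact hox
  set Pc := (P : Subgroup G).subgroupOf (cC P)
  have hPle : (P : Subgroup G) ≤ cC P := fun z hz => mem_cC_of_mem hP hz
  have hPcard : Nat.card Pc = p := (card_subgroupOf hPle).trans hP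
  haveI : Pc.Normal := by
    refine ⟨fun z hz c => ?_⟩
    rw [Subgroup.mem_subgroupOf] at hz ⊢
    have e : (c : G) * (z : G) * (c : G)⁻¹ = z := by
      rw [← Subgroup.mem_centralizer_iff.mp c.2 (z : G) hz, mul_inv_cancel_right]
    simp only [Subgroup.coe_mul, Subgroup.coe_inv]
    rw [e]; exact hz
  have hidx : ¬ p ∣ Pc.index := by
    show ¬ p ∣ (P : Subgroup G).relIndex (cC P)
    intro hd
    refine P.not_dvd_index (hd.trans ?_)
    exact Subgroup.relIndex_dvd_index_of_le hPle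
  obtain ⟨K, hK⟩ := Subgroup.exists_right_complement'_of_coprime (N := Pc)
    (by rw [hPcard]; exact (hp.out.coprime_iff_not_dvd).mpr hidx)
  have hKcard : ¬ p ∣ Nat.card K := by
    rw [← hK.symm.index_eq_card]; exact hidx
  have hdec : ∀ c : cC P, ∃ i : ZMod p, ∃ k ∈ K, c = xC ^ i.val * k := by
    intro c
    obtain ⟨⟨a, k⟩, hak⟩ := hK.2 c
    have ha : (a : cC P) ∈ Subgroup.zpowers xC := by
      have h' : ((a : cC P) : G) ∈ Subgroup.zpowers x := hxP ▸ a.2
      obtain ⟨i, hi⟩ := Subgroup.mem_zpowers_iff.mp h'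
      exact Subgroup.mem_zpowers_iff.mpr ⟨i, Subtype.ext (by simpa using hi)⟩
    obtain ⟨i, hi, e⟩ : ∃ i < p, xC ^ i = (a : cC P) := by
      obtain ⟨i, hi, e⟩ := Finset.mem_image.mp (mem_zpowers_iff_mem_range_orderOf.mp ha)
      exact ⟨i, hoxC ▸ Finset.mem_range.mp hi, e⟩
    exact ⟨(i : ZMod p), k, k.2, by rw [ZMod.val_natCast_of_lt hi, e]; exact hak.symm⟩
  choose ell k hk hck using hdec
  have hxmem : ∀ n : ℕ, xC ^ n ∈ Pc := fun n => Pc.pow_mem (Subgroup.mem_subgroupOf.mpr g.2) n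
  have huniq : ∀ (i : ZMod p) (k' : cC P), k' ∈ K → ∀ c, c = xC ^ i.val * k' → ell c = i := by
    intro i k' hk' c hc
    have e := hK.1 (a₁ := (⟨_, hxmem (ell c).val⟩, ⟨k c, hk c⟩)) (a₂ := (⟨_, hxmem i.val⟩, ⟨k', hk'⟩))
      ((hck c).symm.trans hc)
    have e1 : xC ^ (ell c).val = xC ^ i.val := congrArg (fun t => ((t.1 : Pc) : cC P)) e
    refine ZMod.val_injective p ?_
    exact pow_injOn_Iio_orderOf (by rw [Set.mem_Iio, hoxC]; exact ZMod.val_lt _)
      (by rw [Set.mem_Iio, hoxC]; exact ZMod.val_lt _) e1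
  have hcentral : ∀ (n : ℕ) (c : cC P), c * xC ^ n = xC ^ n * c := by
    intro n c
    refine Subtype.ext ?_
    show (c : G) * ((xC ^ n : cC P) : G) = _
    exact (Subgroup.mem_centralizer_iff.mp c.2 _ (hxmem n)).symm
  have hval : ∀ i j : ZMod p, xC ^ (i + j).val = xC ^ i.val * xC ^ j.val := by
    intro i j
    rw [← pow_add, pow_eq_pow_iff_modEq, hoxC, ZMod.val_add]
    exact Nat.mod_modEq _ _
  refine ⟨⟨hP, x, hox, hxP, ell, fun a b => ?_, fun h => ?_, fun c => ?_⟩⟩
  · refine huniq _ (k a * k b) (K.mul_mem (hk a) (hk b)) _ ?_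
    rw [hval]
    conv_lhs => rw [hck a, hck b]
    simp only [mul_assoc]
    rw [← mul_assoc (k a), hcentral, mul_assoc]
  · refine huniq 1 1 K.one_mem _ ?_
    rw [ZMod.val_one, pow_one, mul_one]
  · rw [Subgroup.orderOf_coe]
    have hok : ¬ p ∣ orderOf (k c) := fun hd =>
      hKcard (hd.trans (Subgroup.orderOf_dvd_natCard K (hk c)))
    constructor
    · intro h
      rw [hck c, h, ZMod.val_zero, pow_zero, one_mul]
      exact hok
    · intro h
      by_contra hne
      refine h ?_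
      have hv : ¬ p ∣ (ell c).val := fun hd => hne ((ZMod.val_eq_zero _).mp
        (Nat.eq_zero_of_dvd_of_lt hd (ZMod.val_lt _)))
      have hox' : orderOf (xC ^ (ell c).val) = p := by
        rw [orderOf_pow, hoxC, (hp.out.coprime_iff_not_dvd.mpr hv).gcd_eq_one, Nat.div_one]
      have hcom : Commute (xC ^ (ell c).val) (k c) := (hcentral _ _).symm
      rw [hck c, hcom.orderOf_mul_eq_mul_orderOf_of_coprime
        (by rw [hox']; exact hp.out.coprime_iff_not_dvd.mpr hok), hox']
      exact dvd_mul_right _ _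

namespace Setup

variable {P : Sylow p G} (S : Setup P)
include S

theorem x_mem_P : S.x ∈ (P : Subgroup G) :=
  S.hxP ▸ Subgroup.mem_zpowers S.x

theorem P_le_cC : (P : Subgroup G) ≤ cC P := fun _ hz => mem_cC_of_mem S.card hz

theorem x_mem : S.x ∈ cC P := S.P_le_cC S.x_mem_P

/-- The generator as an element of the centralizer. -/
def xC : cC P := ⟨S.x, S.x_mem⟩

theorem ell_xC : S.ell S.xC = 1 := S.ell_x _

theorem ell_one : S.ell 1 = 0 := by
  have h := S.ell_mul 1 1
  rwa [one_mul, left_eq_add] at h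

theorem ell_inv (c : cC P) : S.ell c⁻¹ = -S.ell c := by
  rw [eq_neg_iff_add_eq_zero, ← S.ell_mul, inv_mul_cancel, S.ell_one]

theorem ell_pow (c : cC P) (n : ℕ) : S.ell (c ^ n) = n * S.ell c := by
  induction n with
  | zero => simp [S.ell_one]
  | succ n ih => rw [pow_succ, S.ell_mul, ih, Nat.cast_succ]; ring

theorem orderOf_xC : orderOf S.xC = p := by
  rw [← Subgroup.orderOf_coe]; exact S.hx

theorem xC_central (n : ℕ) (c : cC P) : Commute (S.xC ^ n) c := by
  refine Subtype.ext ?_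
  show ((S.xC ^ n : cC P) : G) * (c : G) = (c : G) * _
  exact Subgroup.mem_centralizer_iff.mp c.2 _ (by
    rw [SubmonoidClass.coe_pow]; exact pow_mem S.x_mem_P n)

/-- The decomposition into `p`-part and regular part. -/
theorem exists_decomp (c : cC P) : ∃ y : cC P, c = S.xC ^ (S.ell c).val * y ∧ S.ell y = 0 := by
  refine ⟨(S.xC ^ (S.ell c).val)⁻¹ * c, by rw [mul_inv_cancel_left], ?_⟩
  rw [S.ell_mul, S.ell_inv, S.ell_pow, S.ell_xC, mul_one, ZMod.natCast_zmod_val, neg_add_cancel]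

theorem ell_xpow (k : ZMod p) : S.ell (S.xC ^ k.val) = k := by
  rw [S.ell_pow, S.ell_xC, mul_one, ZMod.natCast_zmod_val]

theorem centralizer_x : Subgroup.centralizer ({S.x} : Set G) = cC P := by
  rw [← centralizer_zpowers_eq, S.hxP]

theorem mem_P_iff {c : cC P} : (c : G) ∈ (P : Subgroup G) ↔ ∃ k : ZMod p, c = S.xC ^ k.val := by
  constructor
  · intro h
    have h' : (c : G) ∈ Subgroup.zpowers S.x := S.hxP ▸ h
    classical
    obtain ⟨i, hi, e⟩ := Finset.mem_image.mp (mem_zpowers_iff_mem_range_orderOf.mp h')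
    refine ⟨(i : ZMod p), Subtype.ext ?_⟩
    rw [ZMod.val_natCast_of_lt (S.hx ▸ Finset.mem_range.mp hi), SubmonoidClass.coe_pow]
    exact e.symm
  · rintro ⟨k, rfl⟩
    rw [SubmonoidClass.coe_pow]
    exact pow_mem S.x_mem_P _

theorem conj_mem {n c : G} (hn : n ∈ cN P) (hc : c ∈ cC P) : n * c * n⁻¹ ∈ cC P :=
  (centralizer_conj_mem hn).mpr hc

/-- Conjugation by an element of the normalizer. -/
def cj (n : cN P) : cC P ≃* cC P where
  toFun c := ⟨n * c * (n : G)⁻¹, S.conj_mem n.2 c.2⟩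
  invFun c := ⟨(n : G)⁻¹ * c * n, by simpa using S.conj_mem (inv_mem n.2) c.2⟩
  left_inv c := Subtype.ext (by simp [mul_assoc])
  right_inv c := Subtype.ext (by simp [mul_assoc])
  map_mul' a b := Subtype.ext (by simp [mul_assoc])

@[simp] theorem coe_cj (n : cN P) (c : cC P) : (S.cj n c : G) = n * c * (n : G)⁻¹ := rfl

theorem cj_mul (m n : cN P) (c : cC P) : S.cj (m * n) c = S.cj m (S.cj n c) :=
  Subtype.ext (by simp [mul_assoc])

/-- The action of the normalizer on the Sylow subgroup. -/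
def u (n : cN P) : ZMod p := S.ell (S.cj n S.xC)

theorem ell_cj (n : cN P) (c : cC P) : S.ell (S.cj n c) = S.u n * S.ell c := by
  obtain ⟨y, hy, hy0⟩ := S.exists_decomp c
  conv_lhs => rw [hy]
  rw [map_mul, S.ell_mul, map_pow, S.ell_pow, ZMod.natCast_zmod_val, u,
    show S.ell (S.cj n y) = 0 from ?_, add_zero, mul_comm]
  rw [S.ell_eq_zero_iff] at hy0 ⊢
  rwa [coe_cj, show orderOf ((n : G) * y * (n : G)⁻¹) = orderOf (y : G) from
    (orderOf_injective (MulAut.conj (n : G)).toMonoidHom (MulAut.conj (n : G)).injective (y : G))]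

theorem u_mul (m n : cN P) : S.u (m * n) = S.u m * S.u n := by
  rw [u, cj_mul, ell_cj]; rfl

theorem u_one : S.u 1 = 1 := by
  rw [u, show S.cj 1 S.xC = S.xC from Subtype.ext (by simp), S.ell_xC]

theorem u_ne_zero (n : cN P) : S.u n ≠ 0 := by
  intro h
  have := S.u_mul n⁻¹ n
  rw [inv_mul_cancel, S.u_one, h, mul_zero] at this
  exact one_ne_zero this

theorem u_eq_one_iff (n : cN P) : S.u n = 1 ↔ (n : G) ∈ cC P := by
  constructor
  · intro h
    rw [← S.centralizer_x, Subgroup.mem_centralizer_singleton_iff]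
    have hP' : ((S.cj n S.xC : cC P) : G) ∈ (P : Subgroup G) :=
      (Subgroup.mem_normalizer_iff.mp n.2 _).mp S.x_mem_P
    obtain ⟨k, hk⟩ := S.mem_P_iff.mp hP'
    have hk1 : k = 1 := by rw [← h, u, hk, S.ell_xpow]
    have e := congrArg Subtype.val hk
    rw [hk1, ZMod.val_one, pow_one, coe_cj] at e
    exact mul_inv_eq_iff_eq_mul.mp e
  · intro h
    rw [u, show S.cj n S.xC = S.xC from Subtype.ext ?_, S.ell_xC]
    show (n : G) * S.x * (n : G)⁻¹ = S.x
    rw [← Subgroup.mem_centralizer_iff.mp h S.x S.x_mem_P, mul_inv_cancel_right]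

theorem singular_iff (c : cC P) : p ∣ orderOf (c : G) ↔ S.ell c ≠ 0 := by
  rw [Ne, S.ell_eq_zero_iff, not_not]

theorem ppart_of_decomp {c y : cC P} (hy : c = S.xC ^ (S.ell c).val * y) (hy0 : S.ell y = 0) :
    IsPPart p (c : G) ((S.xC ^ (S.ell c).val : cC P) : G) := by
  set k := (S.ell c).val
  have hx : ((S.xC ^ k : cC P) : G) ^ p ^ 1 = 1 := by
    rw [pow_one, ← SubmonoidClass.coe_pow, ← pow_mul, mul_comm, pow_mul]
    rw [orderOf_dvd_iff_pow_eq_one.mp (dvd_of_eq S.orderOf_xC), one_pow, OneMemClass.coe_one]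
  have h := isPPart_mk (p := p) (x := ((S.xC ^ k : cC P) : G)) (y := (y : G))
    (congrArg Subtype.val (S.xC_central k y).eq) ⟨1, hx⟩ ((S.ell_eq_zero_iff y).mp hy0)
  rwa [← Subgroup.coe_mul, ← hy] at h

/-- Fusion of singular elements of the centralizer is controlled by the normalizer. -/
theorem mem_cN_of_conj {c : cC P} (hc : S.ell c ≠ 0) {g : G} (hg : g⁻¹ * (c : G) * g ∈ cC P) :
    g ∈ cN P := by
  obtain ⟨y, hy, hy0⟩ := S.exists_decomp c
  set d : cC P := ⟨_, hg⟩
  obtain ⟨y', hy', hy0'⟩ := S.exists_decomp d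
  have h1 := S.ppart_of_decomp hy hy0
  have h2 := S.ppart_of_decomp hy' hy0'
  have h3 : IsPPart p (d : G) (g⁻¹ * ((S.xC ^ (S.ell c).val : cC P) : G) * g) := by
    have := ppart_conj h1 g⁻¹
    simpa [d] using this
  have e := ppart_unique h3 h2
  set k := S.ell c
  set z : G := ((S.xC ^ k.val : cC P) : G)
  have hzP : z ∈ (P : Subgroup G) := S.mem_P_iff.mpr ⟨k, rfl⟩
  have hz1 : z ≠ 1 := by
    intro h
    refine hc ?_
    have : S.xC ^ k.val = 1 := Subtype.ext h
    rw [← S.ell_xpow k, this, S.ell_one]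
  have hgen : Subgroup.zpowers z = (P : Subgroup G) := by
    refine Subgroup.eq_of_le_of_card_ge (Subgroup.zpowers_le.mpr hzP) ?_
    have hd := Subgroup.card_dvd_of_le (Subgroup.zpowers_le.mpr hzP)
    rcases (Nat.dvd_prime hp.out).mp (hd.trans (dvd_of_eq S.card)) with h | h
    · rw [Nat.card_zpowers, orderOf_eq_one_iff] at h
      exact absurd h hz1
    · rw [h]; exact le_of_eq S.card
  rw [← inv_mem_iff, Subgroup.mem_normalizer_iff_map_conj_eq, ← hgen, MonoidHom.map_zpowers]
  show Subgroup.zpowers (g⁻¹ * z * g⁻¹⁻¹) = _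
  rw [inv_inv]
  refine Subgroup.eq_of_le_of_card_ge ?_ ?_
  · rw [hgen, Subgroup.zpowers_le, e]
    exact S.mem_P_iff.mpr ⟨_, rfl⟩
  · rw [Nat.card_zpowers, Nat.card_zpowers]
    exact le_of_eq (orderOf_injective (MulAut.conj g⁻¹).toMonoidHom (MulAut.conj g⁻¹).injective z
      |>.symm.trans (by simp))

/-- Singular elements are conjugate into the centralizer. -/
theorem exists_conj_mem {g : G} (hg : p ∣ orderOf g) :
    ∃ h : G, ∃ hm : h⁻¹ * g * h ∈ cC P, S.ell ⟨_, hm⟩ ≠ 0 := by
  obtain ⟨z, hz, -⟩ := exists_isPPart (p := p) g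
  obtain ⟨y, hzy, hcom, ⟨j, hj⟩, hy⟩ := hz
  have hzp : IsPGroup p (Subgroup.zpowers z) := by
    refine IsPGroup.of_card (n := j) ?_
    rw [Nat.card_zpowers, hj]
  obtain ⟨Q, hQ⟩ := hzp.exists_le_sylow
  obtain ⟨h, hh⟩ := MulAction.exists_smul_eq G P Q
  have hz1 : z ≠ 1 := by
    intro h1
    rw [h1, one_mul] at hzy
    exact hy (hzy ▸ hg)
  have hzP : h⁻¹ * z * h ∈ (P : Subgroup G) := by
    have h4 : z ∈ ((h • P : Sylow p G) : Subgroup G) := hh.symm ▸ hQ (Subgroup.mem_zpowers z)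
    rw [Sylow.coe_subgroup_smul, Subgroup.mem_pointwise_smul_iff_inv_smul_mem] at h4
    simpa [MulAut.conj_apply] using h4
  have hcom' : Commute (h⁻¹ * z * h) (h⁻¹ * g * h) := by
    have : Commute z g := hzy ▸ (Commute.refl z).mul_right hcom
    calc h⁻¹ * z * h * (h⁻¹ * g * h) = h⁻¹ * (z * g) * h := by group
      _ = h⁻¹ * (g * z) * h := by rw [this.eq]
      _ = h⁻¹ * g * h * (h⁻¹ * z * h) := by group
  have hmem : h⁻¹ * g * h ∈ cC P := by
    have hgen : Subgroup.zpowers (h⁻¹ * z * h) = (P : Subgroup G) := by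
      refine Subgroup.eq_of_le_of_card_ge (Subgroup.zpowers_le.mpr hzP) ?_
      have hd := Subgroup.card_dvd_of_le (Subgroup.zpowers_le.mpr hzP)
      rcases (Nat.dvd_prime hp.out).mp (hd.trans (dvd_of_eq S.card)) with h' | h'
      · rw [Nat.card_zpowers, orderOf_eq_one_iff] at h'
        refine absurd ?_ hz1
        calc z = h * (h⁻¹ * z * h) * h⁻¹ := by group
          _ = 1 := by rw [h']; group
      · rw [h']; exact le_of_eq S.card
    show h⁻¹ * g * h ∈ Subgroup.centralizer ((P : Subgroup G) : Set G)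
    rw [← hgen, centralizer_zpowers_eq, Subgroup.mem_centralizer_singleton_iff]
    exact hcom'.symm.eq
  refine ⟨h, hmem, (S.singular_iff ⟨_, hmem⟩).mp ?_⟩
  have : orderOf (h⁻¹ * g * h) = orderOf g := by
    have := orderOf_injective (MulAut.conj h⁻¹).toMonoidHom (MulAut.conj h⁻¹).injective g
    simpa using this
  show p ∣ orderOf (h⁻¹ * g * h)
  rw [this]; exact hg

theorem index_cN_modEq : (cN P).index ≡ 1 [MOD p] := by
  rw [show (cN P).index = Nat.card (Sylow p G) from (Sylow.card_eq_index_normalizer P).symm]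
  exact card_sylow_modEq_one p G

theorem card_cC : ∃ m : ℕ, Nat.card (cC P) = p * m ∧ ¬ p ∣ m := by
  refine ⟨((P : Subgroup G).subgroupOf (cC P)).index, ?_, ?_⟩
  · rw [← Subgroup.card_mul_index ((P : Subgroup G).subgroupOf (cC P)),
      card_subgroupOf S.P_le_cC]
    congr 1
    exact S.card
  · exact fun hd => P.not_dvd_index (hd.trans (Subgroup.relIndex_dvd_index_of_le S.P_le_cC))

/-- A complement of the Sylow subgroup in its normalizer. -/
theorem exists_complement : ∃ Q : Subgroup G, Q ≤ cN P ∧ ¬ p ∣ Nat.card Q ∧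
    cN P ≤ Subgroup.zpowers S.x ⊔ Q := by
  haveI : ((P : Subgroup G).subgroupOf (cN P)).Normal := Subgroup.normal_in_normalizer
  have hidx : ¬ p ∣ ((P : Subgroup G).subgroupOf (cN P)).index := fun hd =>
    P.not_dvd_index (hd.trans (Subgroup.relIndex_dvd_index_of_le Subgroup.le_normalizer))
  obtain ⟨K, hK⟩ := Subgroup.exists_right_complement'_of_coprime
    (N := (P : Subgroup G).subgroupOf (cN P)) (by
      rw [card_subgroupOf Subgroup.le_normalizer, show Nat.card (P : Subgroup G) = p from S.card]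
      exact (hp.out.coprime_iff_not_dvd).mpr hidx)
  refine ⟨K.map (cN P).subtype, Subgroup.map_subtype_le _, ?_, ?_⟩
  · rw [Subgroup.card_map_of_injective (cN P).subtype_injective, ← hK.symm.index_eq_card]
    exact hidx
  · intro n hn
    obtain ⟨⟨a, k⟩, hak⟩ := hK.2 ⟨n, hn⟩
    have e : n = ((a : cN P) : G) * ((k : cN P) : G) := (congrArg Subtype.val hak).symm
    rw [e]
    exact Subgroup.mul_mem_sup (by rw [S.hxP]; exact a.2) ⟨k, k.2, rfl⟩

end Setup

end Cfsg.Agent.Blocks.D1
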