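import Mathlib.LinearAlgebra.FreeModule.PID
import Mathlib.LinearAlgebra.Matrix.ToLin
import Mathlib.Data.Real.Basic
import Mathlib.Tactic.LinearCombination
import Mathlib.LinearAlgebra.Matrix.Trace
import Mathlib.LinearAlgebra.Matrix.Notation
import Mathlib.RingTheory.PrincipalIdealDomain
import Mathlib.Algebra.EuclideanDomain.Int
import Mathlib.RingTheory.Int.Basic

/-!
# Integral symmetric matrices which are scaled idempotents

Such a matrix factors as `D Q Dᵀ` through a saturated integral `D`; in rank two the Gram matrix of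
`D` can be reduced, which bounds the value of the form `x² + y² - xy` on it.
-/

namespace Cfsg.Agent.Blocks

open Matrix

/-- A factorisation of a scaled idempotent through its integral row lattice. -/
theorem exists_lattice_factor {ι : Type*} [Fintype ι] [DecidableEq ι] (X : Matrix ι ι ℤ)
    (hs : Xᵀ = X) (q : ℤ) (hX : X * X = q • X) :
    ∃ (l : ℕ) (D : Matrix ι (Fin l) ℤ) (A : Matrix (Fin l) ι ℤ),
      A * D = 1 ∧ X = D * (A * X * Aᵀ) * Dᵀ ∧ (A * X * Aᵀ) * (Dᵀ * D) = q • (1 : Matrix (Fin l) (Fin l) ℤ) ∧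
        trace X = q * l := by
  classical
  obtain ⟨l, F⟩ := Submodule.basisOfPid (Pi.basisFun ℤ ι) (LinearMap.range X.mulVecLin)
  choose a ha using fun j => LinearMap.mem_range.mp (F j).2
  let A : Matrix (Fin l) ι ℤ := Matrix.of fun j i => a j i
  let D : Matrix ι (Fin l) ℤ := Matrix.of fun i j =>
    F.repr ⟨X.mulVecLin (Pi.single i 1), LinearMap.mem_range_self _ _⟩ j
  have hF : ∀ i j, (X * Aᵀ) i j = (F j : ι → ℤ) i := fun i j => by
    rw [← ha j]
    rfl
  have hinj : ∀ v : Fin l → ℤ, (X * Aᵀ) *ᵥ v = 0 → v = 0 := by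
    intro v hv
    have h : ∑ j, v j • F j = 0 := by
      apply Subtype.ext
      funext i
      simp only [AddSubmonoidClass.coe_finsetSum, Finset.sum_apply, SetLike.val_smul, Pi.smul_apply,
        smul_eq_mul, ZeroMemClass.coe_zero, Pi.zero_apply]
      refine Eq.trans ?_ (congrFun hv i)
      simp only [Matrix.mulVec, dotProduct, hF]
      exact Finset.sum_congr rfl fun j _ => mul_comm _ _
    exact funext fun j => Fintype.linearIndependent_iff.mp F.linearIndependent v h j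
  have hcancel : ∀ {m : Type} [Fintype m] (Y : Matrix (Fin l) m ℤ), X * Aᵀ * Y = 0 → Y = 0 := by
    intro m _ Y hY
    ext j k
    have := hinj (fun j => Y j k) (funext fun i => congrFun (congrFun hY i) k)
    exact congrFun this j
  have h1 : X = X * Aᵀ * Dᵀ := by
    ext i' i
    have h := congrArg (fun w : LinearMap.range X.mulVecLin => (w : ι → ℤ) i')
      (F.sum_repr ⟨X.mulVecLin (Pi.single i 1), LinearMap.mem_range_self _ _⟩)
    simp only [AddSubmonoidClass.coe_finsetSum, Finset.sum_apply, SetLike.val_smul, Pi.smul_apply,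
      smul_eq_mul] at h
    rw [show X i' i = X.mulVecLin (Pi.single i 1) i' by simp, ← h, Matrix.mul_apply]
    exact Finset.sum_congr rfl fun j _ => by rw [hF]; simp [D, mul_comm]
  have h2 : Dᵀ * Aᵀ = 1 := by
    refine sub_eq_zero.mp (hcancel _ ?_)
    rw [Matrix.mul_sub, Matrix.mul_one, ← Matrix.mul_assoc, ← h1, sub_self]
  have hAD : A * D = 1 := by
    have := congrArg transpose h2
    simpa using this
  have h3 : X = D * A * X := by
    have := congrArg transpose h1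
    rw [transpose_mul, transpose_mul, transpose_transpose, transpose_transpose, hs,
      ← Matrix.mul_assoc] at this
    exact this
  set Q := A * X * Aᵀ with hQ
  have h4 : X = D * Q * Dᵀ := by
    conv_lhs => rw [h3, h1]
    simp only [hQ, Matrix.mul_assoc]
  have h5 : X * Aᵀ = D * Q := by
    conv_lhs => rw [h4]
    rw [Matrix.mul_assoc, h2, Matrix.mul_one]
  have h6 : Q * (Dᵀ * D) * Q = q • Q := by
    have h := congrArg (fun Y => A * Y * Aᵀ) hX
    simp only [Matrix.mul_smul, Matrix.smul_mul] at h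
    rw [← hQ] at h
    rw [← h]
    conv_rhs => rw [h4]
    simp only [Matrix.mul_assoc, h2, Matrix.mul_one]
    simp only [← Matrix.mul_assoc, hAD, Matrix.one_mul]
  have h7 : Dᵀ * D * Q = q • (1 : Matrix (Fin l) (Fin l) ℤ) := by
    refine sub_eq_zero.mp (hcancel _ ?_)
    rw [h5, Matrix.mul_assoc, Matrix.mul_sub, ← Matrix.mul_assoc Q, h6, Matrix.mul_smul,
      Matrix.mul_one, sub_self, Matrix.mul_zero]
  have hQs : Qᵀ = Q := by
    rw [hQ, transpose_mul, transpose_mul, transpose_transpose, hs, Matrix.mul_assoc]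
  have hCs : (Dᵀ * D)ᵀ = Dᵀ * D := by rw [transpose_mul, transpose_transpose]
  have h8 : Q * (Dᵀ * D) = q • (1 : Matrix (Fin l) (Fin l) ℤ) := by
    have := congrArg transpose h7
    rwa [transpose_mul, hQs, hCs, transpose_smul, transpose_one] at this
  refine ⟨l, D, A, hAD, h4, h8, ?_⟩
  conv_lhs => rw [h4]
  rw [Matrix.trace_mul_comm, ← Matrix.mul_assoc, h7, trace_smul, trace_one]
  simp

/-- In rank two the Gram matrix may be taken reduced. -/
theorem exists_reduced_factor {ι : Type*} [Fintype ι] [DecidableEq ι] (X : Matrix ι ι ℤ)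
    (hs : Xᵀ = X) (q : ℤ) (D : Matrix ι (Fin 2) ℤ) (A : Matrix (Fin 2) ι ℤ) (hAD : A * D = 1)
    (hf : X = D * (A * X * Aᵀ) * Dᵀ)
    (hq : (A * X * Aᵀ) * (Dᵀ * D) = q • (1 : Matrix (Fin 2) (Fin 2) ℤ)) :
    ∃ (D : Matrix ι (Fin 2) ℤ) (A : Matrix (Fin 2) ι ℤ), A * D = 1 ∧
      X = D * (A * X * Aᵀ) * Dᵀ ∧ (A * X * Aᵀ) * (Dᵀ * D) = q • (1 : Matrix (Fin 2) (Fin 2) ℤ) ∧
      |2 * (Dᵀ * D) 0 1| ≤ (Dᵀ * D) 0 0 ∧ |2 * (Dᵀ * D) 0 1| ≤ (Dᵀ * D) 1 1 := by
  classical
  let P : ℕ → Prop := fun n => ∃ (D : Matrix ι (Fin 2) ℤ) (A : Matrix (Fin 2) ι ℤ), A * D = 1 ∧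
      X = D * (A * X * Aᵀ) * Dᵀ ∧ (A * X * Aᵀ) * (Dᵀ * D) = q • (1 : Matrix (Fin 2) (Fin 2) ℤ) ∧
      (trace (Dᵀ * D)).toNat = n
  have hex : ∃ n, P n := ⟨_, D, A, hAD, hf, hq, rfl⟩
  obtain ⟨D, A, hAD, hf, hq, hn⟩ := Nat.find_spec hex
  have hdiag : ∀ (E : Matrix ι (Fin 2) ℤ) i, 0 ≤ (Eᵀ * E) i i := fun E i =>
    Finset.sum_nonneg fun k _ => mul_self_nonneg (E k i)
  have hmove : ∀ U V : Matrix (Fin 2) (Fin 2) ℤ, V * U = 1 → U * V = 1 →
      trace (Dᵀ * D) ≤ trace ((D * U)ᵀ * (D * U)) := by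
    intro U V hVU hUV
    by_contra hlt
    push Not at hlt
    have hQ : V * A * X * (V * A)ᵀ = V * (A * X * Aᵀ) * Vᵀ := by
      rw [transpose_mul]; simp only [Matrix.mul_assoc]
    have hUVt : Vᵀ * Uᵀ = 1 := by rw [← transpose_mul, hUV, transpose_one]
    refine Nat.find_min hex (m := (trace ((D * U)ᵀ * (D * U))).toNat) ?_
      ⟨D * U, V * A, ?_, ?_, ?_, rfl⟩
    · rw [← hn]
      have : 0 ≤ trace ((D * U)ᵀ * (D * U)) := Finset.sum_nonneg fun i _ => hdiag _ i
      omega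
    · rw [Matrix.mul_assoc, ← Matrix.mul_assoc A, hAD, Matrix.one_mul, hVU]
    · rw [hQ, transpose_mul]
      conv_lhs => rw [hf]
      calc D * (A * X * Aᵀ) * Dᵀ = D * (U * V) * (A * X * Aᵀ) * (Vᵀ * Uᵀ) * Dᵀ := by
            rw [hUV, hUVt, Matrix.mul_one, Matrix.mul_one]
        _ = _ := by simp only [Matrix.mul_assoc]
    · rw [hQ, transpose_mul]
      calc V * (A * X * Aᵀ) * Vᵀ * (Uᵀ * Dᵀ * (D * U))
          = V * (A * X * Aᵀ) * (Vᵀ * Uᵀ) * (Dᵀ * D) * U := by simp only [Matrix.mul_assoc]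
        _ = V * ((A * X * Aᵀ) * (Dᵀ * D)) * U := by
            rw [hUVt, Matrix.mul_one]; simp only [Matrix.mul_assoc]
        _ = q • (1 : Matrix (Fin 2) (Fin 2) ℤ) := by
            rw [hq, Matrix.mul_smul, Matrix.smul_mul, Matrix.mul_one, hVU]
  have hC10 : (Dᵀ * D) 1 0 = (Dᵀ * D) 0 1 := by
    simp [Matrix.mul_apply, mul_comm]
  have key : ∀ s : ℤ, 0 ≤ 2 * s * (Dᵀ * D) 0 1 + s ^ 2 * (Dᵀ * D) 1 1 ∧
      0 ≤ 2 * s * (Dᵀ * D) 0 1 + s ^ 2 * (Dᵀ * D) 0 0 := by
    intro s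
    have h1 := hmove !![1, 0; s, 1] !![1, 0; -s, 1]
      (by simp [Matrix.one_fin_two]) (by simp [Matrix.one_fin_two])
    have h2 := hmove !![1, s; 0, 1] !![1, -s; 0, 1]
      (by simp [Matrix.one_fin_two]) (by simp [Matrix.one_fin_two])
    have e : ∀ U : Matrix (Fin 2) (Fin 2) ℤ, trace ((D * U)ᵀ * (D * U)) =
        trace (Uᵀ * (Dᵀ * D) * U) := fun U => by
      rw [transpose_mul]; simp only [Matrix.mul_assoc]
    rw [e] at h1 h2
    simp [Matrix.trace_fin_two, Matrix.mul_apply, Fin.sum_univ_two] at h1 h2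
    simp only [Matrix.mul_apply, Matrix.transpose_apply] at hC10 ⊢
    rw [hC10] at h1 h2
    constructor
    · nlinarith
    · nlinarith
  refine ⟨D, A, hAD, hf, hq, ?_, ?_⟩ <;> rw [abs_le] <;>
    constructor <;> nlinarith [key 1, key (-1)]

/-- The value of the form on a reduced Gram matrix with nonzero off-diagonal. -/
theorem reduced_bound {a b c r t u q : ℤ} (hq : 0 < q) (ha : 0 < a) (hc : 0 < c) (hb : b ≠ 0)
    (h1 : r * a + t * b = q) (h2 : r * b + t * c = 0) (h3 : t * a + u * b = 0)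
    (h4 : t * b + u * c = q) (hab : |2 * b| ≤ a) (hcb : |2 * b| ≤ c) :
    a + c - |b| ≤ q := by
  have e1 : q * c = r * (a * c - b ^ 2) := by linear_combination (-c) * h1 + b * h2
  have e2 : q * b = -(t * (a * c - b ^ 2)) := by linear_combination (-b) * h1 + a * h2
  have e3 : q * a = u * (a * c - b ^ 2) := by linear_combination (-a) * h4 + b * h3
  have hb1 : 1 ≤ |b| := Int.one_le_abs hb
  have hbb : |2 * b| = 2 * |b| := by rw [abs_mul]; simp
  rw [hbb] at hab hcb
  have hΔ : 0 < a * c - b ^ 2 := by nlinarith [sq_abs b]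
  have et : q * |b| = |t| * (a * c - b ^ 2) := by
    have := congrArg (fun z : ℤ => |z|) e2
    simpa [abs_mul, abs_of_pos hq, abs_of_pos hΔ] using this
  have hrt : 2 * |t| ≤ r := by nlinarith
  have hut : 2 * |t| ≤ u := by nlinarith
  have ht1 : 1 ≤ |t| := by
    refine Int.one_le_abs fun h => hb ?_
    rw [h, zero_mul, neg_zero] at e2
    exact (mul_eq_zero.mp e2).resolve_left hq.ne'
  have key : r + u - |t| ≤ r * u - t ^ 2 := by nlinarith [sq_abs t]
  have e4 : (r * u - t ^ 2) * (a * c - b ^ 2) = q ^ 2 := by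
    have hne := hΔ.ne'
    apply mul_right_cancel₀ hne
    linear_combination (-(u * (a * c - b ^ 2))) * e1 - q * c * e3 + (q * b - t * (a * c - b ^ 2)) * e2
  have h5 : (a + c - |b|) * q ≤ q * q := by
    calc (a + c - |b|) * q = (r + u - |t|) * (a * c - b ^ 2) := by linarith
      _ ≤ (r * u - t ^ 2) * (a * c - b ^ 2) := mul_le_mul_of_nonneg_right key hΔ.le
      _ = q * q := by rw [e4, sq]
  exact le_of_mul_le_mul_right h5 hq

end Cfsg.Agent.Blocks
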