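import Cfsg.Agent.Lib.Blocks.MajorBound
import Cfsg.Agent.Lib.Blocks.RankTwoForms

/-!
# Major subsections of rank at most two

The characters of the block of `G` give integral vectors with the Gram matrix of the block of the
centralizer; counting them bounds the block by `p ^ d`.
-/

namespace Cfsg.Agent.Blocks

open Matrix
open scoped ComplexConjugate

universe u

theorem isIntegral_gal {K : IntermediateField ℚ ℂ} (σ : Gal(K/ℚ)) (x : K)
    (h : IsIntegral ℤ (x : ℂ)) : IsIntegral ℤ ((σ x : K) : ℂ) := by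
  have hx : IsIntegral ℤ x :=
    (isIntegral_algHom_iff ((K.val : K →ₐ[ℚ] ℂ).restrictScalars ℤ) K.val.injective).mp h
  exact (hx.map (σ.toAlgHom.restrictScalars ℤ)).map ((K.val : K →ₐ[ℚ] ℂ).restrictScalars ℤ)

/-- An algebraic integer quotient of rational integers is an integer. -/
theorem dvd_of_mul_eq_intCast {m : ℤ} {p : ℕ} (hp : p ≠ 0) {a : ℂ} (ha : IsIntegral ℤ a)
    (h : (m : ℂ) = (p : ℂ) * a) : (p : ℤ) ∣ m := by
  have hp' : (p : ℂ) ≠ 0 := Nat.cast_ne_zero.mpr hp
  have e : a = algebraMap ℚ ℂ ((m : ℚ) / p) := by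
    rw [map_div₀, map_intCast, map_natCast, eq_div_iff hp', mul_comm, h]
  rw [e] at ha
  obtain ⟨z, hz⟩ := IsIntegrallyClosed.isIntegral_iff.mp
    ((isIntegral_algebraMap_iff (A := ℚ) (B := ℂ) (algebraMap ℚ ℂ).injective).mp ha)
  refine ⟨z, ?_⟩
  rw [eq_div_iff (Nat.cast_ne_zero.mpr hp)] at hz
  have hz' : ((p : ℤ) * z : ℚ) = (m : ℚ) := by
    rw [← hz, eq_intCast, mul_comm]; norm_num
  exact_mod_cast hz'.symm

/-- Counting with one coordinate prime to `p` and the other weighted by `p`. -/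
theorem diag_count {K : IntermediateField ℚ ℂ} [FiniteDimensional ℚ K] [IsGalois ℚ K]
    {ι : Type*} [DecidableEq ι] {p : ℕ} (hp : p.Prime) (s s0 : Finset ι) (hs0 : s0 ⊆ s)
    (hne : s0.Nonempty) (x y x' y' : ι → K) (u : ℤ)
    (hconj : ∀ i, conj (y i : ℂ) = (y' i : ℂ))
    (hint : ∀ i, IsIntegral ℤ (x i : ℂ) ∧ IsIntegral ℤ (y i : ℂ) ∧ IsIntegral ℤ (x' i : ℂ) ∧
      IsIntegral ℤ (y' i : ℂ))
    (hmix : ∀ i ∈ s, ∀ j ∈ s0, ∃ a : ℂ, IsIntegral ℤ a ∧ a ≠ 0 ∧
      (x i : ℂ) * (x' j : ℂ) + (p : ℂ) * (u : ℂ) * ((y i : ℂ) * (y' j : ℂ)) =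
        if i ∈ s0 then a else (p : ℂ) * a)
    (hunit : ∀ j ∈ s0, ∃ (m : ℤ) (γ : ℂ), ¬ (p : ℤ) ∣ m ∧ IsIntegral ℤ γ ∧
      ((x j : ℂ) * (x' j : ℂ) + (p : ℂ) * (u : ℂ) * ((y j : ℂ) * (y' j : ℂ))) * γ = (m : ℂ))
    {q c : ℕ} (hpc : p * c ≤ q)
    (hx : ∀ σ : Gal(K/ℚ), ∑ i ∈ s, Complex.normSq ((σ (x i) : K) : ℂ) ≤ (q : ℝ))
    (hy : ∀ σ : Gal(K/ℚ), ∑ i ∈ s, Complex.normSq ((σ (y i) : K) : ℂ) ≤ (c : ℝ)) :
    s.card ≤ q := by
  classical
  have hp0 : (p : ℂ) ≠ 0 := Nat.cast_ne_zero.mpr hp.ne_zero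
  have hx0 : ∀ j ∈ s0, (x j : ℂ) ≠ 0 := by
    intro j hj h
    obtain ⟨m, γ, hm, hγ, e⟩ := hunit j hj
    refine hm (dvd_of_mul_eq_intCast hp.ne_zero
      (a := (u : ℂ) * ((y j : ℂ) * (y' j : ℂ)) * γ)
      (((isIntegral_intCast _).mul ((hint j).2.1.mul (hint j).2.2.2)).mul hγ) ?_)
    rw [← e, h]; ring
  obtain ⟨j₀, hj₀⟩ := hne
  -- divisibility of the first coordinate
  have hdiv : ∀ i ∈ s, i ∉ s0 → IsIntegral ℤ ((x i : ℂ) / (p : ℂ)) := by
    intro i hi hi0
    obtain ⟨a, ha, -, e⟩ := hmix i hi j₀ hj₀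
    rw [if_neg hi0] at e
    obtain ⟨m, γ, hm, hγ, em⟩ := hunit j₀ hj₀
    obtain ⟨r, t, hrt⟩ : IsCoprime (p : ℤ) m :=
      (Prime.coprime_iff_not_dvd (Nat.prime_iff_prime_int.mp hp)).mpr hm
    have hrt' : (r : ℂ) * (p : ℂ) + (t : ℂ) * (m : ℂ) = 1 := by
      exact_mod_cast congrArg (Int.cast : ℤ → ℂ) hrt
    have e2 : (x i : ℂ) / (p : ℂ) = (r : ℂ) * (x i : ℂ) + (t : ℂ) *
        (((a - (u : ℂ) * ((y i : ℂ) * (y' j₀ : ℂ))) * (x j₀ : ℂ) +
          (u : ℂ) * (x i : ℂ) * ((y j₀ : ℂ) * (y' j₀ : ℂ))) * γ) := by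
      rw [div_eq_iff hp0]
      linear_combination (-(x i : ℂ)) * hrt' - (t : ℂ) * (x i : ℂ) * em +
        (t : ℂ) * γ * (x j₀ : ℂ) * e
    rw [e2]
    have hi' := hint i
    have hj' := hint j₀
    exact ((isIntegral_intCast r).mul hi'.1).add ((isIntegral_intCast t).mul
      ((((ha.sub ((isIntegral_intCast u).mul (hi'.2.1.mul hj'.2.2.2))).mul hj'.1).add
        (((isIntegral_intCast u).mul hi'.1).mul (hj'.2.1.mul hj'.2.2.2))).mul hγ))
  set N : ℝ := (Fintype.card Gal(K/ℚ) : ℝ)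
  have hN : 0 < N := by simp [N, Fintype.card_pos]
  set s1 := s.filter fun i => i ∉ s0 ∧ (x i : ℂ) ≠ 0
  set n0 := s.filter fun i => i ∉ s0 ∧ (x i : ℂ) = 0
  have hcard : s.card = s0.card + s1.card + n0.card := by
    have h1 := Finset.card_filter_add_card_filter_not (s := s) (fun i => i ∈ s0)
    have h2 := Finset.card_filter_add_card_filter_not (s := s.filter fun i => ¬ i ∈ s0)
      (fun i => (x i : ℂ) ≠ 0)
    rw [show s.filter (fun i => i ∈ s0) = s0 by
      ext i; simp only [Finset.mem_filter]; exact ⟨And.right, fun h => ⟨hs0 h, h⟩⟩] at h1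
    rw [Finset.filter_filter, Finset.filter_filter] at h2
    have e : s.filter (fun i => ¬ i ∈ s0 ∧ ¬ (x i : ℂ) ≠ 0) = n0 := by
      ext i; simp [n0]
    rw [e] at h2
    have e1 : s1 = s.filter (fun i => i ∉ s0 ∧ (x i : ℂ) ≠ 0) := rfl
    rw [← e1] at h2
    omega
  -- the first coordinate
  have hX : s0.card + p ^ 2 * s1.card ≤ q := by
    have h0 : ∀ i ∈ s0, N ≤ ∑ σ : Gal(K/ℚ), Complex.normSq ((σ (x i) : K) : ℂ) := fun i hi =>
      card_le_sum_gal (x i) (hx0 i hi) (hint i).1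
    have h1 : ∀ i ∈ s1, (p : ℝ) ^ 2 * N ≤ ∑ σ : Gal(K/ℚ), Complex.normSq ((σ (x i) : K) : ℂ) := by
      intro i hi
      obtain ⟨hi, hi0, hxi⟩ := Finset.mem_filter.mp hi
      have ek : ((x i / (p : K) : K) : ℂ) = (x i : ℂ) / (p : ℂ) := by push_cast; rfl
      have h := card_le_sum_gal (x i / (p : K)) (by rw [ek]; exact div_ne_zero hxi hp0)
        (by rw [ek]; exact hdiv i hi hi0)
      calc (p : ℝ) ^ 2 * N ≤ (p : ℝ) ^ 2 * ∑ σ : Gal(K/ℚ), Complex.normSq ((σ (x i / (p : K)) : K) : ℂ) :=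
            mul_le_mul_of_nonneg_left h (by positivity)
        _ = _ := by
            rw [Finset.mul_sum]
            refine Finset.sum_congr rfl fun σ _ => ?_
            rw [map_div₀, map_natCast]
            push_cast
            rw [Complex.normSq_div, Complex.normSq_natCast, sq,
              mul_div_cancel₀ _ (mul_ne_zero (Nat.cast_ne_zero.mpr hp.ne_zero) (Nat.cast_ne_zero.mpr hp.ne_zero))]
    have hd : Disjoint s0 s1 := Finset.disjoint_left.mpr fun i h h' => (Finset.mem_filter.mp h').2.1 h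
    have h2 : N * ((s0.card : ℝ) + (p : ℝ) ^ 2 * s1.card) ≤ N * (q : ℝ) := by
      calc N * ((s0.card : ℝ) + (p : ℝ) ^ 2 * s1.card)
          = ∑ _i ∈ s0, N + ∑ _i ∈ s1, (p : ℝ) ^ 2 * N := by simp; ring
        _ ≤ ∑ i ∈ s0, ∑ σ : Gal(K/ℚ), Complex.normSq ((σ (x i) : K) : ℂ) +
              ∑ i ∈ s1, ∑ σ : Gal(K/ℚ), Complex.normSq ((σ (x i) : K) : ℂ) :=
            add_le_add (Finset.sum_le_sum h0) (Finset.sum_le_sum h1)
        _ = ∑ i ∈ s0 ∪ s1, ∑ σ : Gal(K/ℚ), Complex.normSq ((σ (x i) : K) : ℂ) :=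
            (Finset.sum_union hd).symm
        _ ≤ ∑ i ∈ s, ∑ σ : Gal(K/ℚ), Complex.normSq ((σ (x i) : K) : ℂ) :=
            Finset.sum_le_sum_of_subset_of_nonneg (Finset.union_subset hs0 (Finset.filter_subset _ _))
              fun i _ _ => Finset.sum_nonneg fun σ _ => Complex.normSq_nonneg _
        _ ≤ ∑ σ : Gal(K/ℚ), (q : ℝ) := by rw [Finset.sum_comm]; exact Finset.sum_le_sum fun σ _ => hx σ
        _ = N * (q : ℝ) := by simp [N]
    exact_mod_cast le_of_mul_le_mul_left h2 hN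
  rcases Finset.eq_empty_or_nonempty n0 with h | ⟨i₀, hi₀⟩
  · rw [h, Finset.card_empty, add_zero] at hcard
    have : 1 * s1.card ≤ p ^ 2 * s1.card := Nat.mul_le_mul_right _ (Nat.one_le_pow _ _ hp.pos)
    omega
  -- the second coordinate
  have hy0 : ∀ j ∈ s0, (y j : ℂ) ≠ 0 ∧ (y' j : ℂ) ≠ 0 := by
    intro j hj
    obtain ⟨hi, hi0, hxi⟩ := Finset.mem_filter.mp hi₀
    obtain ⟨a, -, ha, e⟩ := hmix i₀ hi j hj
    rw [if_neg hi0, hxi, zero_mul, zero_add] at e
    have h : (y' j : ℂ) ≠ 0 := fun h => by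
      rw [h, mul_zero, mul_zero] at e
      exact mul_ne_zero hp0 ha e.symm
    exact ⟨fun h' => h (by rw [← hconj j, h', map_zero]), h⟩
  have hny : ∀ i ∈ n0, (y i : ℂ) ≠ 0 := by
    intro i hi
    obtain ⟨hi, hi0, hxi⟩ := Finset.mem_filter.mp hi
    obtain ⟨a, -, ha, e⟩ := hmix i hi j₀ hj₀
    rw [if_neg hi0, hxi, zero_mul, zero_add] at e
    intro h
    rw [h, zero_mul, mul_zero] at e
    exact mul_ne_zero hp0 ha e.symm
  have hY : s0.card + n0.card ≤ c := by
    have hd : Disjoint s0 n0 := Finset.disjoint_left.mpr fun i h h' => (Finset.mem_filter.mp h').2.1 h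
    have h2 : N * ((s0.card : ℝ) + n0.card) ≤ N * (c : ℝ) := by
      calc N * ((s0.card : ℝ) + n0.card) = ∑ _i ∈ s0 ∪ n0, N := by
            rw [Finset.sum_const, Finset.card_union_of_disjoint hd]; simp; ring
        _ ≤ ∑ i ∈ s0 ∪ n0, ∑ σ : Gal(K/ℚ), Complex.normSq ((σ (y i) : K) : ℂ) := by
            refine Finset.sum_le_sum fun i hi => card_le_sum_gal (y i) ?_ (hint i).2.1
            rcases Finset.mem_union.mp hi with h | h
            · exact (hy0 i h).1
            · exact hny i h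
        _ ≤ ∑ i ∈ s, ∑ σ : Gal(K/ℚ), Complex.normSq ((σ (y i) : K) : ℂ) :=
            Finset.sum_le_sum_of_subset_of_nonneg (Finset.union_subset hs0 (Finset.filter_subset _ _))
              fun i _ _ => Finset.sum_nonneg fun σ _ => Complex.normSq_nonneg _
        _ ≤ ∑ σ : Gal(K/ℚ), (c : ℝ) := by rw [Finset.sum_comm]; exact Finset.sum_le_sum fun σ _ => hy σ
        _ = N * (c : ℝ) := by simp [N]
    exact_mod_cast le_of_mul_le_mul_left h2 hN
  have h4 : 4 * s1.card ≤ p ^ 2 * s1.card := Nat.mul_le_mul_right _ (by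
    calc 4 = 2 ^ 2 := rfl
      _ ≤ p ^ 2 := Nat.pow_le_pow_left hp.two_le 2)
  have h5 : 2 * c ≤ p * c := Nat.mul_le_mul_right _ hp.two_le
  omega

variable {G : Type u} [Group G] [Fintype G] {p : ℕ} {M : Ideal AlgInt} [M.IsPrime] {y : G}
  [Fintype (Subgroup.centralizer ({y} : Set G))]

set_option linter.unusedSectionVars false

open Classical in
/-- The vectors of the characters of `G` in the coordinates of an integral factor of the scaled
pairing of the block. -/
theorem block_gram (hM : IsPModular p M) (hy : ∃ k : ℕ, y ^ p ^ k = 1)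
    {b : Set (IrrCharacter (Subgroup.centralizer ({y} : Set G)))} (hb : IsPBlock M b) {l : ℕ}
    (X : Matrix (IrrCharacter (Subgroup.centralizer ({y} : Set G)))
      (IrrCharacter (Subgroup.centralizer ({y} : Set G))) ℤ) (hXs : Xᵀ = X)
    (hX : ∀ η η', (X η η' : ℂ) =
      if η ∈ b then (p : ℂ) ^ blockDefect p b * bfPair p η η' else 0)
    (D : Matrix (IrrCharacter (Subgroup.centralizer ({y} : Set G))) (Fin l) ℤ)
    (A : Matrix (Fin l) (IrrCharacter (Subgroup.centralizer ({y} : Set G))) ℤ) (hAD : A * D = 1)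
    (hf : X = D * (A * X * Aᵀ) * Dᵀ)
    (hq : (A * X * Aᵀ) * (Dᵀ * D) = ((p : ℤ) ^ blockDefect p b) • (1 : Matrix (Fin l) (Fin l) ℤ)) :
    (∀ i j, ∑ χ : IrrCharacter G, (∑ η, secC b χ η * (D η i : ℂ)) *
        conj (∑ η, secC b χ η * (D η j : ℂ)) = ((Dᵀ * D) i j : ℂ)) ∧
      ∀ χ ψ : IrrCharacter G, subMat p (blockDefect p b) b χ ψ =
        ∑ i, ∑ j, ((A * X * Aᵀ) i j : ℂ) * ((∑ η, secC b χ η * (D η i : ℂ)) *
          conj (∑ η, secC b ψ η * (D η j : ℂ))) := by
  set Q := A * X * Aᵀ with hQ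
  set d := blockDefect p b
  let f := Int.castRingHom ℂ
  let S : Matrix (IrrCharacter G) (IrrCharacter (Subgroup.centralizer ({y} : Set G))) ℂ :=
    Matrix.of fun χ η => secC b χ η
  let Xc := X.map f
  let Dc := D.map f
  let Qc := Q.map f
  let V := S * Dc
  have hq0 : (p : ℂ) ^ d ≠ 0 := pow_ne_zero _ (Nat.cast_ne_zero.mpr hM.1.ne_zero)
  have hQs : Qᵀ = Q := by
    rw [hQ, transpose_mul, transpose_mul, transpose_transpose, hXs, Matrix.mul_assoc]
  have hstar : ∀ {m n : Type u} (N : Matrix m n ℤ), (N.map f)ᴴ = Nᵀ.map f := by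
    intro m n N
    ext a c
    simp [Matrix.conjTranspose_apply, f]
  have hXc : Xc = Dc * Qc * Dᵀ.map f := by
    simp only [Xc, Dc, Qc]
    rw [← Matrix.map_mul, ← Matrix.map_mul, ← hf]
  have hW : ∀ χ η, (S * Xc) χ η = (p : ℂ) ^ d * gB p b χ η := by
    intro χ η
    rw [Matrix.mul_apply, gB, Finset.mul_sum]
    refine Finset.sum_congr rfl fun e _ => ?_
    simp only [S, Xc, f, Matrix.of_apply, Matrix.map_apply, eq_intCast, hX]
    by_cases he : e ∈ b
    · rw [if_pos he]; ring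
    · simp [secC, he]
  have h2 : (S * Xc)ᴴ * (S * Xc) = (p : ℂ) ^ d • Xc := by
    ext η η'
    simp only [Matrix.mul_apply (M := (S * Xc)ᴴ), Matrix.conjTranspose_apply, hW, Matrix.smul_apply,
      smul_eq_mul, Complex.star_def, map_mul, map_pow, map_natCast]
    calc ∑ χ : IrrCharacter G, (p : ℂ) ^ d * conj (gB p b χ η) * ((p : ℂ) ^ d * gB p b χ η')
        = (p : ℂ) ^ d * (p : ℂ) ^ d * ∑ χ : IrrCharacter G, conj (gB p b χ η) * gB p b χ η' := by
          rw [Finset.mul_sum]; exact Finset.sum_congr rfl fun χ _ => by ring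
      _ = _ := by
          rw [sum_gB hM hy hb]
          simp only [Xc, f, Matrix.map_apply, eq_intCast, hX]
          split_ifs <;> ring
  have hSX : S * Xc = V * Qc * Dᵀ.map f := by
    rw [hXc]; simp only [V, Matrix.mul_assoc]
  have hQh : Qcᴴ = Qc := by
    ext a c
    simp only [Qc, f, Matrix.conjTranspose_apply, Matrix.map_apply, eq_intCast, Complex.star_def,
      map_intCast]
    exact_mod_cast congrFun (congrFun hQs a) c
  have hDh : (Dᵀ.map f)ᴴ = Dc := by
    ext a c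
    simp [Dc, f]
  refine ⟨fun i j => ?_, fun χ ψ => ?_⟩
  · have h3 : Dc * (Qc * (Vᴴ * V) * Qc) * Dᵀ.map f = Dc * ((p : ℂ) ^ d • Qc) * Dᵀ.map f := by
      rw [Matrix.mul_smul, Matrix.smul_mul, ← hXc, ← h2, hSX, conjTranspose_mul (V * Qc),
        conjTranspose_mul V, hQh, hDh]
      simp only [Matrix.mul_assoc]
    have hA1 : A.map f * Dc = 1 := by
      simp only [Dc]; rw [← Matrix.map_mul, hAD, Matrix.map_one f (map_zero f) (map_one f)]
    have hA2 : Dᵀ.map f * Aᵀ.map f = 1 := by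
      rw [← Matrix.map_mul, ← transpose_mul, hAD, transpose_one,
        Matrix.map_one f (map_zero f) (map_one f)]
    have h4 : Qc * (Vᴴ * V) * Qc = (p : ℂ) ^ d • Qc := by
      calc Qc * (Vᴴ * V) * Qc
          = (A.map f * Dc) * (Qc * (Vᴴ * V) * Qc) * (Dᵀ.map f * Aᵀ.map f) := by
            rw [hA1, hA2, Matrix.one_mul, Matrix.mul_one]
        _ = A.map f * (Dc * (Qc * (Vᴴ * V) * Qc) * Dᵀ.map f) * Aᵀ.map f := by
            simp only [Matrix.mul_assoc]
        _ = A.map f * (Dc * ((p : ℂ) ^ d • Qc) * Dᵀ.map f) * Aᵀ.map f := by rw [h3]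
        _ = (A.map f * Dc) * ((p : ℂ) ^ d • Qc) * (Dᵀ.map f * Aᵀ.map f) := by
            simp only [Matrix.mul_assoc]
        _ = _ := by rw [hA1, hA2, Matrix.one_mul, Matrix.mul_one]
    let Cc := (Dᵀ * D).map f
    have hsm : (((p : ℤ) ^ d) • (1 : Matrix (Fin l) (Fin l) ℤ)).map f =
        (p : ℂ) ^ d • (1 : Matrix (Fin l) (Fin l) ℂ) := by
      ext a c
      rw [Matrix.map_apply, Matrix.smul_apply, Matrix.smul_apply, Matrix.one_apply, Matrix.one_apply]
      split_ifs <;> simp [f]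
    have hQC : Qc * Cc = (p : ℂ) ^ d • (1 : Matrix (Fin l) (Fin l) ℂ) := by
      simp only [Qc, Cc]; rw [← Matrix.map_mul, hq, hsm]
    have hCQ : Cc * Qc = (p : ℂ) ^ d • (1 : Matrix (Fin l) (Fin l) ℂ) := by
      have h := congrArg transpose hq
      rw [transpose_mul, transpose_mul, transpose_transpose, hQs, transpose_smul, transpose_one] at h
      simp only [Qc, Cc]; rw [← Matrix.map_mul, h, hsm]
    have h5 : Vᴴ * V = Cc := by
      apply smul_right_injective (Matrix (Fin l) (Fin l) ℂ) (mul_ne_zero hq0 hq0)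
      dsimp only
      calc ((p : ℂ) ^ d * (p : ℂ) ^ d) • (Vᴴ * V)
          = (Cc * Qc) * (Vᴴ * V) * (Qc * Cc) := by
            rw [hCQ, hQC, Matrix.mul_smul, Matrix.mul_one, Matrix.smul_mul, Matrix.one_mul, smul_smul]
        _ = Cc * (Qc * (Vᴴ * V) * Qc) * Cc := by simp only [Matrix.mul_assoc]
        _ = _ := by
            rw [h4, Matrix.mul_smul, Matrix.smul_mul, hCQ, Matrix.smul_mul, Matrix.one_mul, smul_smul]
    have h6 := congrFun (congrFun h5 j) i
    simp only [Matrix.mul_apply (M := Vᴴ), Matrix.conjTranspose_apply, Complex.star_def] at h6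
    rw [show ((Dᵀ * D) i j : ℂ) = Cc j i by
      simp only [Cc, f, Matrix.map_apply, eq_intCast]
      simp [Matrix.mul_apply, mul_comm], ← h6]
    refine Finset.sum_congr rfl fun χ _ => ?_
    simp only [V, S, Dc, f, Matrix.mul_apply, Matrix.of_apply, Matrix.map_apply, eq_intCast]
    ring
  · have e : subMat p d b χ ψ = (S * Xc * Sᴴ) χ ψ := by
      rw [subMat_eq, Matrix.mul_apply, Finset.sum_comm]
      refine Finset.sum_congr rfl fun η' _ => ?_
      rw [Matrix.mul_apply, Finset.sum_mul]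
      refine Finset.sum_congr rfl fun η _ => ?_
      simp only [S, Xc, f, Matrix.conjTranspose_apply, Matrix.of_apply, Matrix.map_apply, eq_intCast,
        hX, Complex.star_def]
      by_cases he : η ∈ b
      · rw [if_pos he]; ring
      · simp [secC, he]
    have e2 : S * Xc * Sᴴ = V * Qc * Vᴴ := by
      rw [hSX]
      simp only [V, conjTranspose_mul]
      rw [show Dcᴴ = Dᵀ.map f by ext a c; simp [Dc, f]]
      simp only [Matrix.mul_assoc]
    rw [e, e2, Matrix.mul_apply, Finset.sum_comm]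
    refine Finset.sum_congr rfl fun j _ => ?_
    rw [Matrix.mul_apply, Finset.sum_mul]
    refine Finset.sum_congr rfl fun i _ => ?_
    simp only [V, S, Dc, Qc, f, Matrix.mul_apply, Matrix.conjTranspose_apply, Matrix.of_apply,
      Matrix.map_apply, eq_intCast, Complex.star_def]
    ring

/-- The contribution of a character of height zero to itself divides an integer prime to `p`. -/
theorem exists_norm_unit (hM : IsPModular p M) (hy : ∃ k : ℕ, y ^ p ^ k = 1)
    {B : Set (IrrCharacter G)} {b : Set (IrrCharacter (Subgroup.centralizer ({y} : Set G)))}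
    (hind : IsInducedBlock M (Subgroup.centralizer ({y} : Set G)) b B) {ψ : IrrCharacter G}
    (hψ : ψ ∈ B) (h0 : blockHeight p B (ψ : G → ℂ) = 0) :
    ∃ (m : ℤ) (γ : ℂ), ¬ (p : ℤ) ∣ m ∧ IsIntegral ℤ γ ∧
      subMat p (blockDefect p b) b ψ ψ * γ = (m : ℂ) := by
  classical
  haveI := Fact.mk hM.1
  haveI := charP_res (M := M) hM
  obtain ⟨hb, -, -⟩ := id hind
  obtain ⟨X, hXs, hX⟩ := exists_bf_matrix hM hb
  haveI : NeZero (Nat.card G) := ⟨Nat.card_pos.ne'⟩
  obtain ⟨K, hfin, hgal, hroot⟩ := exists_root_field (Nat.card G)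
  obtain ⟨j, hj⟩ := hy
  have hsC : selfC y ^ p ^ j = 1 := Subtype.ext (by simpa [selfC] using hj)
  have hom : ∀ η : IrrCharacter (Subgroup.centralizer ({y} : Set G)), omC η ^ p ^ j = 1 :=
    fun η => (omC_spec η).2 _ hsC
  have homG : ∀ η : IrrCharacter (Subgroup.centralizer ({y} : Set G)), omC η ^ Nat.card G = 1 :=
    fun η => (omC_spec η).2 _ (Subtype.ext (by simp [selfC]))
  have hpj : p ^ j ≠ 0 := pow_ne_zero j hM.1.ne_zero
  have hinv : ∀ w : ℂ, w ^ p ^ j = 1 → w⁻¹ = conj w := fun w hw =>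
    Complex.inv_eq_conj (Complex.norm_eq_one_of_pow_eq_one hw hpj)
  let z : IrrCharacter (Subgroup.centralizer ({y} : Set G)) → K := fun η => ⟨omC η, hroot _ (homG η)⟩
  have hz : ∀ η, z η ^ p ^ j = 1 := fun η => Subtype.ext (by simpa [z] using hom η)
  let n : IrrCharacter (Subgroup.centralizer ({y} : Set G)) →
      IrrCharacter (Subgroup.centralizer ({y} : Set G)) → ℤ :=
    fun η η' => (mB b ψ η : ℤ) * mB b ψ η' * X η η'
  let AK : K := ∑ η, ∑ η', (n η η' : K) * (z η * (z η')⁻¹)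
  have hA : (AK : ℂ) = subMat p (blockDefect p b) b ψ ψ := by
    simp only [AK, subMat_eq, AddSubmonoidClass.coe_finsetSum]
    refine Finset.sum_congr rfl fun η _ => Finset.sum_congr rfl fun η' _ => ?_
    rw [secC_eq_mB, secC_eq_mB, map_mul, map_natCast, ← hinv _ (hom η')]
    by_cases hη : η ∈ b
    · rw [hX η hη η']
      simp only [n, z]
      push_cast
      ring
    · simp [n, mB, hη]
  have hr : ∀ (σ : Gal(K/ℚ)) η, ((σ (z η) : K) : ℂ) ^ p ^ j = 1 := fun σ η => by
    rw [← SubmonoidClass.coe_pow, ← map_pow, hz, map_one]; rfl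
  have hri : ∀ (σ : Gal(K/ℚ)) η, ((σ (z η) : K) : ℂ)⁻¹ ^ p ^ j = 1 := fun σ η => by
    rw [inv_pow, hr, inv_one]
  have hint : ∀ w : ℂ, w ^ p ^ j = 1 → IsIntegral ℤ w := fun w hw =>
    IsIntegral.of_pow (Nat.pos_of_ne_zero hpj) (by rw [hw]; exact isIntegral_one)
  let L : Gal(K/ℚ) → Loc M := fun σ => ∑ η, ∑ η', (n η η' : Loc M) *
    (⟨_, integral_mem_loc (hint _ (hr σ η))⟩ * ⟨_, integral_mem_loc (hint _ (hri σ η'))⟩)
  have hL : ∀ σ, (L σ : ℂ) = ((σ AK : K) : ℂ) := by
    intro σ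
    simp only [L, AK, map_sum, map_mul, map_intCast, map_inv₀, AddSubmonoidClass.coe_finsetSum]
    push_cast
    rfl
  have hLi : ∀ σ : Gal(K/ℚ), IsIntegral ℤ ((σ AK : K) : ℂ) := by
    intro σ
    rw [← hL]
    simp only [L, AddSubmonoidClass.coe_finsetSum]
    push_cast
    exact IsIntegral.sum _ fun η _ => IsIntegral.sum _ fun η' _ =>
      (isIntegral_intCast _).mul ((hint _ (hr σ η)).mul (hint _ (hri σ η')))
  set P : K := ∏ σ : Gal(K/ℚ), σ AK
  have hfix : ∀ τ : Gal(K/ℚ), τ P = P := by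
    intro τ
    simp only [P, map_prod]
    exact Fintype.prod_equiv (Equiv.mulLeft τ) _ _ fun σ => rfl
  obtain ⟨r, hr'⟩ := IntermediateField.mem_bot.mp ((IsGalois.mem_bot_iff_fixed P).mpr hfix)
  have hP : (P : ℂ) = ∏ σ : Gal(K/ℚ), ((σ AK : K) : ℂ) := map_prod K.val _ _
  have hri' : IsIntegral ℤ (algebraMap ℚ ℂ r) := by
    rw [show algebraMap ℚ ℂ r = (P : ℂ) by rw [← hr']; rfl, hP]
    exact IsIntegral.prod _ fun σ _ => hLi σ
  obtain ⟨m, hm⟩ := IsIntegrallyClosed.isIntegral_iff.mp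
    ((isIntegral_algebraMap_iff (A := ℚ) (B := ℂ) (algebraMap ℚ ℂ).injective).mp hri')
  have hval : ∏ σ : Gal(K/ℚ), ((σ AK : K) : ℂ) = (m : ℂ) := by
    rw [← hP, ← hr', ← hm]
    simp
  refine ⟨m, ∏ σ ∈ Finset.univ.erase (1 : Gal(K/ℚ)), ((σ AK : K) : ℂ), fun hd => ?_,
    IsIntegral.prod _ fun σ _ => hLi σ, ?_⟩
  · have hprod : ∏ σ : Gal(K/ℚ), L σ = (m : Loc M) := by
      apply Subtype.ext
      rw [SubmonoidClass.coe_finsetProd]
      simp only [hL, hval]
      push_cast
      rfl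
    have h := congrArg (red M) hprod
    rw [map_prod, map_intCast, (CharP.intCast_eq_zero_iff (Res M) p m).mpr hd] at h
    obtain ⟨σ, -, hσ⟩ := Finset.prod_eq_zero_iff.mp h
    refine red_contrib_ne_zero hM hind hXs hX hψ hψ h0 h0 ?_
    refine Eq.trans ?_ hσ
    simp only [L, map_sum, map_mul, map_intCast]
    refine Finset.sum_congr rfl fun η _ => Finset.sum_congr rfl fun η' _ => ?_
    rw [red_root_eq_one hM (z := ⟨_, integral_mem_loc (hint _ (hr σ η))⟩) (Subtype.ext (hr σ η)),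
      red_root_eq_one hM (z := ⟨_, integral_mem_loc (hint _ (hri σ η'))⟩) (Subtype.ext (hri σ η')),
      mul_one, mul_one]
  · rw [← hA, ← hval, ← Finset.mul_prod_erase Finset.univ _ (Finset.mem_univ (1 : Gal(K/ℚ)))]
    rfl

/-- The scaled pairing of a block has rank at most one modulo `p`. -/
theorem dvd_minor {H : Type u} [Group H] [Fintype H] (hM : IsPModular p M)
    {b : Set (IrrCharacter H)} (hb : IsPBlock M b) (X : Matrix (IrrCharacter H) (IrrCharacter H) ℤ)
    [∀ η : IrrCharacter H, Decidable (η ∈ b)]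
    (hX : ∀ η η', (X η η' : ℂ) =
      if η ∈ b then (p : ℂ) ^ blockDefect p b * bfPair p η η' else 0)
    (A : Matrix (Fin 2) (IrrCharacter H) ℤ) :
    (p : ℤ) ∣ (A * X * Aᵀ) 0 0 * (A * X * Aᵀ) 1 1 - (A * X * Aᵀ) 0 1 * (A * X * Aᵀ) 1 0 := by
  classical
  haveI := Fact.mk hM.1
  haveI := charP_res (M := M) hM
  set n1 := Nat.card H / p ^ (Nat.card H).factorization p
  obtain ⟨ξ, hξ, -⟩ := exists_height_zero (p := p) hb
  let R : IrrCharacter H → Res M := fun η => red M (regS M p ξ η)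
  let ν : IrrCharacter H → Res M := fun η => if η ∈ b then
    (p : Res M) ^ blockHeight p b (η : H → ℂ) *
      (((charDegree (η : H → ℂ) / p ^ (charDegree (η : H → ℂ)).factorization p : ℕ)) : Res M) else 0
  have key : ∀ η η', (n1 : Res M) * (X η η' : Res M) = ν η * R η' := by
    intro η η'
    by_cases hη : η ∈ b
    · have h := bfPair_local hM hη η'
      rw [← show (X η η' : ℂ) = _ from (hX η η').trans (if_pos hη)] at h
      have e : (n1 : Loc M) * (X η η' : Loc M) =
          (p : Loc M) ^ blockHeight p b (η : H → ℂ) *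
            (((charDegree (η : H → ℂ) / p ^ (charDegree (η : H → ℂ)).factorization p : ℕ) : Loc M) *
              regS M p η η') := by
        apply Subtype.ext
        push_cast
        exact h
      have e2 := congrArg (red M) e
      simp only [map_mul, map_pow, map_intCast, map_natCast] at e2
      rw [e2, red_regS_congr ((mem_block_iff hb hη).mp hξ)]
      simp only [ν, if_pos hη, R]
      ring
    · have h := hX η η'
      rw [if_neg hη] at h
      rw [show X η η' = 0 by exact_mod_cast h]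
      simp [ν, hη]
  have hQ : ∀ i i', (n1 : Res M) * ((A * X * Aᵀ) i i' : Res M) =
      (∑ η, (A i η : Res M) * ν η) * (∑ η, (A i' η : Res M) * R η) := by
    intro i i'
    rw [Finset.sum_mul_sum, Matrix.mul_apply]
    push_cast
    rw [Finset.mul_sum, Finset.sum_comm]
    refine Finset.sum_congr rfl fun η' _ => ?_
    rw [Matrix.mul_apply, Matrix.transpose_apply]
    push_cast
    rw [Finset.sum_mul, Finset.mul_sum]
    refine Finset.sum_congr rfl fun η _ => ?_
    linear_combination (A i η : Res M) * (A i' η' : Res M) * key η η'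
  rw [← CharP.intCast_eq_zero_iff (Res M) p]
  have hn1 : (n1 : Res M) ≠ 0 :=
    mt (CharP.cast_eq_zero_iff (Res M) p _).mp (Nat.not_dvd_ordCompl hM.1 Nat.card_pos.ne')
  apply mul_left_cancel₀ (mul_ne_zero hn1 hn1)
  push_cast
  linear_combination ((n1 : Res M) * ((A * X * Aᵀ) 1 1 : Res M)) * hQ 0 0 +
    ((∑ η, (A 0 η : Res M) * ν η) * (∑ η, (A 0 η : Res M) * R η)) * hQ 1 1 -
    ((n1 : Res M) * ((A * X * Aᵀ) 1 0 : Res M)) * hQ 0 1 -
    ((∑ η, (A 0 η : Res M) * ν η) * (∑ η, (A 1 η : Res M) * R η)) * hQ 1 0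

set_option maxHeartbeats 1600000 in
/-- A major subsection of rank at most two bounds the block by the order of its defect group. -/
theorem card_le_of_rank_le_two (hM : IsPModular p M) (hy : ∃ k : ℕ, y ^ p ^ k = 1)
    {B : Set (IrrCharacter G)} {b : Set (IrrCharacter (Subgroup.centralizer ({y} : Set G)))}
    (hind : IsInducedBlock M (Subgroup.centralizer ({y} : Set G)) b B)
    (hd : blockDefect p b = blockDefect p B) (hl : blockRank p b ≤ 2) :
    Nat.card B ≤ p ^ blockDefect p B := by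
  classical
  obtain ⟨hb, hB, -⟩ := id hind
  set d := blockDefect p b with hdd
  rw [← hd]
  obtain ⟨X0, hX0s, hX0⟩ := exists_bf_matrix hM hb
  let X : Matrix (IrrCharacter (Subgroup.centralizer ({y} : Set G)))
      (IrrCharacter (Subgroup.centralizer ({y} : Set G))) ℤ :=
    Matrix.of fun η η' => if η ∈ b ∧ η' ∈ b then X0 η η' else 0
  have hXs : Xᵀ = X := by
    ext η η'
    simp only [X, Matrix.transpose_apply, Matrix.of_apply, and_comm, hX0s η η']
  have hX : ∀ η η', (X η η' : ℂ) = if η ∈ b then (p : ℂ) ^ d * bfPair p η η' else 0 := by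
    intro η η'
    by_cases hη : η ∈ b
    · by_cases hη' : η' ∈ b
      · simp only [X, Matrix.of_apply, if_pos (And.intro hη hη'), if_pos hη]
        exact (hX0 η hη η').symm
      · simp [X, hη, hη', bfPair_zero_of_mem hM hb hη hη']
    · simp [X, hη]
  have hXX : X * X = ((p : ℤ) ^ d) • X := by
    ext η η'
    rw [Matrix.mul_apply, Matrix.smul_apply, smul_eq_mul]
    apply Int.cast_injective (α := ℂ)
    push_cast
    simp only [hX]
    by_cases hη : η ∈ b
    · simp only [if_pos hη]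
      calc ∑ e, (p : ℂ) ^ d * bfPair p η e * (if e ∈ b then (p : ℂ) ^ d * bfPair p e η' else 0)
          = ∑ e, (p : ℂ) ^ d * (p : ℂ) ^ d * (bfPair p η e * bfPair p e η') :=
            Finset.sum_congr rfl fun e _ => by
              by_cases he : e ∈ b
              · rw [if_pos he]; ring
              · rw [if_neg he, bfPair_zero_of_mem hM hb hη he]; ring
        _ = _ := by rw [← Finset.mul_sum, bfPair_idem]; ring
    · simp [hη]
  obtain ⟨l, D, A, hAD, hf, hq, htr⟩ := exists_lattice_factor X hXs _ hXX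
  have hq0 : (p : ℤ) ^ d ≠ 0 := pow_ne_zero _ (by exact_mod_cast hM.1.ne_zero)
  have hlr : l = blockRank p b := by
    have h := congrArg (Int.cast : ℤ → ℂ) htr
    rw [Matrix.trace] at h
    simp only [Matrix.diag_apply] at h
    push_cast at h
    simp only [hX] at h
    have e : ∑ η, (if η ∈ b then (p : ℂ) ^ d * bfPair p η η else 0) =
        (p : ℂ) ^ d * (blockRank p b : ℂ) := by
      rw [← sum_bfPair_self hM hb, Finset.mul_sum]
      exact Finset.sum_congr rfl fun η _ => (mul_ite_zero _ _ _).symm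
    rw [e] at h
    exact_mod_cast (mul_left_cancel₀ (by exact_mod_cast hq0) h).symm
  -- the conjugates
  haveI : NeZero (Nat.card G) := ⟨Nat.card_pos.ne'⟩
  obtain ⟨K, hfin, hgal, hroot⟩ := exists_root_field (Nat.card G)
  obtain ⟨j, hj⟩ := id hy
  have hsC : selfC y ^ p ^ j = 1 := Subtype.ext (by simpa [selfC] using hj)
  have hom : ∀ η : IrrCharacter (Subgroup.centralizer ({y} : Set G)), omC η ^ p ^ j = 1 :=
    fun η => (omC_spec η).2 _ hsC
  have homG : ∀ η : IrrCharacter (Subgroup.centralizer ({y} : Set G)), omC η ^ Nat.card G = 1 :=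
    fun η => (omC_spec η).2 _ (Subtype.ext (by simp [selfC]))
  have hpj : p ^ j ≠ 0 := pow_ne_zero j hM.1.ne_zero
  have hinv : ∀ w : ℂ, w ^ p ^ j = 1 → w⁻¹ = conj w := fun w hw =>
    Complex.inv_eq_conj (Complex.norm_eq_one_of_pow_eq_one hw hpj)
  have homi : ∀ η : IrrCharacter (Subgroup.centralizer ({y} : Set G)), IsIntegral ℤ (omC η) := fun η =>
    IsIntegral.of_pow (Nat.pos_of_ne_zero hpj) (by rw [hom]; exact isIntegral_one)
  let z : IrrCharacter (Subgroup.centralizer ({y} : Set G)) → K := fun η => ⟨omC η, hroot _ (homG η)⟩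
  have hz : ∀ η, z η ^ p ^ j = 1 := fun η => Subtype.ext (by simpa [z] using hom η)
  set s := Finset.univ.filter (fun χ : IrrCharacter G => χ ∈ B)
  have hc : Nat.card B = s.card := by rw [Nat.card_eq_fintype_card, Fintype.card_subtype]
  set N : ℝ := (Fintype.card Gal(K/ℚ) : ℝ)
  have hN : 0 < N := by simp [N, Fintype.card_pos]
  obtain ⟨ψ, hψ, h0⟩ := exists_height_zero (p := p) hB
  -- general consequences of a factor
  have hmain : ∀ {l : ℕ} (D : Matrix (IrrCharacter (Subgroup.centralizer ({y} : Set G))) (Fin l) ℤ)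
      (A : Matrix (Fin l) (IrrCharacter (Subgroup.centralizer ({y} : Set G))) ℤ), A * D = 1 →
      X = D * (A * X * Aᵀ) * Dᵀ →
      (A * X * Aᵀ) * (Dᵀ * D) = ((p : ℤ) ^ d) • (1 : Matrix (Fin l) (Fin l) ℤ) →
      ∃ v w : IrrCharacter G → Fin l → K,
        (∀ χ i, conj (v χ i : ℂ) = (w χ i : ℂ)) ∧
        (∀ χ i, IsIntegral ℤ (v χ i : ℂ) ∧ IsIntegral ℤ (w χ i : ℂ)) ∧
        (∀ χ ψ, subMat p d b χ ψ =
          ∑ i, ∑ j, ((A * X * Aᵀ) i j : ℂ) * ((v χ i : ℂ) * (w ψ j : ℂ))) ∧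
        (∀ χ ∈ B, ∃ i, (v χ i : ℂ) ≠ 0) ∧
        ∀ (c : Fin l → ℤ) (σ : Gal(K/ℚ)),
          ∑ χ ∈ s, Complex.normSq ((σ (∑ i, (c i : K) * v χ i) : K) : ℂ) ≤
            (((∑ i, ∑ j, c i * c j * (Dᵀ * D) i j : ℤ)) : ℝ) := by
    intro l D A hAD hf hq
    obtain ⟨hgram, hsub⟩ := block_gram hM hy hb X hXs hX D A hAD hf hq
    let v : IrrCharacter G → Fin l → K := fun χ i => ∑ η, (mB b χ η : K) * z η * (D η i : K)
    let w : IrrCharacter G → Fin l → K := fun χ i => ∑ η, (mB b χ η : K) * (z η)⁻¹ * (D η i : K)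
    have hv : ∀ χ i, (v χ i : ℂ) = ∑ η, secC b χ η * (D η i : ℂ) := by
      intro χ i
      simp only [v, AddSubmonoidClass.coe_finsetSum, secC_eq_mB]
      refine Finset.sum_congr rfl fun η _ => ?_
      push_cast
      rfl
    have hvw : ∀ (σ : Gal(K/ℚ)) χ i, conj ((σ (v χ i) : K) : ℂ) = ((σ (w χ i) : K) : ℂ) := by
      intro σ χ i
      simp only [v, w, map_sum, map_mul, map_natCast, map_intCast, map_inv₀,
        AddSubmonoidClass.coe_finsetSum]
      push_cast
      simp only [map_sum, map_mul, map_natCast, map_intCast]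
      refine Finset.sum_congr rfl fun η _ => ?_
      have hr : ((σ (z η) : K) : ℂ) ^ p ^ j = 1 := by
        rw [← SubmonoidClass.coe_pow, ← map_pow, hz, map_one]; rfl
      rw [hinv _ hr]
    have hw : ∀ χ i, conj (v χ i : ℂ) = (w χ i : ℂ) := fun χ i => hvw 1 χ i
    have hvi : ∀ χ i, IsIntegral ℤ (v χ i : ℂ) := fun χ i => by
      rw [hv]
      refine IsIntegral.sum _ fun η _ => ?_
      rw [secC_eq_mB]
      exact ((isIntegral_natCast _).mul (homi η)).mul (isIntegral_intCast _)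
    refine ⟨v, w, hw, fun χ i => ⟨hvi χ i, hw χ i ▸ CT.isIntegral_conj (hvi χ i)⟩, fun χ ψ => ?_,
      fun χ hχ => ?_, fun c σ => ?_⟩
    · rw [hsub]
      refine Finset.sum_congr rfl fun i _ => Finset.sum_congr rfl fun i' _ => ?_
      rw [← hw, hv, hv]
    · obtain ⟨a, -, ha, e⟩ := contrib_valuation hM hy hind hd hχ hψ h0
      by_contra hcon
      push Not at hcon
      rw [hsub] at e
      simp only [← hv, hcon, zero_mul, mul_zero, Finset.sum_const_zero] at e
      exact mul_ne_zero (pow_ne_zero _ (Nat.cast_ne_zero.mpr hM.1.ne_zero)) ha e.symm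
    · have hK : ∑ χ : IrrCharacter G, (∑ i, (c i : K) * v χ i) * (∑ i, (c i : K) * w χ i) =
          ((∑ i, ∑ j, c i * c j * (Dᵀ * D) i j : ℤ) : K) := by
        apply Subtype.ext
        simp only [AddSubmonoidClass.coe_finsetSum, Subring.coe_mul, MulMemClass.coe_mul,
          SubringClass.coe_intCast, Int.cast_sum, Int.cast_mul]
        simp only [← hw, hv, Finset.sum_mul_sum]
        rw [Finset.sum_comm]
        refine Finset.sum_congr rfl fun i _ => ?_
        rw [Finset.sum_comm]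
        refine Finset.sum_congr rfl fun i' _ => ?_
        rw [← hgram i i', Finset.mul_sum]
        exact Finset.sum_congr rfl fun χ _ => by ring
      have h := congrArg (fun a : K => ((σ a : K) : ℂ).re) hK
      simp only [map_sum, map_intCast, AddSubmonoidClass.coe_finsetSum, Complex.re_sum,
        SubringClass.coe_intCast, Complex.intCast_re] at h
      refine le_trans ?_ (le_of_eq h)
      refine le_trans (le_of_eq (Finset.sum_congr rfl fun χ _ => ?_))
        (Finset.sum_le_sum_of_subset_of_nonneg (Finset.subset_univ s) fun χ _ _ => ?_)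
      rotate_left
      all_goals
        have e : conj ((σ (∑ i, (c i : K) * v χ i) : K) : ℂ) =
            ((σ (∑ i, (c i : K) * w χ i) : K) : ℂ) := by
          simp only [map_sum, map_mul, map_intCast, AddSubmonoidClass.coe_finsetSum]
          push_cast
          simp only [map_sum, map_mul, map_intCast, hvw]
        rw [map_mul, MulMemClass.coe_mul, ← e, Complex.mul_conj, Complex.ofReal_re]
      · exact Complex.normSq_nonneg _
  have hcount : ∀ {m : ℤ} (f : IrrCharacter G → ℝ) (t : ℕ),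
      (∀ χ ∈ s, (t : ℝ) * N ≤ f χ) → (∑ χ ∈ s, f χ ≤ N * (m : ℝ)) → (t : ℤ) * s.card ≤ m := by
    intro m f t h1 h2
    have h3 : N * ((t : ℝ) * s.card) ≤ N * (m : ℝ) := by
      refine le_trans (le_of_eq ?_) ((Finset.sum_le_sum h1).trans h2)
      rw [Finset.sum_const, nsmul_eq_mul]
      ring
    exact_mod_cast le_of_mul_le_mul_left h3 hN
  rw [hc]
  rw [← hlr] at hl
  interval_cases l
  · obtain ⟨v, w, -, -, -, hne, -⟩ := hmain D A hAD hf hq
    rw [Finset.card_eq_zero.mpr (Finset.filter_eq_empty_iff.mpr fun χ _ hχ => (hne χ hχ).choose.elim0)]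
    exact Nat.zero_le _
  · obtain ⟨v, w, -, hvi, -, hne, hnorm⟩ := hmain D A hAD hf hq
    have h1 := congrFun (congrFun hq 0) 0
    simp [Matrix.mul_apply (M := A * X * Aᵀ)] at h1
    have hk := hcount (m := (Dᵀ * D) 0 0)
      (fun χ => ∑ σ : Gal(K/ℚ), Complex.normSq ((σ (v χ 0) : K) : ℂ)) 1 (fun χ hχ => by
        obtain ⟨i, hi⟩ := hne χ (Finset.mem_filter.mp hχ).2
        rw [Subsingleton.elim i 0] at hi
        simpa using card_le_sum_gal (v χ 0) hi (hvi χ 0).1) (by
        rw [Finset.sum_comm]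
        refine (Finset.sum_le_sum fun σ _ => ?_).trans
          (le_of_eq (show ∑ _σ : Gal(K/ℚ), (((Dᵀ * D) 0 0 : ℤ) : ℝ) = _ by simp [N]))
        simpa using hnorm (fun _ => 1) σ)
    simp only [Nat.cast_one, one_mul] at hk
    have hpos : (0 : ℤ) < (p : ℤ) ^ d := pow_pos (by exact_mod_cast hM.1.pos) d
    have hle : (Dᵀ * D) 0 0 ≤ (p : ℤ) ^ d := by
      have h0' : (0 : ℤ) ≤ (s.card : ℤ) := Int.natCast_nonneg _
      rcases le_or_gt ((Dᵀ * D) 0 0) 0 with h | h
      · linarith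
      · refine Int.le_of_dvd hpos ⟨(A * X * Aᵀ) 0 0, ?_⟩
        simp only [Matrix.mul_apply (M := Dᵀ)] at h1 ⊢
        rw [← h1, mul_comm]
    exact_mod_cast hk.trans hle
  · obtain ⟨D, A, hAD, hf, hq, hab, hcb⟩ := exists_reduced_factor X hXs _ D A hAD hf hq
    obtain ⟨v, w, hvw, hvi, hsub, hne, hnorm⟩ := hmain D A hAD hf hq
    set Q := A * X * Aᵀ with hQdef
    set C := Dᵀ * D with hCdef
    have hQs : Q 1 0 = Q 0 1 := by
      have e : Qᵀ = Q := by
        rw [hQdef, transpose_mul, transpose_mul, transpose_transpose, hXs, Matrix.mul_assoc]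
      exact (congrFun (congrFun e 0) 1)
    have hCs : C 1 0 = C 0 1 := by simp [hCdef, Matrix.mul_apply, mul_comm]
    have heq : ∀ i k, Q i 0 * C 0 k + Q i 1 * C 1 k = if i = k then (p : ℤ) ^ d else 0 := by
      intro i k
      have h := congrFun (congrFun hq i) k
      rw [Matrix.mul_apply, Fin.sum_univ_two] at h
      rw [h]
      simp [Matrix.one_apply]
    have h1 := heq 0 0
    have h2 := heq 0 1
    have h3 := heq 1 0
    have h4 := heq 1 1
    simp [hQs, hCs] at h1 h2 h3 h4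
    have hdiag : ∀ i, 0 ≤ C i i := fun i => by
      simp only [hCdef, Matrix.mul_apply, Matrix.transpose_apply]
      exact Finset.sum_nonneg fun k _ => mul_self_nonneg (D k i)
    have hpos : (0 : ℤ) < (p : ℤ) ^ d := pow_pos (by exact_mod_cast hM.1.pos) d
    have ha : 0 < C 0 0 := (hdiag 0).lt_of_ne fun h => by
      rw [← h] at hab
      have : C 0 1 = 0 := by
        have := abs_nonpos_iff.mp hab; omega
      rw [← h, this] at h1; simp at h1; omega
    have hcpos : 0 < C 1 1 := (hdiag 1).lt_of_ne fun h => by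
      rw [← h] at hcb
      have : C 0 1 = 0 := by
        have := abs_nonpos_iff.mp hcb; omega
      rw [← h, this] at h4; simp at h4; omega
    have hsq : ∀ (i : Fin 2) (σ : Gal(K/ℚ)),
        ∑ χ ∈ s, Complex.normSq ((σ (v χ i) : K) : ℂ) ≤ (C i i : ℝ) := by
      intro i σ
      have h := hnorm (Pi.single i 1) σ
      fin_cases i <;> simpa [Fin.sum_univ_two] using h
    by_cases hbz : C 0 1 = 0
    · have ht : Q 0 1 = 0 := by
        rw [hbz] at h2; simp at h2
        exact h2.resolve_right hcpos.ne'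
      rw [hbz, ht] at h1 h4
      simp at h1 h4
      have hr : 0 < Q 0 0 := pos_of_mul_pos_left (lt_of_lt_of_eq hpos h1.symm) ha.le
      have hu : 0 < Q 1 1 := pos_of_mul_pos_left (lt_of_lt_of_eq hpos h4.symm) hcpos.le
      -- one coordinate is prime to the characteristic
      have hone : ∀ i0 i1 : Fin 2, Q i0 i0 = 1 → Q i0 i1 = 0 → Q i1 i0 = 0 →
          C i0 i0 = (p : ℤ) ^ d → Q i1 i1 * C i1 i1 = (p : ℤ) ^ d → 0 < Q i1 i1 →
          (p : ℤ) ∣ Q i1 i1 → (∀ f : Fin 2 → ℂ, ∑ i, f i = f i0 + f i1) → s.card ≤ p ^ d := by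
        rintro i0 i1 hone hQ01 hQ10 hC0 hC1 hQpos ⟨u', hu'⟩ hsum2
        obtain ⟨c', hc'⟩ := Int.eq_ofNat_of_zero_le (hdiag i1)
        have hu1 : 1 ≤ u' := by
          have : 0 < (p : ℤ) * u' := hu' ▸ hQpos
          exact pos_of_mul_pos_right this (Int.natCast_nonneg p)
        have hpc : p * c' ≤ p ^ d := by
          have : ((p : ℤ) * c') ≤ (p : ℤ) ^ d := by
            rw [← hC1, hu', hc', mul_assoc]
            refine mul_le_mul_of_nonneg_left ?_ (Int.natCast_nonneg p)
            exact le_mul_of_one_le_left (Int.natCast_nonneg c') hu1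
          exact_mod_cast this
        have hval : ∀ χ φ, (v χ i0 : ℂ) * (w φ i0 : ℂ) + (p : ℂ) * (u' : ℂ) *
            ((v χ i1 : ℂ) * (w φ i1 : ℂ)) = subMat p d b χ φ := by
          intro χ φ
          rw [hsub, hsum2, hsum2, hsum2, hQ01, hQ10, hone, hu']
          push_cast
          ring
        have hsσ : ∀ σ : Gal(K/ℚ), ∑ χ ∈ s, Complex.normSq ((σ (v χ i1) : K) : ℂ) ≤ (c' : ℝ) := by
          intro σ
          refine (hsq i1 σ).trans (le_of_eq ?_)
          rw [hc']; simp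
        refine diag_count hM.1 s (s.filter fun χ : IrrCharacter G => blockHeight p B (χ : G → ℂ) = 0)
          (Finset.filter_subset _ _) ⟨ψ, by simp [s, hψ, h0]⟩ (fun χ => v χ i0) (fun χ => v χ i1)
          (fun χ => w χ i0) (fun χ => w χ i1) u' (fun χ => hvw χ i1)
          (fun χ => ⟨(hvi χ i0).1, (hvi χ i1).1, (hvi χ i0).2, (hvi χ i1).2⟩) ?_ ?_ hpc
          (fun σ => (hsq i0 σ).trans (le_of_eq (by rw [hC0]; simp))) hsσ
        · intro χ hχ φ hφ
          obtain ⟨hχs, hχB⟩ := And.intro hχ (Finset.mem_filter.mp hχ).2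
          obtain ⟨hφs, hφ0⟩ := Finset.mem_filter.mp hφ
          obtain ⟨a, hai, ha0, e⟩ :=
            contrib_valuation hM hy hind hd hχB (Finset.mem_filter.mp hφs).2 hφ0
          by_cases h : blockHeight p B (χ : G → ℂ) = 0
          · refine ⟨a, hai, ha0, ?_⟩
            rw [hval, e, h, if_pos (Finset.mem_filter.mpr ⟨hχs, h⟩)]
            simp
          · obtain ⟨h', hh'⟩ := Nat.exists_eq_add_one_of_ne_zero h
            refine ⟨(p : ℂ) ^ h' * a, ((isIntegral_natCast p).pow h').mul hai,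
              mul_ne_zero (pow_ne_zero _ (Nat.cast_ne_zero.mpr hM.1.ne_zero)) ha0, ?_⟩
            rw [hval, e, hh', if_neg (fun h2 : χ ∈ s.filter (fun χ : IrrCharacter G => blockHeight p B (χ : G → ℂ) = 0) =>
              h (Finset.mem_filter.mp h2).2), pow_succ]
            ring
        · intro φ hφ
          obtain ⟨hφs, hφ0⟩ := Finset.mem_filter.mp hφ
          simp only [hval]
          exact exists_norm_unit hM hy hind (Finset.mem_filter.mp hφs).2 hφ0
      have hdv := dvd_minor hM hb X hX A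
      rw [← hQdef, hQs, ht, mul_zero, sub_zero] at hdv
      by_cases hr1 : Q 0 0 = 1
      · rw [hr1, one_mul] at h1 hdv
        exact hone 0 1 hr1 ht (hQs.trans ht) h1 h4 hu hdv Fin.sum_univ_two
      by_cases hu1 : Q 1 1 = 1
      · rw [hu1, one_mul] at h4
        rw [hu1, mul_one] at hdv
        exact hone 1 0 hu1 (hQs.trans ht) ht h4 h1 hr hdv
          fun f => (Fin.sum_univ_two f).trans (add_comm _ _)
      have hk := hcount (m := C 0 0 + C 1 1)
        (fun χ => ∑ σ : Gal(K/ℚ), (Complex.normSq ((σ (v χ 0) : K) : ℂ) +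
          Complex.normSq ((σ (v χ 1) : K) : ℂ))) 1 (fun χ hχ => by
          rw [Finset.sum_add_distrib, Nat.cast_one, one_mul]
          obtain ⟨i, hi⟩ := hne χ (Finset.mem_filter.mp hχ).2
          have h := card_le_sum_gal (v χ i) hi (hvi χ i).1
          have hn : ∀ i, (0 : ℝ) ≤ ∑ σ : Gal(K/ℚ), Complex.normSq ((σ (v χ i) : K) : ℂ) :=
            fun i => Finset.sum_nonneg fun σ _ => Complex.normSq_nonneg _
          show (Fintype.card Gal(K/ℚ) : ℝ) ≤ _
          rcases (show i = 0 ∨ i = 1 by omega) with rfl | rfl <;> linarith [hn 0, hn 1]) (by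
          rw [Finset.sum_comm]
          refine (Finset.sum_le_sum fun σ _ => ?_).trans
            (le_of_eq (show ∑ _σ : Gal(K/ℚ), ((C 0 0 : ℝ) + C 1 1) = _ by simp [N, mul_add]))
          rw [Finset.sum_add_distrib]
          exact add_le_add (hsq 0 σ) (hsq 1 σ))
      simp only [Nat.cast_one, one_mul] at hk
      have h5 : C 0 0 + C 1 1 ≤ (p : ℤ) ^ d := by
        have e1 : 2 * C 0 0 ≤ Q 0 0 * C 0 0 := mul_le_mul_of_nonneg_right (by omega) ha.le
        have e2 : 2 * C 1 1 ≤ Q 1 1 * C 1 1 := mul_le_mul_of_nonneg_right (by omega) hcpos.le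
        linarith
      exact_mod_cast hk.trans h5
    · have hbound := reduced_bound hpos ha hcpos hbz h1 h2 h3 h4 hab hcb
      set sg := Int.sign (C 0 1)
      have hsg : sg * C 0 1 = |C 0 1| := Int.sign_mul_self_eq_abs _
      have hsg2 : sg * sg = 1 := by
        rcases lt_or_gt_of_ne hbz with h | h
        · simp [sg, Int.sign_eq_neg_one_of_neg h]
        · simp [sg, Int.sign_eq_one_of_pos h]
      let cv : Fin 2 → ℤ := ![1, -sg]
      have hk := hcount (m := 2 * (C 0 0 + C 1 1 - |C 0 1|))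
        (fun χ => ∑ σ : Gal(K/ℚ), (Complex.normSq ((σ (v χ 0) : K) : ℂ) +
          Complex.normSq ((σ (v χ 1) : K) : ℂ) +
          Complex.normSq ((σ (∑ i, (cv i : K) * v χ i) : K) : ℂ))) 2 (fun χ hχ => by
          rw [Finset.sum_add_distrib, Finset.sum_add_distrib]
          obtain ⟨i, hi⟩ := hne χ (Finset.mem_filter.mp hχ).2
          have hn : ∀ a : K, (0 : ℝ) ≤ ∑ σ : Gal(K/ℚ), Complex.normSq ((σ a : K) : ℂ) :=
            fun a => Finset.sum_nonneg fun σ _ => Complex.normSq_nonneg _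
          have hy' : (((∑ i, (cv i : K) * v χ i : K)) : ℂ) = (v χ 0 : ℂ) - (sg : ℂ) * (v χ 1 : ℂ) := by
            simp [cv, Fin.sum_univ_two, sub_eq_add_neg]
          have hi3 : IsIntegral ℤ (((∑ i, (cv i : K) * v χ i : K)) : ℂ) := by
            rw [hy']
            exact (hvi χ 0).1.sub ((isIntegral_intCast _).mul (hvi χ 1).1)
          have hsgC : (sg : ℂ) ≠ 0 := by
            exact_mod_cast left_ne_zero_of_mul_eq_one hsg2
          push_cast
          by_cases hx0 : (v χ 0 : ℂ) = 0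
          · have hy0 : (v χ 1 : ℂ) ≠ 0 := by
              rcases (show i = 0 ∨ i = 1 by omega) with rfl | rfl
              · exact absurd hx0 hi
              · exact hi
            have h3' := card_le_sum_gal (∑ i, (cv i : K) * v χ i)
              (by rw [hy', hx0, zero_sub, neg_ne_zero]; exact mul_ne_zero hsgC hy0) hi3
            linarith [card_le_sum_gal (v χ 1) hy0 (hvi χ 1).1, hn (v χ 0)]
          by_cases hy0 : (v χ 1 : ℂ) = 0
          · have h3' := card_le_sum_gal (∑ i, (cv i : K) * v χ i)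
              (by rw [hy', hy0, mul_zero, sub_zero]; exact hx0) hi3
            linarith [card_le_sum_gal (v χ 0) hx0 (hvi χ 0).1, hn (v χ 1)]
          linarith [card_le_sum_gal (v χ 0) hx0 (hvi χ 0).1,
            card_le_sum_gal (v χ 1) hy0 (hvi χ 1).1, hn (∑ i, (cv i : K) * v χ i)]) (by
          rw [Finset.sum_comm]
          refine (Finset.sum_le_sum fun σ _ => ?_).trans
            (le_of_eq (show ∑ _σ : Gal(K/ℚ), (((2 * (C 0 0 + C 1 1 - |C 0 1|) : ℤ)) : ℝ) = _ by simp [N]))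
          rw [Finset.sum_add_distrib, Finset.sum_add_distrib]
          have h := hnorm cv σ
          have e : ∑ i, ∑ k, cv i * cv k * C i k = C 0 0 + C 1 1 - 2 * |C 0 1| := by
            simp [cv, Fin.sum_univ_two, hCs]
            linear_combination (C 1 1) * hsg2 - 2 * hsg
          rw [e] at h
          push_cast at h ⊢
          linarith [hsq 0 σ, hsq 1 σ])
      push_cast at hk
      have : (s.card : ℤ) ≤ (p : ℤ) ^ d := by linarith
      exact_mod_cast this

end Cfsg.Agent.Blocks
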