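import Cfsg.Agent.Lib.Blocks.BlockCount
import Cfsg.Agent.Lib.CT.Integral

/-!
# Divisibility of the contributions of a subsection

Scaled by the defect of the block of `G`, the contribution at `(χ, ψ)` is `p` to the height of `ψ`
times an algebraic integer whose residue is a central character value of the block.
-/

namespace Cfsg.Agent.Blocks

open scoped ComplexConjugate

universe u

variable {G : Type u} [Group G] [Fintype G] {p : ℕ} {M : Ideal AlgInt} {y : G}
  [Fintype (Subgroup.centralizer ({y} : Set G))]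

set_option linter.unusedSectionVars false

theorem isIntegral_intC (n : ℤ) : IsIntegral ℤ (n : ℂ) := by
  simpa using (isIntegral_algebraMap (R := ℤ) (A := ℂ) (x := n))

theorem isIntegral_natC (n : ℕ) : IsIntegral ℤ (n : ℂ) := by
  simpa using isIntegral_intC n

theorem isIntegral_secC (hp : p.Prime) (hy : ∃ k : ℕ, y ^ p ^ k = 1)
    (b : Set (IrrCharacter (Subgroup.centralizer ({y} : Set G)))) (χ : IrrCharacter G)
    (η : IrrCharacter (Subgroup.centralizer ({y} : Set G))) : IsIntegral ℤ (secC b χ η) := by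
  unfold secC
  split_ifs
  · obtain ⟨k, hk⟩ := hy
    refine (isIntegral_natC _).mul (IsIntegral.of_pow (pow_pos hp.pos k) ?_)
    rw [(omC_spec η).2 _ (Subtype.ext (by simpa [selfC] using hk))]
    exact isIntegral_one
  · exact isIntegral_zero

/-- Scaled at least by the defect of the block of the centralizer, contributions are integral. -/
theorem isIntegral_subMat [M.IsPrime] (hM : IsPModular p M) (hy : ∃ k : ℕ, y ^ p ^ k = 1)
    {b : Set (IrrCharacter (Subgroup.centralizer ({y} : Set G)))} {d : ℕ} (hd : blockDefect p b ≤ d)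
    (χ ψ : IrrCharacter G) : IsIntegral ℤ (subMat p d b χ ψ) := by
  classical
  haveI := Fact.mk hM.1
  rw [subMat_eq]
  refine IsIntegral.sum _ fun η _ => IsIntegral.sum _ fun η' _ => ?_
  by_cases hη : η ∈ b
  · refine ((isIntegral_secC hM.1 hy b χ η).mul
      (CT.isIntegral_conj (isIntegral_secC hM.1 hy b ψ η'))).mul ?_
    obtain ⟨X, hX⟩ := exists_int_bfPair hM hη η'
    obtain ⟨e, rfl⟩ := Nat.exists_eq_add_of_le hd
    rw [pow_add, mul_comm ((p : ℂ) ^ blockDefect p b), mul_assoc, hX]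
    exact ((isIntegral_natC p).pow e).mul (isIntegral_intC X)
  · rw [secC, if_neg hη, zero_mul, zero_mul]
    exact isIntegral_zero

theorem conj_subMat {b : Set (IrrCharacter (Subgroup.centralizer ({y} : Set G)))} (d : ℕ)
    (χ ψ : IrrCharacter G) : conj (subMat p d b χ ψ) = subMat p d b ψ χ := by
  simp only [subMat, map_mul, map_pow, map_natCast, map_sum, Complex.conj_conj]
  congr 1
  exact Finset.sum_congr rfl fun η _ => mul_comm _ _

theorem gB_mul_bf {b : Set (IrrCharacter (Subgroup.centralizer ({y} : Set G)))}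
    (χ : IrrCharacter G) (η' : IrrCharacter (Subgroup.centralizer ({y} : Set G))) :
    ∑ η, gB p b χ η * bfPair p η η' = gB p b χ η' := by
  simp only [gB, Finset.sum_mul]
  rw [Finset.sum_comm]
  refine Finset.sum_congr rfl fun κ _ => ?_
  rw [← bfPair_idem κ η', Finset.mul_sum]
  exact Finset.sum_congr rfl fun η _ => mul_assoc _ _ _

/-- The contribution matrix is a multiple of an idempotent. -/
theorem sum_subMat_mul_row [M.IsPrime] (hM : IsPModular p M) (hy : ∃ k : ℕ, y ^ p ^ k = 1)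
    {b : Set (IrrCharacter (Subgroup.centralizer ({y} : Set G)))} (hb : IsPBlock M b) (d : ℕ)
    (χ φ : IrrCharacter G) :
    ∑ ψ : IrrCharacter G, subMat p d b χ ψ * subMat p d b ψ φ =
      (p : ℂ) ^ d * subMat p d b χ φ := by
  classical
  have e1 : ∀ ψ : IrrCharacter G, subMat p d b χ ψ * subMat p d b ψ φ =
      ((p : ℂ) ^ d * (p : ℂ) ^ d) * ∑ η, ∑ η', (gB p b χ η * conj (gB p b φ η')) *
        (conj (gB p b ψ η) * gB p b ψ η') := by
    intro ψ
    simp only [subMat]
    rw [mul_mul_mul_comm]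
    refine congrArg (((p : ℂ) ^ d * (p : ℂ) ^ d) * ·) ?_
    rw [Finset.sum_mul_sum]
    exact Finset.sum_congr rfl fun η _ => Finset.sum_congr rfl fun η' _ => by ring
  rw [Finset.sum_congr rfl fun ψ _ => e1 ψ, ← Finset.mul_sum, subMat, mul_assoc]
  refine congrArg ((p : ℂ) ^ d * ·) (congrArg ((p : ℂ) ^ d * ·) ?_)
  rw [Finset.sum_comm, Finset.sum_congr rfl fun η _ => Finset.sum_comm, Finset.sum_comm]
  refine Finset.sum_congr rfl fun η' _ => ?_
  rw [← gB_mul_bf χ η', Finset.sum_mul]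
  refine Finset.sum_congr rfl fun η _ => ?_
  rw [← Finset.mul_sum, sum_gB hM hy hb]
  by_cases hη : η ∈ b
  · rw [if_pos hη]; ring
  · rw [if_neg hη, gB_eq hM hb χ η, if_neg hη]; ring

/-- The trace of the contribution matrix. -/
theorem trace_subMat [M.IsPrime] (hM : IsPModular p M) (hy : ∃ k : ℕ, y ^ p ^ k = 1)
    {b : Set (IrrCharacter (Subgroup.centralizer ({y} : Set G)))} (hb : IsPBlock M b) (d : ℕ) :
    ∑ χ : IrrCharacter G, subMat p d b χ χ = (p : ℂ) ^ d * (blockRank p b : ℂ) := by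
  classical
  simp only [subMat, ← Finset.mul_sum]
  rw [← sum_bfPair_self hM hb, Finset.sum_comm]
  congr 1
  refine Finset.sum_congr rfl fun η _ => ?_
  rw [← sum_gB hM hy hb η η]
  exact Finset.sum_congr rfl fun χ _ => mul_comm _ _

theorem subMat_eq_zero_left [M.IsPrime] (hM : IsPModular p M) (hy : ∃ k : ℕ, y ^ p ^ k = 1)
    {b : Set (IrrCharacter (Subgroup.centralizer ({y} : Set G)))} {B : Set (IrrCharacter G)}
    (hind : IsInducedBlock M (Subgroup.centralizer ({y} : Set G)) b B) (d : ℕ)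
    {χ : IrrCharacter G} (hχ : χ ∉ B) (ψ : IrrCharacter G) : subMat p d b χ ψ = 0 := by
  rw [subMat, Finset.sum_eq_zero fun η _ => by rw [gB_eq_zero hM hy hind hχ η, zero_mul], mul_zero]

theorem isIntegral_regFun {H : Type u} [Group H] [Fintype H] (η : IrrCharacter H) (v : H) :
    IsIntegral ℤ (regFun p η v) := by
  unfold regFun
  split_ifs
  · exact isIntegral_zero
  · exact isIntegral_irr η.2 v

open Classical in
/-- The class function on `G` carried by the section of `y`. -/
theorem exists_section_fun (hp : p.Prime) (hy : ∃ k : ℕ, y ^ p ^ k = 1)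
    {h : Subgroup.centralizer ({y} : Set G) → ℂ}
    (hh : IsClassFunction (Subgroup.centralizer ({y} : Set G)) h) (hint : ∀ v, IsIntegral ℤ (h v))
    (hsupp : ∀ v, p ∣ orderOf v → h v = 0) :
    ∃ F : G → ℂ, IsClassFunction G F ∧ (∀ g, IsIntegral ℤ (F g)) ∧
      ∀ θ : G → ℂ, IsClassFunction G θ →
        (Nat.card (Subgroup.centralizer ({y} : Set G)) : ℂ) * ∑ g : G, F g * θ g =
          (Nat.card G : ℂ) * ∑ v : Subgroup.centralizer ({y} : Set G), h v * θ (y * (v : G)) := by
  haveI := Fact.mk hp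
  let C := Subgroup.centralizer ({y} : Set G)
  let H : G → ℂ := fun x => if hx : y⁻¹ * x ∈ C then h ⟨y⁻¹ * x, hx⟩ else 0
  have hHint : ∀ x, IsIntegral ℤ (H x) := fun x => by
    simp only [H]; split_ifs
    · exact hint _
    · exact isIntegral_zero
  have hsec : ∀ x, H x ≠ 0 → IsPPart p x y := by
    intro x hx
    simp only [H] at hx
    split_ifs at hx with hm
    · have hreg : ¬ p ∣ orderOf (⟨y⁻¹ * x, hm⟩ : C) := fun hd => hx (hsupp _ hd)
      rw [Subgroup.orderOf_mk] at hreg
      have := isPPart_mk (Subgroup.mem_centralizer_singleton_iff.mp hm).symm hy hreg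
      rwa [mul_inv_cancel_left] at this
    · exact absurd rfl hx
  have hHC : ∀ c ∈ C, ∀ x, H (c * x * c⁻¹) = H x := by
    intro c hc x
    have hcy : y⁻¹ * (c * x * c⁻¹) = c * (y⁻¹ * x) * c⁻¹ := by
      have h1 : y⁻¹ * c = c * y⁻¹ := by
        have := Subgroup.mem_centralizer_singleton_iff.mp hc
        rw [inv_mul_eq_iff_eq_mul, ← mul_assoc, ← this, mul_assoc, mul_inv_cancel, mul_one]
      rw [← mul_assoc, ← mul_assoc, h1]
      group
    simp only [H]
    by_cases hm : y⁻¹ * x ∈ C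
    · have hm' : y⁻¹ * (c * x * c⁻¹) ∈ C := hcy ▸ C.mul_mem (C.mul_mem hc hm) (C.inv_mem hc)
      rw [dif_pos hm, dif_pos hm']
      conv_rhs => rw [← hh ⟨y⁻¹ * x, hm⟩ ⟨c, hc⟩]
      exact congrArg h (Subtype.ext hcy)
    · rw [dif_neg hm, dif_neg]
      intro hm'
      rw [hcy] at hm'
      exact hm ((Subgroup.mul_mem_cancel_left C hc).mp
        ((Subgroup.mul_mem_cancel_right C (C.inv_mem hc)).mp hm'))
  have hN : (Nat.card C : ℂ) ≠ 0 := CT.card_ne_zero
  refine ⟨fun g => (Nat.card C : ℂ)⁻¹ * ∑ c : G, H (c * g * c⁻¹), fun g x => ?_, fun g => ?_,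
    fun θ hθ => ?_⟩
  · refine congrArg ((Nat.card C : ℂ)⁻¹ * ·) ?_
    refine Fintype.sum_equiv (Equiv.mulRight x) _ _ fun c => ?_
    simp only [Equiv.coe_mulRight]
    congr 1
    group
  · by_cases hz : ∀ c, H (c * g * c⁻¹) = 0
    · simp [hz]; exact isIntegral_zero
    push Not at hz
    obtain ⟨c0, hc0⟩ := hz
    have hval : ∀ c, H (c * g * c⁻¹) = if c * c0⁻¹ ∈ C then H (c0 * g * c0⁻¹) else 0 := by
      intro c
      have e : c * g * c⁻¹ = (c * c0⁻¹) * (c0 * g * c0⁻¹) * (c * c0⁻¹)⁻¹ := by group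
      split_ifs with hm
      · rw [e, hHC _ hm]
      · by_contra hne
        refine hm (Subgroup.mem_centralizer_singleton_iff.mpr ?_)
        have h2 := ppart_conj (hsec _ hc0) (c * c0⁻¹)
        rw [← e] at h2
        exact mul_inv_eq_iff_eq_mul.mp (ppart_unique h2 (hsec _ hne))
    have hcount : ∑ c : G, H (c * g * c⁻¹) = (Nat.card C : ℂ) * H (c0 * g * c0⁻¹) := by
      rw [Finset.sum_congr rfl fun c _ => hval c, ← Finset.sum_filter, Finset.sum_const,
        nsmul_eq_mul]
      congr 2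
      rw [Nat.card_eq_fintype_card]
      exact Finset.card_bij' (fun c hc => (⟨c * c0⁻¹, (Finset.mem_filter.mp hc).2⟩ : C))
        (fun v _ => (v : G) * c0) (fun c _ => Finset.mem_univ _)
        (fun v _ => Finset.mem_filter.mpr ⟨Finset.mem_univ _, by simp⟩)
        (fun c _ => by simp) (fun v _ => Subtype.ext (by simp))
    show IsIntegral ℤ ((Nat.card C : ℂ)⁻¹ * ∑ c : G, H (c * g * c⁻¹))
    rw [hcount, inv_mul_cancel_left₀ hN]
    exact hHint _
  · rw [show (∑ g : G, ((Nat.card C : ℂ)⁻¹ * ∑ c : G, H (c * g * c⁻¹)) * θ g) =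
        (Nat.card C : ℂ)⁻¹ * ∑ g : G, ∑ c : G, H (c * g * c⁻¹) * θ g by
      rw [Finset.mul_sum]
      exact Finset.sum_congr rfl fun g _ => by rw [mul_assoc, Finset.sum_mul],
      mul_inv_cancel_left₀ hN, Finset.sum_comm]
    have hc : ∀ c : G, ∑ g : G, H (c * g * c⁻¹) * θ g = ∑ x : G, H x * θ x := fun c =>
      Fintype.sum_equiv (MulAut.conj c).toEquiv _ _ fun g => by
        simp only [MulEquiv.toEquiv_eq_coe, MulEquiv.coe_toEquiv, MulAut.conj_apply, hθ g c]
    rw [Finset.sum_congr rfl fun c _ => hc c, Finset.sum_const, nsmul_eq_mul, Finset.card_univ,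
      ← Nat.card_eq_fintype_card]
    congr 1
    have hinj : Function.Injective fun v : C => y * (v : G) :=
      fun v w e => Subtype.ext (mul_left_cancel e)
    rw [← Finset.sum_subset (Finset.subset_univ (Finset.univ.map ⟨_, hinj⟩))
      (fun x _ hx => ?_), Finset.sum_map]
    · refine Finset.sum_congr rfl fun v _ => ?_
      show H (y * (v : G)) * θ (y * (v : G)) = h v * θ (y * (v : G))
      have hm : y⁻¹ * (y * (v : G)) ∈ C := by rw [inv_mul_cancel_left]; exact v.2
      rw [show H (y * (v : G)) = h ⟨_, hm⟩ from dif_pos hm]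
      exact congrArg (h · * θ (y * (v : G))) (Subtype.ext (inv_mul_cancel_left y (v : G)))
    · rw [show H x = 0 from dif_neg fun hm => hx (Finset.mem_map.mpr
        ⟨⟨y⁻¹ * x, hm⟩, Finset.mem_univ _, mul_inv_cancel_left y x⟩), zero_mul]

open Classical in
/-- A contribution times the codegree is a central character value. -/
theorem exists_central_value [M.IsPrime] (hM : IsPModular p M) (hy : ∃ k : ℕ, y ^ p ^ k = 1)
    {b : Set (IrrCharacter (Subgroup.centralizer ({y} : Set G)))} (hb : IsPBlock M b)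
    (χ : IrrCharacter G) :
    ∃ a : ZG (Loc M) G, ∀ ψ : IrrCharacter G, IsIntegral ℤ ((omegaL M ψ a : Loc M) : ℂ) ∧
      (Nat.card G : ℂ) * ∑ η, gB p b χ η * conj (gB p b ψ η) =
        (ψ : G → ℂ) 1 * ((omegaL M ψ a : Loc M) : ℂ) := by
  haveI := Fact.mk hM.1
  set f : Subgroup.centralizer ({y} : Set G) → ℂ := ∑ η', secC b χ η' • regFun p η' with hf
  have hsecint := isIntegral_secC hM.1 hy b χ
  have hfint : ∀ v, IsIntegral ℤ (f v) := fun v => by
    simp only [hf, Finset.sum_apply, Pi.smul_apply, smul_eq_mul]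
    exact IsIntegral.sum _ fun η' _ => (hsecint η').mul (isIntegral_regFun η' v)
  have hfcl : IsClassFunction (Subgroup.centralizer ({y} : Set G)) f := fun g k => by
    simp only [hf, Finset.sum_apply, Pi.smul_apply, regFun_class (p := p) _ g k]
  have hfs : ∀ v, p ∣ orderOf v → f v = 0 := fun v hv => by
    simp [hf, Finset.sum_apply, regFun, hv]
  obtain ⟨F, hFc, hFi, hFsum⟩ := exists_section_fun hM.1 hy hfcl hfint hfs
  have hFc' : IsClassFunction G fun g => F g⁻¹ := fun g x => by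
    show F (x * g * x⁻¹)⁻¹ = F g⁻¹
    have := hFc g⁻¹ x
    simpa [mul_assoc] using this
  refine ⟨⟨ofFun fun g => ⟨F g⁻¹, integral_mem_loc (hFi _)⟩, ?_⟩, fun ψ => ?_⟩
  · rw [mem_center_iff_isClassFn]
    intro g k
    simp only [coeff_ofFun]
    exact Subtype.ext (hFc' g k)
  have hom : ((omegaL M ψ ⟨ofFun fun g => (⟨F g⁻¹, integral_mem_loc (hFi _)⟩ : Loc M), by
      rw [mem_center_iff_isClassFn]
      intro g k
      simp only [coeff_ofFun]
      exact Subtype.ext (hFc' g k)⟩ : Loc M) : ℂ) = (∑ g, F g⁻¹ * (ψ : G → ℂ) g) / (ψ : G → ℂ) 1 := by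
    rw [coe_omegaL, omega, ev_eq_sum]
    congr 1
  refine ⟨?_, ?_⟩
  · rw [hom]
    obtain ⟨θ, n, ρ, hρ, rfl⟩ := ψ
    haveI := hρ
    have h := CT.isIntegral_class_weighted ρ hFc' fun g => hFi _
    show IsIntegral ℤ ((∑ g, F g⁻¹ * ρ.character g) / ρ.character 1)
    rwa [show ρ.character (1 : G) = ((Module.finrank ℂ (Fin n → ℂ) : ℕ) : ℂ) from
      Representation.char_one ρ]
  · rw [hom, mul_div_cancel₀ _ (CT.irr_one_ne_zero ψ.2)]
    have hre : ∑ g, F g⁻¹ * (ψ : G → ℂ) g = ∑ g, F g * conj ((ψ : G → ℂ) g) :=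
      Fintype.sum_equiv (Equiv.inv G) _ _ fun g => by
        simp [CT.char_inv_eq_conj (CT.isCharacter_of_isIrr ψ.2)]
    have hcl : IsClassFunction G fun g => conj ((ψ : G → ℂ) g) := fun g x => by
      show conj ((ψ : G → ℂ) (x * g * x⁻¹)) = _
      rw [isClassFn_irr ψ g x]
    rw [hre]
    have hN : (Nat.card (Subgroup.centralizer ({y} : Set G)) : ℂ) ≠ 0 := CT.card_ne_zero
    apply mul_left_cancel₀ hN
    rw [hFsum _ hcl, mul_left_comm]
    congr 1
    -- the pairing with the regular translate of `ψ`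
    have hgψ : ∀ η, gB p b ψ η =
        if η ∈ b then classInner (secFun p ψ y) (η : Subgroup.centralizer ({y} : Set G) → ℂ) else 0 :=
      fun η => by rw [gB_eq hM hb ψ η]; rfl
    have e1 : ∑ η, gB p b χ η * conj (gB p b ψ η) = classInner f (secFun p ψ y) := by
      rw [hf, CT.classInner_sum_left]
      simp only [gB, Finset.sum_mul, CT.classInner_smul_left]
      rw [Finset.sum_comm]
      refine Finset.sum_congr rfl fun η' _ => ?_
      simp only [mul_assoc, ← Finset.mul_sum]
      by_cases h' : η' ∈ b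
      swap
      · rw [secC, if_neg h', zero_mul, zero_mul]
      congr 1
      conv_rhs => rw [CT.classFunction_eq_sum (regFun_class (p := p) η'), CT.classInner_sum_left]
      refine Finset.sum_congr rfl fun η _ => ?_
      rw [CT.classInner_smul_left, ← bfPair]
      by_cases hη : η ∈ b
      · have := hgψ η
        rw [if_pos hη] at this
        simp only [gB] at this
        rw [this, CT.classInner_conj_symm]
      · rw [bfPair_zero_of_mem hM hb h' hη, zero_mul, zero_mul]
    rw [e1, classInner, mul_inv_cancel_left₀ hN]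
    refine Finset.sum_congr rfl fun v _ => ?_
    simp only [secFun]
    by_cases hv : p ∣ orderOf v
    · simp [hfs v hv]
    · simp [hv]

/-- The height of the column divides the contribution; the residue of the quotient depends on the
column only through a unit. -/
theorem subMat_height [M.IsPrime] (hM : IsPModular p M) (hy : ∃ k : ℕ, y ^ p ^ k = 1)
    {b : Set (IrrCharacter (Subgroup.centralizer ({y} : Set G)))} (hb : IsPBlock M b)
    {B : Set (IrrCharacter G)} (hB : IsPBlock M B) (hqd : blockDefect p b ≤ blockDefect p B)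
    (χ : IrrCharacter G) :
    ∃ t : Res M, ∀ ψ ∈ B, ∃ (v : ℂ) (hv : IsIntegral ℤ v) (e : Res M), e ≠ 0 ∧
      subMat p (blockDefect p B) b χ ψ = (p : ℂ) ^ blockHeight p B (ψ : G → ℂ) * v ∧
      red M ⟨v, integral_mem_loc hv⟩ = e * t := by
  haveI := charP_res (M := M) hM
  haveI := Fact.mk hM.1
  obtain ⟨a, ha⟩ := exists_central_value hM hy hb χ
  obtain ⟨ψ₀, hψ₀⟩ := block_nonempty hB
  refine ⟨red M (omegaL M ψ₀ a), fun ψ hψ => ?_⟩
  obtain ⟨hTi, hT⟩ := ha ψ
  set T : ℂ := ((omegaL M ψ a : Loc M) : ℂ) with hTdef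
  set aG := (Nat.card G).factorization p
  set n1 := Nat.card G / p ^ aG with hn1def
  set eψ := (charDegree (ψ : G → ℂ)).factorization p
  set n3 := charDegree (ψ : G → ℂ) / p ^ eψ
  set d := blockDefect p B
  set h := blockHeight p B (ψ : G → ℂ)
  have hn1 : ¬ p ∣ n1 := Nat.not_dvd_ordCompl hM.1 Nat.card_pos.ne'
  have hn3 : ¬ p ∣ n3 := Nat.not_dvd_ordCompl hM.1 (charDegree_pos ψ).ne'
  have hp0 : (p : ℂ) ≠ 0 := Nat.cast_ne_zero.mpr hM.1.ne_zero
  have hdeg : (charDegree (ψ : G → ℂ) : ℂ) = (p : ℂ) ^ eψ * (n3 : ℂ) := by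
    exact_mod_cast (Nat.ordProj_mul_ordCompl_eq_self (charDegree (ψ : G → ℂ)) p).symm
  have hG : (Nat.card G : ℂ) = (p : ℂ) ^ aG * (n1 : ℂ) := by
    exact_mod_cast (Nat.ordProj_mul_ordCompl_eq_self (Nat.card G) p).symm
  have hpd : (p : ℂ) ^ d * (p : ℂ) ^ eψ = (p : ℂ) ^ aG * (p : ℂ) ^ h := by
    rw [← pow_add, ← pow_add]
    congr 1
    have := height_add (p := p) hψ
    omega
  rw [hG, charDegree_cast, hdeg] at hT
  have key : (n1 : ℂ) * subMat p d b χ ψ = (p : ℂ) ^ h * ((n3 : ℂ) * T) := by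
    apply mul_left_cancel₀ (pow_ne_zero aG hp0)
    rw [subMat]
    linear_combination (p : ℂ) ^ d * hT + (n3 : ℂ) * T * hpd
  set v := subMat p d b χ ψ / (p : ℂ) ^ h with hvdef
  have hav : subMat p d b χ ψ = (p : ℂ) ^ h * v := by
    rw [hvdef, mul_div_cancel₀ _ (pow_ne_zero h hp0)]
  have hn1v : (n1 : ℂ) * v = (n3 : ℂ) * T := by
    apply mul_left_cancel₀ (pow_ne_zero h hp0)
    rw [← key, hav]
    ring
  -- integrality of the contribution itself
  have hsubint : IsIntegral ℤ (subMat p d b χ ψ) → IsIntegral ℤ v := by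
    intro hint
    have hcop : IsCoprime (n1 : ℤ) ((p : ℤ) ^ h) :=
      (Int.isCoprime_iff_nat_coprime.mpr (by
        simpa using ((hM.1.coprime_iff_not_dvd).mpr hn1).symm)).pow_right
    obtain ⟨α, β, hαβ⟩ := hcop
    have hαβ' : (α : ℂ) * (n1 : ℂ) + (β : ℂ) * (p : ℂ) ^ h = 1 := by exact_mod_cast hαβ
    have hv : v = (α : ℂ) * ((n1 : ℂ) * v) + (β : ℂ) * subMat p d b χ ψ := by
      rw [hav]; linear_combination (-v) * hαβ'
    rw [hv, hn1v]
    exact ((isIntegral_intC α).mul ((isIntegral_natC n3).mul hTi)).add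
      ((isIntegral_intC β).mul hint)
  have hint : IsIntegral ℤ (subMat p d b χ ψ) := isIntegral_subMat hM hy hqd χ ψ
  refine ⟨v, hsubint hint, (n3 : Res M) / (n1 : Res M), ?_, hav, ?_⟩
  · exact div_ne_zero (mt (CharP.cast_eq_zero_iff (Res M) p _).mp hn3)
      (mt (CharP.cast_eq_zero_iff (Res M) p _).mp hn1)
  · have e2 : (n1 : Loc M) * ⟨v, integral_mem_loc (hsubint hint)⟩ =
        (n3 : Loc M) * omegaL M ψ a := Subtype.ext (by push_cast; exact hn1v)
    have e3 := congrArg (red M) e2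
    rw [map_mul, map_mul, map_natCast, map_natCast,
      red_omegaL_eq_of_sameBlock ((mem_block_iff hB hψ).mp hψ₀) a] at e3
    rw [div_mul_eq_mul_div, eq_div_iff (mt (CharP.cast_eq_zero_iff (Res M) p _).mp hn1), mul_comm]
    exact e3

end Cfsg.Agent.Blocks
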