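import Cfsg.Agent.Lib.Blocks.StarWeight
import Cfsg.Agent.Lib.BrauerPairs.Local

/-!
# The blocks of centralizers below a nilpotent block are nilpotent
-/

namespace Cfsg.Agent.Blocks

open MonoidAlgebra BPairs

universe u

variable {G : Type u} [Group G] [Finite G] {p : ℕ} {M : Ideal AlgInt} [M.IsPrime]

set_option linter.unusedSectionVars false

theorem exists_block_of_subgroup_eq {C₁ C₂ : Subgroup G} (h : C₁ = C₂)
    {b : Set (IrrCharacter C₁)} (hb : IsPBlock M b) :
    ∃ b' : Set (IrrCharacter C₂), IsPBlock M b' ∧ bel M C₂ b' = bel M C₁ b ∧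
      ∀ z : MonoidAlgebra (Res M) G, embH C₂ (resH C₂ z) = embH C₁ (resH C₁ z) := by
  subst h
  exact ⟨b, hb, rfl, fun _ => rfl⟩

/-- Blocks of centralizers belonging to a nilpotent block are nilpotent. -/
theorem isNilpotentBlock_centralizer (hM : IsPModular p M) [Fact p.Prime]
    {B : Set (IrrCharacter G)} (hnil : IsNilpotentBlock p M B) {x : G}
    {b : Set (IrrCharacter (cz x))} (h : IsBrauerPairOf p M B (Subgroup.zpowers x) b) :
    IsNilpotentBlock p M b := by
  obtain ⟨hxp, hb, hB, -⟩ := isBrauerPairOf_iff.mp h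
  refine ⟨hb, fun R k hR t ht hst hreg => ?_⟩
  obtain ⟨hRp, hk, -, hocc⟩ := isBrauerPairOf_iff.mp hR
  obtain ⟨Z, hZ⟩ : ∃ Z : Subgroup (cz x), Z = Subgroup.zpowers (⟨x, mem_cz_self x⟩ : cz x) := ⟨_, rfl⟩
  have hZc : Z ≤ Subgroup.center (cz x) := hZ ▸ Subgroup.zpowers_le.mpr
    (Subgroup.mem_center_iff.mpr fun w => Subtype.ext (mem_cz.mp w.2))
  haveI : Z.Normal := ⟨fun z hz g => by
    rw [Subgroup.mem_center_iff.mp (hZc hz) g, mul_inv_cancel_right]; exact hz⟩
  obtain ⟨R', hR'⟩ : ∃ R', R' = R ⊔ Z := ⟨_, rfl⟩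
  have hcent : Subgroup.centralizer (R : Set (cz x)) = Subgroup.centralizer (R' : Set (cz x)) := by
    refine le_antisymm (fun w hw => ?_) (Subgroup.centralizer_le (hR' ▸ le_sup_left : R ≤ R'))
    have h1 : R' ≤ Subgroup.centralizer ({w} : Set (cz x)) := by
      refine hR' ▸ sup_le (fun r hr => ?_) fun z hz => ?_
      · rw [Subgroup.mem_centralizer_singleton_iff]; exact hw r hr
      · rw [Subgroup.mem_centralizer_singleton_iff]
        exact (Subgroup.mem_center_iff.mp (hZc hz) w).symm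
    exact fun r hr => Subgroup.mem_centralizer_singleton_iff.mp (h1 hr)
  have hxp' : IsPGroup p Z := by
    obtain ⟨j, hj⟩ := exists_pow_eq_one_of_isPGroup hxp (Subgroup.mem_zpowers x)
    exact hZ ▸ isPGroup_zpowers ⟨j, Subtype.ext (by simpa using hj)⟩
  have hR'p : IsPGroup p R' := hR' ▸ IsPGroup.to_sup_of_normal_right hRp hxp'
  obtain ⟨k', hk', hbel, hemb⟩ := exists_block_of_subgroup_eq (M := M) hcent hk
  have hbi : ∀ Q : Subgroup (cz x), Inv2 Q (bBar M b : MonoidAlgebra (Res M) (cz x)) :=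
    fun Q => inv2_center Q (bBar M b).2
  have hbb : (bBar M b : MonoidAlgebra (Res M) (cz x)) * (bBar M b : MonoidAlgebra (Res M) (cz x)) =
      (bBar M b : MonoidAlgebra (Res M) (cz x)) := by
    rw [← Subring.coe_mul, bBar_mul_self (blockCoeff_mem_loc hb)]
  have hocc' : Occ M R' k' (bBar M b : MonoidAlgebra (Res M) (cz x)) := by
    refine occ_of_mul hk' (hbi R').2 ?_
    rw [hbel, hemb]
    exact mul_of_occ hM hRp hk (hbi R) hbb hocc
  -- push to `G`
  have hxR : Subgroup.zpowers x ≤ R'.map (cz x).subtype := by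
    refine Subgroup.zpowers_le.mpr ⟨⟨x, mem_cz_self x⟩, ?_, rfl⟩
    exact hR' ▸ Subgroup.mem_sup_right (hZ ▸ Subgroup.mem_zpowers _)
  have hC : Subgroup.centralizer ((R'.map (cz x).subtype : Subgroup G) : Set G) ≤ cz x :=
    Subgroup.centralizer_le hxR
  obtain ⟨⟨R'', k''⟩, hpush⟩ := exists_push (⟨R', k'⟩ : BrauerPairIdx (cz x)) hk' hC
  obtain ⟨-, hk'', hsub, hbel''⟩ := hpush
  dsimp only at hk'' hsub hbel''
  subst hsub
  have hrel : NormalSubpairRel p M (⟨Subgroup.zpowers x, b⟩ : BrauerPairIdx G)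
      ⟨R'.map (cz x).subtype, k''⟩ := by
    refine isNormalSubpair_iff.mpr ⟨⟨hxp, hb⟩, ⟨hR'p.map _, hk''⟩, hxR,
      (Subgroup.map_subtype_le _).trans (Subgroup.centralizer_le_normalizer _),
      fun w hw => isInv_iff_conjA.mp (isInv_bel _ b) w (Subgroup.map_subtype_le _ hw), ?_⟩
    exact (occ_push hM (a := ⟨R', k'⟩) (b := ⟨R'.map (cz x).subtype, k''⟩)
      ⟨hk', hk'', rfl, hbel''⟩ hC hR'p (hbi R') hbb).mpr hocc'
  have hpairB : IsBrauerPairOf p M B (R'.map (cz x).subtype) k'' :=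
    (pairOf_iff_of_subpair hM hB _ _ (Relation.ReflTransGen.single hrel)).mpr h
  have htN : ∀ v ∈ R', t * v * t⁻¹ ∈ R' := by
    intro v hv
    have h1 : R'.map (MulAut.conj t).toMonoidHom ≤ R' := by
      rw [hR', Subgroup.map_sup]
      refine sup_le_sup ?_ ?_
      · rintro _ ⟨r, hr, rfl⟩
        exact (Subgroup.mem_normalizer_iff.mp ht r).mp hr
      · rintro _ ⟨z, hz, rfl⟩
        exact (inferInstance : Z.Normal).conj_mem z hz t
    exact h1 ⟨v, hv, rfl⟩
  have ht' : (t : G) ∈ Subgroup.normalizer ((R'.map (cz x).subtype : Subgroup G) : Set G) := by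
    refine Subgroup.mem_normalizer_fintype ?_
    rintro _ ⟨v, hv, rfl⟩
    exact ⟨t * v * t⁻¹, htN v hv, by simp⟩
  have hconj : conjA t (bel M _ k') = bel M _ k' := by
    have htC : t ∈ Subgroup.normalizer (Subgroup.centralizer (R : Set (cz x)) : Set (cz x)) :=
      normalizer_le_normalizer_centralizer R ht
    rw [hbel]
    exact (conjA_bel_iff_stabilizes t _ hk htC).mp hst
  have hst' : StabilizesBlock (Subgroup.centralizer ((R'.map (cz x).subtype : Subgroup G) : Set G))
      k'' (t : G) := by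
    refine (conjA_bel_iff_stabilizes (t : G) _ hk'' (normalizer_le_normalizer_centralizer _ ht')).mpr ?_
    rw [← hbel'', conjA_embH, hconj]
  have hreg' : IsPRegular p (t : G) := by
    simpa [IsPRegular, Subgroup.orderOf_coe] using hreg
  have hfin := hnil.2 _ k'' hpairB (t : G) ht' hst' hreg'
  rw [hcent]
  exact (mem_centralizer_map_iff R' t).mp hfin

end Cfsg.Agent.Blocks
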