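import Cfsg.Agent.Lib.Blocks.InducedIn
import Cfsg.Agent.Lib.Blocks.NilLocal
import Cfsg.Agent.Lib.BrauerPairs.AbelianFusion

/-!
# Abelian defect groups with freely acting inertial quotient

The blocks of the centralizers of the nontrivial subgroups of the defect group are nilpotent
exactly when the inertial quotient acts freely.
-/

namespace Cfsg.Agent.Blocks

open MonoidAlgebra BPairs

universe u

variable {G : Type u} [Group G] [Finite G] {p : ℕ} {M : Ideal AlgInt} [M.IsPrime]
  {B : Set (IrrCharacter G)} {P : Subgroup G}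
  {c : Set (IrrCharacter (Subgroup.centralizer (P : Set G)))}

set_option linter.unusedSectionVars false

theorem isPGroup_defectGroup (hM : IsPModular p M) {D : Subgroup G} (hB : IsPBlock M B)
    (hD : IsDefectGroup p M B D) : IsPGroup p D :=
  IsPGroup.of_card (card_defectGroup hM hB hD)

/-- A block of the centralizer of a defect group inducing `B` gives a maximal pair. -/
theorem maximal_of_induced (hM : IsPModular p M) (hB : IsPBlock M B)
    (hPD : IsDefectGroup p M B P) (hc : IsInducedBlock M (Subgroup.centralizer (P : Set G)) c B) :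
    IsMaximalBrauerPair p M B P c := by
  haveI := Fintype.ofFinite G
  refine ⟨brauerPairOf_of_induced hM (isPGroup_defectGroup hM hB hPD) hc, fun R g hR hle => ?_⟩
  obtain ⟨⟨R', g'⟩, hle', hmax'⟩ := exists_maximal hM hR
  have hcd := card_defect_eq hM hB (isDefectGroup_of_maximal hM hmax') hPD
  refine (Subgroup.eq_of_le_of_card_ge (subpair_le hle) ?_).symm
  exact (Subgroup.card_le_of_le (subpair_le hle')).trans hcd.le

theorem eq_stabSub (hc : IsPBlock M c) {T : Subgroup G}
    (hT : ∀ g : G, g ∈ T ↔ (g ∈ Subgroup.normalizer (P : Set G) ∧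
      StabilizesBlock (Subgroup.centralizer (P : Set G)) c g)) : T = stabSub M P c :=
  Subgroup.ext fun g => (hT g).trans (mem_stabSub hc).symm

theorem centralizer_le_stabSub {Q : Subgroup G}
    (f : Set (IrrCharacter (Subgroup.centralizer (Q : Set G)))) :
    Subgroup.centralizer (Q : Set G) ≤ stabSub M Q f := fun x hx =>
  ⟨Subgroup.centralizer_le_normalizer _ hx, isInv_iff_conjA.mp (isInv_bel _ f) x hx⟩

/-- The inertial quotient of an abelian defect group has order prime to `p`. -/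
theorem not_dvd_relIndex (hM : IsPModular p M) [Fact p.Prime] (hB : IsPBlock M B)
    (hPD : IsDefectGroup p M B P) (hP : P ≤ Subgroup.centralizer (P : Set G))
    (hc : IsInducedBlock M (Subgroup.centralizer (P : Set G)) c B) :
    ¬ p ∣ (Subgroup.centralizer (P : Set G)).relIndex (stabSub M P c) := by
  refine (stabilizer_defect hM (isPGroup_defectGroup hM hB hPD) (sup_eq_right.mpr hP).symm hc.1
    (defect_of_induced hM hP le_rfl (Subgroup.centralizer_le_normalizer _) hc hPD) hc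
    (stabSub M P c)
    fun g => (mem_stabSub hc.1).trans (and_congr_right fun hg => ?_)).mp hPD
  have hgC : g ∈ Subgroup.normalizer ((Subgroup.centralizer (P : Set G)) : Set G) :=
    normalizer_le_normalizer_centralizer P hg
  constructor
  · intro hs θ hθ θ' hθ'
    obtain ⟨χ', hχ', hcj⟩ := hs.2 θ hθ
    have : θ' = χ' := Subtype.ext (funext fun h' => by
      have hm : g⁻¹ * (h' : G) * g ∈ Subgroup.centralizer (P : Set G) :=
        (Subgroup.mem_normalizer_iff''.mp hgC _).mp h'.2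
      rw [hθ' ⟨_, hm⟩ h' (by group), hcj ⟨_, hm⟩ h' (by group)])
    exact this ▸ hχ'
  · intro h
    have hh : ∀ u, u ∈ Subgroup.centralizer (P : Set G) ↔
        g * u * g⁻¹ ∈ Subgroup.centralizer (P : Set G) := fun u =>
      Subgroup.mem_normalizer_iff.mp hgC u
    refine ⟨hgC, fun χ hχ => ?_⟩
    have hk : ∀ k k' : Subgroup.centralizer (P : Set G), (k' : G) = g * k * g⁻¹ →
        (Glauberman.compIrr (cIso g _ _ hh) χ : Subgroup.centralizer (P : Set G) → ℂ) k' =
          (χ : Subgroup.centralizer (P : Set G) → ℂ) k := fun k k' hk => by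
      show (χ : Subgroup.centralizer (P : Set G) → ℂ) _ = _
      exact congrArg _ (Subtype.ext (by
        show g⁻¹ * (k' : G) * g = k
        rw [hk]; simp [mul_assoc]))
    exact ⟨_, h χ hχ _ hk, hk⟩

/-- The `p`-elements of the inertial group lie in the centralizer. -/
theorem mem_centralizer_of_pow (hM : IsPModular p M) [Fact p.Prime] (hB : IsPBlock M B)
    (hPD : IsDefectGroup p M B P) (hP : P ≤ Subgroup.centralizer (P : Set G))
    (hc : IsInducedBlock M (Subgroup.centralizer (P : Set G)) c B) {g : G}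
    (hg : g ∈ stabSub M P c) {k : ℕ} (hk : g ^ p ^ k ∈ Subgroup.centralizer (P : Set G)) :
    g ∈ Subgroup.centralizer (P : Set G) := by
  obtain ⟨C', hC'⟩ : ∃ C', C' = (Subgroup.centralizer (P : Set G)).subgroupOf (stabSub M P c) :=
    ⟨_, rfl⟩
  haveI hn : C'.Normal := by
    refine ⟨fun x hx y => ?_⟩
    rw [hC', Subgroup.mem_subgroupOf] at hx ⊢
    simpa using (Subgroup.mem_normalizer_iff.mp
      (normalizer_le_normalizer_centralizer P y.2.1) (x : G)).mp hx
  have h0 : ((⟨g, hg⟩ : stabSub M P c) : stabSub M P c ⧸ C') ^ p ^ k = 1 := by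
    rw [← QuotientGroup.mk_pow, QuotientGroup.eq_one_iff, hC', Subgroup.mem_subgroupOf]
    simpa using hk
  have hcop : (p ^ k).Coprime (Nat.card (stabSub M P c ⧸ C')) := by
    refine Nat.Coprime.pow_left k ((Nat.Prime.coprime_iff_not_dvd Fact.out).mpr ?_)
    rw [hC']
    exact not_dvd_relIndex hM hB hPD hP hc
  have h1 : ((⟨g, hg⟩ : stabSub M P c) : stabSub M P c ⧸ C') = 1 :=
    orderOf_eq_one_iff.mp (Nat.eq_one_of_dvd_coprimes hcop (orderOf_dvd_of_pow_eq_one h0)
      (orderOf_dvd_natCard _))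
  rw [QuotientGroup.eq_one_iff, hC', Subgroup.mem_subgroupOf] at h1
  exact h1

/-- Free action makes the blocks below nilpotent. -/
theorem nilpotent_of_free (hM : IsPModular p M) [Fact p.Prime]
    (hmax : IsMaximalBrauerPair p M B P c) (hP : P ≤ Subgroup.centralizer (P : Set G))
    (hfree : ∀ g ∈ stabSub M P c, ∀ x ∈ P, x ≠ 1 → g * x * g⁻¹ = x →
      g ∈ Subgroup.centralizer (P : Set G))
    {Q : Subgroup G} (hQ1 : Q ≠ ⊥) {f : Set (IrrCharacter (Subgroup.centralizer (Q : Set G)))}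
    (hfb : IsPBlock M f) (hle : SubpairLE p M Q f P c) : IsNilpotentBlock p M f := by
  have hB := hmax.1.2.1
  have hQP := subpair_le hle
  have hPQ : P ≤ Subgroup.centralizer (Q : Set G) := hP.trans (Subgroup.centralizer_le hQP)
  have hQC : Q ≤ Subgroup.centralizer (Q : Set G) := hQP.trans hPQ
  have hQp : IsPGroup p Q := hmax.1.1.1.to_le hQP
  have hpairQ : IsBrauerPairOf p M B Q f :=
    (pairOf_iff_of_subpair hM hB ⟨Q, f⟩ ⟨P, c⟩ hle).mp hmax.1
  refine ⟨hfb, fun R k hR t ht hst hreg => ?_⟩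
  obtain ⟨hRp, hk, -, hocc⟩ := isBrauerPairOf_iff.mp hR
  obtain ⟨Z, hZ⟩ : ∃ Z : Subgroup (Subgroup.centralizer (Q : Set G)),
      Z = Q.subgroupOf (Subgroup.centralizer (Q : Set G)) := ⟨_, rfl⟩
  have hZc : Z ≤ Subgroup.center _ := fun z hz => Subgroup.mem_center_iff.mpr fun w =>
    Subtype.ext ((Subgroup.mem_centralizer_iff.mp w.2 z
      (Subgroup.mem_subgroupOf.mp (hZ ▸ hz))).symm)
  haveI : Z.Normal := ⟨fun z hz g => by
    rw [Subgroup.mem_center_iff.mp (hZc hz) g, mul_inv_cancel_right]; exact hz⟩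
  obtain ⟨R', hR'⟩ : ∃ R', R' = R ⊔ Z := ⟨_, rfl⟩
  have hcent : Subgroup.centralizer (R : Set (Subgroup.centralizer (Q : Set G))) =
      Subgroup.centralizer (R' : Set (Subgroup.centralizer (Q : Set G))) := by
    refine le_antisymm (fun w hw => ?_) (Subgroup.centralizer_le (hR' ▸ le_sup_left : R ≤ R'))
    have h1 : R' ≤ Subgroup.centralizer ({w} : Set (Subgroup.centralizer (Q : Set G))) := by
      refine hR' ▸ sup_le (fun r hr => ?_) fun z hz => ?_
      · rw [Subgroup.mem_centralizer_singleton_iff]; exact hw r hr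
      · rw [Subgroup.mem_centralizer_singleton_iff]
        exact (Subgroup.mem_center_iff.mp (hZc hz) w).symm
    exact fun r hr => Subgroup.mem_centralizer_singleton_iff.mp (h1 hr)
  have hZp : IsPGroup p Z := hZ ▸ hQp.of_equiv (Subgroup.subgroupOfEquivOfLe hQC).symm
  have hR'p : IsPGroup p R' := hR' ▸ IsPGroup.to_sup_of_normal_right hRp hZp
  obtain ⟨k', hk', hbel, hemb⟩ := exists_block_of_subgroup_eq (M := M) hcent hk
  have hbi : ∀ S : Subgroup (Subgroup.centralizer (Q : Set G)),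
      Inv2 S (bBar M f : MonoidAlgebra (Res M) (Subgroup.centralizer (Q : Set G))) :=
    fun S => inv2_center S (bBar M f).2
  have hbb : (bBar M f : MonoidAlgebra (Res M) (Subgroup.centralizer (Q : Set G))) * (bBar M f : MonoidAlgebra (Res M) (Subgroup.centralizer (Q : Set G))) =
      (bBar M f : MonoidAlgebra (Res M) (Subgroup.centralizer (Q : Set G))) := by
    rw [← Subring.coe_mul, bBar_mul_self (blockCoeff_mem_loc hfb)]
  have hocc' : Occ M R' k' (bBar M f : MonoidAlgebra (Res M) (Subgroup.centralizer (Q : Set G))) := by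
    refine occ_of_mul hk' (hbi R').2 ?_
    rw [hbel, hemb]
    exact mul_of_occ hM hRp hk (hbi R) hbb hocc
  have hQR : Q ≤ R'.map (Subgroup.centralizer (Q : Set G)).subtype := fun q hq =>
    ⟨⟨q, hQC hq⟩, hR' ▸ Subgroup.mem_sup_right (hZ ▸ Subgroup.mem_subgroupOf.mpr hq), rfl⟩
  have hC : Subgroup.centralizer
      ((R'.map (Subgroup.centralizer (Q : Set G)).subtype : Subgroup G) : Set G) ≤
        Subgroup.centralizer (Q : Set G) :=
    Subgroup.centralizer_le hQR
  obtain ⟨⟨R'', k''⟩, hpush⟩ :=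
    exists_push (⟨R', k'⟩ : BrauerPairIdx (Subgroup.centralizer (Q : Set G))) hk' hC
  obtain ⟨-, hk'', hsub, hbel''⟩ := hpush
  dsimp only at hk'' hsub hbel''
  subst hsub
  have hrel : NormalSubpairRel p M (⟨Q, f⟩ : BrauerPairIdx G)
      ⟨R'.map (Subgroup.centralizer (Q : Set G)).subtype, k''⟩ := by
    refine isNormalSubpair_iff.mpr ⟨⟨hQp, hfb⟩, ⟨hR'p.map _, hk''⟩, hQR,
      (Subgroup.map_subtype_le _).trans (Subgroup.centralizer_le_normalizer _),
      fun w hw => isInv_iff_conjA.mp (isInv_bel _ f) w (Subgroup.map_subtype_le _ hw), ?_⟩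
    exact (occ_push hM (a := ⟨R', k'⟩)
      (b := ⟨R'.map (Subgroup.centralizer (Q : Set G)).subtype, k''⟩)
      ⟨hk', hk'', rfl, hbel''⟩ hC hR'p (hbi R') hbb).mpr hocc'
  have hpairB : IsBrauerPairOf p M B (R'.map (Subgroup.centralizer (Q : Set G)).subtype) k'' :=
    (pairOf_iff_of_subpair hM hB _ _ (Relation.ReflTransGen.single hrel)).mpr hpairQ
  have htN : ∀ v ∈ R', t * v * t⁻¹ ∈ R' := by
    intro v hv
    have h1 : R'.map (MulAut.conj t).toMonoidHom ≤ R' := by
      rw [hR', Subgroup.map_sup]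
      refine sup_le_sup ?_ ?_
      · rintro _ ⟨r, hr, rfl⟩
        exact (Subgroup.mem_normalizer_iff.mp ht r).mp hr
      · rintro _ ⟨z, hz, rfl⟩
        exact (inferInstance : Z.Normal).conj_mem z hz t
    exact h1 ⟨v, hv, rfl⟩
  have ht' : (t : G) ∈ Subgroup.normalizer
      ((R'.map (Subgroup.centralizer (Q : Set G)).subtype : Subgroup G) : Set G) := by
    refine Subgroup.mem_normalizer_fintype ?_
    rintro _ ⟨v, hv, rfl⟩
    exact ⟨t * v * t⁻¹, htN v hv, by simp⟩
  have hconj : conjA t (bel M _ k') = bel M _ k' := by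
    rw [hbel]
    exact (conjA_bel_iff_stabilizes t _ hk (normalizer_le_normalizer_centralizer R ht)).mp hst
  have htS : (t : G) ∈ stabSub M (R'.map (Subgroup.centralizer (Q : Set G)).subtype) k'' :=
    ⟨ht', by rw [← hbel'', conjA_embH, hconj]⟩
  obtain ⟨g, hg⟩ := exists_conj_below_maximal hM hmax hpairB
  obtain ⟨R₁, hR₁⟩ : ∃ R₁, R₁ = (R'.map (Subgroup.centralizer (Q : Set G)).subtype).map
      (MulAut.conj g).toMonoidHom := ⟨_, rfl⟩
  have hR₁P : R₁ ≤ P := hR₁ ▸ subpair_le hg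
  have hrb : IsPBlock M
      (⟨R'.map (Subgroup.centralizer (Q : Set G)).subtype, k''⟩ : BrauerPairIdx G).2 := hk''
  have hxS : g * (t : G) * g⁻¹ ∈ stabSub M _ (conjBlock _ g k'') := by
    refine (conjIdx_eq_self_iff (show IsPBlock M (conjIdx g
      (⟨R'.map (Subgroup.centralizer (Q : Set G)).subtype, k''⟩ : BrauerPairIdx G)).2 from
        isPBlock_conjBlock _ g hk'')).mp ?_
    rw [conjIdx_conjIdx hrb, inv_mul_cancel_right, ← conjIdx_conjIdx hrb,
      (conjIdx_eq_self_iff hrb).mpr htS]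
  obtain ⟨y, hy, d, hd, he⟩ := abelian_stab hM hmax hg
    (hP.trans (Subgroup.centralizer_le (hR₁ ▸ hR₁P))) hxS
  obtain ⟨q, hq, hq1⟩ : ∃ q ∈ Q, q ≠ 1 := by
    by_contra hcon
    push Not at hcon
    exact hQ1 (eq_bot_iff.mpr fun q hq => Subgroup.mem_bot.mpr (hcon q hq))
  have hv : g * q * g⁻¹ ∈ (R'.map (Subgroup.centralizer (Q : Set G)).subtype).map
      (MulAut.conj g).toMonoidHom := ⟨q, hQR hq, rfl⟩
  have hfix : g * (t : G) * g⁻¹ * (g * q * g⁻¹) * (g * (t : G) * g⁻¹)⁻¹ = g * q * g⁻¹ := by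
    have h2 : (t : G) * q = q * (t : G) := (Subgroup.mem_centralizer_iff.mp t.2 q hq).symm
    calc _ = g * ((t : G) * q * (t : G)⁻¹) * g⁻¹ := by group
      _ = _ := by rw [h2, mul_inv_cancel_right]
  have hyfix : y * (g * q * g⁻¹) * y⁻¹ = g * q * g⁻¹ := by
    have h3 : d * (g * q * g⁻¹) = (g * q * g⁻¹) * d :=
      (Subgroup.mem_centralizer_iff.mp hd _ hv).symm
    conv_rhs => rw [← hfix, he]
    calc y * (g * q * g⁻¹) * y⁻¹ = y * (g * q * g⁻¹ * d) * d⁻¹ * y⁻¹ := by group
      _ = y * (d * (g * q * g⁻¹)) * d⁻¹ * y⁻¹ := by rw [h3]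
      _ = _ := by group
  have hyC := hfree y hy _ (subpair_le hg hv) (fun h => hq1 (conj_eq_one_iff.mp h)) hyfix
  have hgt : g * (t : G) * g⁻¹ ∈ Subgroup.centralizer
      (((R'.map (Subgroup.centralizer (Q : Set G)).subtype).map (MulAut.conj g).toMonoidHom :
        Subgroup G) : Set G) :=
    he ▸ mul_mem (Subgroup.centralizer_le (subpair_le hg) hyC) hd
  rw [hcent]
  exact (mem_centralizer_map_iff R' t).mp (conj_mem_centralizer.mpr hgt)

/-- Nilpotent blocks below make the action free. -/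
theorem free_of_nilpotent (hM : IsPModular p M) [Fact p.Prime] (hB : IsPBlock M B)
    (hPD : IsDefectGroup p M B P) (hP : P ≤ Subgroup.centralizer (P : Set G))
    (hc : IsInducedBlock M (Subgroup.centralizer (P : Set G)) c B) {g : G}
    (hg : g ∈ stabSub M P c) {x : G} (hx : x ∈ P) (hgx : g * x * g⁻¹ = x)
    (hnil : ∀ f : Set (IrrCharacter (cz x)),
      IsPBlock M f → SubpairLE p M (Subgroup.zpowers x) f P c → IsNilpotentBlock p M f) :
    g ∈ Subgroup.centralizer (P : Set G) := by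
  have hmax := maximal_of_induced hM hB hPD hc
  obtain ⟨f, ⟨hf, hle⟩, -⟩ := existsUnique_below hM hmax.1.1 (Subgroup.zpowers_le.mpr hx)
  have hxP : Subgroup.zpowers x ≤ P := Subgroup.zpowers_le.mpr hx
  have hPx : P ≤ cz x := hP.trans (Subgroup.centralizer_le hxP)
  -- the pair `(P, c)` in the centralizer of `x`
  have hC : Subgroup.centralizer (P : Set G) ≤ cz x := Subgroup.centralizer_le hxP
  obtain ⟨⟨P', c'⟩, hpush⟩ := exists_pull (⟨P, c⟩ : BrauerPairIdx G) hc.1 hPx hC
  have hpush' := hpush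
  obtain ⟨hc', -, hsub, hbel⟩ := hpush
  dsimp only at hc' hsub hbel
  have hP'p : IsPGroup p P' := (isPGroup_push hsub).mpr hmax.1.1.1
  have hfinv : Inv2 P' (bBar M f : MonoidAlgebra (Res M) (cz x)) := inv2_center P' (bBar M f).2
  have hpair : IsBrauerPairOf p M f P' c' := by
    refine isBrauerPairOf_iff.mpr ⟨hP'p, hc', hf, ?_⟩
    refine (occ_push hM hpush' hC hP'p hfinv (by
      rw [← Subring.coe_mul, bBar_mul_self (blockCoeff_mem_loc hf)])).mp ?_
    exact (isNormalSubpair_iff.mp (rel_of_below hM hmax.1.1 hle hxP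
      (hPx.trans (Subgroup.centralizer_le_normalizer _)) Relation.ReflTransGen.refl)).2.2.2.2.2
  obtain ⟨y, z, hyz, hy, ⟨n, hn⟩⟩ :
      ∃ y z : G, g = z * y ∧ (¬ p ∣ orderOf y ∧ y ∈ Subgroup.zpowers g) ∧
        ∃ n : ℕ, z ^ p ^ n = 1 := by
    obtain ⟨y, hzy, -, -, hreg⟩ := id (pPart_spec (p := p) g)
    refine ⟨y, pPart p g, hzy.symm, ⟨hreg, ?_⟩, ppart_pow_eq_one (pPart_spec g)⟩
    rw [eq_inv_mul_of_mul_eq hzy]
    exact mul_mem (inv_mem (ppart_mem_zpowers (pPart_spec g))) (Subgroup.mem_zpowers g)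
  obtain ⟨hyreg, hyg⟩ := hy
  have hyS : y ∈ stabSub M P c := Subgroup.zpowers_le.mpr hg hyg
  have hgcz : g ∈ cz x := mem_cz.mpr (mul_inv_eq_iff_eq_mul.mp hgx)
  have hycz : y ∈ cz x := Subgroup.zpowers_le.mpr hgcz hyg
  have hyP' : (⟨y, hycz⟩ : cz x) ∈ Subgroup.normalizer (P' : Set (cz x)) := by
    refine Subgroup.mem_normalizer_fintype fun v hv => ?_
    have : y * (v : G) * y⁻¹ ∈ P :=
      (Subgroup.mem_normalizer_iff.mp hyS.1 (v : G)).mp (hsub ▸ ⟨v, hv, rfl⟩)
    rw [← hsub] at this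
    obtain ⟨w, hw, he⟩ := this
    rwa [show (⟨y, hycz⟩ : cz x) * v * ⟨y, hycz⟩⁻¹ = w from Subtype.ext (by simpa using he.symm)]
  have hst : StabilizesBlock (Subgroup.centralizer (P' : Set (cz x))) c' ⟨y, hycz⟩ := by
    refine (conjA_bel_iff_stabilizes _ _ hc' (normalizer_le_normalizer_centralizer _ hyP')).mpr ?_
    apply embH_injective (R := Res M) (cz x)
    rw [← conjA_embH, hbel]
    exact hyS.2
  have h1 := (hnil f hf hle).2 P' c' hpair ⟨y, hycz⟩ hyP' hst
    (by simpa [IsPRegular, ← Subgroup.orderOf_coe] using hyreg)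
  have hyC : y ∈ Subgroup.centralizer (P : Set G) := by
    have h2 := (mem_centralizer_map_iff P' ⟨y, hycz⟩).mpr h1
    simpa [hsub] using h2
  have hzS : z ∈ stabSub M P c := by
    have : z = g * y⁻¹ := by rw [hyz, mul_inv_cancel_right]
    exact this ▸ mul_mem hg (inv_mem hyS)
  rw [hyz]
  exact mul_mem (mem_centralizer_of_pow hM hB hPD hP hc hzS
    (by rw [hn]; exact one_mem _)) hyC

end Cfsg.Agent.Blocks
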