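import Cfsg.Agent.Lib.Blocks.MajorContrib
import Cfsg.Agent.Lib.BrauerPairs.Pairs

/-!
# The weight of the subsections of full defect

Over all subsections of full defect the weights of the contributions bound the height.
-/

namespace Cfsg.Agent.Blocks

open BPairs
open scoped ComplexConjugate IntermediateField

universe u

/-- A Galois number field containing the roots of unity of a given order. -/
theorem exists_root_field (n : ℕ) [NeZero n] :
    ∃ K : IntermediateField ℚ ℂ, FiniteDimensional ℚ K ∧ IsGalois ℚ K ∧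
      ∀ ω : ℂ, ω ^ n = 1 → ω ∈ K := by
  obtain ⟨ζ, hζ⟩ : ∃ ζ : ℂ, IsPrimitiveRoot ζ n := ⟨_, Complex.isPrimitiveRoot_exp n (NeZero.ne n)⟩
  haveI := ClassSum.cyclo_adjoin hζ
  refine ⟨ℚ⟮ζ⟯, IsCyclotomicExtension.finiteDimensional {n} ℚ _,
    IsCyclotomicExtension.isGalois {n} ℚ _, fun ω hω => ?_⟩
  obtain ⟨i, -, rfl⟩ := hζ.eq_pow_of_pow_eq_one hω
  exact pow_mem (IntermediateField.mem_adjoin_simple_self ℚ ζ) i

/-- The conjugates of a nonzero algebraic integer have absolute values summing to at least the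
degree. -/
theorem card_le_sum_gal_norm {K : IntermediateField ℚ ℂ} [FiniteDimensional ℚ K] [IsGalois ℚ K]
    (a : K) (ha : (a : ℂ) ≠ 0) (hint : IsIntegral ℤ (a : ℂ)) :
    (Fintype.card Gal(K/ℚ) : ℝ) ≤ ∑ σ : Gal(K/ℚ), ‖((σ a : K) : ℂ)‖ := by
  classical
  have ha0 : a ≠ 0 := fun h => ha (by simp [h])
  have hne : ∀ σ : Gal(K/ℚ), ((σ a : K) : ℂ) ≠ 0 := fun σ h =>
    ha0 (by simpa using (Subtype.ext h : σ a = 0))
  have haK : IsIntegral ℤ a :=
    (isIntegral_algHom_iff ((K.val : K →ₐ[ℚ] ℂ).restrictScalars ℤ) K.val.injective).mp hint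
  set P : K := ∏ σ : Gal(K/ℚ), σ a
  have hfix : ∀ τ : Gal(K/ℚ), τ P = P := by
    intro τ
    simp only [P, map_prod]
    exact Fintype.prod_equiv (Equiv.mulLeft τ) _ _ fun σ => rfl
  obtain ⟨r, hr⟩ := IntermediateField.mem_bot.mp ((IsGalois.mem_bot_iff_fixed P).mpr hfix)
  have hPint : IsIntegral ℤ P := IsIntegral.prod _ fun σ _ =>
    haK.map (σ.toAlgHom.restrictScalars ℤ)
  rw [← hr] at hPint
  obtain ⟨z, hz⟩ := IsIntegrallyClosed.isIntegral_iff.mp
    ((isIntegral_algebraMap_iff (A := ℚ) (B := K) (algebraMap ℚ K).injective).mp hPint)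
  have hval : ∏ σ : Gal(K/ℚ), ((σ a : K) : ℂ) = (z : ℂ) := by
    have hP : (P : ℂ) = ∏ σ : Gal(K/ℚ), ((σ a : K) : ℂ) := map_prod K.val _ _
    rw [← hP, ← hr, ← hz]
    simp
  have hz0 : z ≠ 0 := fun e =>
    (Finset.prod_ne_zero_iff.mpr fun σ _ => hne σ) (by rw [hval, e, Int.cast_zero])
  refine (ClassSum.card_le_sum_of_one_le_prod Finset.univ _
    (fun σ _ => norm_pos_iff.mpr (hne σ)) ?_)
  rw [← norm_prod, hval, Complex.norm_intCast]
  exact_mod_cast Int.one_le_abs hz0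

variable {G : Type u} [Group G] [Fintype G] {p : ℕ} {M : Ideal AlgInt} [M.IsPrime]

set_option linter.unusedSectionVars false

section Local

variable {y : G} [Fintype (Subgroup.centralizer ({y} : Set G))]

/-- The contribution matrix is a scaled idempotent. -/
theorem subMat_idem (hM : IsPModular p M) (hy : ∃ k : ℕ, y ^ p ^ k = 1)
    {b : Set (IrrCharacter (Subgroup.centralizer ({y} : Set G)))} (hb : IsPBlock M b) (d : ℕ)
    (χ ψ : IrrCharacter G) :
    ∑ φ : IrrCharacter G, subMat p d b χ φ * subMat p d b φ ψ =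
      (p : ℂ) ^ d * subMat p d b χ ψ := by
  classical
  have e3 : ∀ η η' : IrrCharacter (Subgroup.centralizer ({y} : Set G)),
      gB p b χ η * conj (gB p b ψ η') * ∑ φ : IrrCharacter G, conj (gB p b φ η) * gB p b φ η' =
        gB p b χ η * bfPair p η η' * conj (gB p b ψ η') := by
    intro η η'
    rw [sum_gB hM hy hb]
    by_cases hη : η ∈ b
    · rw [if_pos hη]; ring
    · rw [gB_eq hM hb χ η, if_neg hη]; ring
  calc ∑ φ : IrrCharacter G, subMat p d b χ φ * subMat p d b φ ψ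
      = ∑ φ : IrrCharacter G, (p : ℂ) ^ d * (p : ℂ) ^ d * ∑ η, ∑ η',
          gB p b χ η * conj (gB p b ψ η') * (conj (gB p b φ η) * gB p b φ η') :=
        Finset.sum_congr rfl fun φ _ => by
          unfold subMat
          refine (mul_mul_mul_comm _ _ _ _).trans (congrArg _ ?_)
          rw [Finset.sum_mul_sum]
          exact Finset.sum_congr rfl fun η _ => Finset.sum_congr rfl fun η' _ => by ring
    _ = (p : ℂ) ^ d * (p : ℂ) ^ d * ∑ η', ∑ η,
          gB p b χ η * bfPair p η η' * conj (gB p b ψ η') := by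
        rw [← Finset.mul_sum]
        congr 1
        rw [Finset.sum_comm]
        refine (Finset.sum_congr rfl fun η _ => Finset.sum_comm).trans ?_
        rw [Finset.sum_comm]
        exact Finset.sum_congr rfl fun η' _ => Finset.sum_congr rfl fun η _ => by
          rw [← e3, Finset.mul_sum]
    _ = (p : ℂ) ^ d * subMat p d b χ ψ := by
        rw [subMat, mul_assoc]
        congr 2
        exact Finset.sum_congr rfl fun η' _ => by rw [← Finset.sum_mul, gB_mul_bfPair_right]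

/-- The conjugates of the contributions are dominated by their diagonals. -/
theorem exists_conj_matrix (hM : IsPModular p M) (hy : ∃ k : ℕ, y ^ p ^ k = 1)
    {b : Set (IrrCharacter (Subgroup.centralizer ({y} : Set G)))} (hb : IsPBlock M b)
    {K : IntermediateField ℚ ℂ} (hroot : ∀ ω : ℂ, ω ^ Nat.card G = 1 → ω ∈ K) :
    ∃ A : IrrCharacter G → IrrCharacter G → K,
      (∀ χ ψ, (A χ ψ : ℂ) = subMat p (blockDefect p b) b χ ψ) ∧
      ∀ (σ : Gal(K/ℚ)) χ ψ, 2 * ‖((σ (A χ ψ) : K) : ℂ)‖ ≤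
        ((σ (A χ χ) : K) : ℂ).re + ((σ (A ψ ψ) : K) : ℂ).re := by
  classical
  haveI := Fact.mk hM.1
  obtain ⟨X, hXs, hX⟩ := exists_bf_matrix hM hb
  set d := blockDefect p b
  have hN : Nat.card G ≠ 0 := Nat.card_pos.ne'
  have hom : ∀ η : IrrCharacter (Subgroup.centralizer ({y} : Set G)), omC η ^ Nat.card G = 1 := fun η =>
    (omC_spec η).2 _ (Subtype.ext (by simp [selfC]))
  have hinv : ∀ w : ℂ, w ^ Nat.card G = 1 → w⁻¹ = conj w := fun w hw =>
    Complex.inv_eq_conj (Complex.norm_eq_one_of_pow_eq_one hw hN)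
  let z : IrrCharacter (Subgroup.centralizer ({y} : Set G)) → K := fun η => ⟨omC η, hroot _ (hom η)⟩
  have hz : ∀ η, z η ^ Nat.card G = 1 := fun η => Subtype.ext (by simpa [z] using hom η)
  let n : IrrCharacter G → IrrCharacter G → IrrCharacter (Subgroup.centralizer ({y} : Set G)) →
      IrrCharacter (Subgroup.centralizer ({y} : Set G)) → ℤ :=
    fun χ ψ η η' => (mB b χ η : ℤ) * mB b ψ η' * X η η'
  let A : IrrCharacter G → IrrCharacter G → K := fun χ ψ =>
    ∑ η, ∑ η', (n χ ψ η η' : K) * (z η * (z η')⁻¹)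
  have hA : ∀ χ ψ, (A χ ψ : ℂ) = subMat p d b χ ψ := by
    intro χ ψ
    simp only [A, subMat_eq, AddSubmonoidClass.coe_finsetSum]
    refine Finset.sum_congr rfl fun η _ => Finset.sum_congr rfl fun η' _ => ?_
    rw [secC_eq_mB, secC_eq_mB, map_mul, map_natCast, ← hinv _ (hom η')]
    by_cases hη : η ∈ b
    · rw [hX η hη η']
      simp only [n, z]
      push_cast
      ring
    · simp [n, mB, hη]
  have hherm : ∀ (σ : Gal(K/ℚ)) χ ψ,
      conj ((σ (A χ ψ) : K) : ℂ) = ((σ (A ψ χ) : K) : ℂ) := by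
    intro σ χ ψ
    simp only [A, map_sum, map_mul, map_intCast, map_inv₀, AddSubmonoidClass.coe_finsetSum]
    push_cast
    simp only [map_sum, map_mul, map_intCast, map_inv₀]
    rw [Finset.sum_comm]
    refine Finset.sum_congr rfl fun η' _ => Finset.sum_congr rfl fun η _ => ?_
    have hr : ∀ e, ((σ (z e) : K) : ℂ) ^ Nat.card G = 1 := fun e => by
      rw [← SubmonoidClass.coe_pow, ← map_pow, hz, map_one]; rfl
    rw [← hinv _ (hr η), ← hinv _ (hr η'), inv_inv,
      show n χ ψ η η' = n ψ χ η' η by simp only [n, hXs η η']; ring]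
    ring
  have hidem : ∀ (σ : Gal(K/ℚ)) χ ψ, ∑ φ, ((σ (A χ φ) : K) : ℂ) * ((σ (A φ ψ) : K) : ℂ) =
      (p : ℂ) ^ d * ((σ (A χ ψ) : K) : ℂ) := by
    intro σ χ ψ
    have hq : ∑ φ, A χ φ * A φ ψ = ((p ^ d : ℕ) : K) * A χ ψ := by
      apply Subtype.ext
      simp only [AddSubmonoidClass.coe_finsetSum]
      push_cast
      simp only [hA]
      exact subMat_idem hM hy hb d χ ψ
    have h2 := congrArg (fun w : K => ((σ w : K) : ℂ)) hq
    simp only [map_sum, map_mul, map_natCast, AddSubmonoidClass.coe_finsetSum] at h2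
    push_cast at h2
    exact h2
  refine ⟨A, hA, fun σ χ ψ => ?_⟩
  have hpos : (0 : ℝ) < (p : ℝ) ^ d := pow_pos (Nat.cast_pos.mpr hM.1.pos) d
  have hrow : ∀ φ, ∑ e, ‖((σ (A φ e) : K) : ℂ)‖ ^ 2 = (p : ℝ) ^ d * ((σ (A φ φ) : K) : ℂ).re := by
    intro φ
    have h := congrArg Complex.re (hidem σ φ φ)
    rw [Complex.re_sum, ← Complex.ofReal_natCast, ← Complex.ofReal_pow, Complex.re_ofReal_mul] at h
    rw [← h]
    refine Finset.sum_congr rfl fun e _ => ?_
    rw [← hherm σ φ e, Complex.mul_conj, Complex.ofReal_re, Complex.normSq_eq_norm_sq]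
  refine le_of_mul_le_mul_left ?_ hpos
  calc (p : ℝ) ^ d * (2 * ‖((σ (A χ ψ) : K) : ℂ)‖)
      = 2 * ‖∑ φ, ((σ (A χ φ) : K) : ℂ) * ((σ (A φ ψ) : K) : ℂ)‖ := by
        rw [hidem, norm_mul, norm_pow, Complex.norm_natCast]; ring
    _ ≤ 2 * ∑ φ, ‖((σ (A χ φ) : K) : ℂ) * ((σ (A φ ψ) : K) : ℂ)‖ := by
        gcongr; exact norm_sum_le _ _
    _ ≤ ∑ φ, (‖((σ (A χ φ) : K) : ℂ)‖ ^ 2 + ‖((σ (A ψ φ) : K) : ℂ)‖ ^ 2) := by
        rw [Finset.mul_sum]
        refine Finset.sum_le_sum fun φ _ => ?_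
        rw [norm_mul, ← hherm σ ψ φ, Complex.norm_conj, ← mul_assoc]
        exact two_mul_le_add_sq _ _
    _ = (p : ℝ) ^ d * (((σ (A χ χ) : K) : ℂ).re + ((σ (A ψ ψ) : K) : ℂ).re) := by
        rw [Finset.sum_add_distrib, hrow, hrow]; ring

end Local

open Classical in
/-- The squared norms of the translates at all subsections add up to the order of the group. -/
theorem sum_all_pairs (hM : IsPModular p M) [∀ u : G, Fintype (Subgroup.centralizer ({u} : Set G))]
    {B : Set (IrrCharacter G)} (hB : IsPBlock M B) {χ : IrrCharacter G} (hχ : χ ∈ B) :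
    ∑ u ∈ Finset.univ.filter (fun u : G => ∃ k : ℕ, u ^ p ^ k = 1),
      (Nat.card (Subgroup.centralizer ({u} : Set G)) : ℂ) *
        ∑ b ∈ Finset.univ.filter (fun b : Set (IrrCharacter (Subgroup.centralizer ({u} : Set G))) =>
          IsInducedBlock M (Subgroup.centralizer ({u} : Set G)) b B),
          ∑ η, conj (gB p b χ η) * gB p b χ η = (Nat.card G : ℂ) := by
  haveI := Fact.mk hM.1
  have h1 : ∑ g : G, (χ : G → ℂ) g * conj ((χ : G → ℂ) g) = (Nat.card G : ℂ) := by
    have h := CT.irr_inner_self χ.2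
    rw [classInner] at h
    calc _ = (Nat.card G : ℂ) * ((Nat.card G : ℂ)⁻¹ * ∑ g : G, (χ : G → ℂ) g * conj ((χ : G → ℂ) g)) :=
          by rw [mul_inv_cancel_left₀ CT.card_ne_zero]
      _ = _ := by rw [h, mul_one]
  choose π hπ using fun g : G => exists_isPPart (p := p) g
  refine Eq.trans ?_ ((Finset.sum_fiberwise_of_maps_to (g := π)
    (t := Finset.univ.filter (fun u : G => ∃ k : ℕ, u ^ p ^ k = 1))
    (fun g _ => Finset.mem_filter.mpr ⟨Finset.mem_univ _, ppart_pow_eq_one (hπ g).1⟩)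
    (fun g : G => (χ : G → ℂ) g * conj ((χ : G → ℂ) g))).trans h1)
  refine Finset.sum_congr rfl fun u hu => ?_
  have hup := (Finset.mem_filter.mp hu).2
  rw [show Finset.univ.filter (fun g : G => π g = u) =
      Finset.univ.filter (fun g : G => IsPPart p g u) by
    ext g
    simp only [Finset.mem_filter, Finset.mem_univ, true_and]
    exact ⟨fun h => h ▸ (hπ g).1, fun h => ppart_unique (hπ g).1 h⟩,
    sum_section hM.1 hup, sum_gB_blocks hM hup hB hχ, classInner,
    mul_inv_cancel_left₀ CT.card_ne_zero, Finset.sum_filter]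
  refine Finset.sum_congr rfl fun v _ => ?_
  simp only [secFun]
  by_cases hv : p ∣ orderOf v <;> simp [hv]

open Classical in
/-- The weights of the subsections of full defect bound the heights. -/
theorem major_weight_bound (hM : IsPModular p M) {B : Set (IrrCharacter G)} (hB : IsPBlock M B)
    (S : Finset (G × MonoidAlgebra (Res M) G))
    (hS : ∀ k ∈ S, (∃ j : ℕ, k.1 ^ p ^ j = 1) ∧
      ∃ b, IsInducedBlock M (Subgroup.centralizer ({k.1} : Set G)) b B ∧
        blockDefect p b = blockDefect p B ∧ bel M (Subgroup.centralizer ({k.1} : Set G)) b = k.2)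
    {χ : IrrCharacter G} (hχ : χ ∈ B) :
    (∑ k ∈ S, Nat.card (Subgroup.centralizer ({k.1} : Set G))) *
      p ^ blockHeight p B (χ : G → ℂ) ≤ Nat.card G * p ^ blockDefect p B := by
  haveI := Fact.mk hM.1
  letI : ∀ u : G, Fintype (Subgroup.centralizer ({u} : Set G)) := fun u => Fintype.ofFinite _
  haveI : NeZero (Nat.card G) := ⟨Nat.card_pos.ne'⟩
  obtain ⟨K, hfin, hgal, hroot⟩ := exists_root_field (Nat.card G)
  obtain ⟨ψ, hψ, h0⟩ := exists_height_zero (p := p) hB
  set d := blockDefect p B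
  set h := blockHeight p B (χ : G → ℂ)
  let I : Finset ((u : G) × Set (IrrCharacter (Subgroup.centralizer ({u} : Set G)))) :=
    (Finset.univ.filter (fun u : G => ∃ k : ℕ, u ^ p ^ k = 1)).sigma fun u =>
      Finset.univ.filter (fun b : Set (IrrCharacter (Subgroup.centralizer ({u} : Set G))) =>
          IsInducedBlock M (Subgroup.centralizer ({u} : Set G)) b B)
  have hI : ∀ i ∈ I, (∃ k : ℕ, i.1 ^ p ^ k = 1) ∧
      IsInducedBlock M (Subgroup.centralizer ({i.1} : Set G)) i.2 B := fun i hi =>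
    ⟨(Finset.mem_filter.mp (Finset.mem_sigma.mp hi).1).2, (Finset.mem_filter.mp (Finset.mem_sigma.mp hi).2).2⟩
  have hex : ∀ i : I, ∃ A : IrrCharacter G → IrrCharacter G → K,
      (∀ χ ψ, (A χ ψ : ℂ) = subMat p (blockDefect p i.1.2) i.1.2 χ ψ) ∧
      ∀ (σ : Gal(K/ℚ)) χ ψ, 2 * ‖((σ (A χ ψ) : K) : ℂ)‖ ≤
        ((σ (A χ χ) : K) : ℂ).re + ((σ (A ψ ψ) : K) : ℂ).re := fun i =>
    exists_conj_matrix hM (hI _ i.2).1 (hI _ i.2).2.1 hroot
  choose A hA hAle using hex
  let r : I → ℕ → ℝ := fun i m => (Nat.card (Subgroup.centralizer ({i.1.1} : Set G)) : ℝ) *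
    (p : ℝ) ^ m / (p : ℝ) ^ blockDefect p i.1.2
  have hp0 : (p : ℂ) ≠ 0 := Nat.cast_ne_zero.mpr hM.1.ne_zero
  -- every conjugate of the full sum
  have htot : ∀ φ ∈ B, ∀ σ : Gal(K/ℚ),
      ∑ i : I, r i d * ((σ (A i φ φ) : K) : ℂ).re = (Nat.card G : ℝ) * (p : ℝ) ^ d := by
    intro φ hφ σ
    have hq : ∑ i : I, ((Nat.card (Subgroup.centralizer ({i.1.1} : Set G)) : K) *
        (p : K) ^ d / (p : K) ^ blockDefect p i.1.2) * A i φ φ = (Nat.card G : K) * (p : K) ^ d := by
      apply Subtype.ext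
      simp only [AddSubmonoidClass.coe_finsetSum]
      push_cast
      simp only [hA]
      rw [Finset.sum_coe_sort I fun i => (Nat.card (Subgroup.centralizer ({i.1} : Set G)) : ℂ) *
        (p : ℂ) ^ d / (p : ℂ) ^ blockDefect p i.2 * subMat p (blockDefect p i.2) i.2 φ φ,
        Finset.sum_sigma, ← sum_all_pairs hM hB hφ, Finset.sum_mul]
      refine Finset.sum_congr rfl fun u _ => ?_
      rw [Finset.mul_sum, Finset.sum_mul]
      refine Finset.sum_congr rfl fun b _ => ?_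
      rw [subMat]
      simp only [Finset.mul_sum, Finset.sum_mul]
      refine Finset.sum_congr rfl fun η _ => ?_
      field_simp [pow_ne_zero _ hp0]
    have h2 := congrArg (fun w : K => ((σ w : K) : ℂ).re) hq
    simp only [map_sum, map_mul, map_div₀, map_pow, map_natCast, AddSubmonoidClass.coe_finsetSum,
      Complex.re_sum] at h2
    push_cast at h2
    rw [show ((Nat.card G : ℂ) * (p : ℂ) ^ d).re = (Nat.card G : ℝ) * (p : ℝ) ^ d by
      rw [← Complex.ofReal_natCast, ← Complex.ofReal_natCast, ← Complex.ofReal_pow,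
        ← Complex.ofReal_mul, Complex.ofReal_re]] at h2
    rw [← h2]
    refine Finset.sum_congr rfl fun i _ => ?_
    simp only [r]
    rw [← Complex.re_ofReal_mul]
    push_cast
    rfl
  -- the subfamily
  choose hy b hb hbd hbel using hS
  let κ : S → I := fun k => ⟨⟨k.1.1, b k.1 k.2⟩, Finset.mem_sigma.mpr
    ⟨Finset.mem_filter.mpr ⟨Finset.mem_univ _, hy k.1 k.2⟩,
      Finset.mem_filter.mpr ⟨Finset.mem_univ _, hb k.1 k.2⟩⟩⟩
  have hκ : Function.Injective κ := by
    intro k l e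
    have e' := congrArg (fun i : I => ((i.1.1 : G), bel M (Subgroup.centralizer ({i.1.1} : Set G)) i.1.2)) e
    simp only [κ, hbel] at e'
    exact Subtype.ext e'
  have hr0 : ∀ i m, 0 ≤ r i m := fun i m => by positivity
  have hre : ∀ (i : I) (σ : Gal(K/ℚ)) φ, 0 ≤ ((σ (A i φ φ) : K) : ℂ).re := fun i σ φ => by
    have := hAle i σ φ φ
    have := norm_nonneg ((σ (A i φ φ) : K) : ℂ)
    linarith
  have hsub : ∀ φ ∈ B, ∀ σ : Gal(K/ℚ),
      ∑ k : S, r (κ k) d * ((σ (A (κ k) φ φ) : K) : ℂ).re ≤ (Nat.card G : ℝ) * (p : ℝ) ^ d := by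
    intro φ hφ σ
    rw [← htot φ hφ σ, ← Finset.sum_image (f := fun i => r i d * ((σ (A i φ φ) : K) : ℂ).re)
      (fun a _ c _ e => hκ e)]
    exact Finset.sum_le_sum_of_subset_of_nonneg (Finset.subset_univ _) fun i _ _ =>
      mul_nonneg (hr0 i d) (hre i σ φ)
  have hrd : ∀ k : S, r (κ k) d = (Nat.card (Subgroup.centralizer ({k.1.1} : Set G)) : ℝ) := fun k => by
    simp only [r, κ, hbd]
    exact mul_div_cancel_right₀ _ (pow_ne_zero _ (Nat.cast_ne_zero.mpr hM.1.ne_zero))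
  -- the conjugates of the entries
  have hlow : ∀ k : S, (p : ℝ) ^ h * (Fintype.card Gal(K/ℚ) : ℝ) ≤
      ∑ σ : Gal(K/ℚ), ‖((σ (A (κ k) χ ψ) : K) : ℂ)‖ := by
    intro k
    obtain ⟨a, hai, ha0, ha⟩ := contrib_valuation hM (hy k.1 k.2) (hb k.1 k.2) (hbd k.1 k.2) hχ hψ h0
    let aK : K := A (κ k) χ ψ / (p : K) ^ h
    have haK : (aK : ℂ) = a := by
      simp only [aK]
      push_cast
      rw [hA]
      exact (mul_div_cancel_left₀ a (pow_ne_zero h hp0)) ▸ (congrArg (· / (p : ℂ) ^ h) ha)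
    have h1 := card_le_sum_gal_norm aK (haK ▸ ha0) (haK ▸ hai)
    calc (p : ℝ) ^ h * (Fintype.card Gal(K/ℚ) : ℝ) ≤ (p : ℝ) ^ h * ∑ σ : Gal(K/ℚ), ‖((σ aK : K) : ℂ)‖ :=
          mul_le_mul_of_nonneg_left h1 (by positivity)
      _ = _ := by
          rw [Finset.mul_sum]
          refine Finset.sum_congr rfl fun σ _ => ?_
          simp only [aK, map_div₀, map_pow, map_natCast]
          push_cast
          rw [norm_div, norm_pow, Complex.norm_natCast,
            mul_div_cancel₀ _ (pow_ne_zero h (Nat.cast_ne_zero.mpr hM.1.ne_zero))]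
  have hmain : (∑ k : S, (Nat.card (Subgroup.centralizer ({k.1.1} : Set G)) : ℝ)) * (p : ℝ) ^ h *
      (Fintype.card Gal(K/ℚ) : ℝ) ≤
      (Nat.card G : ℝ) * (p : ℝ) ^ d * (Fintype.card Gal(K/ℚ) : ℝ) := by
    calc (∑ k : S, (Nat.card (Subgroup.centralizer ({k.1.1} : Set G)) : ℝ)) * (p : ℝ) ^ h *
          (Fintype.card Gal(K/ℚ) : ℝ)
        = ∑ k : S, r (κ k) d * ((p : ℝ) ^ h * (Fintype.card Gal(K/ℚ) : ℝ)) := by
          rw [mul_assoc, Finset.sum_mul]
          simp only [hrd]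
      _ ≤ ∑ k : S, r (κ k) d * ∑ σ : Gal(K/ℚ), ‖((σ (A (κ k) χ ψ) : K) : ℂ)‖ :=
          Finset.sum_le_sum fun k _ => mul_le_mul_of_nonneg_left (hlow k) (hr0 _ _)
      _ = ∑ σ : Gal(K/ℚ), ∑ k : S, r (κ k) d * ‖((σ (A (κ k) χ ψ) : K) : ℂ)‖ := by
          simp only [Finset.mul_sum]
          exact Finset.sum_comm
      _ ≤ ∑ σ : Gal(K/ℚ), (Nat.card G : ℝ) * (p : ℝ) ^ d := by
          refine Finset.sum_le_sum fun σ _ => ?_
          have h1 := hsub χ hχ σ
          have h2 := hsub ψ hψ σ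
          have h3 : 2 * ∑ k : S, r (κ k) d * ‖((σ (A (κ k) χ ψ) : K) : ℂ)‖ ≤
              ∑ k : S, r (κ k) d * ((σ (A (κ k) χ χ) : K) : ℂ).re +
                ∑ k : S, r (κ k) d * ((σ (A (κ k) ψ ψ) : K) : ℂ).re := by
            rw [Finset.mul_sum, ← Finset.sum_add_distrib]
            refine Finset.sum_le_sum fun k _ => ?_
            rw [← mul_add, mul_left_comm]
            exact mul_le_mul_of_nonneg_left (hAle _ σ χ ψ) (hr0 _ _)
          linarith
      _ = _ := by rw [Finset.sum_const, Finset.card_univ, nsmul_eq_mul]; ring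
  have hN : (0 : ℝ) < Fintype.card Gal(K/ℚ) := by exact_mod_cast Fintype.card_pos
  have h4 := le_of_mul_le_mul_right hmain hN
  rw [Finset.sum_coe_sort S fun k => (Nat.card (Subgroup.centralizer ({k.1} : Set G)) : ℝ)] at h4
  exact_mod_cast h4

end Cfsg.Agent.Blocks
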