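import Cfsg.Agent.Lib.Blocks.DefectOnePrincipal
import Cfsg.Agent.Lib.Blocks.Subsection
import Cfsg.Agent.Lib.Blocks.CentralDefectChars

/-!
# The regular Gram matrix of the principal block when the Sylow subgroup has prime order
-/

set_option linter.unusedSectionVars false

namespace Cfsg.Agent.Blocks.SmallCent

open scoped ComplexConjugate Classical

universe u

variable {p : ℕ} [hp : Fact p.Prime] {H : Type u} [Group H] [Fintype H]
variable {M : Ideal AlgInt} [M.IsPrime]

/-- An integral regular basis of the principal block with Gram matrix `I - (t/p) u uᵀ`. -/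
theorem exists_regular_basis (hM : IsPModular p M)
    (hH : (Nat.card H).factorization p = 1) :
    ∃ (t : ℕ) (X : Set (IrrCharacter H)) (u : IrrCharacter H → ℤ), X.Nonempty ∧
      t * Nat.card X = p - 1 ∧ X ⊆ principalBlock M H ∧ (∀ i ∈ X, u i = 1 ∨ u i = -1) ∧
      (∀ θ ∈ principalBlock M H, ∃ z : IrrCharacter H → ℤ,
        ∀ y : H, ¬ p ∣ orderOf y → (θ : H → ℂ) y =
          ∑ i : X, (z i : ℂ) * ((i : IrrCharacter H) : H → ℂ) y) ∧
      ∀ i ∈ X, ∀ k ∈ X, bfPair p i k =
        (if i = k then 1 else 0) - (t : ℂ) / p * ((u i : ℂ) * (u k : ℂ)) := by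
  let P : Sylow p H := default
  have hP : Nat.card P = p :=
    P.card_eq_multiplicity.trans (by rw [hH, pow_one])
  obtain ⟨e, he⟩ : ∃ e, (D1.cC P).relIndex (D1.cN P) = e := ⟨_, rfl⟩
  obtain ⟨X, Y, εX, ε, hdvd, hXY, hdis, hXc, hYc, hX, hε, -, hag, hrel⟩ :=
    D1.exists_principal_structure (M := M) hM P hP he
  obtain ⟨S⟩ := D1.exists_setup P hP
  have he0 : e ≠ 0 := fun h => by
    rw [h, zero_dvd_iff] at hdvd
    have := hp.out.two_le
    omega
  have hte : (p - 1) / e * e = p - 1 := Nat.div_mul_cancel hdvd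
  obtain ⟨t, ht⟩ : ∃ t, (p - 1) / e = t := ⟨_, rfl⟩
  rw [ht] at hte hYc
  have hXsub : X ⊆ principalBlock M H := hXY ▸ Set.subset_union_left
  have hYsub : Y ⊆ principalBlock M H := hXY ▸ Set.subset_union_right
  have hXne : X.Nonempty := Set.nonempty_of_ncard_ne_zero (by
    rw [← Nat.card_coe_set_eq, hXc]; exact he0)
  have hεε : (ε : ℂ) * (ε : ℂ) = 1 := by rcases hε with h | h <;> simp [h]
  have huu : ∀ i ∈ X, (εX i : ℂ) * (εX i : ℂ) = 1 := fun i hi => by
    rcases (hX i hi).1 with h | h <;> simp [h]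
  set F := Finset.univ.filter fun i : IrrCharacter H => i ∈ X with hF
  have hFc : F.card = e := by
    rw [← hXc, Nat.card_eq_fintype_card, Fintype.card_subtype, hF]
  have hmF : ∀ i, i ∈ F ↔ i ∈ X := fun i => by simp [hF]
  -- the values at the singular elements
  have hsing : ∀ i ∈ X, ∀ g : H, p ∣ orderOf g → (i : H → ℂ) g = (εX i : ℂ) := by
    intro i hi g hg
    obtain ⟨h, hm, hell⟩ := S.exists_conj_mem hg
    obtain ⟨y, hy, hy0⟩ := S.exists_decomp ⟨_, hm⟩
    rw [CT.isClassFunction_isConj (CT.isClassFunction_of_isIrr i.2)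
      (show IsConj g (h⁻¹ * g * h) from isConj_iff.mpr ⟨h⁻¹, by rw [inv_inv]⟩)]
    have e1 : h⁻¹ * g * h = ((S.xC ^ (S.ell ⟨_, hm⟩).val : D1.cC P) : H) * (y : H) :=
      congrArg Subtype.val hy
    rw [e1]
    refine (hX i hi).2.2 _ (S.mem_P_iff.mpr ⟨_, rfl⟩) (fun h0 => hell ?_) _ y.2
      ((S.ell_eq_zero_iff y).mp hy0)
    have h1 : S.xC ^ (S.ell ⟨_, hm⟩).val = 1 := Subtype.ext h0
    rw [← S.ell_xpow (S.ell ⟨_, hm⟩), h1, S.ell_one]
  set s : ℂ := (Nat.card H : ℂ)⁻¹ * ((Finset.univ.filter fun g : H => p ∣ orderOf g).card : ℂ)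
    with hs
  have hG : ∀ i ∈ X, ∀ k ∈ X, bfPair p i k =
      (if i = k then 1 else 0) - s * ((εX i : ℂ) * (εX k : ℂ)) := by
    intro i hi k hk
    rw [← CT.irr_inner_subtype i k, bfPair, classInner, classInner, eq_sub_iff_add_eq, hs,
      mul_assoc, ← mul_add]
    congr 1
    rw [← nsmul_eq_mul, ← Finset.sum_const, Finset.sum_filter, ← Finset.sum_add_distrib]
    refine Finset.sum_congr rfl fun g _ => ?_
    simp only [regFun]
    by_cases hg : p ∣ orderOf g
    · rw [if_pos hg, if_pos hg, hsing i hi g hg, hsing k hk g hg, map_intCast, zero_mul, zero_add]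
    · rw [if_neg hg, if_neg hg, add_zero]
  have hf : ∀ ψ ∈ Y, regFun p ψ = ∑ k ∈ F, ((ε : ℂ) * (εX k : ℂ)) • regFun p k := by
    intro ψ hψ
    funext g
    simp only [Finset.sum_apply, Pi.smul_apply, smul_eq_mul, regFun]
    by_cases hg : p ∣ orderOf g
    · simp [hg]
    · simp only [if_neg hg]
      have h := hrel ψ hψ g hg
      rw [finsum_mem_irr, ← Finset.sum_filter] at h
      rw [← one_mul ((ψ : H → ℂ) g), ← hεε, mul_assoc, h, Finset.mul_sum]
      exact Finset.sum_congr rfl fun k _ => (mul_assoc _ _ _).symm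
  have hYX : ∀ ψ ∈ Y, ∀ i ∈ X, bfPair p ψ i = (ε : ℂ) * (εX i : ℂ) * (1 - (e : ℂ) * s) := by
    intro ψ hψ i hi
    rw [bfPair, hf ψ hψ, CT.classInner_sum_left]
    simp only [CT.classInner_smul_left]
    rw [Finset.sum_congr rfl fun k hk => congrArg (((ε : ℂ) * (εX k : ℂ)) * ·)
      ((show classInner (regFun p k) (i : H → ℂ) = bfPair p k i from rfl).trans
        (hG k ((hmF k).mp hk) i hi))]
    simp only [mul_sub, Finset.sum_sub_distrib, mul_ite, mul_one, mul_zero, Finset.sum_ite_eq',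
      if_pos ((hmF i).mpr hi)]
    rw [Finset.sum_congr rfl fun k hk => (show (ε : ℂ) * (εX k : ℂ) * (s * ((εX k : ℂ) * (εX i : ℂ))) =
      (ε : ℂ) * (εX i : ℂ) * s * ((εX k : ℂ) * (εX k : ℂ)) by ring).trans
        (by rw [huu k ((hmF k).mp hk), mul_one]), Finset.sum_const, hFc, nsmul_eq_mul]
    ring
  -- the regular pairing is idempotent
  obtain ⟨i₀, hi₀⟩ := hXne
  have hne1 : 1 - (e : ℂ) * s ≠ 0 := by
    intro h0
    obtain ⟨ψ, hψ⟩ : Y.Nonempty := Set.nonempty_of_ncard_ne_zero (by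
      rw [← Nat.card_coe_set_eq, hYc]
      rintro rfl
      rw [zero_mul] at hte
      have := hp.out.two_le
      omega)
    have hz : classInner (regFun p ψ) (regFun p ψ) = 0 := by
      conv_lhs => arg 2; rw [hf ψ hψ]
      rw [CT.classInner_sum_right]
      refine Finset.sum_eq_zero fun k hk => ?_
      rw [CT.classInner_smul_right, classInner_regFun, hYX ψ hψ k ((hmF k).mp hk), h0]
      simp
    have h1 := congrFun (CT.classInner_self_eq_zero hz) 1
    simp only [regFun, orderOf_one, if_neg hp.out.not_dvd_one, Pi.zero_apply] at h1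
    exact CT.irr_one_ne_zero ψ.2 h1
  have hσ : s = (t : ℂ) / p := by
    have hid := bfPair_idem (p := p) i₀ i₀
    rw [← Finset.sum_subset (Finset.subset_univ (Finset.univ.filter fun η : IrrCharacter H =>
        η ∈ principalBlock M H)) (fun η _ hη => by
          rw [bfPair_zero_of_mem hM isPBlock_principalBlock (hXsub hi₀)
            (fun h => hη (Finset.mem_filter.mpr ⟨Finset.mem_univ _, h⟩)), zero_mul])] at hid
    have hsplit : (Finset.univ.filter fun η : IrrCharacter H => η ∈ principalBlock M H) =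
        F ∪ Finset.univ.filter fun η : IrrCharacter H => η ∈ Y := by
      ext η; simp [hF, hXY]
    rw [hsplit, Finset.sum_union (Finset.disjoint_left.mpr fun a ha hb =>
      Set.disjoint_left.mp hdis ((hmF a).mp ha) (Finset.mem_filter.mp hb).2),
      Finset.sum_congr rfl fun k hk => by
        rw [hG i₀ hi₀ k ((hmF k).mp hk), hG k ((hmF k).mp hk) i₀ hi₀],
      Finset.sum_congr (s₁ := Finset.univ.filter fun η : IrrCharacter H => η ∈ Y) rfl fun ψ hψ => by
        rw [bfPair_symm i₀ ψ, hYX ψ (Finset.mem_filter.mp hψ).2 i₀ hi₀],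
      Finset.sum_const, hG i₀ hi₀ i₀ hi₀, if_pos rfl] at hid
    have e1 : ∀ k ∈ F, ((if i₀ = k then (1 : ℂ) else 0) - s * ((εX i₀ : ℂ) * (εX k : ℂ))) *
        ((if k = i₀ then (1 : ℂ) else 0) - s * ((εX k : ℂ) * (εX i₀ : ℂ))) =
        (if k = i₀ then 1 - 2 * s else 0) + s * s := by
      intro k hk
      by_cases h : k = i₀
      · subst h
        simp only [if_true, huu k hi₀]
        ring
      · rw [if_neg h, if_neg (Ne.symm h), if_neg h]
        linear_combination (s * s * ((εX k : ℂ) * (εX k : ℂ))) * huu i₀ hi₀ +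
          (s * s) * huu k ((hmF k).mp hk)
    rw [Finset.sum_congr rfl e1, Finset.sum_add_distrib, Finset.sum_ite_eq',
      if_pos ((hmF i₀).mpr hi₀), Finset.sum_const, hFc,
      show (Finset.univ.filter fun η : IrrCharacter H => η ∈ Y).card = t by
        rw [← hYc, Nat.card_eq_fintype_card, Fintype.card_subtype],
      huu i₀ hi₀, nsmul_eq_mul, nsmul_eq_mul] at hid
    have hp0 : (p : ℂ) ≠ 0 := Nat.cast_ne_zero.mpr hp.out.ne_zero
    have htC : (t : ℂ) * (e : ℂ) = (p : ℂ) - 1 := by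
      rw [← Nat.cast_one, ← Nat.cast_sub hp.out.one_le]
      exact_mod_cast hte
    have h2 : (1 - (e : ℂ) * s) * (t * (1 - (e : ℂ) * s) - s) = 0 := by
      linear_combination hid - ((t : ℂ) * (1 - (e : ℂ) * s) ^ 2) *
        ((εX i₀ : ℂ) * (εX i₀ : ℂ) * hεε + huu i₀ hi₀)
    have h3 := (mul_eq_zero.mp h2).resolve_left hne1
    rw [eq_div_iff hp0]
    linear_combination -h3 - s * htC
  refine ⟨t, X, εX, ⟨i₀, hi₀⟩, by rw [hXc]; exact hte, hXsub, fun i hi => (hX i hi).1, ?_,
    fun i hi k hk => by rw [hG i hi k hk, hσ]⟩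
  intro θ hθ
  rw [hXY] at hθ
  have hsub : ∀ f : IrrCharacter H → ℂ, ∑ i : X, f i = ∑ i ∈ F, f i := fun f =>
    (Finset.sum_subtype F hmF f).symm
  rcases hθ with hθ | hθ
  · refine ⟨fun i => if i = θ then 1 else 0, fun y _ => ?_⟩
    rw [hsub fun i => (((if i = θ then (1 : ℤ) else 0) : ℤ) : ℂ) * (i : H → ℂ) y,
      Finset.sum_eq_single θ (fun i _ hi => by simp [hi]) (fun h => absurd ((hmF θ).mpr hθ) h)]
    simp
  · refine ⟨fun i => ε * εX i, fun y hy => ?_⟩
    have h := hrel θ hθ y hy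
    rw [finsum_mem_irr, ← Finset.sum_filter] at h
    rw [hsub fun i => ((ε * εX i : ℤ) : ℂ) * (i : H → ℂ) y, ← one_mul ((θ : H → ℂ) y), ← hεε,
      mul_assoc, h, Finset.mul_sum]
    exact Finset.sum_congr rfl fun k _ => by push_cast; ring

end Cfsg.Agent.Blocks.SmallCent
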