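import Cfsg.Agent.Lib.Blocks.SmallCentTools
import Cfsg.Agent.Lib.Blocks.SmallCentGram

/-!
# Characters of degree prime to p in the principal block with a small centralizer
-/

set_option linter.unusedSectionVars false

namespace Cfsg.Agent.Blocks.SmallCent

open scoped ComplexConjugate Classical

universe u

variable {p : ℕ} [hp : Fact p.Prime]

theorem exists_psi {w : ℂ} (hw : w ^ p = 1) : ∃ k : ZMod p, w = ZMod.stdAddChar k := by
  have h1 : (ZMod.stdAddChar (1 : ZMod p) : ℂ) ^ p = 1 := by
    rw [← AddChar.map_nsmul_eq_pow, nsmul_one, ZMod.natCast_self, AddChar.map_zero_eq_one]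
  have hne : (ZMod.stdAddChar (1 : ZMod p) : ℂ) ≠ 1 := fun h => one_ne_zero (α := ZMod p)
    (ZMod.injective_stdAddChar (h.trans (AddChar.map_zero_eq_one _).symm))
  have hprim : IsPrimitiveRoot (ZMod.stdAddChar (1 : ZMod p) : ℂ) p :=
    IsPrimitiveRoot.iff_orderOf.mpr (orderOf_eq_prime h1 hne)
  obtain ⟨i, -, hi⟩ := hprim.eq_pow_of_pow_eq_one hw
  exact ⟨(i : ZMod p), by rw [← hi, ← AddChar.map_nsmul_eq_pow, nsmul_one]⟩

/-- A central element of order `p` acts by a `p`-th root of unity. -/
theorem exists_exp {C : Type u} [Group C] [Finite C] {z : C} (hz : z ∈ Subgroup.center C)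
    (hzp : z ^ p = 1) (η : IrrCharacter C) :
    ∃ k : ZMod p, ∀ (j : ZMod p) (c : C),
      (η : C → ℂ) (z ^ j.val * c) = ZMod.stdAddChar (j * k) * (η : C → ℂ) c := by
  obtain ⟨χ, n₀, ρ, hρ, rfl⟩ := η
  haveI := hρ
  haveI := Fintype.ofFinite C
  obtain ⟨ω, hω, -⟩ := CT.central_scalar ρ hz
  have hc : ∀ (m : ℕ) (c : C), ρ.character (z ^ m * c) = ω ^ m * ρ.character c := by
    intro m
    induction m with
    | zero => simp
    | succ m ih =>
      intro c
      rw [pow_succ, mul_assoc, ih, pow_succ, mul_assoc]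
      congr 1
      rw [Representation.character, map_mul, hω]
      simp [Representation.character, Module.End.mul_eq_comp]
  have hne : ρ.character 1 ≠ 0 := CT.irr_one_ne_zero (χ := ρ.character) ⟨n₀, ρ, hρ, rfl⟩
  have h := hc p 1
  rw [hzp, mul_one] at h
  obtain ⟨k, hk⟩ := exists_psi (p := p) ((mul_eq_right₀ hne).mp h.symm)
  refine ⟨k, fun j c => ?_⟩
  show ρ.character (z ^ j.val * c) = _
  rw [hc, hk, ← AddChar.map_nsmul_eq_pow, nsmul_eq_mul, ZMod.natCast_zmod_val]

variable {G : Type u} [Group G] [Fintype G] {M : Ideal AlgInt} [M.IsPrime]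

/-- The values of the characters of the principal block on a section. -/
theorem principal_value (hM : IsPModular p M) {u : G} (hu : ∃ k : ℕ, u ^ p ^ k = 1)
    (C : Subgroup G) (hC : Subgroup.centralizer ({u} : Set G) = C) [Fintype C] (huC : u ∈ C)
    {χ : IrrCharacter G} (hχ : χ ∈ principalBlock M G) {y : C} (hy : ¬ p ∣ orderOf y) :
    (χ : G → ℂ) (u * (y : G)) = ∑ η ∈ Finset.univ.filter (fun η : IrrCharacter C =>
        η ∈ principalBlock M C),
      (CT.mult (fun h : C => (χ : G → ℂ) h) (η : C → ℂ) : ℂ) * (η : C → ℂ) (⟨u, huC⟩ * y) := by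
  subst hC
  have hpp : IsPPart p (((⟨u, huC⟩ * y : Subgroup.centralizer ({u} : Set G))) : G) u :=
    isPPart_mk (Subgroup.mem_centralizer_singleton_iff.mp y.2).symm hu (by rwa [Subgroup.orderOf_coe])
  have h := ev_principal_section hM hu hpp χ
  rw [if_pos hχ, ← embH_single, ← map_mul, ev_embH,
    CT.character_eq_sum (CT.isCharacter_restrict _ (CT.isCharacter_of_isIrr χ.2)),
    ev_sum_smul_fun] at h
  refine h.symm.trans ?_
  rw [Finset.sum_filter]
  refine Finset.sum_congr rfl fun η _ => ?_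
  rw [ev_idemC_mul, ev_single, one_mul]
  split_ifs <;> simp

theorem principal_norm (hM : IsPModular p M) {u : G} (hu : ∃ k : ℕ, u ^ p ^ k = 1)
    (C : Subgroup G) (hC : Subgroup.centralizer ({u} : Set G) = C) [Fintype C]
    {y : C} (hy : ¬ p ∣ orderOf y) :
    ∑ χ ∈ Finset.univ.filter (fun χ : IrrCharacter G => χ ∈ principalBlock M G),
        Complex.normSq ((χ : G → ℂ) (u * (y : G))) =
      ∑ η ∈ Finset.univ.filter (fun η : IrrCharacter C => η ∈ principalBlock M C),
        Complex.normSq ((η : C → ℂ) y) := by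
  subst hC
  have h := section_sums hM hu hy
  rw [finsum_mem_eq_toFinset_sum, finsum_mem_eq_toFinset_sum] at h
  simp only [Complex.normSq_eq_norm_sq]
  convert h using 2 <;> (ext; simp)

/-- The count when a direct factor of order `p` splits off. -/
theorem count_of_split (hM : IsPModular p M) {x : G} (hxp : orderOf x = p)
    (C : Subgroup G) (hC : Subgroup.centralizer ({x} : Set G) = C) [Fintype C]
    (C0 : Subgroup C) [C0.Normal] [Fintype C0] (hidx : C0.index = p)
    (hxC : x ∈ C) (hx0 : (⟨x, hxC⟩ : C) ∉ C0) (hC0 : (Nat.card C0).factorization p = 1) :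
    Nat.card {χ : IrrCharacter G // χ ∈ principalBlock M G ∧ ¬ p ∣ charDegree (χ : G → ℂ)} ≤
      p ^ 2 := by
  set z : C := ⟨x, hxC⟩ with hzdef
  have hxx : x ^ p = 1 := hxp ▸ pow_orderOf_eq_one x
  have hzp : z ^ p = 1 := Subtype.ext (by simpa [z] using hxx)
  have hzc : z ∈ Subgroup.center C := Subgroup.mem_center_iff.mpr fun w => Subtype.ext (by
    have h : (w : G) ∈ Subgroup.centralizer ({x} : Set G) := hC.symm ▸ w.2
    exact Subgroup.mem_centralizer_singleton_iff.mp h)
  have hregC0 : ∀ c : C, ¬ p ∣ orderOf c → c ∈ C0 := fun c hc =>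
    mem_of_pow_index ⟨1, by rw [hidx, pow_one]⟩ hc
  -- coordinates on the centralizer
  have hmk : orderOf (z : C ⧸ C0) = p :=
    orderOf_eq_prime (by rw [← QuotientGroup.mk_pow, hzp, QuotientGroup.mk_one])
      (fun h => hx0 ((QuotientGroup.eq_one_iff _).mp h))
  have hbij : Function.Bijective (fun a : ZMod p × C0 => z ^ a.1.val * (a.2 : C)) := by
    rw [Fintype.bijective_iff_injective_and_card]
    refine ⟨?_, ?_⟩
    · rintro ⟨a, v⟩ ⟨b, w⟩ h
      simp only at h
      have h1 := congrArg (QuotientGroup.mk : C → C ⧸ C0) h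
      simp only [QuotientGroup.mk_mul, QuotientGroup.mk_pow,
        (QuotientGroup.eq_one_iff (v : C)).mpr v.2, (QuotientGroup.eq_one_iff (w : C)).mpr w.2,
        mul_one, pow_eq_pow_iff_modEq, hmk] at h1
      have hab : a = b := by
        have := (ZMod.natCast_eq_natCast_iff _ _ p).mpr h1
        simpa using this
      subst hab
      exact Prod.ext rfl (Subtype.ext (mul_left_cancel h))
    · rw [Fintype.card_prod, ZMod.card, ← Nat.card_eq_fintype_card, ← Nat.card_eq_fintype_card]
      exact (congrArg (· * Nat.card C0) hidx.symm).trans C0.index_mul_card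
  let φ : ZMod p × C0 ≃ C := Equiv.ofBijective _ hbij
  have hφ : ∀ a, φ a = z ^ a.1.val * (a.2 : C) := fun a => rfl
  have hcard : Nat.card C = p * Nat.card C0 := by rw [← C0.index_mul_card, hidx]
  choose ke hke using exists_exp (p := p) hzc hzp
  -- restrictions of characters are irreducible
  have hirr : ∀ η : IrrCharacter C, IsIrrCharacter C0 (fun y : C0 => (η : C → ℂ) y) := by
    intro η
    refine CT.isIrr_of_inner_self (CT.isCharacter_restrict C0 (CT.isCharacter_of_isIrr η.2)) ?_
    refine Eq.trans ?_ (CT.irr_inner_self η.2)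
    simp only [classInner]
    have hnorm : ∀ (j : ZMod p) (y : C0), (η : C → ℂ) (z ^ j.val * (y : C)) *
        conj ((η : C → ℂ) (z ^ j.val * (y : C))) = (η : C → ℂ) y * conj ((η : C → ℂ) y) := by
      intro j y
      rw [hke, map_mul (starRingEnd ℂ), conj_psi, mul_mul_mul_comm, ← AddChar.map_add_eq_mul, add_neg_cancel,
        AddChar.map_zero_eq_one, one_mul]
    rw [← Equiv.sum_comp φ, Fintype.sum_prod_type]
    simp only [hφ, hnorm, Finset.sum_const, Finset.card_univ, ZMod.card, nsmul_eq_mul, hcard,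
      Nat.cast_mul, mul_inv]
    field_simp [Nat.cast_ne_zero.mpr hp.out.ne_zero]
  let th : IrrCharacter C → IrrCharacter C0 := fun η => ⟨_, hirr η⟩
  have hcen : ∀ y : C0, (Subgroup.centralizer ({(y : C)} : Set C)).index =
      (Subgroup.centralizer ({y} : Set C0)).index := by
    intro y
    have hyc : ∀ a : ZMod p × C0, φ a ∈ Subgroup.centralizer ({(y : C)} : Set C) ↔
        a.2 ∈ Subgroup.centralizer ({y} : Set C0) := by
      intro a
      rw [hφ, Subgroup.mul_mem_cancel_left _ (Subgroup.mem_centralizer_singleton_iff.mpr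
        (Subgroup.mem_center_iff.mp (pow_mem hzc _) (y : C)).symm),
        Subgroup.mem_centralizer_singleton_iff, Subgroup.mem_centralizer_singleton_iff,
        Subtype.ext_iff, Subgroup.coe_mul, Subgroup.coe_mul]
      exact ⟨fun h => Subtype.ext (Subtype.ext (by simpa using h)), fun h => by simpa using congrArg (fun w : C0 => ((w : C) : G)) h⟩
    have e : Nat.card (Subgroup.centralizer ({(y : C)} : Set C)) =
        p * Nat.card (Subgroup.centralizer ({y} : Set C0)) := by
      rw [← Nat.card_congr (φ.subtypeEquiv (p := fun a => a.2 ∈ Subgroup.centralizer ({y} : Set C0))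
        (q := fun c => c ∈ Subgroup.centralizer ({(y : C)} : Set C)) fun a => (hyc a).symm),
        Nat.card_congr (Equiv.subtypeEquivRight (fun a : ZMod p × C0 => (true_and _).symm.to_iff) |>.trans
          (Equiv.subtypeProdEquivProd (p := fun _ : ZMod p => True)
            (q := fun w : C0 => w ∈ Subgroup.centralizer ({y} : Set C0)))),
        Nat.card_prod, Nat.card_congr (Equiv.subtypeUnivEquiv fun _ => trivial), Nat.card_zmod]
    have h1 := (Subgroup.centralizer ({(y : C)} : Set C)).index_mul_card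
    have h2 := (Subgroup.centralizer ({y} : Set C0)).index_mul_card
    rw [e, hcard, ← h2, mul_left_comm] at h1
    exact Nat.eq_of_mul_eq_mul_right Nat.card_pos (Nat.eq_of_mul_eq_mul_left hp.out.pos h1)
  have hthb : ∀ η ∈ principalBlock M C, th η ∈ principalBlock M C0 := by
    intro η hη y
    have h := hη (y : C)
    simp only [centralChar, hcen y] at h
    exact h
  -- the regular basis
  obtain ⟨t, X, u, hXne, hte, -, hu, hz, hgram⟩ := exists_regular_basis (H := C0) hM hC0
  choose! zc hzc' using fun θ (hθ : θ ∈ principalBlock M C0) => hz θ hθ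
  set e := Nat.card X with he
  haveI : Nonempty X := hXne.to_subtype
  have he0 : 0 < e := Nat.card_pos
  set bC := Finset.univ.filter fun η : IrrCharacter C => η ∈ principalBlock M C with hbC
  have hmb : ∀ η, η ∈ bC ↔ η ∈ principalBlock M C := fun η => by simp [hbC]
  set BG := Finset.univ.filter fun χ : IrrCharacter G => χ ∈ principalBlock M G with hBG
  let r : IrrCharacter G → X → ZMod p → ℤ := fun χ i k => ∑ η ∈ bC.filter (fun η => ke η = k),
    (CT.mult (fun h : C => (χ : G → ℂ) h) (η : C → ℂ) : ℤ) * zc (th η) i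
  have hevr : ∀ χ i j, evr (r χ i) j = ∑ η ∈ bC,
      (CT.mult (fun h : C => (χ : G → ℂ) h) (η : C → ℂ) : ℂ) * (zc (th η) i : ℂ) *
        ZMod.stdAddChar (j * ke η) := by
    intro χ i j
    simp only [evr, r, Int.cast_sum, Int.cast_mul, Int.cast_natCast, Finset.sum_mul]
    rw [← Finset.sum_fiberwise bC ke (fun η =>
      (CT.mult (fun h : C => (χ : G → ℂ) h) (η : C → ℂ) : ℂ) * (zc (th η) i : ℂ) *
        ZMod.stdAddChar (j * ke η))]
    exact Finset.sum_congr rfl fun k _ => Finset.sum_congr rfl fun η hη => by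
      rw [(Finset.mem_filter.mp hη).2]
  have hxk : ∀ j : ZMod p, ∃ k : ℕ, (x ^ j.val) ^ p ^ k = 1 := fun j =>
    ⟨1, by rw [pow_one, pow_right_comm, hxx, one_pow]⟩
  have hCj : ∀ j : ZMod p, j ≠ 0 → Subgroup.centralizer ({x ^ j.val} : Set G) = C := by
    intro j hj
    have hcp : (orderOf x).Coprime j.val := by
      rw [hxp, hp.out.coprime_iff_not_dvd]
      exact fun h => hj ((ZMod.natCast_zmod_val j).symm.trans ((ZMod.natCast_eq_zero_iff _ _).mpr h))
    have hzz : Subgroup.zpowers (x ^ j.val) = Subgroup.zpowers x :=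
      Subgroup.eq_of_le_of_card_ge (Subgroup.zpowers_le.mpr (pow_mem (Subgroup.mem_zpowers x) _))
        (by rw [Nat.card_zpowers, Nat.card_zpowers, Nat.Coprime.orderOf_pow hcp])
    rw [← centralizer_zpowers_eq, hzz, centralizer_zpowers_eq, hC]
  -- the values on the sections
  have hval : ∀ χ ∈ BG, ∀ j : ZMod p, j ≠ 0 → ∀ y : C0, ¬ p ∣ orderOf y →
      (χ : G → ℂ) (x ^ j.val * ((y : C) : G)) =
        ∑ i : X, evr (r χ i) j * ((i : IrrCharacter C0) : C0 → ℂ) y := by
    intro χ hχ j hj y hy
    have hyC : ¬ p ∣ orderOf (y : C) := by rwa [Subgroup.orderOf_coe]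
    rw [principal_value hM (hxk j) C (hCj j hj) (pow_mem hxC _) (Finset.mem_filter.mp hχ).2 hyC]
    simp only [hevr, Finset.sum_mul]
    rw [Finset.sum_comm (γ := X)]
    refine Finset.sum_congr rfl fun η hη => ?_
    rw [show (⟨x ^ j.val, pow_mem hxC _⟩ : C) = z ^ j.val from rfl, hke,
      show (η : C → ℂ) y = (th η : C0 → ℂ) y from rfl, hzc' _ (hthb η ((hmb η).mp hη)) y hy,
      Finset.mul_sum, Finset.mul_sum]
    exact Finset.sum_congr rfl fun i _ => by ring
  let N : IrrCharacter G → ZMod p → ℝ := fun χ j => (Nat.card C0 : ℝ)⁻¹ *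
    ∑ y ∈ Finset.univ.filter (fun y : C0 => ¬ p ∣ orderOf y),
      Complex.normSq ((χ : G → ℂ) (x ^ j.val * ((y : C) : G)))
  have hN : ∀ χ ∈ BG, ∀ j : ZMod p, j ≠ 0 → N χ j = ∑ i : X, Complex.normSq (evr (r χ i) j) -
      (t : ℝ) / p * Complex.normSq (∑ i : X, (u i : ℂ) * evr (r χ i) j) := by
    intro χ hχ j hj
    apply Complex.ofReal_injective
    push_cast
    simp only [← Complex.mul_conj, map_sum, map_mul, map_intCast, Finset.sum_mul_sum]
    have e1 : (N χ j : ℂ) = ∑ i : X, ∑ k : X, evr (r χ i) j * conj (evr (r χ k) j) *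
        bfPair p (i : IrrCharacter C0) (k : IrrCharacter C0) := by
      simp only [N]
      push_cast
      simp only [bfPair_eq, regPair, ← Complex.mul_conj]
      rw [Finset.mul_sum]
      simp only [Finset.mul_sum]
      rw [Finset.sum_congr rfl fun i _ => Finset.sum_comm, Finset.sum_comm, Finset.sum_filter]
      refine Finset.sum_congr rfl fun y _ => ?_
      by_cases hy : p ∣ orderOf y
      · simp [hy]
      · simp only [hy, not_false_eq_true, if_true, if_false]
        rw [hval χ hχ j hj y hy, map_sum, Finset.sum_mul_sum, Finset.mul_sum]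
        refine Finset.sum_congr rfl fun i _ => ?_
        rw [Finset.mul_sum]
        exact Finset.sum_congr rfl fun k _ => by rw [map_mul]; ring
    rw [e1, Finset.mul_sum, ← Finset.sum_sub_distrib]
    refine Finset.sum_congr rfl fun i _ => ?_
    simp only [hgram _ i.2 _ (Subtype.coe_prop _), mul_sub, mul_ite, mul_one, mul_zero,
      Finset.sum_sub_distrib, Subtype.coe_inj, Finset.sum_ite_eq, Finset.mem_univ, if_true,
      Finset.mul_sum]
    congr 1
    exact Finset.sum_congr rfl fun k _ => by ring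
  have hlow : ∀ χ ∈ BG, ¬ p ∣ charDegree (χ : G → ℂ) →
      (e : ℝ) * ((p : ℝ) - 1) ≤ (p : ℝ) * ∑ j ∈ Finset.univ.erase 0, N χ j := by
    intro χ hχ hd
    have hne : ∃ i : X, ∃ j : ZMod p, j ≠ 0 ∧ evr (r χ i) j ≠ 0 := by
      by_contra hno
      push_neg at hno
      refine ne_zero_of_not_dvd_deg hM χ hd ⟨1, by rw [pow_one]; exact hxx⟩ ?_
      have h := hval χ hχ 1 one_ne_zero 1 (by rw [orderOf_one]; exact hp.out.not_dvd_one)
      rw [ZMod.val_one, pow_one, OneMemClass.coe_one, OneMemClass.coe_one, mul_one] at h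
      rw [h]
      exact Finset.sum_eq_zero fun i _ => by rw [hno i 1 one_ne_zero, zero_mul]
    have h := quad_ge (fun i : X => r χ i) (fun i : X => u i) (fun i => hu _ i.2)
      (t := t) (by rw [← Nat.card_eq_fintype_card]; exact hte) hne
    rw [← Nat.card_eq_fintype_card] at h
    refine h.trans_eq ?_
    rw [Finset.mul_sum]
    refine Finset.sum_congr rfl fun j hj => ?_
    rw [hN χ hχ j (Finset.ne_of_mem_erase hj)]
    field_simp [Nat.cast_ne_zero.mpr hp.out.ne_zero]
  have hrank : blockRank p (principalBlock M C) ≤ e := by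
    let E : X → C → ℂ := fun i c => if hc : p ∣ orderOf c then 0 else
      ((i : IrrCharacter C0) : C0 → ℂ) ⟨c, hregC0 c hc⟩
    refine le_trans (Submodule.finrank_mono (t := Submodule.span ℂ (Set.range E))
      (Submodule.span_le.mpr ?_)) ((finrank_range_le_card E).trans Nat.card_eq_fintype_card.ge)
    rintro _ ⟨η, hη, rfl⟩
    rw [SetLike.mem_coe, Submodule.mem_span_range_iff_exists_fun]
    refine ⟨fun i => (zc (th η) i : ℂ), funext fun c => ?_⟩
    simp only [Finset.sum_apply, Pi.smul_apply, smul_eq_mul, pRegularPart, IsPRegular, E]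
    by_cases hc : p ∣ orderOf c
    · simp [hc]
    · simp only [hc, not_false_eq_true, if_true, dite_false]
      exact (hzc' _ (hthb η hη) ⟨c, hregC0 c hc⟩
        (by rw [Subgroup.orderOf_mk]; exact hc)).symm
  have hregsum : ∀ η : IrrCharacter C,
      (((∑ y ∈ Finset.univ.filter (fun y : C0 => ¬ p ∣ orderOf y),
        Complex.normSq ((η : C → ℂ) y)) : ℝ) : ℂ) = (Nat.card C : ℂ) * bfPair p η η := by
    intro η
    rw [bfPair_eq, mul_inv_cancel_left₀ CT.card_ne_zero, regPair, Complex.ofReal_sum]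
    symm
    rw [← Finset.sum_subset (Finset.subset_univ
      ((Finset.univ.filter fun y : C0 => ¬ p ∣ orderOf y).map (Function.Embedding.subtype _)))
      (fun c _ hc => if_pos (by_contra fun h => hc (Finset.mem_map.mpr ⟨⟨c, hregC0 c h⟩,
        Finset.mem_filter.mpr ⟨Finset.mem_univ _, by rwa [Subgroup.orderOf_mk]⟩, rfl⟩))),
      Finset.sum_map]
    refine Finset.sum_congr rfl fun y hy => ?_
    rw [Function.Embedding.subtype_apply, if_neg (by
      rw [Subgroup.orderOf_coe]; exact (Finset.mem_filter.mp hy).2), Complex.mul_conj]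
  have htot : ∀ j : ZMod p, j ≠ 0 → ∑ χ ∈ BG, N χ j ≤ (p : ℝ) * e := by
    intro j hj
    have h1 : ∑ χ ∈ BG, N χ j = (p : ℝ) * (blockRank p (principalBlock M C) : ℝ) := by
      simp only [N]
      rw [← Finset.mul_sum, Finset.sum_comm, Finset.sum_congr rfl fun y hy => by
        rw [principal_norm hM (hxk j) C (hCj j hj) (y := (y : C))
          (by rw [Subgroup.orderOf_coe]; exact (Finset.mem_filter.mp hy).2)],
        Finset.sum_comm]
      apply Complex.ofReal_injective
      push_cast
      rw [Finset.mul_sum]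
      have h2 := sum_bfPair_self (p := p) hM (isPBlock_principalBlock (M := M) (G := C))
      rw [← Finset.sum_filter] at h2
      rw [← h2, Finset.mul_sum]
      refine Finset.sum_congr rfl fun η _ => ?_
      have h3 := hregsum η
      push_cast at h3
      rw [h3, hcard, Nat.cast_mul]
      field_simp [CT.card_ne_zero (G := C0)]
    rw [h1]
    exact mul_le_mul_of_nonneg_left (by exact_mod_cast hrank) (Nat.cast_nonneg _)
  set T := BG.filter fun χ : IrrCharacter G => ¬ p ∣ charDegree (χ : G → ℂ) with hT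
  have hTc : Nat.card {χ : IrrCharacter G // χ ∈ principalBlock M G ∧
      ¬ p ∣ charDegree (χ : G → ℂ)} = T.card := by
    rw [Nat.card_eq_fintype_card, Fintype.card_subtype, hT, hBG, Finset.filter_filter]
  rw [hTc]
  have hpos : ∀ χ j, 0 ≤ N χ j := fun χ j =>
    mul_nonneg (inv_nonneg.mpr (Nat.cast_nonneg _)) (Finset.sum_nonneg fun _ _ => Complex.normSq_nonneg _)
  have hp1 : (1 : ℝ) < p := by exact_mod_cast hp.out.one_lt
  have hmain : (T.card : ℝ) * ((e : ℝ) * ((p : ℝ) - 1)) ≤ (p : ℝ) ^ 2 * ((e : ℝ) * ((p : ℝ) - 1)) := by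
    calc (T.card : ℝ) * ((e : ℝ) * ((p : ℝ) - 1)) = ∑ _χ ∈ T, (e : ℝ) * ((p : ℝ) - 1) := by simp
      _ ≤ ∑ χ ∈ T, (p : ℝ) * ∑ j ∈ Finset.univ.erase 0, N χ j := Finset.sum_le_sum fun χ hχ =>
          hlow χ (Finset.mem_filter.mp hχ).1 (Finset.mem_filter.mp hχ).2
      _ ≤ ∑ χ ∈ BG, (p : ℝ) * ∑ j ∈ Finset.univ.erase 0, N χ j :=
          Finset.sum_le_sum_of_subset_of_nonneg (Finset.filter_subset _ _) fun χ _ _ =>
            mul_nonneg (Nat.cast_nonneg _) (Finset.sum_nonneg fun j _ => hpos χ j)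
      _ = (p : ℝ) * ∑ j ∈ Finset.univ.erase 0, ∑ χ ∈ BG, N χ j := by
          rw [← Finset.mul_sum, Finset.sum_comm]
      _ ≤ (p : ℝ) * ∑ _j ∈ Finset.univ.erase (0 : ZMod p), (p : ℝ) * e :=
          mul_le_mul_of_nonneg_left (Finset.sum_le_sum fun j hj =>
            htot j (Finset.ne_of_mem_erase hj)) (Nat.cast_nonneg _)
      _ = (p : ℝ) ^ 2 * ((e : ℝ) * ((p : ℝ) - 1)) := by
          rw [Finset.sum_const, Finset.card_erase_of_mem (Finset.mem_univ _), Finset.card_univ,
            ZMod.card, nsmul_eq_mul, Nat.cast_sub hp.out.one_le, Nat.cast_one]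
          ring
  have hep : (0 : ℝ) < (e : ℝ) * ((p : ℝ) - 1) :=
    mul_pos (by exact_mod_cast he0) (by linarith)
  have := le_of_mul_le_mul_right hmain hep
  exact_mod_cast this

end Cfsg.Agent.Blocks.SmallCent
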