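import Cfsg.Agent.Lib.Blocks.DegreeSquares
import Cfsg.Agent.Lib.Blocks.Defect
import Cfsg.Agent.Lib.CT.Orthogonality

/-!
Reducing "no degree with full two-part" to the few possible degrees.
-/

set_option autoImplicit false
set_option linter.style.haveILetI false

namespace Cfsg.Agent.DegSq

open scoped ComplexConjugate
open Cfsg Representation Module

/-- No character has full two-part degree as soon as each possible such degree is excluded. -/
theorem factorization_deg_lt {G : Type*} [Group G] [Finite G] {a m : ℕ}
    (hG : Nat.card G = 2 ^ a * m) (hm : Odd m)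
    (h : ∀ (k : ℕ) (ρ : Representation ℂ G (Fin (2 ^ a * k) → ℂ)), ρ.IsIrreducible → k ∣ m →
      (2 ^ a * k) ^ 2 ≤ 2 ^ a * m → False)
    (χ : IrrCharacter G) :
    (charDegree (χ : G → ℂ)).factorization 2 < (Nat.card G).factorization 2 := by
  classical
  haveI := Fintype.ofFinite G
  have hm0 : m ≠ 0 := fun h => by subst h; simp at hm
  have ha : (Nat.card G).factorization 2 = a := by
    rw [hG, Nat.factorization_mul (pow_ne_zero a two_ne_zero) hm0, Finsupp.add_apply,
      Nat.Prime.factorization_pow Nat.prime_two, Finsupp.single_eq_same,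
      Nat.factorization_eq_zero_of_not_dvd hm.not_two_dvd_nat, add_zero]
  obtain ⟨n, ρ, hρ, hχ⟩ := χ.2
  haveI := hρ
  have hn : finrank ℂ (Fin n → ℂ) = n := by simp
  have hdeg : charDegree (χ : G → ℂ) = n := by
    rw [charDegree, ← hχ, Representation.char_one, hn]
    simp
  rw [hdeg, ha]
  by_contra hlt
  have hn0 : n ≠ 0 := by
    rw [← hn]; exact (CT.finrank_pos_of_irreducible ρ).ne'
  obtain ⟨k, rfl⟩ := (Nat.Prime.pow_dvd_iff_le_factorization Nat.prime_two hn0).2 (not_lt.1 hlt)
  refine h k ρ hρ ?_ ?_
  · have := CT.finrank_dvd_card ρ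
    rw [hn, hG] at this
    exact Nat.dvd_of_mul_dvd_mul_left (pow_pos two_pos a) this
  · have hsum := CT.sum_conj_char_mul ρ
    rw [hG] at hsum
    have h1 : ∑ g : G, Complex.normSq (ρ.character g) = ((2 ^ a * m : ℕ) : ℝ) := by
      apply Complex.ofReal_injective
      rw [Complex.ofReal_sum]
      simp only [Complex.normSq_eq_conj_mul_self]
      rw [hsum]; simp
    have h2 : Complex.normSq (ρ.character 1) ≤ ∑ g : G, Complex.normSq (ρ.character g) :=
      Finset.single_le_sum (f := fun g => Complex.normSq (ρ.character g))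
        (fun g _ => Complex.normSq_nonneg _) (Finset.mem_univ 1)
    rw [h1, Representation.char_one, hn, Complex.normSq_natCast] at h2
    rw [sq]
    exact_mod_cast h2

/-- A character of degree other than one sums to zero. -/
theorem sum_char_eq_zero {G : Type*} [Group G] [Fintype G] {n : ℕ}
    (ρ : Representation ℂ G (Fin n → ℂ)) [ρ.IsIrreducible] (hn : n ≠ 1) :
    ∑ g : G, ρ.character g = 0 := by
  have h := CT.irr_inner_of_ne (CT.isIrrCharacter_character ρ) CT.isIrrCharacter_one fun e => hn (by
    have := congrFun e 1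
    rw [Representation.char_one] at this
    simpa using this)
  rw [classInner, mul_eq_zero] at h
  refine (Eq.trans ?_ (h.resolve_left (inv_ne_zero CT.card_ne_zero)))
  exact Finset.sum_congr rfl fun g _ => by simp

end Cfsg.Agent.DegSq
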