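import Cfsg.Agent.Lib.CT.Integral
import Cfsg.Agent.Lib.CT.Kernel

/-!
Lower bounds for the squares of character values on elements of prime order, from the degree and the
two-part of a centralizer.
-/

set_option autoImplicit false

namespace Cfsg.Agent.DegSq

open scoped ComplexConjugate
open Cfsg Representation Module

noncomputable section

/-- The sum of a root of unity over all exponents. -/
theorem sum_root_pow {l : ℕ} {ζ : ℂ} (hζ : IsPrimitiveRoot ζ l) (a : ℕ) :
    ∑ i ∈ Finset.range l, (ζ ^ a) ^ i = if l ∣ a then (l : ℂ) else 0 := by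
  split_ifs with h
  · rw [(hζ.pow_eq_one_iff_dvd a).2 h]; simp
  · rw [geom_sum_eq (fun e => h ((hζ.pow_eq_one_iff_dvd a).1 e)), ← pow_mul, mul_comm, pow_mul, hζ.pow_eq_one,
      one_pow, sub_self, zero_div]

/-- Multiplicities of the eigenvalues of an element of order `l`. -/
theorem exists_mult {G : Type*} [Group G] [Finite G] {V : Type*} [AddCommGroup V] [Module ℂ V]
    [FiniteDimensional ℂ V] (ρ : Representation ℂ G V) {y : G} {l : ℕ} (hl : orderOf y = l) {ζ : ℂ}
    (hζ : IsPrimitiveRoot ζ l) :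
    ∃ m : ℕ → ℕ, ∑ j ∈ Finset.range l, m j = finrank ℂ V ∧
      ∀ i, ρ.character (y ^ i) = ∑ j ∈ Finset.range l, (m j : ℂ) * (ζ ^ j) ^ i := by
  classical
  obtain ⟨ω, hω, h⟩ := CT.exists_eigenvalues ρ y
  have hl0 : l ≠ 0 := by rw [← hl]; exact (orderOf_pos y).ne'
  haveI : NeZero l := ⟨hl0⟩
  have hex : ∀ k, ∃ j < l, ζ ^ j = ω k := fun k => hζ.eq_pow_of_pow_eq_one (hl ▸ hω k)
  choose J hJ hJω using hex
  refine ⟨fun j => (Finset.univ.filter fun k => J k = j).card, ?_, fun i => ?_⟩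
  · rw [← Finset.card_eq_sum_card_fiberwise (fun k _ => Finset.mem_coe.2 (Finset.mem_range.2 (hJ k))),
      Finset.card_univ, Fintype.card_fin]
  · rw [h, ← Finset.sum_fiberwise_of_maps_to (fun k _ => Finset.mem_range.2 (hJ k))]
    refine Finset.sum_congr rfl fun j _ => ?_
    rw [Finset.sum_congr rfl (g := fun _ => (ζ ^ j) ^ i) fun k hk => by rw [← (Finset.mem_filter.1 hk).2, hJω],
      Finset.sum_const, nsmul_eq_mul]

/-- The least sum of squares of integers with a given sum. -/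
theorem sq_sum_bound {l : ℕ} (n : ℕ → ℤ) {D : ℤ} (hD : ∑ j ∈ Finset.range l, n j = D) {q r : ℤ}
    (hqr : D = l * q + r) :
    r * ((l : ℤ) - r) ≤ l * ∑ j ∈ Finset.range l, n j ^ 2 - D ^ 2 ∧
      (0 < l → l * ∑ j ∈ Finset.range l, n j ^ 2 - D ^ 2 = r * ((l : ℤ) - r) →
        ∀ j < l, n j = q ∨ n j = q + 1) := by
  have hexp : ∑ j ∈ Finset.range l, (n j - q) * (n j - q - 1) =
      (∑ j ∈ Finset.range l, n j ^ 2) - (2 * q + 1) * D + l * (q * (q + 1)) := by
    rw [← hD, Finset.mul_sum, ← Finset.sum_sub_distrib]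
    rw [show (l : ℤ) * (q * (q + 1)) = ∑ _j ∈ Finset.range l, q * (q + 1) by simp, ← Finset.sum_add_distrib]
    exact Finset.sum_congr rfl fun j _ => by ring
  have hnn : ∀ j, 0 ≤ (n j - q) * (n j - q - 1) := fun j => by
    rcases le_or_gt (n j - q) 0 with h | h
    · exact mul_nonneg_of_nonpos_of_nonpos h (by omega)
    · exact mul_nonneg h.le (by omega)
  have hpos := Finset.sum_nonneg fun j (_ : j ∈ Finset.range l) => hnn j
  have hkey : (l : ℤ) * ∑ j ∈ Finset.range l, n j ^ 2 - D ^ 2 - r * ((l : ℤ) - r) =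
      l * ∑ j ∈ Finset.range l, (n j - q) * (n j - q - 1) := by
    rw [hexp, hqr]; ring
  refine ⟨by nlinarith, fun hl he j hj => ?_⟩
  rw [he, sub_self, eq_comm, mul_eq_zero] at hkey
  have h0 := (Finset.sum_eq_zero_iff_of_nonneg fun j _ => hnn j).1 (hkey.resolve_left (by omega)) j
    (Finset.mem_range.2 hj)
  rcases mul_eq_zero.1 h0 with h | h <;> omega

/-- A character value at an element is divisible by the two-part of its centralizer when the degree has full two-part. -/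
theorem dvd_value {G : Type*} [Group G] [Finite G] {n : ℕ} (ρ : Representation ℂ G (Fin n → ℂ)) [ρ.IsIrreducible]
    {a c m : ℕ} (hG : Nat.card G = 2 ^ a * m) (hm : Odd m) (hdeg : 2 ^ a ∣ n) (g : G) (hc : c = 1 ∨ c = 2 ∨ c = 4)
    (hcg : c ∣ Nat.card (Subgroup.centralizer ({g} : Set G))) :
    ∃ z : ℂ, IsIntegral ℤ z ∧ ρ.character g = (c : ℂ) * z := by
  classical
  haveI := Fintype.ofFinite G
  obtain ⟨d, hd⟩ := hdeg
  obtain ⟨e, he⟩ := hcg
  have hn : (finrank ℂ (Fin n → ℂ) : ℂ) = (n : ℂ) := by simp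
  have h := CT.isIntegral_omega ρ g
  rw [hn] at h
  have hidx := (Subgroup.centralizer ({g} : Set G)).index_mul_card
  rw [hG, he] at hidx
  set i := (Subgroup.centralizer ({g} : Set G)).index
  set t := ρ.character g
  have hn0 : (n : ℂ) ≠ 0 := by
    rw [← hn, ← Representation.char_one ρ]
    exact CT.irr_one_ne_zero ⟨n, ρ, inferInstance, rfl⟩
  have hc0 : (c : ℂ) ≠ 0 := by rcases hc with rfl | rfl | rfl <;> norm_num
  have h1 : IsIntegral ℤ (((m : ℕ) : ℂ) * (t / c)) := by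
    have h2 := ((CT.isIntegral_natCast e).mul (CT.isIntegral_natCast d)).mul h
    suffices hh : ((m : ℕ) : ℂ) * (t / c) = (e : ℂ) * (d : ℂ) * ((i : ℂ) * t / (n : ℂ)) by rw [hh]; exact h2
    have e1 : (i : ℂ) * (c : ℂ) * (e : ℂ) = (2 : ℂ) ^ a * (m : ℂ) := by
      have : i * c * e = 2 ^ a * m := by rw [← hidx]; ring
      exact_mod_cast this
    have e2 : (n : ℂ) = (2 : ℂ) ^ a * (d : ℂ) := by exact_mod_cast hd
    rw [mul_div_assoc', mul_div_assoc', div_eq_div_iff hc0 hn0, e2]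
    linear_combination -(t * (d : ℂ)) * e1
  have h3 : IsIntegral ℤ (((c : ℕ) : ℂ) * (t / c)) := by
    rw [mul_div_cancel₀ _ hc0]; exact CT.isIntegral_char ρ g
  obtain ⟨u, v, huv⟩ : IsCoprime (m : ℤ) (c : ℤ) := by
    refine Int.isCoprime_iff_nat_coprime.2 ?_
    have h2 : Nat.Coprime m 2 := Nat.coprime_two_right.2 hm
    rcases hc with rfl | rfl | rfl
    · exact Nat.coprime_one_right m
    · exact h2
    · exact (h2.pow_right 2 : Nat.Coprime m (2 ^ 2))
  refine ⟨t / c, ?_, (mul_div_cancel₀ _ hc0).symm⟩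
  have e : t / c = (u : ℂ) * ((m : ℕ) * (t / c)) + (v : ℂ) * ((c : ℕ) * (t / c)) := by
    have : ((u : ℂ) * (m : ℂ) + (v : ℂ) * (c : ℂ)) = 1 := by exact_mod_cast huv
    linear_combination -(t / c) * this
  rw [e]
  exact ((isIntegral_algebraMap (x := u)).mul h1).add ((isIntegral_algebraMap (x := v)).mul h3)

/-- The values on the nontrivial powers of an element of prime order. -/
theorem powers_bound {G : Type*} [Group G] [Finite G] {n : ℕ} (ρ : Representation ℂ G (Fin n → ℂ)) [ρ.IsIrreducible]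
    {a c m : ℕ} (hG : Nat.card G = 2 ^ a * m) (hm : Odd m) (hdeg : 2 ^ a ∣ n) (hc : c = 1 ∨ c = 2 ∨ c = 4)
    (hca : c ∣ 2 ^ a) {y : G} {l : ℕ} (hl : orderOf y = l) (hlp : l.Prime) (hl2 : l ≠ 2)
    (hcy : c ∣ Nat.card (Subgroup.centralizer ({y} : Set G))) :
    ∃ m0 : ℤ, ∑ i ∈ Finset.Ico 1 l, ρ.character (y ^ i) = ((l * c * m0 - n : ℤ) : ℂ) ∧
      (((c ^ 2 * ((n / c % l) * (l - n / c % l)) : ℕ) : ℝ) ≤ ∑ i ∈ Finset.Ico 1 l, Complex.normSq (ρ.character (y ^ i))) ∧
      (∑ i ∈ Finset.Ico 1 l, Complex.normSq (ρ.character (y ^ i)) = ((c ^ 2 * ((n / c % l) * (l - n / c % l)) : ℕ) : ℝ) →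
        m0 = (n / c / l : ℕ) ∨ m0 = (n / c / l : ℕ) + 1) := by
  classical
  obtain ⟨ζ, hζ⟩ : ∃ ζ : ℂ, IsPrimitiveRoot ζ l := ⟨_, Complex.isPrimitiveRoot_exp l hlp.ne_zero⟩
  obtain ⟨μ, hμn, hμ⟩ := exists_mult ρ hl hζ
  have hn : finrank ℂ (Fin n → ℂ) = n := by simp
  rw [hn] at hμn
  have hsplit : ∀ f : ℕ → ℂ, ∑ i ∈ Finset.range l, f i = f 0 + ∑ i ∈ Finset.Ico 1 l, f i := fun f => by
    rw [Finset.range_eq_Ico, Finset.sum_eq_sum_Ico_succ_bot hlp.pos]
  have hζu : ∀ j, conj (ζ ^ j) * ζ ^ j = 1 := fun j => by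
    have h1 : ‖ζ ^ j‖ = 1 := by rw [norm_pow, Complex.norm_eq_one_of_pow_eq_one hζ.pow_eq_one hlp.ne_zero, one_pow]
    rw [← Complex.normSq_eq_conj_mul_self, Complex.normSq_eq_norm_sq, h1]; norm_num
  -- each multiplicity is divisible by `c`
  have hfourier : ∀ j < l, (l : ℂ) * (μ j : ℂ) = ∑ i ∈ Finset.range l, ρ.character (y ^ i) * (ζ ^ (l - j)) ^ i := by
    intro j hj
    simp only [hμ, Finset.sum_mul]
    rw [Finset.sum_comm, Finset.sum_eq_single j]
    · simp only [mul_assoc, ← mul_pow, ← pow_add, Nat.add_sub_cancel' hj.le, hζ.pow_eq_one, one_pow, mul_one,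
        Finset.sum_const, Finset.card_range, nsmul_eq_mul]
    · intro j' hj' hne
      rw [Finset.sum_congr rfl fun i _ => by rw [mul_assoc, ← mul_pow, ← pow_add], ← Finset.mul_sum, sum_root_pow hζ,
        if_neg, mul_zero]
      rintro ⟨k, hk⟩
      have := Finset.mem_range.1 hj'
      rcases Nat.lt_trichotomy k 1 with h | rfl | h
      · obtain rfl : k = 0 := by omega
        omega
      · omega
      · have : l * 2 ≤ l * k := Nat.mul_le_mul_left l h
        omega
    · intro h; exact absurd (Finset.mem_range.2 hj) h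
  have hpow : ∀ i ∈ Finset.Ico 1 l, c ∣ Nat.card (Subgroup.centralizer ({y ^ i} : Set G)) := fun i hi => by
    refine hcy.trans (Subgroup.card_dvd_of_le fun g hg => ?_)
    rw [Subgroup.mem_centralizer_singleton_iff] at hg ⊢
    exact (Commute.pow_right hg i).eq
  choose! Z hZint hZ using fun i (hi : i ∈ Finset.Ico 1 l) => dvd_value ρ hG hm hdeg (y ^ i) hc (hpow i hi)
  obtain ⟨d, hd⟩ := (hca.trans hdeg : c ∣ n)
  have hc0 : (c : ℂ) ≠ 0 := by rcases hc with rfl | rfl | rfl <;> norm_num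
  have hcdvd : ∀ j < l, c ∣ μ j := by
    intro j hj
    have h := hfourier j hj
    rw [hsplit, pow_zero, pow_zero, mul_one, Representation.char_one, hn,
      Finset.sum_congr rfl fun i hi => by rw [hZ i hi, mul_assoc], ← Finset.mul_sum] at h
    have hint : IsIntegral ℤ (((l * μ j : ℕ) : ℂ) / (c : ℂ)) := by
      push_cast
      rw [h, hd]
      push_cast
      rw [← mul_add, mul_div_cancel_left₀ _ hc0]
      exact (CT.isIntegral_natCast d).add (IsIntegral.sum _ fun i hi =>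
        (hZint i hi).mul ((IsIntegral.of_pow hlp.pos (by
          rw [← pow_mul, mul_comm, pow_mul, hζ.pow_eq_one, one_pow]; exact isIntegral_one)).pow i))
    have := CT.dvd_of_isIntegral_div (by rcases hc with rfl | rfl | rfl <;> norm_num) hint
    refine (Nat.Coprime.dvd_mul_left ?_).1 this
    have h2 : Nat.Coprime 2 l := (Nat.coprime_primes Nat.prime_two hlp).2 (Ne.symm hl2)
    rcases hc with rfl | rfl | rfl
    · exact Nat.coprime_one_left l
    · exact h2
    · exact (h2.pow_left 2 : Nat.Coprime (2 ^ 2) l)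
  choose! ν hν using fun j (hj : j < l) => (hcdvd j hj : ∃ v, μ j = c * v)
  have hνsum : ∑ j ∈ Finset.range l, (ν j : ℤ) = (d : ℤ) := by
    have : c * ∑ j ∈ Finset.range l, ν j = c * d := by
      rw [Finset.mul_sum, ← hd, ← hμn]
      exact Finset.sum_congr rfl fun j hj => (hν j (Finset.mem_range.1 hj)).symm
    have := Nat.eq_of_mul_eq_mul_left (by rcases hc with rfl | rfl | rfl <;> norm_num) this
    exact_mod_cast this
  refine ⟨(ν 0 : ℤ), ?_, ?_⟩
  · have h := hfourier 0 hlp.pos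
    simp only [Nat.sub_zero, hζ.pow_eq_one, one_pow, mul_one] at h
    rw [hsplit, pow_zero, Representation.char_one, hn, hν 0 hlp.pos] at h
    push_cast at h ⊢
    linear_combination -h
  have hsq : ∑ i ∈ Finset.range l, conj (ρ.character (y ^ i)) * ρ.character (y ^ i) =
      (l : ℂ) * ∑ j ∈ Finset.range l, (μ j : ℂ) ^ 2 := by
    have e1 : ∀ i, conj (ρ.character (y ^ i)) = ∑ j ∈ Finset.range l, (μ j : ℂ) * (ζ ^ (l - j)) ^ i := fun i => by
      rw [hμ, map_sum]
      refine Finset.sum_congr rfl fun j hj => ?_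
      rw [map_mul, map_natCast, map_pow]
      congr 2
      have h1 : ζ ^ (l - j) * ζ ^ j = 1 := by
        rw [← pow_add, Nat.sub_add_cancel (Finset.mem_range.1 hj).le, hζ.pow_eq_one]
      exact mul_right_cancel₀ (pow_ne_zero j (hζ.ne_zero hlp.ne_zero)) ((hζu j).trans h1.symm)
    simp only [e1, Finset.sum_mul]
    rw [Finset.sum_comm, Finset.mul_sum]
    refine Finset.sum_congr rfl fun j hj => ?_
    rw [Finset.sum_congr rfl fun i _ => by rw [mul_assoc, mul_comm ((ζ ^ (l - j)) ^ i)], ← Finset.mul_sum,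
      ← hfourier j (Finset.mem_range.1 hj)]
    ring
  have hreal : ∑ i ∈ Finset.Ico 1 l, Complex.normSq (ρ.character (y ^ i)) =
      (((c : ℤ) ^ 2 * ((l : ℤ) * ∑ j ∈ Finset.range l, (ν j : ℤ) ^ 2 - (d : ℤ) ^ 2) : ℤ) : ℝ) := by
    apply Complex.ofReal_injective
    have hμν : ∑ j ∈ Finset.range l, (μ j : ℂ) ^ 2 = ∑ j ∈ Finset.range l, ((c * ν j : ℕ) : ℂ) ^ 2 :=
      Finset.sum_congr rfl fun j hj => by rw [← hν j (Finset.mem_range.1 hj)]
    rw [hsplit, pow_zero, Representation.char_one, hn, map_natCast, hμν] at hsq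
    push_cast at hsq ⊢
    simp only [Complex.normSq_eq_conj_mul_self]
    rw [mul_sub, ← mul_pow, ← Nat.cast_mul, ← hd, Finset.mul_sum, Finset.mul_sum]
    rw [Finset.mul_sum] at hsq
    have e2 : ∀ j, (c : ℂ) ^ 2 * ((l : ℂ) * (ν j : ℂ) ^ 2) = (l : ℂ) * ((c : ℂ) * (ν j : ℂ)) ^ 2 := fun j => by ring
    simp only [e2]
    linear_combination hsq
  obtain ⟨hb, heq⟩ := sq_sum_bound (fun j => (ν j : ℤ)) hνsum (q := ((d / l : ℕ) : ℤ)) (r := ((d % l : ℕ) : ℤ))
    (by exact_mod_cast (Nat.div_add_mod d l).symm)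
  have hnd : n / c = d := by rw [hd, Nat.mul_div_cancel_left]; rcases hc with rfl | rfl | rfl <;> norm_num
  have hcast : ((c ^ 2 * ((n / c % l) * (l - n / c % l)) : ℕ) : ℝ) =
      (((c : ℤ) ^ 2 * (((d % l : ℕ) : ℤ) * ((l : ℤ) - ((d % l : ℕ) : ℤ))) : ℤ) : ℝ) := by
    rw [hnd]
    have := (Nat.mod_lt d hlp.pos).le
    generalize d % l = r at this ⊢
    push_cast [Nat.cast_sub this]
    ring
  refine ⟨?_, fun he => ?_⟩
  · rw [hcast, hreal]
    exact Int.cast_le.2 (mul_le_mul_of_nonneg_left hb (sq_nonneg _))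
  · rw [hcast, hreal] at he
    have h1 := mul_left_cancel₀ (pow_ne_zero 2 (by exact_mod_cast hc0 : (c : ℤ) ≠ 0)) (Int.cast_inj.1 he)
    rw [hnd]
    exact heq hlp.pos h1 0 hlp.pos

/-- The number of ways a given element is a conjugate of a power of `y` is at most the normaliser. -/
theorem card_fiber_le {G : Type*} [Group G] [Fintype G] [DecidableEq G] {y : G} {l : ℕ} (hl : orderOf y = l)
    (hlp : l.Prime) (g : G) :
    ((Finset.univ ×ˢ Finset.Ico 1 l).filter fun p : G × ℕ => p.1 * y ^ p.2 * p.1⁻¹ = g).card ≤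
      Nat.card (Subgroup.normalizer (Subgroup.zpowers y : Set G)) := by
  classical
  set s := (Finset.univ ×ˢ Finset.Ico 1 l).filter fun p : G × ℕ => p.1 * y ^ p.2 * p.1⁻¹ = g
  rcases s.eq_empty_or_nonempty with he | ⟨p₀, hp₀⟩
  · rw [he]; simp
  have hgen : ∀ i ∈ Finset.Ico 1 l, Subgroup.zpowers (y ^ i) = Subgroup.zpowers y := fun i hi => by
    obtain ⟨h1, h2⟩ := Finset.mem_Ico.1 hi
    refine Subgroup.eq_of_le_of_card_ge (Subgroup.zpowers_le.2 (Subgroup.pow_mem _ (Subgroup.mem_zpowers y) i)) ?_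
    rw [Nat.card_zpowers, Nat.card_zpowers, orderOf_pow, hl,
      (Nat.Prime.coprime_iff_not_dvd hlp).2 (fun h => by have := Nat.le_of_dvd (by omega) h; omega), Nat.div_one]
  have hnorm : ∀ p ∈ s, p₀.1⁻¹ * p.1 ∈ Subgroup.normalizer (Subgroup.zpowers y : Set G) := by
    intro p hp
    obtain ⟨hp1, hpe⟩ := Finset.mem_filter.1 hp
    obtain ⟨hp2, hp0e⟩ := Finset.mem_filter.1 hp₀
    have hi := (Finset.mem_product.1 hp1).2
    have hi0 := (Finset.mem_product.1 hp2).2
    have hconj : p₀.1⁻¹ * p.1 * y ^ p.2 * (p₀.1⁻¹ * p.1)⁻¹ = y ^ p₀.2 := by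
      calc p₀.1⁻¹ * p.1 * y ^ p.2 * (p₀.1⁻¹ * p.1)⁻¹ = p₀.1⁻¹ * (p.1 * y ^ p.2 * p.1⁻¹) * p₀.1 := by group
        _ = p₀.1⁻¹ * (p₀.1 * y ^ p₀.2 * p₀.1⁻¹) * p₀.1 := by rw [hpe, hp0e]
        _ = y ^ p₀.2 := by group
    have hmap : (Subgroup.zpowers y).map (MulAut.conj (p₀.1⁻¹ * p.1)).toMonoidHom = Subgroup.zpowers y := by
      conv_lhs => rw [← hgen _ hi]
      rw [MonoidHom.map_zpowers]
      show Subgroup.zpowers (p₀.1⁻¹ * p.1 * y ^ p.2 * (p₀.1⁻¹ * p.1)⁻¹) = _
      rw [hconj, hgen _ hi0]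
    refine Subgroup.mem_normalizer_iff.2 fun h => ?_
    conv_rhs => rw [← hmap, Subgroup.mem_map]
    exact ⟨fun hh => ⟨h, hh, rfl⟩, fun ⟨k, hk, he⟩ => (MulAut.conj (p₀.1⁻¹ * p.1)).injective he ▸ hk⟩
  rw [Nat.card_eq_fintype_card, ← Fintype.card_coe s]
  refine Fintype.card_le_of_injective (fun p => ⟨p₀.1⁻¹ * p.1.1, hnorm p.1 p.2⟩) fun p q e => ?_
  have hx : p.1.1 = q.1.1 := mul_left_cancel (congrArg Subtype.val e)
  obtain ⟨hp1, hpe⟩ := Finset.mem_filter.1 p.2
  obtain ⟨hq1, hqe⟩ := Finset.mem_filter.1 q.2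
  rw [hx, ← hqe, mul_left_inj, mul_right_inj] at hpe
  refine Subtype.ext (Prod.ext hx ?_)
  refine pow_injOn_Iio_orderOf ?_ ?_ hpe
  · rw [Set.mem_Iio, hl]; exact (Finset.mem_Ico.1 (Finset.mem_product.1 hp1).2).2
  · rw [Set.mem_Iio, hl]; exact (Finset.mem_Ico.1 (Finset.mem_product.1 hq1).2).2

/-- Counting the class functions over all conjugates of the powers. -/
theorem sum_conjugates {G : Type*} [Group G] [Fintype G] [DecidableEq G] {R : Type*} [CommSemiring R]
    {f : G → R} (hf : ∀ x g, f (x * g * x⁻¹) = f g) {y : G} {l : ℕ} (hl : orderOf y = l) (hlp : l.Prime) :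
    (Fintype.card G : R) * ∑ i ∈ Finset.Ico 1 l, f (y ^ i) =
      ∑ g ∈ Finset.univ.filter (fun g => orderOf g = l),
        (((Finset.univ ×ˢ Finset.Ico 1 l).filter fun p : G × ℕ => p.1 * y ^ p.2 * p.1⁻¹ = g).card : R) * f g := by
  classical
  have h1 : ∑ p ∈ Finset.univ ×ˢ Finset.Ico 1 l, f (p.1 * y ^ p.2 * p.1⁻¹) =
      (Fintype.card G : R) * ∑ i ∈ Finset.Ico 1 l, f (y ^ i) := by
    simp only [Finset.sum_product, hf, Finset.sum_const, Finset.card_univ, nsmul_eq_mul]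
  rw [← h1, ← Finset.sum_fiberwise_of_maps_to (g := fun p : G × ℕ => p.1 * y ^ p.2 * p.1⁻¹)
    (t := Finset.univ.filter (fun g => orderOf g = l)) (fun p hp => ?_)]
  · refine Finset.sum_congr rfl fun g _ => ?_
    rw [Finset.sum_congr rfl fun p hp => by rw [(Finset.mem_filter.1 hp).2], Finset.sum_const, nsmul_eq_mul]
  · obtain ⟨h1, h2⟩ := Finset.mem_Ico.1 (Finset.mem_product.1 hp).2
    refine Finset.mem_filter.2 ⟨Finset.mem_univ _, ?_⟩
    show orderOf (MulAut.conj p.1 (y ^ p.2)) = l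
    rw [MulEquiv.orderOf_eq, orderOf_pow, hl,
      (Nat.Prime.coprime_iff_not_dvd hlp).2 (fun h => by have := Nat.le_of_dvd (by omega) h; omega), Nat.div_one]

/-- A prime with an element, the normaliser bound and the divisor of the values. -/
structure Witness (G : Type*) [Group G] where
  y : G
  l : ℕ
  N : ℕ
  c : ℕ
  hl : orderOf y = l
  prime : l.Prime
  odd : l ≠ 2
  norm : Nat.card (Subgroup.normalizer (Subgroup.zpowers y : Set G)) ≤ N
  hc : c = 1 ∨ c = 2 ∨ c = 4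
  dvd : c ∣ Nat.card (Subgroup.centralizer ({y} : Set G))

/-- The bound contributed by a witness for degree `n`, times `|G|`. -/
def weight {G : Type*} [Group G] (w : Witness G) (n : ℕ) : ℕ :=
  w.c ^ 2 * ((n / w.c % w.l) * (w.l - n / w.c % w.l))

variable {G : Type*} [Group G] [Fintype G] [DecidableEq G] {n : ℕ} (ρ : Representation ℂ G (Fin n → ℂ))
  [ρ.IsIrreducible]

/-- The weight is a lower bound for the squares on the elements of that order. -/
theorem weight_le {a m : ℕ} (hG : Nat.card G = 2 ^ a * m) (hm : Odd m) (hdeg : 2 ^ a ∣ n) (w : Witness G)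
    (hca : w.c ∣ 2 ^ a) :
    (Fintype.card G : ℝ) * (weight w n : ℝ) ≤
        (w.N : ℝ) * ∑ g ∈ Finset.univ.filter (fun g => orderOf g = w.l), Complex.normSq (ρ.character g) ∧
      ((w.N : ℝ) * ∑ g ∈ Finset.univ.filter (fun g => orderOf g = w.l), Complex.normSq (ρ.character g) =
          (Fintype.card G : ℝ) * (weight w n : ℝ) →
        ∃ m0 : ℤ, (m0 = (n / w.c / w.l : ℕ) ∨ m0 = (n / w.c / w.l : ℕ) + 1) ∧
          (w.N : ℂ) * ∑ g ∈ Finset.univ.filter (fun g => orderOf g = w.l), ρ.character g =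
            (Fintype.card G : ℂ) * ((w.l * w.c * m0 - n : ℤ) : ℂ)) := by
  obtain ⟨m0, hm0, hb, heq⟩ := powers_bound ρ hG hm hdeg w.hc hca w.hl w.prime w.odd w.dvd
  have hcl : ∀ x g, ρ.character (x * g * x⁻¹) = ρ.character g := fun x g => ρ.char_conj g x
  have hsq := sum_conjugates (R := ℝ) (f := fun g => Complex.normSq (ρ.character g))
    (fun x g => by show Complex.normSq _ = _; rw [hcl]) w.hl w.prime
  have hfib : ∀ g, ((((Finset.univ ×ˢ Finset.Ico 1 w.l).filter fun p : G × ℕ =>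
      p.1 * w.y ^ p.2 * p.1⁻¹ = g).card : ℕ) : ℝ) ≤ (w.N : ℝ) := fun g =>
    Nat.cast_le.2 ((card_fiber_le w.hl w.prime g).trans w.norm)
  have hle : (Fintype.card G : ℝ) * ∑ i ∈ Finset.Ico 1 w.l, Complex.normSq (ρ.character (w.y ^ i)) ≤
      (w.N : ℝ) * ∑ g ∈ Finset.univ.filter (fun g => orderOf g = w.l), Complex.normSq (ρ.character g) := by
    rw [hsq, Finset.mul_sum]
    exact Finset.sum_le_sum fun g _ => mul_le_mul_of_nonneg_right (hfib g) (Complex.normSq_nonneg _)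
  refine ⟨(mul_le_mul_of_nonneg_left hb (Nat.cast_nonneg _)).trans hle, fun he => ?_⟩
  rw [he] at hle
  have hS : ∑ i ∈ Finset.Ico 1 w.l, Complex.normSq (ρ.character (w.y ^ i)) = (weight w n : ℝ) :=
    le_antisymm (le_of_mul_le_mul_left hle (Nat.cast_pos.2 Fintype.card_pos)) hb
  refine ⟨m0, heq hS, ?_⟩
  rw [← hS, hsq, Finset.mul_sum] at he
  have hall := (Finset.sum_eq_sum_iff_of_le fun g _ =>
    mul_le_mul_of_nonneg_right (hfib g) (Complex.normSq_nonneg _)).1 he.symm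
  rw [← hm0, sum_conjugates (R := ℂ) (f := fun g => ρ.character g) hcl w.hl w.prime, Finset.mul_sum]
  refine Finset.sum_congr rfl fun g hg => ?_
  rcases mul_eq_mul_right_iff.1 (hall g hg) with h | h
  · rw [show ((((Finset.univ ×ˢ Finset.Ico 1 w.l).filter fun p : G × ℕ =>
      p.1 * w.y ^ p.2 * p.1⁻¹ = g).card : ℕ)) = w.N from Nat.cast_injective h]
  · rw [show ρ.character g = 0 from Complex.normSq_eq_zero.1 h, mul_zero, mul_zero]

/-- The weighted squares of witnesses of distinct orders fit into the order of the group. -/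
theorem total_le {a m : ℕ} (hG : Nat.card G = 2 ^ a * m) (hm : Odd m) (hdeg : 2 ^ a ∣ n)
    (W : List (Witness G)) (hW : (W.map fun w => w.l).Nodup) (hca : ∀ w ∈ W, w.c ∣ 2 ^ a) :
    (n : ℝ) ^ 2 + (W.map fun w => (Fintype.card G : ℝ) * (weight w n : ℝ) / (w.N : ℝ)).sum ≤ (Fintype.card G : ℝ) ∧
      ((n : ℝ) ^ 2 + (W.map fun w => (Fintype.card G : ℝ) * (weight w n : ℝ) / (w.N : ℝ)).sum = (Fintype.card G : ℝ) →
        (∀ g, g ≠ 1 → orderOf g ∉ W.map (fun w => w.l) → ρ.character g = 0) ∧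
        ∀ w ∈ W, (w.N : ℝ) * ∑ g ∈ Finset.univ.filter (fun g => orderOf g = w.l), Complex.normSq (ρ.character g) =
          (Fintype.card G : ℝ) * (weight w n : ℝ)) := by
  classical
  have htot : ∑ g : G, Complex.normSq (ρ.character g) = (Fintype.card G : ℝ) := by
    apply Complex.ofReal_injective
    push_cast
    simp only [Complex.normSq_eq_conj_mul_self]
    rw [CT.sum_conj_char_mul ρ, Nat.card_eq_fintype_card]
  have hN : ∀ w : Witness G, (0 : ℝ) < (w.N : ℝ) := fun w =>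
    Nat.cast_pos.2 (lt_of_lt_of_le Nat.card_pos w.norm)
  let T : Witness G → ℝ := fun w =>
    ∑ g ∈ Finset.univ.filter (fun g => orderOf g = w.l), Complex.normSq (ρ.character g)
  have hT : ∀ w ∈ W, (Fintype.card G : ℝ) * (weight w n : ℝ) / (w.N : ℝ) ≤ T w := fun w hw => by
    rw [div_le_iff₀ (hN w), mul_comm (T w)]
    exact (weight_le ρ hG hm hdeg w (hca w hw)).1
  set F : Finset G := (Finset.univ.filter fun g => orderOf g ∈ W.map (fun w => w.l)) with hF
  have hsumF : (W.map T).sum = ∑ g ∈ F, Complex.normSq (ρ.character g) := by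
    rw [hF]
    clear_value F
    clear htot hT hca hF F
    induction W with
    | nil => simp
    | cons w W ih =>
      rw [List.map_cons, List.nodup_cons] at hW
      rw [List.map_cons, List.sum_cons, ih hW.2, ← Finset.sum_union]
      · refine Finset.sum_congr ?_ fun _ _ => rfl
        ext g
        simp
      · refine Finset.disjoint_left.2 fun g h1 h2 => hW.1 ?_
        rw [← (Finset.mem_filter.1 h1).2]
        exact (Finset.mem_filter.1 h2).2
  have h1F : (1 : G) ∉ F := fun h => by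
    obtain ⟨w, -, hw⟩ := List.mem_map.1 (Finset.mem_filter.1 h).2
    rw [orderOf_one] at hw
    exact w.prime.ne_one hw
  have hsplit : ∑ g : G, Complex.normSq (ρ.character g) = (n : ℝ) ^ 2 + ∑ g ∈ F, Complex.normSq (ρ.character g) +
      ∑ g ∈ (Finset.univ.erase 1) \ F, Complex.normSq (ρ.character g) := by
    rw [← Finset.add_sum_erase _ _ (Finset.mem_univ (1 : G)), add_assoc,
      add_comm (∑ g ∈ F, _), Finset.sum_sdiff (fun g hg => Finset.mem_erase.2 ⟨fun e => h1F (by rwa [e] at hg), Finset.mem_univ g⟩)]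
    congr 1
    rw [Representation.char_one]
    simp [Complex.normSq_natCast, sq]
  have hrest : 0 ≤ ∑ g ∈ (Finset.univ.erase 1) \ F, Complex.normSq (ρ.character g) :=
    Finset.sum_nonneg fun g _ => Complex.normSq_nonneg _
  have hlist := List.sum_le_sum (l := W) hT
  rw [htot] at hsplit
  rw [hsumF] at hlist
  refine ⟨by linarith, fun he => ⟨fun g hg1 hgW => ?_, fun w hw => ?_⟩⟩
  · have h0 : ∑ g ∈ (Finset.univ.erase 1) \ F, Complex.normSq (ρ.character g) = 0 := by linarith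
    refine Complex.normSq_eq_zero.1 ((Finset.sum_eq_zero_iff_of_nonneg fun g _ => Complex.normSq_nonneg _).1 h0 g ?_)
    simpa [hF, hg1] using hgW
  · have heq : (W.map fun w => (Fintype.card G : ℝ) * (weight w n : ℝ) / (w.N : ℝ)).sum = (W.map T).sum := by
      rw [hsumF]; linarith
    by_contra hne
    have hlt : (Fintype.card G : ℝ) * (weight w n : ℝ) / (w.N : ℝ) < T w := by
      refine lt_of_le_of_ne (hT w hw) fun e => hne ?_
      rw [div_eq_iff (hN w).ne'] at e
      show (w.N : ℝ) * T w = _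
      linarith
    exact absurd heq (ne_of_lt (List.sum_lt_sum _ _ hT ⟨w, hw, hlt⟩))

end

end Cfsg.Agent.DegSq
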