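import Mathlib.Algebra.BigOperators.Group.Finset.Basic
import Mathlib.Algebra.Order.BigOperators.Group.Finset
import Mathlib.Tactic

/-!
# Integer vectors with the Gram matrix of the dihedral exceptional differences
-/

set_option autoImplicit false

namespace Cfsg.Agent.Blocks.DihStar

variable {ι : Type*}

theorem support_of_sq (F : Finset ι) (r : ι → ℤ) {N : ℕ} (hN : N < 4)
    (h : ∑ i ∈ F, r i * r i = N) :
    (F.filter fun i => r i ≠ 0).card = N ∧ ∀ i ∈ F, r i = 0 ∨ r i = 1 ∨ r i = -1 := by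
  have hb : ∀ i ∈ F, r i = 0 ∨ r i = 1 ∨ r i = -1 := by
    intro i hi
    have h1 : r i * r i ≤ N := h ▸ Finset.single_le_sum (f := fun j => r j * r j)
      (fun j _ => mul_self_nonneg _) hi
    have h2 : (N : ℤ) < 4 := by exact_mod_cast hN
    have : r i ≤ 1 := by nlinarith
    have : -1 ≤ r i := by nlinarith
    omega
  refine ⟨?_, hb⟩
  have e : ∑ i ∈ F, r i * r i = ∑ i ∈ F, if r i ≠ 0 then (1 : ℤ) else 0 :=
    Finset.sum_congr rfl fun i hi => by rcases hb i hi with h | h | h <;> simp [h]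
  rw [e, Finset.sum_boole] at h
  exact_mod_cast h

theorem pair_dot {e f : ℤ} (he : e = 0 ∨ e = 1 ∨ e = -1) (hf : f = 0 ∨ f = 1 ∨ f = -1)
    (h : e + f = 1) : (e = 1 ∧ f = 0) ∨ (e = 0 ∧ f = 1) := by
  omega

theorem mul_mem_three {e f : ℤ} (he : e = 0 ∨ e = 1 ∨ e = -1) (hf : f = 0 ∨ f = 1 ∨ f = -1) :
    e * f = 0 ∨ e * f = 1 ∨ e * f = -1 := by
  rcases he with rfl | rfl | rfl <;> rcases hf with rfl | rfl | rfl <;> simp

theorem eq_of_mul_one {e f : ℤ} (he : e = 0 ∨ e = 1 ∨ e = -1) (hf : f = 0 ∨ f = 1 ∨ f = -1)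
    (h : e * f = 1) : e = f := by
  rcases he with rfl | rfl | rfl <;> rcases hf with rfl | rfl | rfl <;> simp at h ⊢

/-- The vectors have a common entry. -/
theorem star [DecidableEq ι] (F : Finset ι) (x : ι → ℤ) (hx : ∀ i ∈ F, 0 < x i) {H : ℕ}
    (hH : H = 2 ∨ 4 ≤ H) (r : ℕ → ι → ℤ)
    (hdeg : ∀ j, 1 ≤ j → j ≤ H → ∑ i ∈ F, r j i * x i = 1)
    (hsq : ∀ j, 1 ≤ j → j < H → ∑ i ∈ F, r j i * r j i = 2)
    (hsqH : ∑ i ∈ F, r H i * r H i = 3)
    (hdot : ∀ j k, 1 ≤ j → j ≤ H → 1 ≤ k → k ≤ H → j ≠ k → ∑ i ∈ F, r j i * r k i = 1) :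
    ∃ (a c d : ι) (b : ℕ → ι) (s y z : ℤ), a ∈ F ∧ c ∈ F ∧ d ∈ F ∧ a ≠ c ∧ a ≠ d ∧ c ≠ d ∧
      (s = 1 ∨ s = -1) ∧ (y = 1 ∨ y = -1) ∧ (z = 1 ∨ z = -1) ∧
      (∀ j, 1 ≤ j → j < H → b j ∈ F ∧ b j ≠ a ∧ b j ≠ c ∧ b j ≠ d ∧
        ∀ i ∈ F, r j i = if i = a then s else if i = b j then -s else 0) ∧
      (∀ j k, 1 ≤ j → j < H → 1 ≤ k → k < H → b j = b k → j = k) ∧
      ∀ i ∈ F, r H i = if i = a then s else if i = c then y else if i = d then z else 0 := by
  have h1H : 1 < H := by omega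
  obtain ⟨hcH, hvH⟩ := support_of_sq F (r H) (N := 3) (by norm_num) (by exact_mod_cast hsqH)
  have two : ∀ j, 1 ≤ j → j < H → ∀ p ∈ F, r j p ≠ 0 → ∃ q ∈ F, q ≠ p ∧ r j q ≠ 0 ∧
      (∀ i ∈ F, i ≠ p → i ≠ q → r j i = 0) ∧
      ∀ f : ι → ℤ, ∑ i ∈ F, r j i * f i = r j p * f p + r j q * f q := by
    intro j hj hjH p hp hrp
    obtain ⟨hc, -⟩ := support_of_sq F (r j) (N := 2) (by norm_num) (by exact_mod_cast hsq j hj hjH)
    set T := F.filter fun i => r j i ≠ 0
    have hpT : p ∈ T := Finset.mem_filter.mpr ⟨hp, hrp⟩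
    have h1 : (T.erase p).card = 1 := by rw [Finset.card_erase_of_mem hpT, hc]
    obtain ⟨q, hq⟩ := Finset.card_eq_one.mp h1
    have hqT : q ∈ T.erase p := by rw [hq]; exact Finset.mem_singleton_self q
    obtain ⟨hqp, hqT'⟩ := Finset.mem_erase.mp hqT
    obtain ⟨hqF, hrq⟩ := Finset.mem_filter.mp hqT'
    have hz : ∀ i ∈ F, i ≠ p → i ≠ q → r j i = 0 := fun i hi hip hiq => by
      by_contra hne
      have : i ∈ T.erase p := Finset.mem_erase.mpr ⟨hip, Finset.mem_filter.mpr ⟨hi, hne⟩⟩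
      rw [hq, Finset.mem_singleton] at this
      exact hiq this
    refine ⟨q, hqF, hqp, hrq, hz, fun f => ?_⟩
    rw [← Finset.sum_subset (s₁ := {p, q})
      (by simp [Finset.insert_subset_iff, hp, hqF]) (fun i hi hn => by
        simp only [Finset.mem_insert, Finset.mem_singleton, not_or] at hn
        rw [hz i hi hn.1 hn.2, zero_mul]), Finset.sum_pair (Ne.symm hqp)]
  have val : ∀ j, 1 ≤ j → j ≤ H → ∀ i ∈ F, r j i = 0 ∨ r j i = 1 ∨ r j i = -1 := by
    intro j hj hjH i hi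
    rcases lt_or_eq_of_le hjH with h | h
    · exact (support_of_sq F (r j) (N := 2) (by norm_num) (by exact_mod_cast hsq j hj h)).2 i hi
    · exact h ▸ hvH i hi
  -- the first vector
  obtain ⟨a, ha, hsa, hsH, q, hqF, hqa, hrq, hz1, hf1, hHq⟩ :
      ∃ a ∈ F, r 1 a ≠ 0 ∧ r H a = r 1 a ∧ ∃ q ∈ F, q ≠ a ∧ r 1 q ≠ 0 ∧
        (∀ i ∈ F, i ≠ a → i ≠ q → r 1 i = 0) ∧
        (∀ f : ι → ℤ, ∑ i ∈ F, r 1 i * f i = r 1 a * f a + r 1 q * f q) ∧ r H q = 0 := by
    obtain ⟨p, hp⟩ : ∃ p, p ∈ F.filter fun i => r 1 i ≠ 0 := Finset.card_pos.mp (by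
      rw [(support_of_sq F (r 1) (N := 2) (by norm_num) (by exact_mod_cast hsq 1 le_rfl h1H)).1]
      norm_num)
    obtain ⟨hpF, hrp⟩ := Finset.mem_filter.mp hp
    obtain ⟨q, hqF, hqp, hrq, hz, hf⟩ := two 1 le_rfl h1H p hpF hrp
    have hd := hdot 1 H le_rfl h1H.le h1H.le le_rfl (by omega)
    rw [hf] at hd
    rcases pair_dot (mul_mem_three (val 1 le_rfl h1H.le p hpF) (val H h1H.le le_rfl p hpF))
      (mul_mem_three (val 1 le_rfl h1H.le q hqF) (val H h1H.le le_rfl q hqF)) hd with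
      ⟨e1, e2⟩ | ⟨e1, e2⟩
    · exact ⟨p, hpF, hrp, (eq_of_mul_one (val 1 le_rfl h1H.le p hpF) (val H h1H.le le_rfl p hpF)
        e1).symm, q, hqF, hqp, hrq, hz, hf, (mul_eq_zero.mp e2).resolve_left hrq⟩
    · exact ⟨q, hqF, hrq, (eq_of_mul_one (val 1 le_rfl h1H.le q hqF) (val H h1H.le le_rfl q hqF)
        e2).symm, p, hpF, hqp.symm, hrp, fun i hi h1 h2 => hz i hi h2 h1,
        fun f => by rw [hf f, add_comm], (mul_eq_zero.mp e1).resolve_left hrp⟩
  have hs : r 1 a = 1 ∨ r 1 a = -1 := (val 1 le_rfl h1H.le a ha).resolve_left hsa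
  -- every vector has the entry at `a`
  have hall : ∀ j, 1 ≤ j → j < H → r j a = r 1 a := by
    intro j hj hjH
    by_contra hne
    have hj1 : j ≠ 1 := by rintro rfl; exact hne rfl
    have h4 : 4 ≤ H := by omega
    have shared : ∀ l, 1 ≤ l → l < H → l ≠ 1 →
        (r l a = r 1 a ∧ r l q = 0) ∨ (r l a = 0 ∧ r l q = r 1 q) := by
      intro l hl hlH hl1
      have hd := hdot 1 l le_rfl h1H.le hl hlH.le (Ne.symm hl1)
      rw [hf1] at hd
      rcases pair_dot (mul_mem_three (val 1 le_rfl h1H.le a ha) (val l hl hlH.le a ha))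
        (mul_mem_three (val 1 le_rfl h1H.le q hqF) (val l hl hlH.le q hqF)) hd with
        ⟨e1, e2⟩ | ⟨e1, e2⟩
      · exact Or.inl ⟨(eq_of_mul_one (val 1 le_rfl h1H.le a ha) (val l hl hlH.le a ha) e1).symm,
          (mul_eq_zero.mp e2).resolve_left hrq⟩
      · exact Or.inr ⟨(mul_eq_zero.mp e1).resolve_left hsa,
          (eq_of_mul_one (val 1 le_rfl h1H.le q hqF) (val l hl hlH.le q hqF) e2).symm⟩
    obtain ⟨hja, hjq⟩ := (shared j hj hjH hj1).resolve_left fun h => hne h.1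
    obtain ⟨e, heF, heq, hre, hzj, hfj⟩ := two j hj hjH q hqF (hjq ▸ hrq)
    have hea : e ≠ a := fun h => hre (h ▸ hja)
    have hHe : r H e = r j e := by
      have hd := hdot j H hj hjH.le h1H.le le_rfl (by omega)
      rw [hfj, hHq, mul_zero, zero_add] at hd
      exact (eq_of_mul_one (val j hj hjH.le e heF) (val H h1H.le le_rfl e heF) hd).symm
    obtain ⟨k, hk, hkH, hk1, hkj⟩ : ∃ k, 1 ≤ k ∧ k < H ∧ k ≠ 1 ∧ k ≠ j := by
      by_cases h2 : j = 2
      · exact ⟨3, by omega, by omega, by omega, by omega⟩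
      · exact ⟨2, by omega, by omega, by omega, fun h => h2 h.symm⟩
    have hxa := hx a ha
    have hxq := hx q hqF
    have d1 := hdeg 1 le_rfl h1H.le
    have dj := hdeg j hj hjH.le
    have dk := hdeg k hk hkH.le
    rw [hf1] at d1
    rw [hfj] at dj
    have hdjk := hdot j k hj hjH.le hk hkH.le (Ne.symm hkj)
    rw [hfj] at hdjk
    rcases shared k hk hkH hk1 with ⟨hka, hkq⟩ | ⟨hka, hkq⟩
    · obtain ⟨f, hfF, hfa, hrf, hzk, hfk⟩ := two k hk hkH a ha (hka ▸ hsa)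
      rw [hkq, mul_zero, zero_add] at hdjk
      have hke := (eq_of_mul_one (val j hj hjH.le e heF) (val k hk hkH.le e heF) hdjk).symm
      have hef : f = e := by
        by_contra hh
        exact hre (hke ▸ hzk e heF hea (Ne.symm hh))
      subst hef
      rw [hfk, hka, hke] at dk
      rw [hjq] at dj
      have h2 : 2 * (r 1 a * x a) = 1 := by linear_combination d1 + dk - dj
      omega
    · obtain ⟨f, hfF, hfq, hrf, hzk, hfk⟩ := two k hk hkH q hqF (hkq ▸ hrq)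
      rw [hjq, hkq] at hdjk
      have hqq : r 1 q * r 1 q = 1 := by
        rcases (val 1 le_rfl h1H.le q hqF).resolve_left hrq with h | h <;> simp [h]
      have hke : r k e = 0 := (mul_eq_zero.mp (by linear_combination hdjk - hqq)).resolve_left hre
      have hfe : f ≠ e := fun h => hrf (h ▸ hke)
      have hfa : f ≠ a := fun h => hrf (h ▸ hka)
      have hHf : r H f = r k f := by
        have hd := hdot k H hk hkH.le h1H.le le_rfl (by omega)
        rw [hfk, hHq, mul_zero, zero_add] at hd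
        exact (eq_of_mul_one (val k hk hkH.le f hfF) (val H h1H.le le_rfl f hfF) hd).symm
      have hsub : ({a, e, f} : Finset ι) ⊆ F.filter fun i => r H i ≠ 0 := by
        simp only [Finset.insert_subset_iff, Finset.singleton_subset_iff, Finset.mem_filter]
        exact ⟨⟨ha, hsH ▸ hsa⟩, ⟨heF, hHe ▸ hre⟩, hfF, hHf ▸ hrf⟩
      have hcard : ({a, e, f} : Finset ι).card = 3 :=
        Finset.card_eq_three.mpr ⟨a, e, f, Ne.symm hea, Ne.symm hfa, Ne.symm hfe, rfl⟩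
      have heq' := Finset.eq_of_subset_of_card_le hsub (by rw [hcH, hcard])
      have dH := hdeg H h1H.le le_rfl
      rw [← Finset.sum_filter_of_ne (p := fun i => r H i ≠ 0) (fun i _ h => fun h0 => h (by
        rw [h0, zero_mul])), ← heq', Finset.sum_insert (by simp [Ne.symm hea, Ne.symm hfa]),
        Finset.sum_pair (Ne.symm hfe), hsH, hHe, hHf] at dH
      rw [hjq] at dj
      rw [hfk, hkq] at dk
      have h3 : 3 * (r 1 q * x q) = 2 := by linear_combination d1 + dj + dk - dH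
      omega
  -- the other entries
  have hex : ∀ j, ∃ q : ι, 1 ≤ j → j < H → q ∈ F ∧ q ≠ a ∧ r j q = -r 1 a ∧ r H q = 0 ∧
      (∀ i ∈ F, i ≠ a → i ≠ q → r j i = 0) ∧
      ∀ f : ι → ℤ, ∑ i ∈ F, r j i * f i = r j a * f a + r j q * f q := by
    intro j
    by_cases hj : 1 ≤ j ∧ j < H
    · obtain ⟨w, hwF, hwa, hrw, hz, hf⟩ := two j hj.1 hj.2 a ha (hall j hj.1 hj.2 ▸ hsa)
      refine ⟨w, fun _ _ => ⟨hwF, hwa, ?_, ?_, hz, hf⟩⟩
      · have d := hdeg j hj.1 hj.2.le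
        rw [hf, hall j hj.1 hj.2] at d
        have h1 := hx a ha
        have h2 := hx w hwF
        rcases hs with h | h <;> rcases (val j hj.1 hj.2.le w hwF).resolve_left hrw with h' | h' <;>
          simp only [h, h'] at d ⊢ <;> omega
      · have d := hdot j H hj.1 hj.2.le h1H.le le_rfl (by omega)
        rw [hf, hall j hj.1 hj.2, hsH] at d
        have hss : r 1 a * r 1 a = 1 := by rcases hs with h | h <;> simp [h]
        exact (mul_eq_zero.mp (by linear_combination d - hss)).resolve_left hrw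
    · exact ⟨a, fun h1 h2 => absurd ⟨h1, h2⟩ hj⟩
  choose b hb using hex
  have hT : ((F.filter fun i => r H i ≠ 0).erase a).card = 2 := by
    rw [Finset.card_erase_of_mem (Finset.mem_filter.mpr ⟨ha, hsH ▸ hsa⟩), hcH]
  obtain ⟨c, d, hcd, hcd'⟩ := Finset.card_eq_two.mp hT
  have hmem : ∀ i, i ∈ ({c, d} : Finset ι) ↔ i ≠ a ∧ i ∈ F ∧ r H i ≠ 0 := fun i => by
    rw [← hcd', Finset.mem_erase, Finset.mem_filter]
  obtain ⟨hca, hcF, hrc⟩ := (hmem c).mp (by simp)
  obtain ⟨hda, hdF, hrd⟩ := (hmem d).mp (by simp)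
  refine ⟨a, c, d, b, r 1 a, r H c, r H d, ha, hcF, hdF, hca.symm, hda.symm, hcd, hs,
    (hvH c hcF).resolve_left hrc, (hvH d hdF).resolve_left hrd, ?_, ?_, ?_⟩
  · intro j hj hjH
    obtain ⟨h1, h2, h3, h4, h5, -⟩ := hb j hj hjH
    refine ⟨h1, h2, fun h => hrc (h ▸ h4), fun h => hrd (h ▸ h4), fun i hi => ?_⟩
    split_ifs with e1 e2
    · rw [e1, hall j hj hjH]
    · rw [e2, h3]
    · exact h5 i hi e1 e2
  · intro j k hj hjH hk hkH he
    by_contra hne
    obtain ⟨-, -, h3, -, -, hf⟩ := hb j hj hjH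
    obtain ⟨-, -, h3', -, -, -⟩ := hb k hk hkH
    have d := hdot j k hj hjH.le hk hkH.le hne
    rw [hf, hall j hj hjH, hall k hk hkH, h3, he, h3'] at d
    rcases hs with h | h <;> rw [h] at d <;> norm_num at d
  · intro i hi
    split_ifs with e1 e2 e3
    · rw [e1, hsH]
    · rw [e2]
    · rw [e3]
    · by_contra hne
      have := (hmem i).mpr ⟨e1, hi, hne⟩
      simp only [Finset.mem_insert, Finset.mem_singleton] at this
      exact this.elim e2 e3

end Cfsg.Agent.Blocks.DihStar
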