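import Cfsg.Agent.Lib.Blocks.DihedralSetup
import Cfsg.Agent.Lib.Blocks.DihedralStar

/-!
# The principal 2-block of a group with dihedral Sylow 2-subgroups
-/

set_option autoImplicit false
set_option linter.style.haveILetI false
set_option linter.unusedSectionVars false

namespace Cfsg.Agent.Blocks.DihSyl

open scoped ComplexConjugate

universe u

variable {G : Type u} [Group G] [Finite G] {P : Sylow 2 G} (S : DihSyl P) {ζ : ℂ}
  {M : Ideal AlgInt}

theorem sigma_pow_mod (k : ℕ) : S.σ ^ k = S.σ ^ (k % S.m) := by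
  rw [← pow_mod_orderOf, S.hσo]

theorem sigma_pow_inj {k l : ℕ} (hk : k < S.m) (hl : l < S.m) (h : S.σ ^ k = S.σ ^ l) : k = l :=
  pow_injOn_Iio_orderOf (by rw [Set.mem_Iio, S.hσo]; exact hk)
    (by rw [Set.mem_Iio, S.hσo]; exact hl) h

theorem sigma_pow_ne_one {l : ℕ} (hl : 0 < l) (hlm : l < S.m) : S.σ ^ l ≠ 1 := fun h =>
  hl.ne' (S.sigma_pow_inj hlm (by positivity) (h.trans (pow_zero _).symm))

theorem sigma_two_pow (l : ℕ) : ∃ k : ℕ, (S.σ ^ l) ^ 2 ^ k = 1 :=
  ⟨S.n - 1, by rw [← pow_mul, mul_comm, pow_mul, ← S.hσo, pow_orderOf_eq_one, one_pow]⟩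

theorem two_dvd_orderOf {l : ℕ} (hl : 0 < l) (hlm : l < S.m) : 2 ∣ orderOf (S.σ ^ l) := by
  obtain ⟨k, hk⟩ := S.sigma_two_pow l
  obtain ⟨i, -, hi⟩ := (Nat.dvd_prime_pow Nat.prime_two).mp (orderOf_dvd_of_pow_eq_one hk)
  rcases Nat.eq_zero_or_pos i with rfl | hi0
  · exact absurd (orderOf_eq_one_iff.mp (hi.trans (pow_zero _))) (S.sigma_pow_ne_one hl hlm)
  · rw [hi]; exact dvd_pow_self 2 hi0.ne'

theorem conj_rot (l : ℕ) (hl : l ≤ S.m) : IsConj (S.σ ^ (S.m - l)) (S.σ ^ l) := by
  obtain ⟨τ, -, -, hτ⟩ := S.exists_inverting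
  refine isConj_iff.mpr ⟨τ, ?_⟩
  rw [← conj_pow, hτ, inv_pow]
  refine inv_eq_of_mul_eq_one_right ?_
  rw [← pow_add, Nat.sub_add_cancel hl, m, ← S.hσo, pow_orderOf_eq_one]

theorem value_symm (χ : IrrCharacter G) (l : ℕ) (hl : l ≤ S.m) :
    (χ : G → ℂ) (S.σ ^ (S.m - l)) = (χ : G → ℂ) (S.σ ^ l) :=
  CT.isClassFunction_isConj (CT.isClassFunction_of_isIrr χ.2) (S.conj_rot l hl)

theorem value_real (χ : IrrCharacter G) (l : ℕ) :
    conj ((χ : G → ℂ) (S.σ ^ l)) = (χ : G → ℂ) (S.σ ^ l) := by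
  rw [← CT.char_inv_eq_conj (CT.isCharacter_of_isIrr χ.2)]
  obtain ⟨τ, -, -, hτ⟩ := S.exists_inverting
  refine (CT.isClassFunction_isConj (CT.isClassFunction_of_isIrr χ.2)
    (isConj_iff.mpr ⟨τ, ?_⟩)).symm
  rw [← conj_pow, hτ, inv_pow]

theorem geom (hζ : IsPrimitiveRoot ζ S.m) (t : ℕ) :
    ∑ l ∈ Finset.range S.m, ζ ^ (t * l) = if S.m ∣ t then (S.m : ℂ) else 0 := by
  simp only [pow_mul]
  split_ifs with h
  · simp [hζ.pow_eq_one_iff_dvd _ |>.mpr h]
  · rw [geom_sum_eq (fun e => h ((hζ.pow_eq_one_iff_dvd _).mp e)),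
      ← pow_mul, mul_comm, pow_mul, hζ.pow_eq_one, one_pow, sub_self, zero_div]

theorem exists_coef (hζ : IsPrimitiveRoot ζ S.m) (χ : IrrCharacter G) (j : ℕ) :
    ∃ z : ℤ, (z : ℂ) * S.m =
      ∑ l ∈ Finset.range S.m, (χ : G → ℂ) (S.σ ^ l) * (ζ ^ (j * l) - 1) := by
  classical
  obtain ⟨χ, n, ρ, -, rfl⟩ := χ
  obtain ⟨ω, hω, he⟩ := CT.exists_eigenvalues ρ S.σ
  have hm : ∀ i (μ : ℂ), μ ^ S.m = 1 → ∑ l ∈ Finset.range S.m, (ω i * μ) ^ l =
      if ω i * μ = 1 then (S.m : ℂ) else 0 := by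
    intro i μ hμ
    split_ifs with h
    · simp [h]
    · rw [geom_sum_eq h, mul_pow, hμ, mul_one]
      have := hω i
      rw [S.hσo] at this
      rw [m, this, sub_self, zero_div]
  have hsum : ∀ μ : ℂ, μ ^ S.m = 1 → ∑ l ∈ Finset.range S.m, ρ.character (S.σ ^ l) * μ ^ l =
      ((Finset.univ.filter fun i => ω i * μ = 1).card : ℂ) * S.m := by
    intro μ hμ
    simp only [he, Finset.sum_mul, ← mul_pow]
    rw [Finset.sum_comm, Finset.sum_congr rfl fun i _ => hm i μ hμ, ← Finset.sum_filter,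
      Finset.sum_const, nsmul_eq_mul]
  refine ⟨((Finset.univ.filter fun i => ω i * ζ ^ j = 1).card : ℤ) -
    (Finset.univ.filter fun i => ω i * 1 = 1).card, ?_⟩
  simp only [mul_sub, mul_one, Finset.sum_sub_distrib, pow_mul]
  rw [hsum _ (by rw [← pow_mul, mul_comm, pow_mul, hζ.pow_eq_one, one_pow])]
  have h1 := hsum 1 (one_pow _)
  simp only [one_pow, mul_one] at h1
  rw [h1]
  push_cast
  ring

variable (hζ : IsPrimitiveRoot ζ S.m)

/-- The difference of two multiplicities of linear characters of the rotations. -/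
noncomputable def u (χ : IrrCharacter G) (j : ℕ) : ℤ := (S.exists_coef hζ χ j).choose

theorem u_spec (χ : IrrCharacter G) (j : ℕ) : (S.u hζ χ j : ℂ) * S.m =
    ∑ l ∈ Finset.range S.m, (χ : G → ℂ) (S.σ ^ l) * (ζ ^ (j * l) - 1) :=
  (S.exists_coef hζ χ j).choose_spec

theorem m_ne_zero : (S.m : ℂ) ≠ 0 := by
  have := S.four_le_m
  exact_mod_cast (show S.m ≠ 0 by omega)

theorem u_zero (χ : IrrCharacter G) : S.u hζ χ 0 = 0 := by
  have h := S.u_spec hζ χ 0
  simp only [zero_mul, pow_zero, sub_self, mul_zero, Finset.sum_const_zero, mul_eq_zero] at h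
  exact_mod_cast h.resolve_right S.m_ne_zero

include hζ in
theorem pow_mul_sub (k : ℕ) {l : ℕ} (hl : l ≤ S.m) :
    ζ ^ (k * (S.m - l)) * ζ ^ (k * l) = 1 := by
  rw [← pow_add, ← mul_add, Nat.sub_add_cancel hl, mul_comm, pow_mul, hζ.pow_eq_one, one_pow]

theorem u_symm (χ : IrrCharacter G) {j : ℕ} (hj : j ≤ S.m) :
    S.u hζ χ (S.m - j) = S.u hζ χ j := by
  have h1 := congrArg conj (S.u_spec hζ χ j)
  rw [map_mul, map_intCast, map_natCast, map_sum] at h1
  have h2 := S.u_spec hζ χ (S.m - j)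
  have : (S.u hζ χ (S.m - j) : ℂ) * S.m = (S.u hζ χ j : ℂ) * S.m := by
    rw [h1, h2]
    refine Finset.sum_congr rfl fun l _ => ?_
    rw [map_mul, S.value_real, map_sub, map_one]
    congr 2
    have e : ζ ^ ((S.m - j) * l) * ζ ^ (j * l) = 1 := by
      rw [← pow_add, ← add_mul, Nat.sub_add_cancel hj, pow_mul, hζ.pow_eq_one, one_pow]
    rw [eq_inv_of_mul_eq_one_left e, CT.conj_of_pow_eq_one
      (show S.m ≠ 0 by have := S.four_le_m; omega)
      (show (ζ ^ (j * l)) ^ S.m = 1 by rw [← pow_mul, mul_comm, pow_mul, hζ.pow_eq_one, one_pow])]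
    refine (eq_inv_of_mul_eq_one_left ?_).symm
    rw [← pow_succ, Nat.sub_add_cancel (by have := S.four_le_m; omega), ← pow_mul, mul_comm,
      pow_mul, hζ.pow_eq_one, one_pow]
  exact_mod_cast mul_right_cancel₀ S.m_ne_zero this

/-- The values at the rotations are recovered from the differences. -/
theorem recover (χ : IrrCharacter G) {l : ℕ} (hl : 0 < l) (hlm : l < S.m) :
    (χ : G → ℂ) (S.σ ^ l) = (∑ j ∈ Finset.Ico 1 S.h,
      (S.u hζ χ j : ℂ) * (ζ ^ (j * l) + (ζ ^ (j * l))⁻¹)) +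
      (S.u hζ χ S.h : ℂ) * (-1) ^ l := by
  classical
  have hh := S.two_h
  have h2h := S.two_le_h
  have key : ∑ j ∈ Finset.range S.m, (S.u hζ χ j : ℂ) * ζ ^ (j * l) = (χ : G → ℂ) (S.σ ^ l) := by
    refine mul_right_cancel₀ S.m_ne_zero ?_
    rw [Finset.sum_mul]
    have e : ∀ j, (S.u hζ χ j : ℂ) * ζ ^ (j * l) * S.m =
        ∑ k ∈ Finset.range S.m, (χ : G → ℂ) (S.σ ^ k) * (ζ ^ ((k + l) * j) - ζ ^ (l * j)) := by
      intro j
      rw [mul_right_comm, S.u_spec hζ χ j, Finset.sum_mul]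
      refine Finset.sum_congr rfl fun k _ => ?_
      rw [mul_assoc, sub_mul, one_mul, ← pow_add, ← mul_add, mul_comm j, mul_comm j l]
    rw [Finset.sum_congr rfl fun j _ => e j, Finset.sum_comm]
    simp only [← Finset.mul_sum, Finset.sum_sub_distrib, S.geom hζ]
    rw [if_neg (Nat.not_dvd_of_pos_of_lt hl hlm), Finset.sum_eq_single (S.m - l)]
    · rw [Nat.sub_add_cancel hlm.le, if_pos dvd_rfl, sub_zero, S.value_symm χ l hlm.le]
    · intro k hk hne
      rw [Finset.mem_range] at hk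
      rw [if_neg, sub_zero, mul_zero]
      rintro ⟨c, hc⟩
      have : c = 1 := by
        rcases c with _ | _ | c
        · omega
        · rfl
        · have : S.m * 2 ≤ S.m * (c + 1 + 1) := Nat.mul_le_mul_left _ (by omega)
          omega
      subst this
      omega
    · intro h
      exact absurd (Finset.mem_range.mpr (by omega)) h
  rw [← key, Finset.range_eq_Ico, ← Finset.sum_Ico_consecutive _ (Nat.zero_le 1) (by omega : 1 ≤ S.m),
    ← Finset.sum_Ico_consecutive _ (by omega : 1 ≤ S.h) (by omega : S.h ≤ S.m),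
    ← Finset.sum_Ico_consecutive _ (by omega : S.h ≤ S.h + 1) (by omega : S.h + 1 ≤ S.m)]
  simp only [Nat.Ico_succ_singleton, Nat.Ico_zero_eq_range, Finset.range_one, Finset.sum_singleton,
    S.u_zero hζ, Int.cast_zero, zero_mul, zero_add]
  have hneg : ζ ^ (S.h * l) = (-1) ^ l := by
    rw [pow_mul]
    congr 1
    have h1 : ζ ^ S.h * ζ ^ S.h = 1 := by
      rw [← pow_add, ← two_mul, ← hh, hζ.pow_eq_one]
    rcases mul_self_eq_one_iff.mp h1 with h | h
    · exact absurd (Nat.le_of_dvd (by omega) ((hζ.pow_eq_one_iff_dvd _).mp h)) (by omega)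
    · exact h
  rw [hneg]
  simp only [mul_add, Finset.sum_add_distrib]
  rw [add_comm ((S.u hζ χ S.h : ℂ) * (-1) ^ l) (∑ _ ∈ _, _), ← add_assoc]
  congr 2
  refine Finset.sum_nbij' (fun j => S.m - j) (fun j => S.m - j) ?_ ?_ ?_ ?_ ?_
  · intro j hj; simp only [Finset.mem_coe, Finset.mem_Ico] at hj ⊢; omega
  · intro j hj; simp only [Finset.mem_coe, Finset.mem_Ico] at hj ⊢; omega
  · intro j hj; simp only [Finset.mem_coe, Finset.mem_Ico] at hj; omega
  · intro j hj; simp only [Finset.mem_coe, Finset.mem_Ico] at hj; omega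
  · intro j hj
    simp only [Finset.mem_Ico] at hj
    rw [← S.u_symm hζ χ (show j ≤ S.m by omega)]
    congr 1
    refine eq_inv_of_mul_eq_one_left ?_
    rw [← pow_add, ← add_mul, show j + (S.m - j) = S.m by omega, pow_mul, hζ.pow_eq_one, one_pow]

variable (hM : IsPModular 2 M)

include hM in
theorem block_inner [Fintype (principalBlock M G)] {l l' : ℕ} (hl : 0 < l) (hlm : l < S.m)
    (hl' : 0 < l') (hlm' : l' < S.m) :
    ∑ χ ∈ (principalBlock M G).toFinset,
      (χ : G → ℂ) (S.σ ^ l) * (χ : G → ℂ) (S.σ ^ l') =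
        (S.m : ℂ) * ((if l' = l then 1 else 0) + if l' = S.m - l then 1 else 0) := by
  classical
  haveI := hM.2.1.isPrime
  haveI : Fact (Nat.Prime 2) := ⟨Nat.prime_two⟩
  have hh := S.two_h
  have hz1 := S.sigma_pow_ne_one hl hlm
  have diag : ∑ χ ∈ (principalBlock M G).toFinset,
      (χ : G → ℂ) (S.σ ^ l) * (χ : G → ℂ) (S.σ ^ l) =
        ((2 ^ (Nat.card (Subgroup.centralizer ({S.σ ^ l} : Set G))).factorization 2 : ℕ) : ℂ) := by
    have h1 := section_sums hM (S.sigma_two_pow l)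
      (y := (1 : Subgroup.centralizer ({S.σ ^ l} : Set G))) (by rw [orderOf_one]; norm_num)
    rw [sum_sq_of_normal_complement hM (S.complement_rot hz1) (by rw [orderOf_one]; norm_num),
      finsum_mem_eq_toFinset_sum] at h1
    have h2 := congrArg (fun r : ℝ => (r : ℂ)) h1
    simp only [Complex.ofReal_sum, Complex.ofReal_natCast, OneMemClass.coe_one, mul_one] at h2
    rw [← h2]
    refine Finset.sum_congr rfl fun χ _ => ?_
    rw [← Complex.normSq_eq_norm_sq, ← Complex.mul_conj, S.value_real]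
  by_cases hll : l' = l ∨ l' = S.m - l
  · have e : ∀ χ : IrrCharacter G, (χ : G → ℂ) (S.σ ^ l') = (χ : G → ℂ) (S.σ ^ l) := by
      rcases hll with rfl | rfl
      · exact fun χ => rfl
      · exact fun χ => S.value_symm χ l hlm.le
    simp only [e, diag]
    by_cases hlJ : S.σ ^ l = S.J
    · have hlh : l = S.h := S.sigma_pow_inj hlm (by omega) hlJ
      rw [hlJ, S.centralizer_two_J, S.two_m,
        if_pos (by omega), if_pos (by omega)]
      push_cast
      ring
    · have hlh : l ≠ S.h := fun h => hlJ (by rw [h])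
      rw [S.centralizer_two_rot hz1 hlJ]
      rcases hll with rfl | rfl
      · rw [if_pos rfl, if_neg (by omega)]; ring
      · rw [if_pos rfl, if_neg (by omega)]; ring
  · push Not at hll
    rw [if_neg hll.1, if_neg hll.2, add_zero, mul_zero]
    have hA := blockCoeff_mem_loc (isPBlock_principalBlock (M := M) (G := G))
    have h0 := block_orthogonality hM hA (isPPart_self (p := 2) (S.sigma_two_pow l))
      (isPPart_self (p := 2) (S.sigma_two_pow l')) ?_
    · rw [finsum_mem_eq_toFinset_sum] at h0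
      simpa only [S.value_real] using h0
    intro hc
    have inv_case : ∀ {a b : ℕ}, a < S.m → b < S.m → 0 < a → S.σ ^ b = (S.σ ^ a)⁻¹ →
        b = S.m - a := by
      intro a b ha hb ha0 h
      refine S.sigma_pow_inj hb (by omega) (h.trans (inv_eq_of_mul_eq_one_right ?_))
      rw [← pow_add, show a + (S.m - a) = S.m by omega, m, ← S.hσo, pow_orderOf_eq_one]
    by_cases hlJ : S.σ ^ l = S.J
    · by_cases hlJ' : S.σ ^ l' = S.J
      · exact hll.1 (S.sigma_pow_inj hlm' hlm (hlJ'.trans hlJ.symm))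
      · rcases S.rot_conj (S.sigma_pow_ne_one hl' hlm') hlJ' hc.symm with h | h
        · exact hll.1 (S.sigma_pow_inj hlm' hlm h.symm)
        · have := inv_case hlm' hlm hl' h
          omega
    · rcases S.rot_conj hz1 hlJ hc with h | h
      · exact hll.1 (S.sigma_pow_inj hlm' hlm h)
      · exact hll.2 (inv_case hlm hlm' hl h)

include hM in
theorem gram [Fintype (principalBlock M G)] {j k : ℕ} (hj : 1 ≤ j) (hjh : j ≤ S.h) (hk : 1 ≤ k)
    (hkh : k ≤ S.h) :
    ∑ χ ∈ (principalBlock M G).toFinset, S.u hζ χ j * S.u hζ χ k =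
      if j = k then (if j = S.h then 4 else 3) else 2 := by
  classical
  have hh := S.two_h
  have h2h := S.two_le_h
  set T := (principalBlock M G).toFinset
  set a : ℕ → ℕ → ℂ := fun i l => ζ ^ (i * l) - 1 with ha
  have ha0 : ∀ i, a i 0 = 0 := fun i => by simp [ha]
  have key : (S.m : ℂ) * S.m * ((∑ χ ∈ T, S.u hζ χ j * S.u hζ χ k : ℤ) : ℂ) =
      S.m * ∑ l ∈ Finset.range S.m, a j l * (a k l + a k (S.m - l)) := by
    simp only [Int.cast_sum, Int.cast_mul]
    rw [Finset.mul_sum]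
    calc ∑ χ ∈ T, (S.m : ℂ) * S.m * ((S.u hζ χ j : ℂ) * (S.u hζ χ k : ℂ))
        = ∑ χ ∈ T, ∑ l ∈ Finset.range S.m, ∑ l' ∈ Finset.range S.m,
            a j l * a k l' * ((χ : G → ℂ) (S.σ ^ l) * (χ : G → ℂ) (S.σ ^ l')) := by
          refine Finset.sum_congr rfl fun χ _ => ?_
          rw [show (S.m : ℂ) * S.m * ((S.u hζ χ j : ℂ) * (S.u hζ χ k : ℂ)) =
            ((S.u hζ χ j : ℂ) * S.m) * ((S.u hζ χ k : ℂ) * S.m) by ring,
            S.u_spec hζ χ j, S.u_spec hζ χ k, Finset.sum_mul_sum]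
          exact Finset.sum_congr rfl fun l _ => Finset.sum_congr rfl fun l' _ => by
            simp only [ha]; ring
      _ = ∑ l ∈ Finset.range S.m, ∑ l' ∈ Finset.range S.m,
            a j l * a k l' * ∑ χ ∈ T, (χ : G → ℂ) (S.σ ^ l) * (χ : G → ℂ) (S.σ ^ l') := by
          rw [Finset.sum_comm]
          refine Finset.sum_congr rfl fun l _ => ?_
          rw [Finset.sum_comm]
          simp only [Finset.mul_sum]
      _ = _ := by
          rw [Finset.mul_sum]
          refine Finset.sum_congr rfl fun l hl => ?_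
          rw [Finset.mem_range] at hl
          rcases Nat.eq_zero_or_pos l with rfl | hl0
          · simp [ha0]
          calc ∑ l' ∈ Finset.range S.m, a j l * a k l' *
                ∑ χ ∈ T, (χ : G → ℂ) (S.σ ^ l) * (χ : G → ℂ) (S.σ ^ l')
              = ∑ l' ∈ Finset.range S.m, a j l * a k l' * ((S.m : ℂ) *
                  ((if l' = l then 1 else 0) + if l' = S.m - l then 1 else 0)) := by
                refine Finset.sum_congr rfl fun l' hl' => ?_
                rw [Finset.mem_range] at hl'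
                rcases Nat.eq_zero_or_pos l' with rfl | hl0'
                · simp [ha0]
                · rw [S.block_inner hM hl0 hl hl0' hl']
            _ = _ := by
                simp only [mul_add, Finset.sum_add_distrib, mul_ite, mul_one, mul_zero,
                  Finset.sum_ite_eq', Finset.mem_range]
                rw [if_pos hl, if_pos (by omega)]
                ring
  have hsum : ∑ l ∈ Finset.range S.m, a j l * (a k l + a k (S.m - l)) =
      ∑ l ∈ Finset.range S.m, (ζ ^ ((j + k) * l) + ζ ^ ((j + (S.m - 1) * k) * l) -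
        2 * ζ ^ (j * l) - ζ ^ (k * l) - ζ ^ ((S.m - 1) * k * l) + 2) := by
    refine Finset.sum_congr rfl fun l hl => ?_
    have e : ζ ^ (k * (S.m - l)) = ζ ^ ((S.m - 1) * k * l) := by
      refine mul_right_cancel₀ (pow_ne_zero (k * l) (hζ.ne_zero (by omega))) ?_
      rw [S.pow_mul_sub hζ k (Finset.mem_range.mp hl).le, ← pow_add, mul_assoc, ← add_one_mul,
        Nat.sub_add_cancel (by omega), pow_mul, hζ.pow_eq_one, one_pow]
    simp only [ha, add_mul, pow_add]
    rw [e]
    ring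
  rw [hsum] at key
  simp only [Finset.sum_add_distrib, Finset.sum_sub_distrib, ← Finset.mul_sum, S.geom hζ,
    Finset.sum_const, Finset.card_range, nsmul_eq_mul] at key
  have n1 : ¬ S.m ∣ j := Nat.not_dvd_of_pos_of_lt (by omega) (by omega)
  have n2 : ¬ S.m ∣ k := Nat.not_dvd_of_pos_of_lt (by omega) (by omega)
  have n3 : ¬ S.m ∣ (S.m - 1) * k := fun h => n2
    (((Nat.coprime_comm.mp (Nat.coprime_self_sub_right (show 1 ≤ S.m by omega) |>.mpr
      (Nat.coprime_one_right _))).symm).dvd_of_dvd_mul_left h)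
  have d1 : S.m ∣ j + k ↔ j = S.h ∧ k = S.h := by
    constructor
    · intro h; have := Nat.le_of_dvd (by omega) h; omega
    · rintro ⟨rfl, rfl⟩; exact ⟨1, by omega⟩
  have d2 : S.m ∣ j + (S.m - 1) * k ↔ j = k := by
    constructor
    · intro h
      rcases Nat.lt_trichotomy j k with h3 | h3 | h3
      · exfalso
        have h4 : S.m ∣ (j + (S.m - 1) * k) + (k - j) := by
          rw [show (j + (S.m - 1) * k) + (k - j) = (S.m - 1 + 1) * k by
            rw [add_one_mul]; omega, Nat.sub_add_cancel (by omega)]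
          exact dvd_mul_right _ _
        have := Nat.le_of_dvd (by omega) ((Nat.dvd_add_right h).mp h4)
        omega
      · exact h3
      · exfalso
        have h4 : S.m ∣ j - k := by
          have e : j + (S.m - 1) * k = (j - k) + (S.m - 1 + 1) * k := by
            rw [add_one_mul]; omega
          rw [e, Nat.sub_add_cancel (by omega)] at h
          exact (Nat.dvd_add_left (dvd_mul_right _ _)).mp h
        have := Nat.le_of_dvd (by omega) h4
        omega
    · rintro rfl
      rw [← one_add_mul, show 1 + (S.m - 1) = S.m by omega]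
      exact dvd_mul_right _ _
  rw [if_neg n1, if_neg n2, if_neg n3] at key
  simp only [d1, d2] at key
  have hm0 := S.m_ne_zero
  refine (Int.cast_inj (α := ℂ)).mp (mul_left_cancel₀ (mul_ne_zero hm0 hm0) (key.trans ?_))
  split_ifs <;> first | omega | (push_cast; ring)

end Cfsg.Agent.Blocks.DihSyl
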