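import Cfsg.Agent.Lib.Blocks.DihedralMain

/-!
# The number of characters in the principal block
-/

set_option autoImplicit false

namespace Cfsg.Agent.Blocks.DihSyl

universe u

variable {G : Type u} [Group G] [Finite G] {P : Sylow 2 G} {S : DihSyl P} {ζ : ℂ} {M : Ideal AlgInt}

theorem card_block (D : BlockData S M ζ) : Nat.card (principalBlock M G) = 3 + S.h := by
  classical
  haveI := Fintype.ofFinite G
  set t := CT.trivIrr G with ht
  set L := (Finset.Ico 1 S.h).image D.χ'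
  have hset : principalBlock M G = (↑(insert t (insert D.χ₁ (insert D.χ₂ (insert D.χ₃ L)))) :
      Set (IrrCharacter G)) := by
    ext χ
    simp only [D.block χ, Finset.coe_insert, Set.mem_insert_iff, Finset.mem_coe, L,
      Finset.mem_image, Finset.mem_Ico]
    constructor
    · rintro (h | h | h | h | ⟨j, hj, hjh, rfl⟩)
      · exact Or.inl (Subtype.ext h)
      · exact Or.inr (Or.inl h)
      · exact Or.inr (Or.inr (Or.inl h))
      · exact Or.inr (Or.inr (Or.inr (Or.inl h)))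
      · exact Or.inr (Or.inr (Or.inr (Or.inr ⟨j, ⟨hj, hjh⟩, rfl⟩)))
    · rintro (rfl | h | h | h | ⟨j, ⟨hj, hjh⟩, rfl⟩)
      · exact Or.inl rfl
      · exact Or.inr (Or.inl h)
      · exact Or.inr (Or.inr (Or.inl h))
      · exact Or.inr (Or.inr (Or.inr (Or.inl h)))
      · exact Or.inr (Or.inr (Or.inr (Or.inr ⟨j, hj, hjh, rfl⟩)))
  have hne : ∀ χ : IrrCharacter G, ((χ : G → ℂ) ≠ fun _ => 1) → t ≠ χ := fun χ h e =>
    h (e ▸ rfl)
  have hL : ∀ χ : IrrCharacter G, (∀ j, 1 ≤ j → j < S.h → D.χ' j ≠ χ) → χ ∉ L := by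
    intro χ h hm
    obtain ⟨j, hj, rfl⟩ := Finset.mem_image.mp hm
    exact h j (Finset.mem_Ico.mp hj).1 (Finset.mem_Ico.mp hj).2 rfl
  rw [hset, Nat.card_coe_set_eq, Set.ncard_coe_finset, Finset.card_insert_of_notMem, Finset.card_insert_of_notMem,
    Finset.card_insert_of_notMem, Finset.card_insert_of_notMem, Finset.card_image_of_injOn,
    Nat.card_Ico]
  · have := S.two_le_h
    omega
  · intro j hj k hk h
    simp only [Finset.mem_coe, Finset.mem_Ico] at hj hk
    exact D.inj j k hj.1 hj.2 hk.1 hk.2 h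
  · exact hL _ fun j h1 h2 => (D.ne' j h1 h2).2.2.1
  · simp only [Finset.mem_insert, not_or]
    exact ⟨D.h23, hL _ fun j h1 h2 => (D.ne' j h1 h2).2.1⟩
  · simp only [Finset.mem_insert, not_or]
    exact ⟨D.h12, D.h13, hL _ fun j h1 h2 => (D.ne' j h1 h2).1⟩
  · simp only [Finset.mem_insert, not_or]
    exact ⟨hne _ D.h1, hne _ D.h2, hne _ D.h3, hL _ fun j h1 h2 e =>
      (D.ne' j h1 h2).2.2.2 (e ▸ rfl)⟩

end Cfsg.Agent.Blocks.DihSyl
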