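import Cfsg.Agent.Lib.Blocks.DihedralBlock

/-!
# The structure of the principal 2-block for dihedral Sylow 2-subgroups
-/

set_option autoImplicit false
set_option linter.style.haveILetI false
set_option linter.unusedSectionVars false

namespace Cfsg.Agent.Blocks.DihSyl

open scoped ComplexConjugate

universe u

variable {G : Type u} [Group G] [Finite G] {P : Sylow 2 G} (S : DihSyl P) {ζ : ℂ}
  {M : Ideal AlgInt}

/-- An involution has an integral value congruent to the degree modulo two. -/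
theorem invol_value (χ : IrrCharacter G) {t : G} (ht : t * t = 1) :
    ∃ s : ℤ, (χ : G → ℂ) t = s ∧ (2 : ℤ) ∣ (CT.deg (χ : G → ℂ) : ℤ) - s := by
  classical
  obtain ⟨χ, n, ρ, -, rfl⟩ := χ
  obtain ⟨ω, hω, he⟩ := CT.exists_eigenvalues_one ρ t
  have h2 : ∀ i, ω i = 1 ∨ ω i = -1 := fun i => by
    have hd : orderOf t ∣ 2 := orderOf_dvd_of_pow_eq_one (by rw [sq, ht])
    obtain ⟨c, hc⟩ := hd
    have : ω i ^ 2 = 1 := by rw [hc, pow_mul, hω i, one_pow]
    exact sq_eq_one_iff.mp this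
  let v : Fin (Module.finrank ℂ (Fin n → ℂ)) → ℤ := fun i => if ω i = 1 then 1 else -1
  refine ⟨∑ i, v i, ?_, ?_⟩
  · show ρ.character t = _
    rw [he, Int.cast_sum]
    refine Finset.sum_congr rfl fun i _ => ?_
    simp only [v]
    rcases h2 i with h | h <;> rw [h] <;> norm_num
  · show (2 : ℤ) ∣ (CT.deg ρ.character : ℤ) - _
    rw [CT.deg_eq_finrank, show ((Module.finrank ℂ (Fin n → ℂ) : ℕ) : ℤ) =
      ∑ i : Fin (Module.finrank ℂ (Fin n → ℂ)), (1 : ℤ) by simp, ← Finset.sum_sub_distrib]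
    refine Finset.dvd_sum fun i _ => ?_
    simp only [v]
    split_ifs <;> norm_num

/-- The conclusion on the principal 2-block. -/
structure BlockData (S : DihSyl P) (M : Ideal AlgInt) (ζ : ℂ) where
  χ₁ : IrrCharacter G
  χ₂ : IrrCharacter G
  χ₃ : IrrCharacter G
  χ' : ℕ → IrrCharacter G
  δ₁ : ℤ
  δ₂ : ℤ
  δ₃ : ℤ
  hδ₁ : δ₁ = 1 ∨ δ₁ = -1
  hδ₂ : δ₂ = 1 ∨ δ₂ = -1
  hδ₃ : δ₃ = 1 ∨ δ₃ = -1
  h1 : (χ₁ : G → ℂ) ≠ fun _ => 1
  h2 : (χ₂ : G → ℂ) ≠ fun _ => 1
  h3 : (χ₃ : G → ℂ) ≠ fun _ => 1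
  h12 : χ₁ ≠ χ₂
  h13 : χ₁ ≠ χ₃
  h23 : χ₂ ≠ χ₃
  inj : ∀ j k, 1 ≤ j → j < S.h → 1 ≤ k → k < S.h → χ' j = χ' k → j = k
  ne' : ∀ j, 1 ≤ j → j < S.h →
    χ' j ≠ χ₁ ∧ χ' j ≠ χ₂ ∧ χ' j ≠ χ₃ ∧ (χ' j : G → ℂ) ≠ fun _ => 1
  block : ∀ χ : IrrCharacter G, χ ∈ principalBlock M G ↔ ((χ : G → ℂ) = fun _ => 1) ∨ χ = χ₁ ∨
    χ = χ₂ ∨ χ = χ₃ ∨ ∃ j, 1 ≤ j ∧ j < S.h ∧ χ = χ' j
  val : ∀ l : ℕ, 0 < l → l < S.m → (χ₁ : G → ℂ) (S.σ ^ l) = δ₁ ∧
    (χ₂ : G → ℂ) (S.σ ^ l) = δ₂ * (-1) ^ (l + 1) ∧ (χ₃ : G → ℂ) (S.σ ^ l) = δ₃ * (-1) ^ (l + 1) ∧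
    ∀ j, 1 ≤ j → j < S.h →
      (χ' j : G → ℂ) (S.σ ^ l) = δ₁ * (ζ ^ (j * l) + (ζ ^ (j * l))⁻¹)
  reg : ∀ ρ : G, ¬ 2 ∣ orderOf ρ → ∀ j, 1 ≤ j → j < S.h →
    1 + δ₁ * (χ₁ : G → ℂ) ρ = -δ₂ * (χ₂ : G → ℂ) ρ - δ₃ * (χ₃ : G → ℂ) ρ ∧
    1 + δ₁ * (χ₁ : G → ℂ) ρ = δ₁ * (χ' j : G → ℂ) ρ

theorem exists_blockData (hζ : IsPrimitiveRoot ζ S.m) (hM : IsPModular 2 M) :
    Nonempty (BlockData S M ζ) := by
  classical
  haveI := hM.2.1.isPrime
  haveI : Fact (Nat.Prime 2) := ⟨Nat.prime_two⟩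
  haveI := Fintype.ofFinite G
  have hh := S.two_h
  have h2h := S.two_le_h
  set B := principalBlock M G with hBdef
  have hBp : IsPBlock M B := isPBlock_principalBlock
  have hA := blockCoeff_mem_loc hBp
  set t := CT.trivIrr G with ht
  set F := B.toFinset.erase t with hFdef
  have htB : t ∈ B.toFinset := Set.mem_toFinset.mpr trivIrr_mem_principalBlock
  have htF : t ∉ F := Finset.notMem_erase _ _
  set U : IrrCharacter G → ℕ → ℤ := S.u hζ with hU
  have hut : ∀ j, 1 ≤ j → j ≤ S.h → U t j = -1 := by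
    intro j hj hjh
    have h := S.u_spec hζ t j
    simp only [ht, CT.trivIrr_apply, one_mul, Finset.sum_sub_distrib, S.geom hζ, Finset.sum_const,
      Finset.card_range, nsmul_eq_mul, mul_one] at h
    rw [if_neg (Nat.not_dvd_of_pos_of_lt (by omega) (by omega)), zero_sub] at h
    have h' : (U t j : ℂ) * S.m = ((-1 : ℤ) : ℂ) * S.m := by
      rw [hU, h]; push_cast; ring
    exact_mod_cast mul_right_cancel₀ S.m_ne_zero h'
  -- orthogonality with the regular elements
  have hregsum : ∀ ρ : G, ¬ 2 ∣ orderOf ρ → ∀ j, 1 ≤ j → j ≤ S.h →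
      ∑ χ ∈ F, (U χ j : ℂ) * (χ : G → ℂ) ρ = 1 := by
    intro ρ hρ j hj hjh
    have h0 : ∑ χ ∈ B.toFinset, (U χ j : ℂ) * (χ : G → ℂ) ρ = 0 := by
      refine mul_left_cancel₀ S.m_ne_zero ?_
      rw [mul_zero, Finset.mul_sum]
      calc ∑ χ ∈ B.toFinset, (S.m : ℂ) * ((U χ j : ℂ) * (χ : G → ℂ) ρ)
          = ∑ χ ∈ B.toFinset, ∑ l ∈ Finset.range S.m,
              (ζ ^ (j * l) - 1) * ((χ : G → ℂ) ρ * conj ((χ : G → ℂ) (S.σ ^ l))) := by
            refine Finset.sum_congr rfl fun χ _ => ?_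
            rw [← mul_assoc, mul_comm (S.m : ℂ), hU, S.u_spec hζ χ j, Finset.sum_mul]
            exact Finset.sum_congr rfl fun l _ => by rw [S.value_real]; ring
        _ = 0 := by
            rw [Finset.sum_comm]
            refine Finset.sum_eq_zero fun l hl => ?_
            rcases Nat.eq_zero_or_pos l with rfl | hl0
            · simp
            · rw [← Finset.mul_sum, ← finsum_mem_eq_toFinset_sum,
                weak_orthogonality hM hA hρ (S.two_dvd_orderOf hl0 (Finset.mem_range.mp hl)),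
                mul_zero]
    rw [← Finset.add_sum_erase _ _ htB, hut j hj hjh, ← hFdef] at h0
    simp only [ht, CT.trivIrr_apply, mul_one, Int.cast_neg, Int.cast_one] at h0
    linear_combination h0
  have hgram : ∀ j k, 1 ≤ j → j ≤ S.h → 1 ≤ k → k ≤ S.h →
      ∑ χ ∈ F, U χ j * U χ k = if j = k then (if j = S.h then 3 else 2) else 1 := by
    intro j k hj hjh hk hkh
    have h := S.gram hζ hM hj hjh hk hkh
    rw [← Finset.add_sum_erase _ _ htB] at h
    rw [show S.u hζ t j = -1 from hut j hj hjh, show S.u hζ t k = -1 from hut k hk hkh] at h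
    split_ifs at h ⊢ <;> linear_combination h
  have hH : S.h = 2 ∨ 4 ≤ S.h := by
    have hn := S.hn
    rcases Nat.lt_or_ge S.n 4 with h | h
    · left; rw [DihSyl.h, show S.n - 2 = 1 by omega, pow_one]
    · right
      calc 4 = 2 ^ 2 := by norm_num
        _ ≤ S.h := Nat.pow_le_pow_right (by norm_num) (by omega)
  have hreg1 : ¬ 2 ∣ orderOf (1 : G) := by rw [orderOf_one]; norm_num
  obtain ⟨a, c, d, b, s, y, z, haF, hcF, hdF, hac, had, hcd, hs, hy, hz, hb, hbinj, hrH⟩ :=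
    DihStar.star F (fun χ => (CT.deg (χ : G → ℂ) : ℤ))
      (fun χ _ => by exact_mod_cast CT.deg_pos χ.2) hH (fun j χ => U χ j)
      (fun j hj hjh => by
        have h := hregsum 1 hreg1 j hj hjh
        simp only [CT.deg_eq (CT.isCharacter_of_isIrr (Subtype.prop _))] at h
        exact_mod_cast h)
      (fun j hj hjh => by rw [hgram j j hj hjh.le hj hjh.le, if_pos rfl, if_neg (by omega)])
      (by rw [hgram _ _ (by omega) le_rfl (by omega) le_rfl, if_pos rfl, if_pos rfl])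
      (fun j k hj hjh hk hkh hne => by rw [hgram j k hj hjh hk hkh, if_neg hne])
  have hnet : ∀ χ ∈ F, (χ : G → ℂ) ≠ fun _ => 1 := fun χ hχ e =>
    (Finset.mem_erase.mp hχ).1 (Subtype.ext e)
  have hmemB : ∀ χ ∈ F, χ ∈ B := fun χ hχ => Set.mem_toFinset.mp (Finset.mem_erase.mp hχ).2
  have hb' : ∀ j, 1 ≤ j → j < S.h → b j ∈ F ∧ b j ≠ a ∧ b j ≠ c ∧ b j ≠ d ∧
      ∀ i ∈ F, U i j = if i = a then s else if i = b j then -s else 0 := hb
  have hrH' : ∀ i ∈ F, U i S.h = if i = a then s else if i = c then y else if i = d then z else 0 :=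
    hrH
  -- values at the rotations
  have hva : ∀ l, 0 < l → l < S.m → (a : G → ℂ) (S.σ ^ l) = -(s : ℂ) := by
    intro l hl hlm
    have h1 := S.recover hζ t hl hlm
    have h2 := S.recover hζ a hl hlm
    simp only [← hU] at h1 h2
    rw [Finset.sum_congr rfl fun j hj => by
      rw [hut j (Finset.mem_Ico.mp hj).1 (Finset.mem_Ico.mp hj).2.le], hut _ (by omega) le_rfl,
      show (t : G → ℂ) (S.σ ^ l) = 1 by rw [ht, CT.trivIrr_apply]] at h1
    rw [Finset.sum_congr rfl fun j hj => by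
      rw [(hb' j (Finset.mem_Ico.mp hj).1 (Finset.mem_Ico.mp hj).2).2.2.2.2 a haF, if_pos rfl],
      hrH' a haF, if_pos rfl] at h2
    rw [← Finset.mul_sum] at h1 h2
    push_cast at h1 h2
    linear_combination h2 + (s : ℂ) * h1
  have hvcd : ∀ (w : IrrCharacter G) (v : ℤ), w ∈ F → w ≠ a → (∀ j, 1 ≤ j → j < S.h → w ≠ b j) →
      U w S.h = v → ∀ l, 0 < l → l < S.m → (w : G → ℂ) (S.σ ^ l) = (v : ℂ) * (-1) ^ l := by
    intro w v hw hwa hwb hv l hl hlm
    rw [S.recover hζ w hl hlm, ← hU, hv, Finset.sum_eq_zero, zero_add]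
    intro j hj
    rw [Finset.mem_Ico] at hj
    rw [(hb' j hj.1 hj.2).2.2.2.2 w hw, if_neg hwa, if_neg (hwb j hj.1 hj.2), Int.cast_zero,
      zero_mul]
  have hvb : ∀ j, 1 ≤ j → j < S.h → ∀ l, 0 < l → l < S.m →
      (b j : G → ℂ) (S.σ ^ l) = -(s : ℂ) * (ζ ^ (j * l) + (ζ ^ (j * l))⁻¹) := by
    intro j hj hjh l hl hlm
    obtain ⟨hbF, hba, hbc, hbd, hbv⟩ := hb' j hj hjh
    rw [S.recover hζ (b j) hl hlm, ← hU, hrH' _ hbF, if_neg hba, if_neg hbc, if_neg hbd,
      Int.cast_zero, zero_mul, add_zero, Finset.sum_eq_single j]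
    · rw [hbv _ hbF, if_neg hba, if_pos rfl, Int.cast_neg]
    · intro k hk hne
      rw [Finset.mem_Ico] at hk
      rw [(hb' k hk.1 hk.2).2.2.2.2 _ hbF, if_neg hba, if_neg, Int.cast_zero, zero_mul]
      exact fun e => hne (hbinj j k hj hjh hk.1 hk.2 e).symm
    · exact fun h => absurd (Finset.mem_Ico.mpr ⟨hj, hjh⟩) h
  have hwc : ∀ j, 1 ≤ j → j < S.h → c ≠ b j := fun j h1 h2 => (hb' j h1 h2).2.2.1.symm
  have hwd : ∀ j, 1 ≤ j → j < S.h → d ≠ b j := fun j h1 h2 => (hb' j h1 h2).2.2.2.1.symm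
  have hUc : U c S.h = y := by rw [hrH' c hcF, if_neg hac.symm, if_pos rfl]
  have hUd : U d S.h = z := by rw [hrH' d hdF, if_neg had.symm, if_neg hcd.symm, if_pos rfl]
  -- odd degrees
  have hJ2 : S.J * S.J = 1 := by rw [← sq, ← S.orderOf_J, pow_orderOf_eq_one]
  have hodd : ∀ (w : IrrCharacter G) (v : ℤ), (v = 1 ∨ v = -1) → (w : G → ℂ) S.J = (v : ℂ) →
      ¬ (2 : ℤ) ∣ (CT.deg (w : G → ℂ) : ℤ) := by
    intro w v hv hw h2
    obtain ⟨k, hk, hkd⟩ := invol_value w hJ2
    have : k = v := by exact_mod_cast hk.symm.trans hw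
    omega
  have hoa : ¬ (2 : ℤ) ∣ (CT.deg (a : G → ℂ) : ℤ) := by
    refine hodd a (-s) (by omega) ?_
    rw [hva S.h (by omega) (by omega)]; push_cast; rfl
  have hoc : ¬ (2 : ℤ) ∣ (CT.deg (c : G → ℂ) : ℤ) := by
    refine hodd c (y * (-1) ^ S.h) ?_ ?_
    · rcases hy with h | h <;> rcases neg_one_pow_eq_or ℤ S.h with h' | h' <;> simp [h, h']
    · rw [hvcd c y hcF hac.symm hwc hUc S.h (by omega) (by omega)]; push_cast; rfl
  have hod : ¬ (2 : ℤ) ∣ (CT.deg (d : G → ℂ) : ℤ) := by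
    refine hodd d (z * (-1) ^ S.h) ?_ ?_
    · rcases hz with h | h <;> rcases neg_one_pow_eq_or ℤ S.h with h' | h' <;> simp [h, h']
    · rw [hvcd d z hdF had.symm hwd hUd S.h (by omega) (by omega)]; push_cast; rfl
  -- involutions outside the class of the central involution
  have hinv : ∀ x : G, orderOf x = 2 → ¬ IsConj x S.J → ∀ w ∈ F, w ≠ a → w ≠ c → w ≠ d →
      (w : G → ℂ) x = 0 := by
    intro x hx hxJ w hw hwa hwc hwd
    have hx2 : x * x = 1 := by rw [← sq, ← hx, pow_orderOf_eq_one]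
    choose k hk hkd using fun χ : IrrCharacter G => invol_value χ hx2
    have hxk : ∃ i : ℕ, x ^ 2 ^ i = 1 := ⟨1, by rw [pow_one, ← hx, pow_orderOf_eq_one]⟩
    have hx1 : x ≠ 1 := fun h => by rw [h, orderOf_one] at hx; omega
    have h1 := section_sums hM hxk (y := (1 : Subgroup.centralizer ({x} : Set G)))
      (by rw [orderOf_one]; norm_num)
    rw [sum_sq_of_normal_complement hM (S.complement_J hx) (by rw [orderOf_one]; norm_num),
      finsum_mem_eq_toFinset_sum] at h1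
    have h4 := S.centralizer_two_le hxk hx1 hxJ
    rw [if_pos hx2] at h4
    have h5 : ((∑ χ ∈ B.toFinset, k χ * k χ : ℤ) : ℝ) ≤ ((4 : ℕ) : ℝ) := by
      rw [Int.cast_sum]
      refine le_trans (le_of_eq ?_) (Nat.cast_le.mpr h4)
      rw [← h1]
      refine Finset.sum_congr rfl fun χ _ => ?_
      rw [OneMemClass.coe_one, mul_one, hk χ, Complex.norm_intCast, sq_abs, Int.cast_mul, sq]
    have h6 : ∑ χ ∈ B.toFinset, k χ * k χ ≤ 4 := by exact_mod_cast h5
    have hone : ∀ χ : IrrCharacter G, ¬ (2 : ℤ) ∣ (CT.deg (χ : G → ℂ) : ℤ) → 1 ≤ k χ * k χ := by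
      intro χ hχ
      have := hkd χ
      have hne : k χ ≠ 0 := by omega
      have := mul_self_pos.mpr hne
      omega
    have hkt : k t = 1 := by
      have := hk t
      rw [ht, CT.trivIrr_apply] at this
      exact_mod_cast this.symm
    have hwt : t ≠ w := fun e => htF (e ▸ hw)
    have hsub : ({t, a, c, d, w} : Finset (IrrCharacter G)) ⊆ B.toFinset := by
      simp only [Finset.insert_subset_iff, Finset.singleton_subset_iff, Set.mem_toFinset]
      exact ⟨trivIrr_mem_principalBlock, hmemB a haF, hmemB c hcF, hmemB d hdF, hmemB w hw⟩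
    have h7 := (Finset.sum_le_sum_of_subset_of_nonneg hsub (f := fun χ => k χ * k χ)
      fun χ _ _ => mul_self_nonneg _).trans h6
    rw [Finset.sum_insert (by
        simp only [Finset.mem_insert, Finset.mem_singleton, not_or]
        exact ⟨fun e => htF (e ▸ haF), fun e => htF (e ▸ hcF), fun e => htF (e ▸ hdF), hwt⟩),
      Finset.sum_insert (by simp [hac, had, Ne.symm hwa]),
      Finset.sum_insert (by simp [hcd, Ne.symm hwc]), Finset.sum_pair (Ne.symm hwd), hkt] at h7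
    have := hone a hoa
    have := hone c hoc
    have := hone d hod
    have h8 : k w = 0 := by nlinarith
    rw [hk w, h8, Int.cast_zero]
  -- the remaining members
  have hrest : ∀ w ∈ F, w = a ∨ w = c ∨ w = d ∨ ∃ j, 1 ≤ j ∧ j < S.h ∧ w = b j := by
    intro w hw
    by_contra hcon
    simp only [not_or, not_exists, not_and] at hcon
    obtain ⟨hwa, hwc', hwd', hwb⟩ := hcon
    have hrot : ∀ l, 0 < l → l < S.m → (w : G → ℂ) (S.σ ^ l) = 0 := fun l hl hlm => by
      rw [hvcd w 0 hw hwa hwb (by rw [hrH' w hw, if_neg hwa, if_neg hwc', if_neg hwd']) l hl hlm]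
      simp
    have hJ0 : ∀ x, IsConj x S.J → (w : G → ℂ) x = 0 := fun x hx =>
      (CT.isClassFunction_isConj (CT.isClassFunction_of_isIrr w.2) hx).trans
        (hrot S.h (by omega) (by omega))
    have hsing : ∀ g : G, 2 ∣ orderOf g → (w : G → ℂ) g = 0 := by
      intro g hg
      obtain ⟨x, hx, -⟩ := exists_isPPart (p := 2) g
      obtain ⟨Q, hQ⟩ := (isPGroup_zpowers (ppart_pow_eq_one hx)).exists_le_sylow
      obtain ⟨e, he⟩ := MulAction.exists_smul_eq G Q P
      have hx1 : x ≠ 1 := fun h => (isPPart_one_iff.mp (h ▸ hx)) hg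
      have hxP : e * x * e⁻¹ ∈ (P : Subgroup G) := by
        rw [← he, Sylow.coe_subgroup_smul]
        exact Subgroup.smul_mem_pointwise_smul x (MulAut.conj e) _ (hQ (Subgroup.mem_zpowers x))
      rw [← CT.isClassFunction_of_isIrr w.2 g e]
      obtain ⟨y', hy', hcom, -, hyreg⟩ := ppart_conj hx e
      rw [← hy']
      rcases S.mem_cases hxP with ⟨k, hk⟩ | ⟨k, hk⟩
      · rw [hk] at hcom ⊢
        have hne : S.σ ^ k ≠ 1 := hk ▸ fun h => hx1 (conj_eq_one_iff.mp h)
        rw [section_const hM (S.sigma_two_pow k) (S.complement_rot hne) (hmemB w hw) hcom.symm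
          hyreg, S.sigma_pow_mod]
        refine hrot _ (Nat.pos_of_ne_zero fun h0 => hne ?_) (Nat.mod_lt _ (by positivity))
        rw [S.sigma_pow_mod, h0, pow_zero]
      · have h2 := S.orderOf_of_sr hxP hk
        rw [section_const hM ⟨1, by rw [pow_one, ← h2, pow_orderOf_eq_one]⟩ (S.complement_J h2)
          (hmemB w hw) hcom.symm hyreg]
        by_cases hJ' : IsConj (e * x * e⁻¹) S.J
        · exact hJ0 _ hJ'
        · exact hinv _ h2 hJ' w hw hwa hwc' hwd'
    have hlink : ∀ χ η : IrrCharacter G, Linked 2 χ η → (χ = w ↔ η = w) := by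
      intro χ η hl
      have main : ∀ η : IrrCharacter G, η ≠ w →
          ∑ᶠ x ∈ {x : G | ¬ 2 ∣ orderOf x}, (w : G → ℂ) x * conj ((η : G → ℂ) x) = 0 := by
        intro η hη
        have h0 := CT.irr_inner_of_ne w.2 η.2 (fun e => hη (Subtype.ext e.symm))
        rw [classInner, mul_eq_zero] at h0
        rw [finsum_mem_eq_toFinset_sum, ← h0.resolve_left (inv_ne_zero CT.card_ne_zero)]
        refine Finset.sum_subset_zero_on_sdiff (Finset.subset_univ _) (fun x hx => ?_) fun x _ => rfl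
        rw [hsing x (Nat.dvd_of_mod_eq_zero (by simpa using hx)), zero_mul]
      constructor
      · rintro rfl
        exact by_contra fun h => hl (main η h)
      · rintro rfl
        by_contra h
        refine hl ?_
        have := congrArg conj (main χ h)
        rw [map_zero, finsum_mem_eq_toFinset_sum, map_sum] at this
        rw [finsum_mem_eq_toFinset_sum, ← this]
        exact Finset.sum_congr rfl fun x _ => by rw [map_mul, Complex.conj_conj, mul_comm]
    have hcomp : ∀ χ η : IrrCharacter G, Relation.EqvGen (Linked 2) χ η → (χ = w ↔ η = w) := by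
      intro χ η h
      induction h with
      | rel a b hab => exact hlink a b hab
      | refl a => rfl
      | symm a b _ ih => exact ih.symm
      | trans a b c _ _ ih ih' => exact ih.trans ih'
    have hmemc : t ∈ component 2 w := by
      rw [← blockOf_eq_component hM w, ← block_eq_blockOf hBp (hmemB w hw)]
      exact trivIrr_mem_principalBlock
    exact htF ((hcomp w t hmemc).mp rfl ▸ hw)
  refine ⟨⟨a, c, d, b, -s, -y, -z, by omega, by omega, by omega, hnet a haF, hnet c hcF,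
    hnet d hdF, hac, had, hcd, hbinj, fun j hj hjh => ⟨(hb' j hj hjh).2.1, (hb' j hj hjh).2.2.1,
      (hb' j hj hjh).2.2.2.1, hnet _ (hb' j hj hjh).1⟩, fun χ => ?_, fun l hl hlm => ⟨?_, ?_, ?_,
      fun j hj hjh => ?_⟩, fun ρ hρ j hj hjh => ?_⟩⟩
  · constructor
    · intro hχ
      rcases eq_or_ne χ t with rfl | hne
      · exact Or.inl rfl
      · exact Or.inr (hrest χ (Finset.mem_erase.mpr ⟨hne, Set.mem_toFinset.mpr hχ⟩))
    · rintro (h | rfl | rfl | rfl | ⟨j, hj, hjh, rfl⟩)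
      · rw [show χ = t from Subtype.ext h]; exact trivIrr_mem_principalBlock
      · exact hmemB _ haF
      · exact hmemB _ hcF
      · exact hmemB _ hdF
      · exact hmemB _ (hb' j hj hjh).1
  · rw [hva l hl hlm]; push_cast; rfl
  · rw [hvcd c y hcF hac.symm hwc hUc l hl hlm]; push_cast; ring
  · rw [hvcd d z hdF had.symm hwd hUd l hl hlm]; push_cast; ring
  · rw [hvb j hj hjh l hl hlm]; push_cast; rfl
  · obtain ⟨hbF, hba, hbc, hbd, hbv⟩ := hb' j hj hjh
    have e1 := hregsum ρ hρ j hj hjh.le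
    have e2 := hregsum ρ hρ S.h (by omega) le_rfl
    have hsub1 : ({a, b j} : Finset (IrrCharacter G)) ⊆ F := by
      simp [Finset.insert_subset_iff, haF, hbF]
    have hsub2 : ({a, c, d} : Finset (IrrCharacter G)) ⊆ F := by
      simp [Finset.insert_subset_iff, haF, hcF, hdF]
    rw [← Finset.sum_subset hsub1 (fun i hi hn => by
      simp only [Finset.mem_insert, Finset.mem_singleton, not_or] at hn
      rw [hbv i hi, if_neg hn.1, if_neg hn.2, Int.cast_zero, zero_mul]),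
      Finset.sum_pair hba.symm, hbv a haF, if_pos rfl, hbv _ hbF, if_neg hba, if_pos rfl] at e1
    rw [← Finset.sum_subset hsub2 (fun i hi hn => by
      simp only [Finset.mem_insert, Finset.mem_singleton, not_or] at hn
      rw [hrH' i hi, if_neg hn.1, if_neg hn.2.1, if_neg hn.2.2, Int.cast_zero, zero_mul]),
      Finset.sum_insert (by simp [hac, had]), Finset.sum_pair hcd, hrH' a haF, if_pos rfl,
      show U c S.h = y from hUc, show U d S.h = z from hUd] at e2
    push_cast at e1 e2 ⊢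
    exact ⟨by linear_combination -e2, by linear_combination -e1⟩

end Cfsg.Agent.Blocks.DihSyl
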