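import Cfsg.Agent.Lib.Blocks.DihedralMain
import Cfsg.Agent.Lib.ClassSum.Basic

/-!
# The order formula for dihedral Sylow 2-subgroups and a single class of involutions
-/

set_option autoImplicit false
set_option linter.style.haveILetI false
set_option linter.unusedSectionVars false

namespace Cfsg.Agent.Blocks

open scoped ComplexConjugate

universe u

variable {G : Type u} [Group G] [Finite G]

/-- The double sum of a character over the pairs from a conjugacy class. -/
theorem sum_pairs_class [Fintype G] (χ : IrrCharacter G) {J : G} (K : Finset G)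
    (hK : ∀ v, v ∈ K ↔ IsConj J v) :
    ∑ w ∈ K ×ˢ K, (χ : G → ℂ) (w.1 * w.2) =
      (K.card : ℂ) ^ 2 * (χ : G → ℂ) J ^ 2 / (χ : G → ℂ) 1 := by
  classical
  have hind : ∀ v : G, (ClassSum.classInd J v : ℂ) = if v ∈ K then 1 else 0 := by
    intro v
    by_cases hv : IsConj J v
    · rw [ClassSum.classInd_pos hv, if_pos ((hK v).mpr hv)]; simp
    · rw [ClassSum.classInd_neg hv, if_neg fun h => hv ((hK v).mp h)]; simp
  have hv' : ∀ u ∈ K, ∑ v ∈ K, (χ : G → ℂ) (u * v) =
      (χ : G → ℂ) J * ((K.card : ℂ) * (χ : G → ℂ) J / (χ : G → ℂ) 1) := by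
    intro u hu
    have e := ClassSum.char_mul_omega χ.2 (ClassSum.classInd_isClassWeight J) u
    simp only [hind, ite_mul, one_mul, zero_mul] at e
    rw [Finset.sum_ite_mem, Finset.univ_inter, ClassSum.omega_classInd _
      (CT.isClassFunction_of_isIrr χ.2)] at e
    rw [← e, ← CT.isClassFunction_isConj (CT.isClassFunction_of_isIrr χ.2) ((hK u).mp hu)]
    congr 3
    have : Nat.card {g : G // IsConj J g} = K.card := by
      rw [← Nat.card_eq_finsetCard]
      exact Nat.card_congr (Equiv.subtypeEquivRight fun v => (hK v).symm)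
    rw [this]
  rw [Finset.sum_product, Finset.sum_congr rfl hv', Finset.sum_const, nsmul_eq_mul]
  ring

namespace DihSyl

variable {P : Sylow 2 G} (S : DihSyl P) {τ : G}

/-- An element of `P` is a power of `σ`, or such a power times the given reflection. -/
theorem mem_cases' (hτ : τ ∈ (P : Subgroup G)) (hτσ : τ * S.σ * τ⁻¹ = S.σ⁻¹) {x : G}
    (hx : x ∈ (P : Subgroup G)) : (∃ k : ℕ, x = S.σ ^ k) ∨ ∃ k : ℕ, x = S.σ ^ k * τ := by
  rcases S.mem_cases hx with h | ⟨c, hc⟩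
  · exact Or.inl h
  rcases S.mem_cases hτ with ⟨i, hi⟩ | ⟨d, hd⟩
  · exfalso
    rw [hi, ((Commute.refl S.σ).pow_left i).eq, mul_inv_cancel_right] at hτσ
    have h1 : S.σ ^ 2 = 1 := by
      rw [sq]
      exact mul_eq_one_iff_eq_inv.mpr hτσ
    have h2 := orderOf_dvd_of_pow_eq_one h1
    rw [S.hσo] at h2
    have := Nat.le_of_dvd (by norm_num) h2
    have := S.four_le_m
    simp only [m] at *
    omega
  · right
    obtain ⟨k, hk⟩ := S.exists_pow (d - c)
    refine ⟨k, congrArg Subtype.val (S.e.injective ?_ :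
      (⟨x, hx⟩ : (P : Subgroup G)) = ⟨S.σ ^ k, pow_mem S.hσ k⟩ * ⟨τ, hτ⟩)⟩
    rw [map_mul, S.e_pow, hk, hc, hd, DihedralGroup.r_mul_sr]
    congr 1
    ring

theorem refl_conj (hτσ : τ * S.σ * τ⁻¹ = S.σ⁻¹) (i k : ℕ) :
    S.σ ^ i * (S.σ ^ k * τ) * (S.σ ^ i)⁻¹ = S.σ ^ (k + 2 * i) * τ := by
  have h : τ * (S.σ ^ i)⁻¹ = S.σ ^ i * τ := by
    rw [← inv_pow, ← hτσ, conj_pow]
    have : τ * S.σ ^ i * τ⁻¹ = (S.σ ^ i)⁻¹ := by rw [← conj_pow, hτσ, inv_pow]
    calc τ * (τ * S.σ ^ i * τ⁻¹) = τ * (S.σ ^ i)⁻¹ := by rw [this]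
      _ = (τ * S.σ ^ i * τ⁻¹)⁻¹ * τ := by group
      _ = S.σ ^ i * τ := by rw [this, inv_inv]
  calc S.σ ^ i * (S.σ ^ k * τ) * (S.σ ^ i)⁻¹ = S.σ ^ i * S.σ ^ k * (τ * (S.σ ^ i)⁻¹) := by group
    _ = S.σ ^ (k + 2 * i) * τ := by
      rw [h, ← mul_assoc, ← pow_add, ← pow_add]
      congr 2
      ring

variable (hτ : τ ∈ (P : Subgroup G)) (hτσ : τ * S.σ * τ⁻¹ = S.σ⁻¹)
  (hJ0 : IsConj S.J τ) (hJ1 : IsConj S.J (S.σ * τ))

include hτσ hJ0 hJ1 hτ in
theorem conj_J_of_two {x : G} (hx : orderOf x = 2) : IsConj S.J x := by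
  haveI : Fact (Nat.Prime 2) := ⟨Nat.prime_two⟩
  obtain ⟨Q, hQ⟩ := (isPGroup_zpowers (p := 2) (z := x)
    ⟨1, by rw [pow_one, ← hx, pow_orderOf_eq_one]⟩).exists_le_sylow
  obtain ⟨e, he⟩ := MulAction.exists_smul_eq G Q P
  have hxP : e * x * e⁻¹ ∈ (P : Subgroup G) := by
    rw [← he, Sylow.coe_subgroup_smul]
    exact Subgroup.smul_mem_pointwise_smul x (MulAut.conj e) _ (hQ (Subgroup.mem_zpowers x))
  have hc : IsConj x (e * x * e⁻¹) := isConj_iff.mpr ⟨e, rfl⟩
  refine IsConj.trans ?_ hc.symm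
  rcases S.mem_cases' hτ hτσ hxP with ⟨k, hk⟩ | ⟨k, hk⟩
  · have hk2 : S.σ ^ k * S.σ ^ k = 1 := by
      rw [← hk, show e * x * e⁻¹ * (e * x * e⁻¹) = e * (x * x) * e⁻¹ by group, ← sq, ← hx,
        pow_orderOf_eq_one, mul_one, mul_inv_cancel]
    by_cases hJ : S.σ ^ k = S.J
    · rw [hk, hJ]
    · refine absurd hk2 (S.sigma_pow_mul_self (fun h => ?_) hJ)
      rw [h, conj_eq_one_iff] at hk
      rw [hk, orderOf_one] at hx
      omega
  · rw [hk]
    rcases Nat.even_or_odd k with ⟨i, hi⟩ | ⟨i, hi⟩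
    · refine hJ0.trans (isConj_iff.mpr ⟨S.σ ^ i, ?_⟩)
      have := S.refl_conj hτσ i 0
      rw [pow_zero, one_mul] at this
      rw [this, hi]; congr 2; ring
    · refine hJ1.trans (isConj_iff.mpr ⟨S.σ ^ i, ?_⟩)
      have := S.refl_conj hτσ i 1
      rw [pow_one] at this
      rw [this, hi]; congr 2; ring

theorem zeta_half {ζ : ℂ} (hζ : IsPrimitiveRoot ζ S.m) : ζ ^ S.h = -1 := by
  have hh := S.two_h
  have h2h := S.two_le_h
  have h1 : ζ ^ S.h * ζ ^ S.h = 1 := by
    rw [← pow_add, ← two_mul, ← hh, hζ.pow_eq_one]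
  rcases mul_self_eq_one_iff.mp h1 with h | h
  · exact absurd (Nat.le_of_dvd (by omega) ((hζ.pow_eq_one_iff_dvd _).mp h)) (by omega)
  · exact h

/-- The weight `(2 - ζ^l - ζ^(-l))` summed over pairs of reflections, when the class sizes
depend only on the parity. -/
theorem parity_sum {ζ : ℂ} (hζ : IsPrimitiveRoot ζ S.m) (A B : ℂ) :
    ∑ i ∈ Finset.range S.m, ∑ k ∈ Finset.range S.m,
      (if i % 2 = 0 then A else B) * (if k % 2 = 0 then A else B) *
        (2 - ζ ^ i * ζ ^ (S.m - k) - ζ ^ (S.m - i) * ζ ^ k) =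
      2 * ((S.h : ℂ) * (A + B)) ^ 2 := by
  classical
  have hh := S.two_h
  have h2h := S.two_le_h
  set w : ℕ → ℂ := fun i => if i % 2 = 0 then A else B with hw
  have split : ∀ f : ℕ → ℂ, ∑ i ∈ Finset.range S.m, f i =
      ∑ r ∈ Finset.range S.h, (f (2 * r) + f (2 * r + 1)) := by
    intro f
    rw [hh]
    generalize S.h = N
    induction N with
    | zero => simp
    | succ N ih => rw [show 2 * (N + 1) = 2 * N + 1 + 1 by ring, Finset.sum_range_succ,
        Finset.sum_range_succ, ih, Finset.sum_range_succ]; ring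
  have h0 : ∑ i ∈ Finset.range S.m, w i * ζ ^ i = 0 := by
    rw [split]
    have : ∀ r, w (2 * r) * ζ ^ (2 * r) + w (2 * r + 1) * ζ ^ (2 * r + 1) =
        (A + B * ζ) * (ζ ^ 2) ^ r := fun r => by
      simp only [hw, Nat.mul_mod_right, if_true, Nat.mul_add_mod, Nat.one_mod, one_ne_zero, if_false,
        ← pow_mul, pow_succ]
      ring
    rw [Finset.sum_congr rfl fun r _ => this r, ← Finset.mul_sum]
    have hne : ζ ^ 2 ≠ 1 := fun e => by
      have := Nat.le_of_dvd (by norm_num) ((hζ.pow_eq_one_iff_dvd _).mp e)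
      omega
    rw [geom_sum_eq hne, ← pow_mul, ← hh, hζ.pow_eq_one, sub_self, zero_div, mul_zero]
  have hw1 : ∑ i ∈ Finset.range S.m, w i = (S.h : ℂ) * (A + B) := by
    rw [split, Finset.sum_congr rfl (g := fun _ => A + B) fun r _ => by simp [hw, Nat.mul_add_mod],
      Finset.sum_const, Finset.card_range, nsmul_eq_mul]
  have expand : ∀ i k, w i * w k * (2 - ζ ^ i * ζ ^ (S.m - k) - ζ ^ (S.m - i) * ζ ^ k) =
      2 * (w i * w k) - (w i * ζ ^ i) * (w k * ζ ^ (S.m - k)) -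
        (w i * ζ ^ (S.m - i)) * (w k * ζ ^ k) := fun i k => by ring
  simp only [hw] at expand ⊢
  rw [Finset.sum_congr rfl fun i _ => Finset.sum_congr rfl fun k _ => expand i k]
  simp only [Finset.sum_sub_distrib, ← Finset.mul_sum, ← Finset.sum_mul]
  simp only [hw] at h0 hw1
  rw [h0, zero_mul, hw1, sub_zero, mul_zero, sub_zero]
  ring

variable {M : Ideal AlgInt} {ζ : ℂ}

include hτ hτσ hJ0 hJ1 in
set_option maxHeartbeats 1000000 in
theorem order_formula (hζ : IsPrimitiveRoot ζ S.m) (hM : IsPModular 2 M) (D : BlockData S M ζ) :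
    (CT.deg (D.χ₁ : G → ℂ) : ℤ) ≠ D.δ₁ ∧
    (Nat.card G : ℚ) * ((CT.deg (D.χ₁ : G → ℂ) : ℚ) - D.δ₁) ^ 2 =
      2 * (CT.deg (D.χ₁ : G → ℂ) : ℚ) * ((CT.deg (D.χ₁ : G → ℂ) : ℚ) + D.δ₁) *
        (Nat.card (Subgroup.centralizer ({S.J} : Set G)) : ℚ) ^ 3 *
        (1 / (Nat.card (Subgroup.centralizer ({S.J, τ} : Set G)) : ℚ) +
          1 / (Nat.card (Subgroup.centralizer ({S.J, S.σ * τ} : Set G)) : ℚ)) ^ 2 := by
  classical
  haveI := hM.2.1.isPrime
  haveI : Fact (Nat.Prime 2) := ⟨Nat.prime_two⟩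
  haveI := Fintype.ofFinite G
  have hh := S.two_h
  have h2h := S.two_le_h
  set δ := D.δ₁
  have hδ2 : (δ : ℂ) * δ = 1 := by rcases D.hδ₁ with h | h <;> simp [δ, h]
  have hmemB : ∀ χ : IrrCharacter G, (χ = D.χ₁ ∨ χ = D.χ' 1) → χ ∈ principalBlock M G := by
    intro χ h
    rcases h with rfl | rfl
    · exact (D.block _).mpr (Or.inr (Or.inl rfl))
    · exact (D.block _).mpr (Or.inr (Or.inr (Or.inr (Or.inr ⟨1, le_rfl, by omega, rfl⟩))))
  -- the test function
  set Ψ : G → ℂ := fun g => 1 + (δ : ℂ) * (D.χ₁ : G → ℂ) g - (δ : ℂ) * (D.χ' 1 : G → ℂ) g with hΨ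
  have hΨc : ∀ g c : G, Ψ (c * g * c⁻¹) = Ψ g := fun g c => by
    simp only [hΨ, CT.isClassFunction_of_isIrr D.χ₁.2 g c,
      CT.isClassFunction_of_isIrr (D.χ' 1).2 g c]
  have hΨreg : ∀ g, ¬ 2 ∣ orderOf g → Ψ g = 0 := fun g hg => by
    obtain ⟨-, h⟩ := D.reg g hg 1 le_rfl (by omega)
    simp only [hΨ]
    linear_combination h
  have hΨrot : ∀ l, 0 < l → l < S.m → ∀ y, Commute y (S.σ ^ l) → ¬ 2 ∣ orderOf y →
      Ψ (S.σ ^ l * y) = 2 - ζ ^ l - (ζ ^ l)⁻¹ := by
    intro l hl hlm y hy hyreg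
    obtain ⟨h1, -, -, h4⟩ := D.val l hl hlm
    have h4' := h4 1 le_rfl (by omega)
    simp only [hΨ]
    rw [section_const hM (S.sigma_two_pow l) (S.complement_rot (S.sigma_pow_ne_one hl hlm))
        (hmemB _ (Or.inl rfl)) hy hyreg,
      section_const hM (S.sigma_two_pow l) (S.complement_rot (S.sigma_pow_ne_one hl hlm))
        (hmemB _ (Or.inr rfl)) hy hyreg, h1, h4', one_mul]
    linear_combination (1 - ζ ^ l - (ζ ^ l)⁻¹) * hδ2
  -- the class of involutions and the degrees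
  set K := Finset.univ.filter fun v : G => orderOf v = 2 with hKdef
  have hconj := fun {x : G} (hx : orderOf x = 2) => S.conj_J_of_two hτ hτσ hJ0 hJ1 hx
  have hK : ∀ v, v ∈ K ↔ IsConj S.J v := fun v => by
    rw [hKdef, Finset.mem_filter]
    refine ⟨fun h => hconj h.2, fun h => ⟨Finset.mem_univ _, ?_⟩⟩
    obtain ⟨c, rfl⟩ := isConj_iff.mp h
    exact (MulEquiv.orderOf_eq (MulAut.conj c) S.J).trans S.orderOf_J
  set c := Nat.card (Subgroup.centralizer ({S.J} : Set G)) with hc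
  have hKc : K.card * c = Nat.card G := by
    rw [← CT.card_conj_class_mul_centralizer S.J, ← Nat.card_eq_finsetCard]
    congr 1
    exact Nat.card_congr (Equiv.subtypeEquivRight hK)
  set x := CT.deg (D.χ₁ : G → ℂ) with hx
  set x' := CT.deg (D.χ' 1 : G → ℂ) with hx'
  have hxx : (x' : ℂ) = (x : ℂ) + (δ : ℂ) := by
    obtain ⟨-, h⟩ := D.reg 1 (by rw [orderOf_one]; norm_num) 1 le_rfl (by omega)
    rw [CT.deg_eq (CT.isCharacter_of_isIrr D.χ₁.2),
      CT.deg_eq (CT.isCharacter_of_isIrr (D.χ' 1).2), ← hx, ← hx'] at h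
    linear_combination -(δ : ℂ) * h + ((x : ℂ) - (x' : ℂ)) * hδ2
  have hx0 : (x : ℂ) ≠ 0 := Nat.cast_ne_zero.mpr (CT.deg_pos D.χ₁.2).ne'
  have hx'0 : (x' : ℂ) ≠ 0 := Nat.cast_ne_zero.mpr (CT.deg_pos (D.χ' 1).2).ne'
  have hleft : ∑ w ∈ K ×ˢ K, Ψ (w.1 * w.2) =
      (K.card : ℂ) ^ 2 * ((x : ℂ) - δ) ^ 2 / ((x : ℂ) * ((x : ℂ) + δ)) := by
    simp only [hΨ, Finset.sum_sub_distrib, Finset.sum_add_distrib, ← Finset.mul_sum,
      sum_pairs_class _ K hK, Finset.sum_const, Finset.card_product, nsmul_eq_mul, mul_one]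
    obtain ⟨h1, -, -, h4⟩ := D.val S.h (by omega) (by omega)
    rw [h1, h4 1 le_rfl (by omega), one_mul, S.zeta_half hζ,
      CT.deg_eq (CT.isCharacter_of_isIrr D.χ₁.2),
      CT.deg_eq (CT.isCharacter_of_isIrr (D.χ' 1).2), ← hx, ← hx', ← hxx]
    push_cast
    field_simp
    rw [hxx, show D.δ₁ = δ from rfl]
    linear_combination (K.card : ℂ) ^ 2 * ((δ : ℂ) * ((x : ℂ) + δ) - 4 * (δ : ℂ) * x) * hδ2
  -- the involutions of the centralizer outside the central one
  set H := Subgroup.centralizer ({S.J} : Set G) with hH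
  have hPH : (P : Subgroup G) ≤ H := fun p hp =>
    Subgroup.mem_centralizer_singleton_iff.mpr (S.commute_J hp)
  set N := pPrimeCore 2 H with hN
  haveI : N.Normal := Basics.pPrimeCore_normal 2
  have hNodd : ¬ 2 ∣ Nat.card N := Basics.not_dvd_card_pPrimeCore 2
  have hNidx := S.complement_J S.orderOf_J
  set q := QuotientGroup.mk' N with hq
  have hqinj : ∀ a b : (P : Subgroup G), q ⟨a, hPH a.2⟩ = q ⟨b, hPH b.2⟩ → a = b := by
    intro a b h
    have hmem : (⟨(a : G), hPH a.2⟩ : H)⁻¹ * ⟨(b : G), hPH b.2⟩ ∈ N := QuotientGroup.eq.mp h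
    refine inv_mul_eq_one.mp ?_
    obtain ⟨i, hi⟩ := P.isPGroup' (a⁻¹ * b)
    have h1 : orderOf (a⁻¹ * b) ∣ Nat.card N := by
      rw [← Subgroup.orderOf_coe,
        show ((a⁻¹ * b : (P : Subgroup G)) : G) =
          (((⟨⟨(a : G), hPH a.2⟩⁻¹ * ⟨(b : G), hPH b.2⟩, hmem⟩ : N) : H) : G) from rfl,
        Subgroup.orderOf_coe, Subgroup.orderOf_coe]
      exact orderOf_dvd_natCard _
    obtain ⟨j, -, hj⟩ := (Nat.dvd_prime_pow Nat.prime_two).mp (orderOf_dvd_of_pow_eq_one hi)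
    rcases Nat.eq_zero_or_pos j with rfl | hj0
    · exact orderOf_eq_one_iff.mp (by simpa using hj)
    · exact absurd ((dvd_pow_self 2 hj0.ne').trans (hj ▸ h1)) hNodd
  set J' : H := ⟨S.J, hPH S.J_mem⟩ with hJ'
  set sH : H := ⟨S.σ, hPH S.hσ⟩ with hsH
  set tH : H := ⟨τ, hPH hτ⟩ with htH
  have hJc : ∀ u : H, Commute u J' := fun u =>
    Subtype.ext (Subgroup.mem_centralizer_singleton_iff.mp u.2)
  set R : ℕ → Finset H := fun i =>
    Finset.univ.filter fun u => orderOf u = 2 ∧ q u = q (sH ^ i * tH) with hR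
  set I := Finset.univ.filter fun u : H => orderOf u = 2 ∧ u ≠ J' with hI
  have refl_two : ∀ i, orderOf (S.σ ^ i * τ) = 2 := by
    intro i
    rcases Nat.even_or_odd i with ⟨r, rfl⟩ | ⟨r, rfl⟩
    · rw [show S.σ ^ (r + r) * τ = S.σ ^ r * (S.σ ^ 0 * τ) * (S.σ ^ r)⁻¹ by
        rw [S.refl_conj hτσ]; congr 2; ring, pow_zero, one_mul]
      obtain ⟨w, rfl⟩ := isConj_iff.mp hJ0
      rw [← MulAut.conj_apply, MulEquiv.orderOf_eq, ← MulAut.conj_apply, MulEquiv.orderOf_eq,
        S.orderOf_J]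
    · rw [show S.σ ^ (2 * r + 1) * τ = S.σ ^ r * (S.σ ^ 1 * τ) * (S.σ ^ r)⁻¹ by
        rw [S.refl_conj hτσ]; congr 2; ring, pow_one]
      obtain ⟨w, hw⟩ := isConj_iff.mp hJ1
      rw [← hw, ← MulAut.conj_apply, MulEquiv.orderOf_eq, ← MulAut.conj_apply, MulEquiv.orderOf_eq,
        S.orderOf_J]
  -- the image of an element of `H` is conjugate to the image of an element of `P`
  have into_P : ∀ u : H, (∃ k : ℕ, u ^ 2 ^ k = 1) →
      ∃ (v : H), ((v * u * v⁻¹ : H) : G) ∈ (P : Subgroup G) := by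
    intro u hu
    obtain ⟨Q, hQ⟩ := (isPGroup_zpowers (p := 2) (z := u) hu).exists_le_sylow
    obtain ⟨v, hv⟩ := MulAction.exists_smul_eq H Q (P.subtype hPH)
    refine ⟨v, ?_⟩
    have : v * u * v⁻¹ ∈ ((P.subtype hPH : Sylow 2 H) : Subgroup H) := by
      rw [← hv, Sylow.coe_subgroup_smul]
      exact Subgroup.smul_mem_pointwise_smul u (MulAut.conj v) _ (hQ (Subgroup.mem_zpowers u))
    rwa [Sylow.coe_subtype, Subgroup.mem_subgroupOf] at this
  have q_mk : ∀ (u : H) (hu : (u : G) ∈ (P : Subgroup G)) (b : (P : Subgroup G)),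
      q u = q ⟨b, hPH b.2⟩ → (u : G) = b := fun u hu b h =>
    congrArg Subtype.val (hqinj ⟨u, hu⟩ b h)
  have q_top : ∀ u : H, ∃ p : (P : Subgroup G), q u = q ⟨p, hPH p.2⟩ := by
    let f : ↥(P : Subgroup G) → H ⧸ N := fun p => q ⟨p, hPH p.2⟩
    have hcardQ : Nat.card (H ⧸ N) ≤ Nat.card (P : Subgroup G) := by
      obtain ⟨k, hk⟩ := hNidx
      rw [← Subgroup.index_eq_card, hk, S.card_P]
      refine Nat.pow_le_pow_right (by norm_num) ?_
      rw [← S.factorization_card]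
      refine (Nat.prime_two.pow_dvd_iff_le_factorization Nat.card_pos.ne').mp ?_
      exact (hk ▸ N.index_dvd_card).trans H.card_subgroup_dvd_card
    intro u
    obtain ⟨p, hp⟩ := (Function.Injective.bijective_of_nat_card_le (f := f)
      (fun a b h => hqinj a b h) hcardQ).2 (q u)
    exact ⟨p, hp.symm⟩
  have inI : ∀ u : H, u ∈ I ↔ ∃ i, i < S.m ∧ u ∈ R i := by
    intro u
    simp only [hI, hR, Finset.mem_filter, Finset.mem_univ, true_and]
    constructor
    · rintro ⟨hu, huJ⟩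
      obtain ⟨p, hp⟩ := q_top u
      rcases S.mem_cases' hτ hτσ p.2 with ⟨k, hk⟩ | ⟨k, hk⟩
      · exfalso
        obtain ⟨v, hv⟩ := into_P u ⟨1, by rw [pow_one, ← hu, pow_orderOf_eq_one]⟩
        obtain ⟨p', hp'⟩ := q_top v
        have e1 : ((v * u * v⁻¹ : H) : G) = ((p' * p * p'⁻¹ : (P : Subgroup G)) : G) :=
          q_mk _ hv _ (by
            rw [map_mul, map_mul, map_inv, hp, hp', ← map_inv, ← map_mul, ← map_mul]; rfl)
        have ho : orderOf ((p : (P : Subgroup G)) : G) = 2 := by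
          rw [Subgroup.orderOf_coe, ← MulEquiv.orderOf_eq (MulAut.conj p'), MulAut.conj_apply,
            ← Subgroup.orderOf_coe, ← e1, Subgroup.orderOf_coe, ← MulAut.conj_apply,
            MulEquiv.orderOf_eq, hu]
        have hpJ : (p : G) = S.J := by
          by_contra hne
          rw [hk] at hne ho
          refine S.sigma_pow_mul_self (fun h => ?_) hne ?_
          · rw [h, orderOf_one] at ho; omega
          · rw [← sq, ← ho, pow_orderOf_eq_one]
        apply huJ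
        have hvu : v * u * v⁻¹ = J' := Subtype.ext (e1.trans (by
          simp only [Subgroup.coe_mul, Subgroup.coe_inv, hpJ]
          rw [(S.commute_J p'.2).eq, mul_inv_cancel_right]))
        calc u = v⁻¹ * (v * u * v⁻¹) * v := by group
          _ = v⁻¹ * (J' * v) := by rw [hvu, mul_assoc]
          _ = J' := by rw [← (hJc v).eq, inv_mul_cancel_left]
      · refine ⟨k % S.m, Nat.mod_lt _ (by positivity), hu, hp.trans (congrArg q (Subtype.ext ?_))⟩
        simp only [hk, hsH, htH, Subgroup.coe_mul, SubmonoidClass.coe_pow, ← S.sigma_pow_mod]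
    · rintro ⟨i, -, hu, hui⟩
      refine ⟨hu, fun e => ?_⟩
      subst e
      have := q_mk J' S.J_mem ⟨S.σ ^ i * τ, mul_mem (pow_mem S.hσ i) hτ⟩
        (hui.trans (congrArg q (Subtype.ext rfl)))
      have h1 : τ ∈ Subgroup.zpowers S.σ := by
        have h2 : S.J = S.σ ^ i * τ := this
        rw [show τ = (S.σ ^ i)⁻¹ * S.J by rw [h2, inv_mul_cancel_left]]
        exact mul_mem (inv_mem (pow_mem (Subgroup.mem_zpowers _) i))
          (pow_mem (Subgroup.mem_zpowers _) _)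
      obtain ⟨r, hr⟩ := Subgroup.mem_zpowers_iff.mp h1
      rw [← hr, ((Commute.refl S.σ).zpow_left r).eq, mul_inv_cancel_right] at hτσ
      have h2 := orderOf_dvd_of_pow_eq_one (show S.σ ^ 2 = 1 by
        rw [sq]; exact mul_eq_one_iff_eq_inv.mpr hτσ)
      rw [S.hσo] at h2
      have := Nat.le_of_dvd (by norm_num) h2
      have := S.four_le_m
      simp only [m] at *
      omega
  have hdisj : ∀ i k, i < S.m → k < S.m → ∀ u, u ∈ R i → u ∈ R k → i = k := by
    intro i k hi hk u hui huk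
    simp only [hR, Finset.mem_filter, Finset.mem_univ, true_and] at hui huk
    refine S.sigma_pow_inj hi hk ?_
    have := hqinj ⟨S.σ ^ i * τ, mul_mem (pow_mem S.hσ i) hτ⟩ ⟨S.σ ^ k * τ, mul_mem (pow_mem S.hσ k) hτ⟩
      ((hui.2.symm.trans huk.2).trans rfl)
    exact mul_right_cancel (congrArg Subtype.val this)
  -- elements with the same image as an element of `P`
  have q_conj : ∀ (u : H), (∃ k : ℕ, u ^ 2 ^ k = 1) → ∀ p : (P : Subgroup G),
      q u = q ⟨p, hPH p.2⟩ → ∃ d : H, d * u * d⁻¹ = ⟨p, hPH p.2⟩ := by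
    intro u hu p hp
    obtain ⟨v, hv⟩ := into_P u hu
    obtain ⟨p', hp'⟩ := q_top v
    have e1 : ((v * u * v⁻¹ : H) : G) = ((p' * p * p'⁻¹ : (P : Subgroup G)) : G) :=
      q_mk _ hv _ (by
        rw [map_mul, map_mul, map_inv, hp, hp', ← map_inv, ← map_mul, ← map_mul]; rfl)
    refine ⟨(⟨(p' : G), hPH p'.2⟩ : H)⁻¹ * v, Subtype.ext ?_⟩
    simp only [Subgroup.coe_mul, Subgroup.coe_inv] at e1 ⊢
    calc ((p' : G)⁻¹ * v) * u * ((p' : G)⁻¹ * v)⁻¹ = (p' : G)⁻¹ * (v * u * (v : G)⁻¹) * p' := by group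
      _ = p := by rw [e1]; group
  -- singular products
  have hsingJ : ∀ g : H, ∀ l : ℕ, q g = q (sH ^ l) → 2 ∣ orderOf g →
      g ^ (orderOf g / 2) = J' := by
    intro g l hg hd
    set z := g ^ (orderOf g / 2) with hz
    have hzo : orderOf z = 2 := by
      rw [hz, orderOf_pow_of_dvd (Nat.div_pos (Nat.le_of_dvd (orderOf_pos g) hd) (by norm_num)).ne'
        (Nat.div_dvd_of_dvd hd), Nat.div_div_self hd (orderOf_pos g).ne']
    obtain ⟨d, hd'⟩ := q_conj z ⟨1, by rw [pow_one, ← hzo, pow_orderOf_eq_one]⟩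
      ⟨S.σ ^ (l * (orderOf g / 2)), pow_mem S.hσ _⟩ (by
        rw [hz, map_pow, hg, ← map_pow, ← pow_mul]; rfl)
    have h2 : orderOf (S.σ ^ (l * (orderOf g / 2))) = 2 := by
      have e2 := congrArg orderOf hd'
      rw [← MulAut.conj_apply, MulEquiv.orderOf_eq, hzo, ← Subgroup.orderOf_coe] at e2
      exact e2.symm
    have hJ2 : S.σ ^ (l * (orderOf g / 2)) = S.J := by
      by_contra hne
      refine S.sigma_pow_mul_self (fun h => ?_) hne ?_
      · rw [h, orderOf_one] at h2; omega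
      · rw [← sq]
        conv_lhs => arg 2; rw [← h2]
        exact pow_orderOf_eq_one _
    have hvu : d * z * d⁻¹ = J' := hd'.trans (Subtype.ext hJ2)
    calc z = d⁻¹ * (d * z * d⁻¹) * d := by group
      _ = d⁻¹ * (J' * d) := by rw [hvu, mul_assoc]
      _ = J' := by rw [← (hJc d).eq, inv_mul_cancel_left]
  have hΨH : ∀ (g : H) (l : ℕ), q g = q (sH ^ l) → Ψ (g : G) = 2 - ζ ^ l - (ζ ^ l)⁻¹ := by
    intro g l hg
    obtain ⟨x, ⟨y, hxy, hcom, ⟨k, hk⟩, hy⟩, -⟩ := exists_isPPart (p := 2) g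
    have hxk : ∃ i : ℕ, x ^ 2 ^ i = 1 := ⟨k, by rw [← hk, pow_orderOf_eq_one]⟩
    have hqy : q y = 1 := (QuotientGroup.eq_one_iff y).mpr (mem_of_pow_index hNidx hy)
    obtain ⟨d, hd⟩ := q_conj x hxk ⟨S.σ ^ l, pow_mem S.hσ l⟩ (by
      rw [← mul_one (q x), ← hqy, ← map_mul, hxy, hg]; rfl)
    have e : (d : G) * g * (d : G)⁻¹ = S.σ ^ l * ((d : G) * y * (d : G)⁻¹) := by
      have := congrArg Subtype.val hd
      simp only [Subgroup.coe_mul, Subgroup.coe_inv] at this
      rw [← hxy, ← this]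
      simp only [Subgroup.coe_mul]
      group
    have hyreg : ¬ 2 ∣ orderOf ((d : G) * y * (d : G)⁻¹) := by
      rw [← MulAut.conj_apply, MulEquiv.orderOf_eq, Subgroup.orderOf_coe]
      exact hy
    rw [← hΨc _ (d : G), e]
    have hmod : S.σ ^ l = S.σ ^ (l % S.m) := S.sigma_pow_mod l
    have hzmod : ζ ^ l = ζ ^ (l % S.m) := pow_eq_pow_mod l hζ.pow_eq_one
    rw [hzmod]
    rcases Nat.eq_zero_or_pos (l % S.m) with h0 | h0
    · rw [hmod, h0, pow_zero, one_mul, hΨreg _ hyreg, pow_zero]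
      norm_num
    · have hcm : Commute ((d : G) * y * (d : G)⁻¹) (S.σ ^ (l % S.m)) := by
        rw [← hmod]
        have h1 := ((hcom.symm.map (MulAut.conj d).toMonoidHom).map H.subtype)
        simp only [MulEquiv.coe_toMonoidHom, MulAut.conj_apply, Subgroup.coe_subtype, hd,
          Subgroup.coe_mul, Subgroup.coe_inv] at h1
        exact h1
      rw [hmod]
      exact hΨrot _ h0 (Nat.mod_lt _ (by positivity)) _ hcm hyreg
  -- sizes of the fibres
  have hττ : τ * τ = 1 := by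
    have h2 := refl_two 0
    rw [pow_zero, one_mul] at h2
    rw [← sq, ← h2, pow_orderOf_eq_one]
  have hinv_pow : ∀ k, k ≤ S.m → (S.σ ^ k)⁻¹ = S.σ ^ (S.m - k) := fun k hk => by
    refine inv_eq_of_mul_eq_one_right ?_
    rw [← pow_add, Nat.add_sub_cancel' hk, m, ← S.hσo, pow_orderOf_eq_one]
  have hRshift : ∀ i r, (R (i + 2 * r)).card = (R i).card := by
    intro i r
    have e : sH ^ r * (sH ^ i * tH) * (sH ^ r)⁻¹ = sH ^ (i + 2 * r) * tH := by
      refine Subtype.ext ?_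
      simp only [Subgroup.coe_mul, Subgroup.coe_inv, SubmonoidClass.coe_pow, hsH, htH]
      exact S.refl_conj hτσ r i
    refine (Finset.card_nbij' (fun u => sH ^ r * u * (sH ^ r)⁻¹) (fun u => (sH ^ r)⁻¹ * u * sH ^ r)
      ?_ ?_ (fun u _ => by group) (fun u _ => by group)).symm
    · intro u hu
      simp only [hR, Finset.mem_coe, Finset.mem_filter, Finset.mem_univ, true_and] at hu ⊢
      exact ⟨by rw [← MulAut.conj_apply, MulEquiv.orderOf_eq, hu.1], by
        rw [← e, map_mul, map_mul, map_inv, hu.2, ← map_inv, ← map_mul, ← map_mul]⟩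
    · intro u hu
      simp only [hR, Finset.mem_coe, Finset.mem_filter, Finset.mem_univ, true_and] at hu ⊢
      refine ⟨?_, ?_⟩
      · have := MulEquiv.orderOf_eq (MulAut.conj (sH ^ r)⁻¹) u
        rw [MulAut.conj_apply, inv_inv] at this
        rw [this, hu.1]
      · rw [map_mul, map_mul, map_inv, hu.2, ← map_inv, ← map_mul, ← map_mul, ← e]
        congr 1
        group
  have hRmod : ∀ i, (R i).card = if i % 2 = 0 then (R 0).card else (R 1).card := by
    intro i
    conv_lhs => rw [← Nat.mod_add_div i 2]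
    rw [hRshift]
    rcases Nat.mod_two_eq_zero_or_one i with h | h <;> simp [h]
  have hclass : ∀ e, e ≤ 1 → S.h * (R e).card *
      Nat.card (Subgroup.centralizer ({S.J, S.σ ^ e * τ} : Set G)) = c := by
    intro e he
    set te : H := sH ^ e * tH with hte
    have hteG : (te : G) = S.σ ^ e * τ := by simp [hte, hsH, htH]
    have hcl : ∀ w : H, IsConj te w ↔ ∃ r, r < S.h ∧ w ∈ R (e + 2 * r) := by
      intro w
      constructor
      · intro hw
        obtain ⟨a, ha⟩ := isConj_iff.mp hw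
        obtain ⟨p, hp⟩ := q_top a
        obtain ⟨r', hr'⟩ : ∃ r', (p : G) * (S.σ ^ e * τ) * (p : G)⁻¹ = S.σ ^ (e + 2 * r') * τ := by
          rcases S.mem_cases' hτ hτσ p.2 with ⟨k, hk⟩ | ⟨k, hk⟩
          · exact ⟨k, by rw [hk, S.refl_conj hτσ]⟩
          · refine ⟨k + (S.h - e), ?_⟩
            have h1 : τ * (S.σ ^ e * τ) * τ⁻¹ = S.σ ^ (S.m - e) * τ := by
              rw [← hinv_pow e (by omega), ← inv_pow, ← hτσ, conj_pow]
              calc τ * (S.σ ^ e * τ) * τ⁻¹ = τ * S.σ ^ e := by group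
                _ = τ * S.σ ^ e * τ⁻¹ * τ := by group
            rw [hk, show S.σ ^ k * τ * (S.σ ^ e * τ) * (S.σ ^ k * τ)⁻¹ =
              S.σ ^ k * (τ * (S.σ ^ e * τ) * τ⁻¹) * (S.σ ^ k)⁻¹ by group, h1, S.refl_conj hτσ]
            congr 2
            omega
        refine ⟨r' % S.h, Nat.mod_lt _ (by omega), ?_⟩
        simp only [hR, Finset.mem_filter, Finset.mem_univ, true_and]
        refine ⟨?_, ?_⟩
        · rw [← ha, ← MulAut.conj_apply, MulEquiv.orderOf_eq, ← Subgroup.orderOf_coe, hteG]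
          exact refl_two e
        · rw [← ha, map_mul, map_mul, map_inv, hp, ← map_inv, ← map_mul, ← map_mul]
          congr 1
          refine Subtype.ext ?_
          simp only [Subgroup.coe_mul, Subgroup.coe_inv, SubmonoidClass.coe_pow, hsH, htH, hteG]
          rw [hr', S.sigma_pow_mod (e + 2 * r'), S.sigma_pow_mod (e + 2 * (r' % S.h))]
          congr 2
          rw [Nat.add_mod, hh, Nat.mul_mod_mul_left, Nat.add_mod e (2 * (r' % S.h)),
            Nat.mul_mod_mul_left, Nat.mod_mod]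
      · rintro ⟨r, -, hw⟩
        simp only [hR, Finset.mem_filter, Finset.mem_univ, true_and] at hw
        obtain ⟨d, hd⟩ := q_conj w ⟨1, by rw [pow_one, ← hw.1, pow_orderOf_eq_one]⟩
          ⟨S.σ ^ (e + 2 * r) * τ, mul_mem (pow_mem S.hσ _) hτ⟩ (hw.2.trans rfl)
        refine IsConj.trans (isConj_iff.mpr ⟨sH ^ r, ?_⟩) (isConj_iff.mpr ⟨d, hd⟩).symm
        refine Subtype.ext ?_
        simp only [Subgroup.coe_mul, Subgroup.coe_inv, SubmonoidClass.coe_pow, hsH, hteG]
        exact S.refl_conj hτσ r e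
    have hcard : Nat.card {w : H // IsConj te w} = S.h * (R e).card := by
      rw [Nat.card_congr (Equiv.subtypeEquivRight (q := fun w =>
        w ∈ (Finset.range S.h).biUnion fun r => R (e + 2 * r)) fun w => by
          rw [hcl]; simp), Nat.card_eq_finsetCard, Finset.card_biUnion,
        Finset.sum_congr rfl fun r _ => hRshift e r, Finset.sum_const, Finset.card_range,
        smul_eq_mul]
      intro r hr r' hr' hne
      simp only [Finset.mem_coe, Finset.mem_range] at hr hr'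
      rw [Function.onFun, Finset.disjoint_left]
      intro w h1 h2
      have := hdisj (e + 2 * r) (e + 2 * r') (by omega) (by omega) w h1 h2
      omega
    rw [← hcard, hc, ← CT.card_conj_class_mul_centralizer te]
    congr 1
    refine Nat.card_congr
      { toFun := fun a => ⟨⟨a.1, ?_⟩, ?_⟩
        invFun := fun a => ⟨(a.1 : G), ?_⟩
        left_inv := fun a => rfl
        right_inv := fun a => rfl }
    · have := Subgroup.mem_centralizer_iff.mp a.2 S.J (by simp)
      exact Subgroup.mem_centralizer_singleton_iff.mpr this.symm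
    · have := Subgroup.mem_centralizer_iff.mp a.2 (S.σ ^ e * τ) (by simp)
      exact Subgroup.mem_centralizer_singleton_iff.mpr (Subtype.ext (by
        simp only [Subgroup.coe_mul, hteG]; exact this.symm))
    · refine Subgroup.mem_centralizer_iff.mpr ?_
      rintro v (rfl | rfl)
      · exact (Subgroup.mem_centralizer_singleton_iff.mp a.1.2).symm
      · have := congrArg Subtype.val (Subgroup.mem_centralizer_singleton_iff.mp a.2)
        simp only [Subgroup.coe_mul, hteG] at this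
        exact this.symm
  have hA := hclass 0 (by norm_num)
  have hB := hclass 1 le_rfl
  rw [pow_zero, one_mul] at hA
  rw [pow_one] at hB
  -- the sum over pairs in `H`
  have hIeq : I = (Finset.range S.m).biUnion R := by
    ext u
    simp [inI u]
  have hdisj' : (↑(Finset.range S.m) : Set ℕ).PairwiseDisjoint R := by
    intro i hi k hk hne
    simp only [Finset.mem_coe, Finset.mem_range] at hi hk
    rw [Function.onFun, Finset.disjoint_left]
    exact fun u h1 h2 => hne (hdisj i k hi hk u h1 h2)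
  have hW : ∑ w ∈ I ×ˢ I, Ψ ((w.1 : G) * (w.2 : G)) =
      2 * ((S.h : ℂ) * (((R 0).card : ℂ) + ((R 1).card : ℂ))) ^ 2 := by
    rw [← S.parity_sum hζ ((R 0).card : ℂ) ((R 1).card : ℂ), Finset.sum_product, hIeq,
      Finset.sum_biUnion hdisj']
    refine Finset.sum_congr rfl fun i hi => ?_
    rw [Finset.mem_range] at hi
    simp only [Finset.sum_biUnion hdisj']
    rw [Finset.sum_comm]
    refine Finset.sum_congr rfl fun k hk => ?_
    rw [Finset.mem_range] at hk
    have hval : ∀ u ∈ R i, ∀ v ∈ R k, Ψ ((u : G) * (v : G)) =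
        2 - ζ ^ i * ζ ^ (S.m - k) - ζ ^ (S.m - i) * ζ ^ k := by
      intro u hu v hv
      simp only [hR, Finset.mem_filter, Finset.mem_univ, true_and] at hu hv
      have := hΨH (u * v) (i + (S.m - k)) (by
        rw [map_mul, hu.2, hv.2, ← map_mul]
        congr 1
        refine Subtype.ext ?_
        simp only [Subgroup.coe_mul, SubmonoidClass.coe_pow, hsH, htH, pow_add]
        rw [← hinv_pow k hk.le, ← inv_pow, ← hτσ, conj_pow, inv_eq_of_mul_eq_one_right hττ]
        group)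
      rw [Subgroup.coe_mul] at this
      rw [this, pow_add]
      congr 1
      refine (eq_inv_of_mul_eq_one_left ?_).symm
      rw [show ζ ^ (S.m - i) * ζ ^ k * (ζ ^ i * ζ ^ (S.m - k)) =
        ζ ^ (S.m - i + i) * ζ ^ (S.m - k + k) by rw [pow_add, pow_add]; ring,
        Nat.sub_add_cancel hi.le, Nat.sub_add_cancel hk.le, hζ.pow_eq_one, one_mul]
    rw [Finset.sum_congr rfl fun u hu => Finset.sum_congr rfl fun v hv => hval u hu v hv]
    simp only [Finset.sum_const, nsmul_eq_mul]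
    rw [hRmod i, hRmod k, Nat.cast_ite, Nat.cast_ite]
    ring
  -- partition of all pairs
  let f : G → G := fun g => g ^ (orderOf g / 2)
  have htotal : ∑ w ∈ K ×ˢ K, Ψ (w.1 * w.2) =
      (K.card : ℂ) * ∑ w ∈ I ×ˢ I, Ψ ((w.1 : G) * (w.2 : G)) := by
    set T := (K ×ˢ K).filter fun w => 2 ∣ orderOf (w.1 * w.2)
    have h1 : ∑ w ∈ K ×ˢ K, Ψ (w.1 * w.2) = ∑ w ∈ T, Ψ (w.1 * w.2) :=
      (Finset.sum_filter_of_ne fun w _ hne => by_contra fun hnd => hne (hΨreg _ hnd)).symm
    have hmaps : ∀ w ∈ T, f (w.1 * w.2) ∈ K := by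
      intro w hw
      have hd := (Finset.mem_filter.mp hw).2
      refine Finset.mem_filter.mpr ⟨Finset.mem_univ _, ?_⟩
      simp only [f]
      rw [orderOf_pow_of_dvd (Nat.div_pos (Nat.le_of_dvd (orderOf_pos _) hd) (by norm_num)).ne'
        (Nat.div_dvd_of_dvd hd), Nat.div_div_self hd (orderOf_pos _).ne']
    rw [h1, ← Finset.sum_fiberwise_of_maps_to hmaps]
    have hfib : ∀ z ∈ K, ∑ w ∈ T.filter (fun w => f (w.1 * w.2) = z), Ψ (w.1 * w.2) =
        ∑ w ∈ T.filter (fun w => f (w.1 * w.2) = S.J), Ψ (w.1 * w.2) := by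
      intro z hz
      obtain ⟨d, hd⟩ := isConj_iff.mp ((hK z).mp hz).symm
      have key : ∀ (d : G) (w : G × G), w ∈ T →
          (d * w.1 * d⁻¹, d * w.2 * d⁻¹) ∈ T ∧
          d * w.1 * d⁻¹ * (d * w.2 * d⁻¹) = d * (w.1 * w.2) * d⁻¹ ∧
          f (d * (w.1 * w.2) * d⁻¹) = d * f (w.1 * w.2) * d⁻¹ := by
        intro d w hw
        have ho : ∀ g : G, orderOf (d * g * d⁻¹) = orderOf g := fun g =>
          MulEquiv.orderOf_eq (MulAut.conj d) g
        have e : d * w.1 * d⁻¹ * (d * w.2 * d⁻¹) = d * (w.1 * w.2) * d⁻¹ := by group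
        refine ⟨?_, e, ?_⟩
        · simp only [T, hKdef, Finset.mem_filter, Finset.mem_product, Finset.mem_univ,
            true_and] at hw ⊢
          rw [ho, ho, e, ho]
          exact hw
        · simp only [f, ho, conj_pow]
      refine Finset.sum_nbij' (fun w => (d * w.1 * d⁻¹, d * w.2 * d⁻¹))
        (fun w => (d⁻¹ * w.1 * d⁻¹⁻¹, d⁻¹ * w.2 * d⁻¹⁻¹)) ?_ ?_ ?_ ?_ ?_
      · intro w hw
        simp only [Finset.mem_coe, Finset.mem_filter] at hw ⊢
        obtain ⟨k1, k2, k3⟩ := key d w hw.1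
        exact ⟨k1, by rw [k2, k3, hw.2, hd]⟩
      · intro w hw
        simp only [Finset.mem_coe, Finset.mem_filter] at hw ⊢
        obtain ⟨k1, k2, k3⟩ := key d⁻¹ w hw.1
        exact ⟨k1, by rw [k2, k3, hw.2, ← hd]; group⟩
      · intro w _; ext <;> group
      · intro w _; ext <;> group
      · intro w hw
        rw [(key d w (Finset.mem_filter.mp hw).1).2.1, hΨc]
    rw [Finset.sum_congr rfl hfib, Finset.sum_const, nsmul_eq_mul]
    congr 1
    let emb : H × H ↪ G × G := (⟨Subtype.val, Subtype.val_injective⟩ : H ↪ G).prodMap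
      ⟨Subtype.val, Subtype.val_injective⟩
    rw [show ∑ w ∈ I ×ˢ I, Ψ ((w.1 : G) * (w.2 : G)) =
      ∑ w ∈ (I ×ˢ I).map emb, Ψ (w.1 * w.2) by rw [Finset.sum_map]; rfl]
    refine Finset.sum_subset (fun w hw => ?_) fun w hw hn => ?_
    · simp only [T, hKdef, Finset.mem_filter, Finset.mem_product, Finset.mem_univ, true_and, f]
        at hw
      obtain ⟨⟨⟨h1, h2⟩, hd⟩, hz⟩ := hw
      have hu : w.1 * w.1 = 1 := by rw [← sq, ← h1, pow_orderOf_eq_one]
      have hv : w.2 * w.2 = 1 := by rw [← sq, ← h2, pow_orderOf_eq_one]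
      have hJJ : S.J⁻¹ = S.J := by
        refine inv_eq_of_mul_eq_one_right ?_
        rw [← sq, ← S.orderOf_J, pow_orderOf_eq_one]
      have i1 : w.1⁻¹ = w.1 := inv_eq_of_mul_eq_one_right hu
      have i2 : w.2⁻¹ = w.2 := inv_eq_of_mul_eq_one_right hv
      have c1 : w.1 * S.J * w.1⁻¹ = S.J := by
        rw [← hz, ← conj_pow]
        calc (w.1 * (w.1 * w.2) * w.1⁻¹) ^ (orderOf (w.1 * w.2) / 2)
            = (w.1 * w.2)⁻¹ ^ (orderOf (w.1 * w.2) / 2) := by
              congr 1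
              rw [mul_inv_rev, i1, i2, ← mul_assoc, hu, one_mul]
          _ = ((w.1 * w.2) ^ (orderOf (w.1 * w.2) / 2))⁻¹ := inv_pow _ _
          _ = (w.1 * w.2) ^ (orderOf (w.1 * w.2) / 2) := by rw [hz, hJJ]
      have hgJ : Commute (w.1 * w.2) S.J := hz ▸ Commute.self_pow _ _
      have c1' : Commute w.1 S.J := mul_inv_eq_iff_eq_mul.mp c1
      have c2' : Commute w.2 S.J := by
        have : w.2 = w.1 * (w.1 * w.2) := by rw [← mul_assoc, hu, one_mul]
        rw [this]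
        exact c1'.mul_left hgJ
      refine Finset.mem_map.mpr ⟨(⟨w.1, Subgroup.mem_centralizer_singleton_iff.mpr c1'⟩,
        ⟨w.2, Subgroup.mem_centralizer_singleton_iff.mpr c2'⟩), ?_, rfl⟩
      have hord : w.1 * w.2 * (w.1 * w.2) = 1 → w.1 * w.2 = S.J := fun h => by
        have h' : orderOf (w.1 * w.2) = 2 := by
          have := Nat.le_of_dvd (by norm_num)
            (orderOf_dvd_of_pow_eq_one (show (w.1 * w.2) ^ 2 = 1 by rw [sq]; exact h))
          have := Nat.le_of_dvd (orderOf_pos _) hd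
          omega
        rw [h', show 2 / 2 = 1 from rfl, pow_one] at hz
        exact hz
      simp only [Finset.mem_product, hI, Finset.mem_filter, Finset.mem_univ, true_and, hJ',
        Subgroup.orderOf_mk, ne_eq, Subtype.mk.injEq]
      refine ⟨⟨h1, fun e => ?_⟩, h2, fun e => ?_⟩
      · have := hord (by
          rw [e] at hu ⊢
          rw [← mul_assoc, mul_assoc S.J, c2'.eq, ← mul_assoc, hu, one_mul, hv])
        rw [e, mul_eq_left] at this
        rw [this, orderOf_one] at h2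
        omega
      · have := hord (by
          rw [e] at hv ⊢
          rw [← mul_assoc, mul_assoc w.1, ← c1'.eq, ← mul_assoc, hu, one_mul, hv])
        rw [e, mul_eq_right] at this
        rw [this, orderOf_one] at h1
        omega
    · obtain ⟨⟨u, v⟩, huv, rfl⟩ := Finset.mem_map.mp hw
      rw [Finset.mem_product] at huv
      obtain ⟨i, -, hui⟩ := (inI u).mp huv.1
      obtain ⟨k, hk, hvk⟩ := (inI v).mp huv.2
      simp only [hR, Finset.mem_filter, Finset.mem_univ, true_and] at hui hvk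
      change Ψ ((u : G) * (v : G)) = 0
      refine by_contra fun hne => hn ?_
      have hd : 2 ∣ orderOf ((u : G) * (v : G)) := by_contra fun h => hne (hΨreg _ h)
      have hd' : 2 ∣ orderOf (u * v) := by rwa [← Subgroup.orderOf_coe, Subgroup.coe_mul]
      have hz := hsingJ (u * v) (i + (S.m - k)) (by
        rw [map_mul, hui.2, hvk.2, ← map_mul]
        congr 1
        refine Subtype.ext ?_
        simp only [Subgroup.coe_mul, SubmonoidClass.coe_pow, hsH, htH, pow_add]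
        rw [← hinv_pow k hk.le, ← inv_pow, ← hτσ, conj_pow, inv_eq_of_mul_eq_one_right hττ]
        group) hd'
      simp only [T, hKdef, Finset.mem_filter, Finset.mem_product, Finset.mem_univ, true_and, f]
      have hu2 : orderOf (u : G) = 2 := (Subgroup.orderOf_coe u).trans hui.1
      have hv2 : orderOf (v : G) = 2 := (Subgroup.orderOf_coe v).trans hvk.1
      refine ⟨⟨⟨hu2, hv2⟩, hd⟩, ?_⟩
      have := congrArg Subtype.val hz
      rw [← Subgroup.orderOf_coe] at this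
      exact this
  -- conclusion
  rw [htotal, hW] at hleft
  have hc0 : (c : ℂ) ≠ 0 := Nat.cast_ne_zero.mpr Nat.card_pos.ne'
  have hK0 : (K.card : ℂ) ≠ 0 := by
    rw [Nat.cast_ne_zero]
    intro h
    rw [h, zero_mul] at hKc
    exact Nat.card_pos.ne' hKc.symm
  set cA := Nat.card (Subgroup.centralizer ({S.J, τ} : Set G))
  set cB := Nat.card (Subgroup.centralizer ({S.J, S.σ * τ} : Set G))
  have hA' : (S.h : ℂ) * ((R 0).card : ℂ) * cA = c := by exact_mod_cast hA
  have hB' : (S.h : ℂ) * ((R 1).card : ℂ) * cB = c := by exact_mod_cast hB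
  have hcA : (cA : ℂ) ≠ 0 := fun h => hc0 (by rw [← hA', h, mul_zero])
  have hcB : (cB : ℂ) ≠ 0 := fun h => hc0 (by rw [← hB', h, mul_zero])
  have hsum : (S.h : ℂ) * (((R 0).card : ℂ) + ((R 1).card : ℂ)) = c * (1 / cA + 1 / cB) := by
    field_simp
    linear_combination (cB : ℂ) * hA' + (cA : ℂ) * hB'
  rw [hsum, ← hxx, eq_div_iff (mul_ne_zero hx0 hx'0)] at hleft
  have hG : (Nat.card G : ℂ) = (K.card : ℂ) * c := by rw [← hKc]; push_cast; rfl
  have key : (Nat.card G : ℂ) * ((x : ℂ) - δ) ^ 2 =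
      2 * (x : ℂ) * ((x : ℂ) + δ) * (c : ℂ) ^ 3 * (1 / cA + 1 / cB) ^ 2 := by
    refine mul_left_cancel₀ hK0 ?_
    rw [hG, ← hxx]
    linear_combination -(c : ℂ) * hleft
  refine ⟨fun e => ?_, ?_⟩
  · have e' : (x : ℂ) = (δ : ℂ) := by exact_mod_cast e
    rw [e', sub_self, zero_pow two_ne_zero, mul_zero] at key
    have hne : (1 : ℂ) / cA + 1 / cB ≠ 0 := by
      rw [div_add_div _ _ hcA hcB, one_mul, mul_one, div_ne_zero_iff]
      refine ⟨?_, mul_ne_zero hcA hcB⟩
      have : cA ≠ 0 := Nat.cast_ne_zero.mp hcA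
      exact_mod_cast (show cB + cA ≠ 0 by omega)
    have h2 := (mul_eq_zero.mp key.symm).resolve_right (pow_ne_zero 2 hne)
    have hδ0 : (δ : ℂ) ≠ 0 := e' ▸ hx0
    refine mul_ne_zero (mul_ne_zero (mul_ne_zero two_ne_zero hδ0) ?_) (pow_ne_zero 3 hc0) h2
    rw [← two_mul]
    exact mul_ne_zero two_ne_zero hδ0
  · have h3 : (((Nat.card G : ℚ) * ((x : ℚ) - δ) ^ 2 : ℚ) : ℂ) =
        ((2 * (x : ℚ) * ((x : ℚ) + δ) * (c : ℚ) ^ 3 * (1 / cA + 1 / cB) ^ 2 : ℚ) : ℂ) := by
      push_cast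
      exact key
    exact_mod_cast h3

end DihSyl

end Cfsg.Agent.Blocks
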