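import Cfsg.Agent.Lib.Blocks.Klein
import Cfsg.Agent.Lib.CT.Kernel
import Cfsg.Prelude.Def_BlockRank
import Mathlib.LinearAlgebra.Dimension.Constructions

/-!
# Constancy of the principal block on a section with normal complement, and the rank for Klein four
-/

namespace Cfsg.Agent.Blocks

open MonoidAlgebra
open scoped ComplexConjugate

variable {G : Type*} [Group G] [Finite G] {p : ℕ} {M : Ideal AlgInt} [M.IsPrime]

set_option linter.unusedSectionVars false
set_option linter.style.haveILetI false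

/-- If the centralizer of the `p`-element `z` has a normal `p`-complement, the principal block is
constant on the `p`-section of `z`. -/
theorem section_const (hM : IsPModular p M) [Fact p.Prime] {z : G}
    (hz : ∃ k : ℕ, z ^ p ^ k = 1)
    (hnc : ∃ k : ℕ, (pPrimeCore p (Subgroup.centralizer ({z} : Set G))).index = p ^ k)
    {ζ : IrrCharacter G} (hζ : ζ ∈ principalBlock M G) {y : G} (hyz : Commute y z)
    (hy : ¬ p ∣ orderOf y) : (ζ : G → ℂ) (z * y) = (ζ : G → ℂ) z := by
  classical
  set C := Subgroup.centralizer ({z} : Set G)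
  set K := pPrimeCore p C
  haveI := Fintype.ofFinite C
  haveI := Fintype.ofFinite K
  haveI : K.Normal := Basics.pPrimeCore_normal p
  have hK : ¬ p ∣ Nat.card K := Basics.not_dvd_card_pPrimeCore p
  set zC : C := ⟨z, Subgroup.mem_centralizer_singleton_iff.mpr rfl⟩ with hzC
  set yC : C := ⟨y, Subgroup.mem_centralizer_singleton_iff.mpr hyz.eq⟩ with hyC
  have hyC' : ¬ p ∣ orderOf yC := by rwa [← Subgroup.orderOf_coe]
  have hyK : yC ∈ K := mem_of_pow_index hnc hyC'
  set b0 := principalBlock M C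
  have hcoeff : ∀ u : C, blockCoeff b0 (u * yC⁻¹) = blockCoeff b0 u := by
    intro u
    simp only [blockCoeff]
    congr 1
    refine finsum_mem_congr rfl fun χ hχ => ?_
    congr 2
    exact (CT.mem_kerChar_iff (CT.isCharacter_of_isIrr χ.2)).mpr
      (apply_eq_one_of_mem_principalBlock hM hK hχ (K.inv_mem hyK)) u
  have hid : idemC b0 * single (zC * yC) (1 : ℂ) = idemC b0 * single zC 1 := by
    refine MonoidAlgebra.ext (Finsupp.ext fun u => ?_)
    rw [coeff_mul_single', coeff_mul_single', idemC, coeff_ofFun, coeff_ofFun]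
    congr 1
    rw [mul_inv_rev, ← mul_assoc, ← hcoeff (u * zC⁻¹), mul_assoc, mul_assoc]
    congr 1
    refine congrArg _ (Subtype.ext ?_)
    simp only [hzC, hyC, Subgroup.coe_mul, Subgroup.coe_inv]
    exact (Commute.inv_inv hyz).eq
  have h1 : IsPPart p ((zC * yC : C) : G) z := isPPart_mk hyz.symm hz hy
  have h2 : IsPPart p ((zC : C) : G) z := by
    have := isPPart_mk (p := p) (Commute.one_right z) hz
      (by rw [orderOf_one]; exact (Fact.out : p.Prime).not_dvd_one)
    simpa [hzC] using this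
  have e1 := ev_principal_section hM hz h1 ζ
  have e2 := ev_principal_section hM hz h2 ζ
  rw [if_pos hζ] at e1 e2
  rw [← embH_single, ← map_mul] at e1 e2
  have e : (ζ : G → ℂ) ((zC * yC : C) : G) = (ζ : G → ℂ) ((zC : C) : G) := by
    rw [← e1, ← e2, hid]
  exact e

theorem klein_blockRank (hM : IsPModular 2 M) (P : Sylow 2 G) (hP : IsKleinFour (P : Subgroup G))
    (hone : ∀ s t : G, orderOf s = 2 → orderOf t = 2 → IsConj s t) :
    blockRank 2 (principalBlock M G) = 3 := by
  classical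
  haveI : Fact (Nat.Prime 2) := ⟨Nat.prime_two⟩
  haveI := Fintype.ofFinite G
  obtain ⟨ζ₂, ζ₃, ζ₄, ε, hε, h2t, h3t, h23, h24, h34, hB, hinv, -, -, hd4, hrel⟩ :=
    klein_four_block hM P hP hone
  have h4t : (ζ₄ : G → ℂ) ≠ fun _ => 1 := fun h => by
    obtain ⟨z₀, hz₀⟩ := exists_prime_orderOf_dvd_card' (G := (P : Subgroup G)) 2
      (by rw [hP.card_four]; norm_num)
    have := (hinv (z₀ : G) ((Subgroup.orderOf_coe z₀).trans hz₀)).2.2
    rw [h] at this
    norm_num at this
  have hmem : ∀ χ : IrrCharacter G, χ = CT.trivIrr G ∨ χ = ζ₂ ∨ χ = ζ₃ ∨ χ = ζ₄ →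
      χ ∈ principalBlock M G := by
    intro χ h
    rw [hB]
    rcases h with rfl | h | h | h
    · exact Or.inl rfl
    · exact Or.inr (Or.inl h)
    · exact Or.inr (Or.inr (Or.inl h))
    · exact Or.inr (Or.inr (Or.inr h))
  -- values at singular elements
  have hsing : ∀ g : G, 2 ∣ orderOf g → ∀ χ ∈ principalBlock M G,
      ∃ z : G, orderOf z = 2 ∧ (χ : G → ℂ) g = (χ : G → ℂ) z := by
    intro g hg χ hχ
    obtain ⟨x, ⟨y, hxy, hcom, ⟨k, hk⟩, hy⟩, -⟩ := exists_isPPart (p := 2) g
    obtain ⟨Q, hQ⟩ := (isPGroup_zpowers (p := 2) (z := x) ⟨k, by rw [← hk]; exact pow_orderOf_eq_one x⟩).exists_le_sylow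
    have hx1 : x ≠ 1 := fun h => hy (by rw [← hxy, h, one_mul] at hg; exact hg)
    have hQ4 : IsKleinFour (Q : Subgroup G) := by
      have e := Sylow.equiv P Q
      exact ⟨by rw [← hP.card_four]; exact Nat.card_congr e.symm.toEquiv,
        (Monoid.exponent_eq_of_mulEquiv e).symm.trans hP.exponent_two⟩
    have hxQ : x ∈ Q := hQ (Subgroup.mem_zpowers x)
    have hxo : orderOf x = 2 := orderOf_eq_prime (by
      rw [sq]
      exact congrArg Subtype.val (IsKleinFour.mul_self (⟨x, hxQ⟩ : (Q : Subgroup G)))) hx1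
    refine ⟨x, hxo, ?_⟩
    rw [← hxy]
    exact section_const hM ⟨1, by rw [pow_one, ← hxo]; exact pow_orderOf_eq_one x⟩
      (klein_centralizer_core Q hQ4 hxQ hx1) hχ hcom.symm hy
  set R : IrrCharacter G → (G → ℂ) := fun χ => pRegularPart 2 (χ : G → ℂ) with hR
  have hRdef : ∀ (χ : IrrCharacter G) (g : G),
      R χ g = if IsPRegular 2 g then (χ : G → ℂ) g else 0 := fun χ g => by
    simp only [hR, pRegularPart]
  let v : Fin 3 → (G → ℂ) := ![R (CT.trivIrr G), R ζ₂, R ζ₃]
  have hli : LinearIndependent ℂ v := by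
    rw [Fintype.linearIndependent_iff]
    intro c hc
    simp only [v, Fin.sum_univ_three, Matrix.cons_val] at hc
    let f : G → ℂ := fun g => c 0 + c 1 * (ζ₂ : G → ℂ) g + c 2 * (ζ₃ : G → ℂ) g
    have hreg : ∀ g, ¬ 2 ∣ orderOf g → f g = 0 := fun g hg => by
      have := congrFun hc g
      simpa [hRdef, IsPRegular, hg, f] using this
    set w : ℂ := c 0 + c 1 + c 2 * (ε : ℂ) with hw
    have hfs : ∀ g, 2 ∣ orderOf g → f g = w ∧ (ζ₄ : G → ℂ) g = -1 := fun g hg => by
      obtain ⟨z, hz, e2⟩ := hsing g hg ζ₂ (hmem _ (by simp))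
      obtain ⟨z', hz', e3⟩ := hsing g hg ζ₃ (hmem _ (by simp))
      obtain ⟨z'', hz'', e4⟩ := hsing g hg ζ₄ (hmem _ (by simp))
      refine ⟨?_, by rw [e4, (hinv z'' hz'').2.2]⟩
      simp only [f, e2, e3, (hinv z hz).1, (hinv z' hz').2.1, hw, mul_one]
    have hfeq : f = c 0 • (fun _ => (1 : ℂ)) + c 1 • (ζ₂ : G → ℂ) + c 2 • (ζ₃ : G → ℂ) := by
      funext g; simp [f]
    have h0 : classInner f (ζ₄ : G → ℂ) = 0 := by
      rw [hfeq, CT.classInner_add_left, CT.classInner_add_left, CT.classInner_smul_left,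
        CT.classInner_smul_left, CT.classInner_smul_left,
        CT.irr_inner_of_ne CT.isIrrCharacter_one ζ₄.2 (Ne.symm h4t),
        CT.irr_inner_of_ne ζ₂.2 ζ₄.2 (fun h => h24 (Subtype.ext h)),
        CT.irr_inner_of_ne ζ₃.2 ζ₄.2 (fun h => h34 (Subtype.ext h))]
      ring
    have h1 : ∑ g : G, f g * conj ((ζ₄ : G → ℂ) g) =
        ((Finset.univ.filter fun g : G => 2 ∣ orderOf g).card : ℂ) * -w := by
      rw [← Finset.sum_filter_of_ne (p := fun g : G => 2 ∣ orderOf g) (fun g _ h => by
          by_contra hg; exact h (by rw [hreg g hg, zero_mul])),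
        Finset.sum_congr rfl (g := fun _ => -w) (fun g hg => by
          rw [(hfs g (Finset.mem_filter.mp hg).2).1, (hfs g (Finset.mem_filter.mp hg).2).2]; simp),
        Finset.sum_const, nsmul_eq_mul]
    rw [classInner, h1] at h0
    have hw0 : w = 0 := by
      obtain ⟨z₀, hz₀⟩ := exists_prime_orderOf_dvd_card' (G := (P : Subgroup G)) 2
        (by rw [hP.card_four]; norm_num)
      have hne : (Finset.univ.filter fun g : G => 2 ∣ orderOf g).card ≠ 0 :=
        Finset.card_ne_zero.mpr ⟨(z₀ : G), Finset.mem_filter.mpr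
          ⟨Finset.mem_univ _, by rw [Subgroup.orderOf_coe, hz₀]⟩⟩
      simpa [hne, CT.card_ne_zero] using h0
    have hf0 : f = 0 := funext fun g => by
      by_cases hg : 2 ∣ orderOf g
      · rw [(hfs g hg).1, hw0]; rfl
      · rw [hreg g hg]; rfl
    have hinner : ∀ χ : G → ℂ, IsIrrCharacter G χ →
        c 0 * classInner (fun _ => (1 : ℂ)) χ + c 1 * classInner (ζ₂ : G → ℂ) χ +
          c 2 * classInner (ζ₃ : G → ℂ) χ = 0 := fun χ _ => by
      have := congrArg (fun φ => classInner φ χ) (hfeq.symm.trans hf0)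
      simpa [CT.classInner_add_left, CT.classInner_smul_left] using this
    have a0 := hinner _ CT.isIrrCharacter_one
    have a2 := hinner _ ζ₂.2
    have a3 := hinner _ ζ₃.2
    rw [CT.irr_inner_self CT.isIrrCharacter_one, CT.irr_inner_of_ne ζ₂.2 CT.isIrrCharacter_one h2t,
      CT.irr_inner_of_ne ζ₃.2 CT.isIrrCharacter_one h3t] at a0
    rw [CT.irr_inner_of_ne CT.isIrrCharacter_one ζ₂.2 (Ne.symm h2t), CT.irr_inner_self ζ₂.2,
      CT.irr_inner_of_ne ζ₃.2 ζ₂.2 (fun h => h23 (Subtype.ext h).symm)] at a2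
    rw [CT.irr_inner_of_ne CT.isIrrCharacter_one ζ₃.2 (Ne.symm h3t),
      CT.irr_inner_of_ne ζ₂.2 ζ₃.2 (fun h => h23 (Subtype.ext h)), CT.irr_inner_self ζ₃.2] at a3
    intro i
    fin_cases i
    · simpa using a0
    · simpa using a2
    · simpa using a3
  have hspan : Submodule.span ℂ (R '' principalBlock M G) = Submodule.span ℂ (Set.range v) := by
    apply le_antisymm
    · rw [Submodule.span_le]
      rintro _ ⟨χ, hχ, rfl⟩
      have hv : ∀ i, v i ∈ Submodule.span ℂ (Set.range v) := fun i =>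
        Submodule.subset_span ⟨i, rfl⟩
      rw [hB] at hχ
      rcases hχ with h | rfl | rfl | rfl
      · rw [show χ = CT.trivIrr G from Subtype.ext h]; exact hv 0
      · exact hv 1
      · exact hv 2
      · have e : R χ = v 0 + v 1 + (ε : ℂ) • v 2 := by
          funext g
          show R χ g = R (CT.trivIrr G) g + R ζ₂ g + (ε : ℂ) * R ζ₃ g
          simp only [hRdef]
          by_cases hg : IsPRegular 2 g
          · simp only [hg, if_true, CT.trivIrr_apply]
            have := hrel g (Nat.odd_iff.mpr (by unfold IsPRegular at hg; omega))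
            linear_combination -this
          · simp [hg]
        rw [SetLike.mem_coe, e]
        exact Submodule.add_mem _ (Submodule.add_mem _ (hv 0) (hv 1)) (Submodule.smul_mem _ _ (hv 2))
    · refine Submodule.span_mono ?_
      rintro _ ⟨i, rfl⟩
      fin_cases i
      · exact ⟨_, hmem _ (Or.inl rfl), rfl⟩
      · exact ⟨_, hmem _ (Or.inr (Or.inl rfl)), rfl⟩
      · exact ⟨_, hmem _ (Or.inr (Or.inr (Or.inl rfl))), rfl⟩
  show Module.finrank ℂ ↥(Submodule.span ℂ (R '' principalBlock M G)) = 3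
  rw [hspan, finrank_span_eq_card hli, Fintype.card_fin]

end Cfsg.Agent.Blocks
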