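import Cfsg.Agent.Lib.Invol.DihStatements
import Cfsg.Agent.Lib.Blocks.KleinRank
import Cfsg.Agent.Lib.Basics.Cores
import Mathlib.GroupTheory.SpecificGroups.Dihedral
import Mathlib.GroupTheory.SpecificGroups.Cyclic

/-!
# Local facts for a dihedral Sylow 2-subgroup with a chosen generator of the rotations
-/

set_option autoImplicit false
set_option linter.style.haveILetI false
set_option linter.unusedSectionVars false

namespace Cfsg.Agent.Blocks

universe u

variable {G : Type u} [Group G] [Finite G]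

/-- A dihedral Sylow 2-subgroup with a generator of its cyclic subgroup of index two. -/
structure DihSyl (P : Sylow 2 G) where
  n : ℕ
  hn : 3 ≤ n
  e : (P : Subgroup G) ≃* DihedralGroup (2 ^ (n - 1))
  σ : G
  hσ : σ ∈ (P : Subgroup G)
  hσo : orderOf σ = 2 ^ (n - 1)

namespace DihSyl

variable {P : Sylow 2 G} (S : DihSyl P)

/-- The order of the cyclic subgroup. -/
abbrev m : ℕ := 2 ^ (S.n - 1)

/-- Half of it. -/
abbrev h : ℕ := 2 ^ (S.n - 2)

/-- The central involution. -/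
abbrev J : G := S.σ ^ S.h

theorem two_h : S.m = 2 * S.h := by
  have := S.hn
  rw [m, h, show S.n - 1 = (S.n - 2) + 1 by omega, pow_succ, mul_comm]

theorem two_m : 2 ^ S.n = 2 * S.m := by
  have := S.hn
  rw [m, ← pow_succ', Nat.sub_add_cancel (by omega)]

theorem four_le_m : 4 ≤ S.m := by
  have := S.hn
  calc 4 = 2 ^ 2 := by norm_num
    _ ≤ S.m := Nat.pow_le_pow_right (by norm_num) (by omega)

theorem two_le_h : 2 ≤ S.h := by
  have := S.four_le_m
  have := S.two_h
  omega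

theorem card_P : Nat.card (P : Subgroup G) = 2 ^ S.n := by
  rw [Nat.card_congr S.e.toEquiv, DihedralGroup.nat_card, S.two_m]

theorem factorization_card : (Nat.card G).factorization 2 = S.n := by
  haveI : Fact (Nat.Prime 2) := ⟨Nat.prime_two⟩
  have h := P.card_eq_multiplicity
  rw [S.card_P] at h
  exact (Nat.pow_right_injective le_rfl h).symm

theorem eq_zero_or_half {c : ZMod (2 ^ (S.n - 1))} (hc : c + c = 0) :
    c = 0 ∨ c = (S.h : ZMod (2 ^ (S.n - 1))) := by
  haveI : NeZero (2 ^ (S.n - 1)) := ⟨by positivity⟩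
  obtain ⟨v, hv, rfl⟩ : ∃ v : ℕ, v < 2 ^ (S.n - 1) ∧ c = (v : ZMod (2 ^ (S.n - 1))) :=
    ⟨c.val, ZMod.val_lt c, (ZMod.natCast_zmod_val c).symm⟩
  rw [← Nat.cast_add, ZMod.natCast_eq_zero_iff] at hc
  obtain ⟨k, hk⟩ := hc
  have h2 := S.two_h
  simp only [m] at h2
  have : k < 2 := by
    by_contra hk2
    have : 2 ^ (S.n - 1) * 2 ≤ 2 ^ (S.n - 1) * k := Nat.mul_le_mul_left _ (not_lt.mp hk2)
    omega
  interval_cases k
  · left
    rw [show v = 0 by omega, Nat.cast_zero]
  · right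
    rw [show v = S.h by omega]

theorem exists_rot : ∃ a : ZMod (2 ^ (S.n - 1)), S.e ⟨S.σ, S.hσ⟩ = DihedralGroup.r a := by
  rcases hv : S.e ⟨S.σ, S.hσ⟩ with a | a
  · exact ⟨a, rfl⟩
  · exfalso
    have h1 : orderOf (S.e ⟨S.σ, S.hσ⟩) = 2 ^ (S.n - 1) := by
      rw [MulEquiv.orderOf_eq, Subgroup.orderOf_mk, S.hσo]
    rw [hv, DihedralGroup.orderOf_sr] at h1
    have := S.four_le_m
    simp only [m] at this
    omega

/-- The coordinate of `σ`. -/
noncomputable def ra : ZMod (2 ^ (S.n - 1)) := S.exists_rot.choose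

theorem e_pow (k : ℕ) :
    S.e ⟨S.σ ^ k, pow_mem S.hσ k⟩ = DihedralGroup.r ((k : ZMod (2 ^ (S.n - 1))) * S.ra) := by
  have h1 : (⟨S.σ ^ k, pow_mem S.hσ k⟩ : (P : Subgroup G)) = ⟨S.σ, S.hσ⟩ ^ k :=
    Subtype.ext (by simp)
  rw [h1, map_pow, S.exists_rot.choose_spec, DihedralGroup.r_pow]
  congr 1
  show S.ra * (k : ZMod (2 ^ (S.n - 1))) = _
  ring

theorem exists_pow (c : ZMod (2 ^ (S.n - 1))) :
    ∃ k : ℕ, (k : ZMod (2 ^ (S.n - 1))) * S.ra = c := by
  classical
  haveI : NeZero (2 ^ (S.n - 1)) := ⟨by positivity⟩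
  let f : ZMod (2 ^ (S.n - 1)) → ZMod (2 ^ (S.n - 1)) := fun v => (v.val : ZMod (2 ^ (S.n - 1))) * S.ra
  have hf : Function.Injective f := by
    intro v w hvw
    have h1 : (⟨S.σ ^ v.val, pow_mem S.hσ _⟩ : (P : Subgroup G)) = ⟨S.σ ^ w.val, pow_mem S.hσ _⟩ :=
      S.e.injective (by rw [S.e_pow, S.e_pow]; exact congrArg _ hvw)
    have h2 := pow_injOn_Iio_orderOf (x := S.σ)
      (by rw [Set.mem_Iio, S.hσo]; exact ZMod.val_lt v)
      (by rw [Set.mem_Iio, S.hσo]; exact ZMod.val_lt w) (congrArg Subtype.val h1)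
    exact ZMod.val_injective _ h2
  obtain ⟨v, hv⟩ := (Finite.injective_iff_surjective.mp hf) c
  exact ⟨v.val, hv⟩

/-- An element of `P` is a power of `σ` or a reflection. -/
theorem mem_cases {x : G} (hx : x ∈ (P : Subgroup G)) :
    (∃ k : ℕ, x = S.σ ^ k) ∨ ∃ c, S.e ⟨x, hx⟩ = DihedralGroup.sr c := by
  rcases hv : S.e ⟨x, hx⟩ with c | c
  · left
    obtain ⟨k, hk⟩ := S.exists_pow c
    refine ⟨k, congrArg Subtype.val (S.e.injective ?_ : (⟨x, hx⟩ : (P : Subgroup G)) =
      ⟨S.σ ^ k, pow_mem S.hσ k⟩)⟩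
    rw [S.e_pow, hk, hv]
  · exact Or.inr ⟨c, rfl⟩

theorem orderOf_of_sr {x : G} (hx : x ∈ (P : Subgroup G)) {c : ZMod (2 ^ (S.n - 1))}
    (hc : S.e ⟨x, hx⟩ = DihedralGroup.sr c) : orderOf x = 2 := by
  rw [show x = ((⟨x, hx⟩ : (P : Subgroup G)) : G) from rfl, Subgroup.orderOf_coe,
    ← MulEquiv.orderOf_eq S.e, hc, DihedralGroup.orderOf_sr]

theorem J_mem : S.J ∈ (P : Subgroup G) := pow_mem S.hσ _

theorem orderOf_J : orderOf S.J = 2 := by
  have hh := S.two_h
  rw [J, orderOf_pow_of_dvd (by positivity) (by rw [S.hσo]; exact ⟨2, by simpa [mul_comm] using hh⟩),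
    S.hσo]
  simp only [m] at hh
  rw [hh, Nat.mul_div_cancel _ (by positivity)]

theorem J_ne_one : S.J ≠ 1 := fun h => by
  have := S.orderOf_J
  rw [h, orderOf_one] at this
  omega

theorem e_J : S.e ⟨S.J, S.J_mem⟩ = DihedralGroup.r (S.h : ZMod (2 ^ (S.n - 1))) := by
  have h1 : S.e ⟨S.J, S.J_mem⟩ = _ := S.e_pow S.h
  rw [h1]
  congr 1
  have hsq : (⟨S.J, S.J_mem⟩ : (P : Subgroup G)) * ⟨S.J, S.J_mem⟩ = 1 := by
    refine Subtype.ext ?_
    simp only [Subgroup.coe_mul, OneMemClass.coe_one]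
    rw [← sq, ← S.orderOf_J, pow_orderOf_eq_one]
  have h2 := congrArg S.e hsq
  rw [map_mul, h1, DihedralGroup.r_mul_r, map_one, DihedralGroup.one_def, DihedralGroup.r.injEq] at h2
  rcases S.eq_zero_or_half h2 with h3 | h3
  · exfalso
    rw [h3, ← DihedralGroup.one_def, ← map_one S.e] at h1
    exact S.J_ne_one (congrArg Subtype.val (S.e.injective h1))
  · exact h3

theorem commute_J {x : G} (hx : x ∈ (P : Subgroup G)) : Commute x S.J := by
  refine congrArg Subtype.val (S.e.injective ?_ :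
    (⟨x, hx⟩ : (P : Subgroup G)) * ⟨S.J, S.J_mem⟩ = ⟨S.J, S.J_mem⟩ * ⟨x, hx⟩)
  rw [map_mul, map_mul, S.e_J]
  rcases S.e ⟨x, hx⟩ with c | c
  · rw [DihedralGroup.r_mul_r, DihedralGroup.r_mul_r, add_comm]
  · rw [DihedralGroup.sr_mul_r, DihedralGroup.r_mul_sr, DihedralGroup.sr.injEq]
    have hh : (S.h : ZMod (2 ^ (S.n - 1))) + S.h = 0 := by
      rw [← Nat.cast_add, ← two_mul, ← S.two_h]
      exact ZMod.natCast_self _
    linear_combination hh

theorem sr_inv_sigma {x : G} (hx : x ∈ (P : Subgroup G)) {c : ZMod (2 ^ (S.n - 1))}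
    (hc : S.e ⟨x, hx⟩ = DihedralGroup.sr c) : x * S.σ * x⁻¹ = S.σ⁻¹ := by
  refine congrArg Subtype.val (S.e.injective ?_ : (⟨x, hx⟩ : (P : Subgroup G)) * ⟨S.σ, S.hσ⟩ *
    ⟨x, hx⟩⁻¹ = (⟨S.σ, S.hσ⟩ : (P : Subgroup G))⁻¹)
  rw [map_mul, map_mul, map_inv, map_inv, hc, S.exists_rot.choose_spec, DihedralGroup.inv_sr,
    DihedralGroup.inv_r, DihedralGroup.sr_mul_r, DihedralGroup.sr_mul_sr]
  congr 1
  ring

theorem exists_inverting :
    ∃ τ ∈ (P : Subgroup G), orderOf τ = 2 ∧ τ * S.σ * τ⁻¹ = S.σ⁻¹ := by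
  have h1 : S.e ⟨(S.e.symm (DihedralGroup.sr 0) : G), SetLike.coe_mem _⟩ = DihedralGroup.sr 0 :=
    S.e.apply_symm_apply _
  exact ⟨_, SetLike.coe_mem _, S.orderOf_of_sr _ h1, S.sr_inv_sigma _ h1⟩

open Classical in
/-- The centralizer in `P` of an element. -/
theorem card_centralizing_le {x : G} (hx : x ∈ (P : Subgroup G)) (hx1 : x ≠ 1) (hxJ : x ≠ S.J)
    {W : Subgroup G} (hW : W ≤ (P : Subgroup G)) (hc : ∀ w ∈ W, Commute w x) :
    Nat.card W ≤ if x * x = 1 then 4 else S.m := by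
  classical
  haveI : NeZero (2 ^ (S.n - 1)) := ⟨by positivity⟩
  have hcomm : ∀ w : W, Commute (S.e ⟨w, hW w.2⟩) (S.e ⟨x, hx⟩) := fun w =>
    (show Commute (⟨w, hW w.2⟩ : (P : Subgroup G)) ⟨x, hx⟩ from Subtype.ext (hc w w.2)).map S.e
  have hinj : ∀ w w' : W, S.e ⟨w, hW w.2⟩ = S.e ⟨w', hW w'.2⟩ → w = w' := fun w w' h =>
    Subtype.ext (congrArg (fun v : (P : Subgroup G) => (v : G)) (S.e.injective h))
  rcases hv : S.e ⟨x, hx⟩ with a | a
  · have h2a : a + a ≠ 0 := by
      intro h0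
      rcases S.eq_zero_or_half h0 with h3 | h3
      · rw [h3, ← DihedralGroup.one_def, ← map_one S.e] at hv
        exact hx1 (congrArg Subtype.val (S.e.injective hv))
      · rw [h3, ← S.e_J] at hv
        exact hxJ (congrArg Subtype.val (S.e.injective hv))
    rw [if_neg]
    · let F : W → ZMod (2 ^ (S.n - 1)) := fun w => match S.e ⟨w, hW w.2⟩ with
        | DihedralGroup.r c => c
        | DihedralGroup.sr c => c
      have hrot : ∀ w : W, ∃ c, S.e ⟨w, hW w.2⟩ = DihedralGroup.r c := by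
        intro w
        have hw := hcomm w
        rcases hc' : S.e ⟨w, hW w.2⟩ with c | c
        · exact ⟨c, rfl⟩
        · rw [hc', hv, commute_iff_eq, DihedralGroup.sr_mul_r, DihedralGroup.r_mul_sr,
            DihedralGroup.sr.injEq] at hw
          exact absurd (by linear_combination hw) h2a
      have := Nat.card_le_card_of_injective F fun w w' h => by
        obtain ⟨c, hc⟩ := hrot w
        obtain ⟨c', hc'⟩ := hrot w'
        refine hinj w w' ?_
        simp only [F, hc, hc'] at h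
        rw [hc, hc', h]
      rwa [Nat.card_zmod] at this
    · intro hxx
      have h1 := congrArg S.e (Subtype.ext hxx : (⟨x, hx⟩ : (P : Subgroup G)) * ⟨x, hx⟩ = 1)
      rw [map_mul, hv, DihedralGroup.r_mul_r, map_one, DihedralGroup.one_def,
        DihedralGroup.r.injEq] at h1
      exact h2a h1
  · rw [if_pos (by
      have h1 := pow_orderOf_eq_one x
      rwa [S.orderOf_of_sr hx hv, sq] at h1)]
    let T : Finset (DihedralGroup (2 ^ (S.n - 1))) :=
      {DihedralGroup.r 0, DihedralGroup.r (S.h : ZMod (2 ^ (S.n - 1))), DihedralGroup.sr a,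
        DihedralGroup.sr (a + (S.h : ZMod (2 ^ (S.n - 1))))}
    have hT : ∀ w : W, S.e ⟨w, hW w.2⟩ ∈ T := by
      intro w
      have hw := hcomm w
      rcases hc' : S.e ⟨w, hW w.2⟩ with c | c
      · rw [hc', hv, commute_iff_eq, DihedralGroup.r_mul_sr, DihedralGroup.sr_mul_r,
          DihedralGroup.sr.injEq] at hw
        rcases S.eq_zero_or_half (show c + c = 0 by linear_combination -hw) with h3 | h3 <;>
          simp [T, h3]
      · rw [hc', hv, commute_iff_eq, DihedralGroup.sr_mul_sr, DihedralGroup.sr_mul_sr,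
          DihedralGroup.r.injEq] at hw
        rcases S.eq_zero_or_half (show (c - a) + (c - a) = 0 by linear_combination -hw) with h3 | h3
        · simp [T, sub_eq_zero.mp h3]
        · simp [T, ← h3]
    have := Nat.card_le_card_of_injective (fun w : W => (⟨_, hT w⟩ : T))
      fun w w' h => hinj w w' (congrArg Subtype.val h)
    rw [Nat.card_eq_finsetCard] at this
    exact this.trans Finset.card_le_four

open Classical in
/-- The 2-part of the order of a centralizer. -/
theorem centralizer_two_le {z : G} (hz : ∃ k : ℕ, z ^ 2 ^ k = 1) (hz1 : z ≠ 1)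
    (hzJ : ¬ IsConj z S.J) :
    2 ^ (Nat.card (Subgroup.centralizer ({z} : Set G))).factorization 2 ≤
      if z * z = 1 then 4 else S.m := by
  classical
  haveI : Fact (Nat.Prime 2) := ⟨Nat.prime_two⟩
  set C := Subgroup.centralizer ({z} : Set G) with hC
  set zC : C := ⟨z, Subgroup.mem_centralizer_singleton_iff.mpr rfl⟩
  obtain ⟨R, hR⟩ : ∃ R : Sylow 2 C, zC ∈ R := by
    obtain ⟨k, hk⟩ := hz
    have : IsPGroup 2 (Subgroup.zpowers zC) := isPGroup_zpowers (p := 2)
      ⟨k, Subtype.ext (by simpa [zC] using hk)⟩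
    obtain ⟨R, hR⟩ := this.exists_le_sylow
    exact ⟨R, hR (Subgroup.mem_zpowers zC)⟩
  obtain ⟨Q, hQ⟩ := (R.isPGroup'.map C.subtype).exists_le_sylow
  obtain ⟨g, hg⟩ := MulAction.exists_smul_eq G Q P
  set W := ((R : Subgroup C).map C.subtype).map (MulAut.conj g).toMonoidHom with hW
  have hcard : Nat.card W = 2 ^ (Nat.card C).factorization 2 := by
    rw [hW, Subgroup.card_map_of_injective (MulAut.conj g).injective,
      Subgroup.card_map_of_injective C.subtype_injective, R.card_eq_multiplicity]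
  have hWP : W ≤ (P : Subgroup G) := by
    rintro _ ⟨q, hq, rfl⟩
    rw [← hg, Sylow.coe_subgroup_smul]
    exact Subgroup.smul_mem_pointwise_smul q (MulAut.conj g) _ (hQ hq)
  set z' := g * z * g⁻¹ with hz'
  have hz'P : z' ∈ (P : Subgroup G) := hWP ⟨z, ⟨zC, hR, rfl⟩, rfl⟩
  have hc : ∀ w ∈ W, Commute w z' := by
    rintro _ ⟨q, ⟨c, -, rfl⟩, rfl⟩
    exact (show Commute (c : G) z from Subgroup.mem_centralizer_singleton_iff.mp c.2).map
      (MulAut.conj g).toMonoidHom
  have h1 : z' ≠ 1 := fun h => hz1 (conj_eq_one_iff.mp h)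
  have h2 : z' ≠ S.J := fun h => hzJ (isConj_iff.mpr ⟨g, h⟩)
  have h3 := S.card_centralizing_le hz'P h1 h2 hWP hc
  have h4 : z' * z' = 1 ↔ z * z = 1 := by
    rw [hz', show g * z * g⁻¹ * (g * z * g⁻¹) = g * (z * z) * g⁻¹ by group, conj_eq_one_iff]
  simp only [h4] at h3
  rw [← hcard]
  exact h3

theorem le_factorization_centralizer {z : G} {W : Subgroup G} {k : ℕ} (hW : Nat.card W = 2 ^ k)
    (hc : ∀ w ∈ W, Commute w z) :
    k ≤ (Nat.card (Subgroup.centralizer ({z} : Set G))).factorization 2 := by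
  refine (Nat.prime_two.pow_dvd_iff_le_factorization Nat.card_pos.ne').mp ?_
  rw [← hW]
  exact Subgroup.card_dvd_of_le fun w hw => Subgroup.mem_centralizer_singleton_iff.mpr (hc w hw)

theorem sigma_pow_mul_self {l : ℕ} (hl1 : S.σ ^ l ≠ 1) (hlJ : S.σ ^ l ≠ S.J) :
    S.σ ^ l * S.σ ^ l ≠ 1 := by
  intro hh
  have h1 := congrArg S.e (Subtype.ext hh :
    (⟨S.σ ^ l, pow_mem S.hσ l⟩ : (P : Subgroup G)) * ⟨S.σ ^ l, pow_mem S.hσ l⟩ = 1)
  rw [map_mul, S.e_pow, DihedralGroup.r_mul_r, map_one, DihedralGroup.one_def,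
    DihedralGroup.r.injEq] at h1
  rcases S.eq_zero_or_half h1 with h3 | h3
  · exact hl1 (congrArg Subtype.val (S.e.injective (by
      rw [S.e_pow, h3, map_one, DihedralGroup.one_def]) :
        (⟨S.σ ^ l, pow_mem S.hσ l⟩ : (P : Subgroup G)) = 1))
  · exact hlJ (congrArg Subtype.val (S.e.injective (by rw [S.e_pow, h3, S.e_J]) :
        (⟨S.σ ^ l, pow_mem S.hσ l⟩ : (P : Subgroup G)) = ⟨S.J, S.J_mem⟩))

theorem centralizer_two_rot {l : ℕ} (hl1 : S.σ ^ l ≠ 1) (hlJ : S.σ ^ l ≠ S.J) :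
    2 ^ (Nat.card (Subgroup.centralizer ({S.σ ^ l} : Set G))).factorization 2 = S.m := by
  have hsq := S.sigma_pow_mul_self hl1 hlJ
  refine le_antisymm ?_ ?_
  · have := S.centralizer_two_le (z := S.σ ^ l) ⟨S.n - 1, by
      rw [← pow_mul, mul_comm, pow_mul, ← S.hσo, pow_orderOf_eq_one, one_pow]⟩ hl1 (fun hc => by
      obtain ⟨c, hc'⟩ := isConj_iff.mp hc
      refine hsq ((conj_eq_one_iff (a := c)).mp ?_)
      rw [show c * (S.σ ^ l * S.σ ^ l) * c⁻¹ = (c * S.σ ^ l * c⁻¹) * (c * S.σ ^ l * c⁻¹) by group,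
        hc', ← sq, ← S.orderOf_J, pow_orderOf_eq_one])
    rwa [if_neg hsq] at this
  · refine Nat.pow_le_pow_right (by norm_num) (le_factorization_centralizer
      (W := Subgroup.zpowers S.σ) (by rw [Nat.card_zpowers, S.hσo]) fun w hw => ?_)
    obtain ⟨i, rfl⟩ := Subgroup.mem_zpowers_iff.mp hw
    exact ((Commute.refl S.σ).zpow_left i).pow_right l

theorem centralizer_two_J :
    2 ^ (Nat.card (Subgroup.centralizer ({S.J} : Set G))).factorization 2 = 2 ^ S.n := by
  refine le_antisymm ?_ ?_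
  · refine Nat.pow_le_pow_right (by norm_num) ?_
    rw [← S.factorization_card]
    exact (Nat.factorization_le_iff_dvd Nat.card_pos.ne' Nat.card_pos.ne').mpr
      (Subgroup.card_subgroup_dvd_card _) 2
  · exact Nat.pow_le_pow_right (by norm_num)
      (le_factorization_centralizer S.card_P fun w hw => S.commute_J hw)

include S in
theorem complement_J {z : G} (hz : orderOf z = 2) :
    ∃ k : ℕ, (pPrimeCore 2 (Subgroup.centralizer ({z} : Set G))).index = 2 ^ k := by
  haveI : Fact (Nat.Prime 2) := ⟨Nat.prime_two⟩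
  obtain ⟨Q, N, hN, hc⟩ := Invol.centralizer_complement_dihedral (S := P) S.m
    (by have := S.four_le_m; omega) S.e hz
  obtain ⟨k, hk⟩ := Q.isPGroup'.exists_card_eq
  have hidx : N.index = 2 ^ k := by
    rw [← hk]; exact hc.symm.index_eq_card
  have hle : N ≤ pPrimeCore 2 (Subgroup.centralizer ({z} : Set G)) := by
    refine le_sSup ⟨hN, ?_⟩
    rw [Nat.coprime_comm, Nat.prime_two.coprime_iff_not_dvd, ← hc.index_eq_card]
    exact Q.not_dvd_index
  obtain ⟨i, -, hi⟩ := (Nat.dvd_prime_pow Nat.prime_two).mp (hidx ▸ Subgroup.index_dvd_of_le hle)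
  exact ⟨i, hi⟩

theorem complement_of_le {z x : G} (hle : Subgroup.centralizer ({x} : Set G) ≤
      Subgroup.centralizer ({z} : Set G))
    (h : ∃ k : ℕ, (pPrimeCore 2 (Subgroup.centralizer ({z} : Set G))).index = 2 ^ k) :
    ∃ k : ℕ, (pPrimeCore 2 (Subgroup.centralizer ({x} : Set G))).index = 2 ^ k := by
  haveI : Fact (Nat.Prime 2) := ⟨Nat.prime_two⟩
  set C := Subgroup.centralizer ({z} : Set G)
  set D := Subgroup.centralizer ({x} : Set G)
  set K := pPrimeCore 2 C
  haveI : K.Normal := Basics.pPrimeCore_normal 2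
  set f : D →* C := Subgroup.inclusion hle
  have hnd : ¬ 2 ∣ Nat.card (K.comap f) := fun hd => by
    refine Basics.not_dvd_card_pPrimeCore (G := C) 2 (hd.trans ?_)
    exact Subgroup.card_comap_dvd_of_injective K f (Subgroup.inclusion_injective hle)
  have hle' : K.comap f ≤ pPrimeCore 2 D := by
    refine le_sSup ⟨inferInstance, ?_⟩
    rw [Nat.coprime_comm, Nat.prime_two.coprime_iff_not_dvd]
    exact hnd
  obtain ⟨k, hk⟩ := h
  have h1 : (K.comap f).index ∣ 2 ^ k := by
    rw [← hk, Subgroup.index_comap]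
    exact Subgroup.relIndex_dvd_index_of_normal K f.range
  obtain ⟨i, -, hi⟩ := (Nat.dvd_prime_pow Nat.prime_two).mp
    ((Subgroup.index_dvd_of_le hle').trans h1)
  exact ⟨i, hi⟩

theorem complement_rot {l : ℕ} (hl1 : S.σ ^ l ≠ 1) :
    ∃ k : ℕ, (pPrimeCore 2 (Subgroup.centralizer ({S.σ ^ l} : Set G))).index = 2 ^ k := by
  refine complement_of_le ?_ (S.complement_J S.orderOf_J)
  intro c hc
  rw [Subgroup.mem_centralizer_singleton_iff] at hc ⊢
  obtain ⟨i, hi⟩ : ∃ i : ℕ, S.J = (S.σ ^ l) ^ i := by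
    obtain ⟨k, -, hk⟩ := (Nat.dvd_prime_pow Nat.prime_two).mp
      ((orderOf_dvd_of_pow_eq_one (show (S.σ ^ l) ^ S.m = 1 by
        rw [← pow_mul, mul_comm, pow_mul, m, ← S.hσo, pow_orderOf_eq_one, one_pow])))
    have hk0 : k ≠ 0 := fun h => hl1 (orderOf_eq_one_iff.mp (by rw [hk, h, pow_zero]))
    refine ⟨2 ^ (k - 1), ?_⟩
    have ho : orderOf ((S.σ ^ l) ^ 2 ^ (k - 1)) = 2 := by
      rw [orderOf_pow_of_dvd (by positivity) (hk ▸ pow_dvd_pow 2 (by omega)), hk,
        Nat.pow_div (by omega) (by norm_num), show k - (k - 1) = 1 by omega, pow_one]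
    by_contra hne
    have h2 := S.sigma_pow_mul_self (l := l * 2 ^ (k - 1)) (fun h => by
      rw [pow_mul] at h
      rw [h, orderOf_one] at ho
      omega) (by rw [pow_mul]; exact Ne.symm hne)
    refine h2 ?_
    rw [← sq, pow_mul]
    conv_lhs => arg 2; rw [← ho]
    exact pow_orderOf_eq_one _
  rw [hi]
  exact Commute.pow_right hc i

/-- Fusion of the rotations of order at least four. -/
theorem rot_conj {k l : ℕ} (hk1 : S.σ ^ k ≠ 1) (hkJ : S.σ ^ k ≠ S.J)
    (h : IsConj (S.σ ^ k) (S.σ ^ l)) : S.σ ^ l = S.σ ^ k ∨ S.σ ^ l = (S.σ ^ k)⁻¹ := by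
  classical
  haveI : Fact (Nat.Prime 2) := ⟨Nat.prime_two⟩
  set x := S.σ ^ k with hx
  obtain ⟨g, hg⟩ := isConj_iff.mp h
  set H := Subgroup.zpowers x with hH
  have hmap : H.map (MulAut.conj g).toMonoidHom = H := by
    have h1 : H.map (MulAut.conj g).toMonoidHom = Subgroup.zpowers (S.σ ^ l) := by
      rw [hH, MonoidHom.map_zpowers]
      exact congrArg _ hg
    rw [h1]
    have ho : orderOf (S.σ ^ l) = orderOf x := by
      rw [← hg]; exact MulEquiv.orderOf_eq (MulAut.conj g) x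
    have hmem : S.σ ^ l ∈ H := by
      have hcard : Nat.card (Subgroup.zpowers S.σ) = S.m := by rw [Nat.card_zpowers, S.hσo]
      let Z := Subgroup.zpowers S.σ
      letI := Fintype.ofFinite Z
      letI := Fintype.ofFinite H
      let T : Finset Z := Finset.univ.filter fun a => a ^ orderOf x = 1
      have hT : T.card ≤ orderOf x := IsCyclic.card_pow_eq_one_le (orderOf_pos x)
      have hmemZ : ∀ v : H, (v : G) ∈ Z := fun v => Subgroup.zpowers_le.mpr
        (pow_mem (Subgroup.mem_zpowers S.σ) k) (hH ▸ v.2 : (v : G) ∈ Subgroup.zpowers x)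
      let emb : H ↪ Z := ⟨fun v => ⟨v, hmemZ v⟩, fun v w e =>
        Subtype.ext (congrArg (fun a : Z => (a : G)) e)⟩
      have hsub : (Finset.univ.map emb) ⊆ T := by
        intro v hv
        obtain ⟨w, -, rfl⟩ := Finset.mem_map.mp hv
        refine Finset.mem_filter.mpr ⟨Finset.mem_univ _, Subtype.ext ?_⟩
        have h1 := pow_card_eq_one' (x := w)
        rw [show Nat.card H = orderOf x from Nat.card_zpowers x] at h1
        exact congrArg (fun a : H => (a : G)) h1
      have heq : Finset.univ.map emb = T := Finset.eq_of_subset_of_card_le hsub (hT.trans (le_of_eq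
        (by rw [Finset.card_map, Finset.card_univ, ← Nat.card_eq_fintype_card, Nat.card_zpowers])))
      have hy : (⟨S.σ ^ l, pow_mem (Subgroup.mem_zpowers _) l⟩ : Z) ∈ Finset.univ.map emb := by
        rw [heq]
        refine Finset.mem_filter.mpr ⟨Finset.mem_univ _, Subtype.ext ?_⟩
        simp only [SubmonoidClass.coe_pow, OneMemClass.coe_one]
        rw [← ho, pow_orderOf_eq_one]
      obtain ⟨w, -, hw⟩ := Finset.mem_map.mp hy
      have : (w : G) = S.σ ^ l := congrArg (fun a : Z => (a : G)) hw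
      exact this ▸ w.2
    exact Subgroup.eq_of_le_of_card_ge (Subgroup.zpowers_le.mpr hmem)
      (by rw [Nat.card_zpowers, Nat.card_zpowers, ho])
  have hgN : g ∈ Subgroup.normalizer (H : Set G) := ConjFunctor.cj_eq_iff.1 hmap
  set N := Subgroup.normalizer (H : Set G) with hN
  set C := Subgroup.centralizer (H : Set G) with hCdef
  have hCz : C = Subgroup.centralizer ({x} : Set G) := centralizer_zpowers_eq x
  have hCN : C ≤ N := Subgroup.centralizer_le_normalizer _
  have hPN : (P : Subgroup G) ≤ N := by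
    intro w hw
    refine ConjFunctor.cj_eq_iff.1 (show H.map (MulAut.conj w).toMonoidHom = H from ?_)
    rw [hH, MonoidHom.map_zpowers]
    show Subgroup.zpowers (w * x * w⁻¹) = _
    rcases S.mem_cases hw with ⟨i, rfl⟩ | ⟨c, hc⟩
    · rw [hx, ((Commute.refl S.σ).pow_pow i k).eq, mul_inv_cancel_right]
    · rw [hx, ← conj_pow, S.sr_inv_sigma hw hc, inv_pow, Subgroup.zpowers_inv]
  have hdvd : C.relIndex N ∣ (orderOf x).totient := by
    rw [show (orderOf x).totient = Nat.card (MulAut H) by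
      rw [IsCyclic.card_mulAut, Nat.card_zpowers]]
    have hker : (Subgroup.normalizerMonoidHom H).ker = C.subgroupOf N :=
      Subgroup.normalizerMonoidHom_ker H
    rw [Subgroup.relIndex, ← hker, Subgroup.index_ker]
    exact Subgroup.card_subgroup_dvd_card _
  obtain ⟨o, -, ho⟩ := (Nat.dvd_prime_pow Nat.prime_two).mp
    (show orderOf x ∣ 2 ^ (S.n - 1) by rw [hx, ← S.hσo]; exact orderOf_pow_dvd k)
  have hpow : ∃ i, C.relIndex N = 2 ^ i := by
    rw [ho] at hdvd
    rcases Nat.eq_zero_or_pos o with rfl | hopos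
    · exact ⟨0, Nat.dvd_one.mp (by simpa using hdvd)⟩
    · rw [Nat.totient_prime_pow Nat.prime_two hopos] at hdvd
      obtain ⟨i, -, hi⟩ := (Nat.dvd_prime_pow Nat.prime_two).mp
        (show C.relIndex N ∣ 2 ^ (o - 1) by simpa using hdvd)
      exact ⟨i, hi⟩
  obtain ⟨i, hi⟩ := hpow
  have hN2 : (Nat.card N).factorization 2 = S.n := by
    refine le_antisymm ?_ ((Nat.prime_two.pow_dvd_iff_le_factorization Nat.card_pos.ne').mp
      (S.card_P ▸ Subgroup.card_dvd_of_le hPN))
    rw [← S.factorization_card]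
    exact (Nat.factorization_le_iff_dvd Nat.card_pos.ne' Nat.card_pos.ne').mpr
      (Subgroup.card_subgroup_dvd_card _) 2
  have hi1 : C.relIndex N = 2 := by
    have hC2 : (Nat.card C).factorization 2 = S.n - 1 := by
      have h1 := S.centralizer_two_rot hk1 hkJ
      rw [← hCz] at h1
      exact Nat.pow_right_injective le_rfl h1
    have h1 := Subgroup.card_mul_index (C.subgroupOf N)
    rw [Nat.card_congr (Subgroup.subgroupOfEquivOfLe hCN).toEquiv] at h1
    have h2 := congrArg (fun t => t.factorization 2) h1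
    simp only [Nat.factorization_mul Nat.card_pos.ne' Subgroup.index_ne_zero_of_finite,
      Finsupp.coe_add, Pi.add_apply, hN2, hC2] at h2
    rw [show (C.subgroupOf N).index = 2 ^ i from hi, Nat.prime_two.factorization_pow,
      Finsupp.single_eq_same] at h2
    have hn := S.hn
    rw [hi, show i = 1 by omega, pow_one]
  obtain ⟨τ, hτ, -, hτσ⟩ := S.exists_inverting
  have hτx : τ * x * τ⁻¹ = x⁻¹ := by rw [hx, ← conj_pow, hτσ, inv_pow]
  have hτC : τ ∉ C := by
    rw [hCz, Subgroup.mem_centralizer_singleton_iff]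
    intro hc
    refine S.sigma_pow_mul_self hk1 hkJ ?_
    rw [hc, mul_inv_cancel_right] at hτx
    exact mul_eq_one_iff_eq_inv.mpr hτx
  rw [← hg]
  by_cases hgC : g ∈ C
  · left
    rw [hCz, Subgroup.mem_centralizer_singleton_iff] at hgC
    rw [hgC, mul_inv_cancel_right]
  · right
    have h2 : τ⁻¹ * g ∈ C := by
      have hidx : (C.subgroupOf N).index = 2 := hi1
      have h3 := (Subgroup.mul_mem_iff_of_index_two hidx (a := (⟨τ, hPN hτ⟩ : N)⁻¹)
        (b := ⟨g, hgN⟩)).mpr (by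
          simp only [Subgroup.inv_mem_iff, Subgroup.mem_subgroupOf]
          exact iff_of_false hτC hgC)
      simpa [Subgroup.mem_subgroupOf] using h3
    rw [hCz, Subgroup.mem_centralizer_singleton_iff] at h2
    calc g * x * g⁻¹ = τ * ((τ⁻¹ * g) * x * (τ⁻¹ * g)⁻¹) * τ⁻¹ := by group
      _ = τ * x * τ⁻¹ := by rw [h2, mul_inv_cancel_right]
      _ = x⁻¹ := hτx

end DihSyl

end Cfsg.Agent.Blocks
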