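import Cfsg.Agent.Lib.Blocks.FirstMain
import Cfsg.Agent.Lib.Blocks.Covering

/-!
# Blocks occurring in a central idempotent
-/

namespace Cfsg.Agent.Blocks

open MonoidAlgebra

universe u

variable {G : Type u} [Group G] [Finite G] {p : ℕ} {M : Ideal AlgInt} [M.IsPrime]

theorem blockCoeff_union_diff {A B : Set (IrrCharacter G)} (h : B ⊆ A) (g : G) :
    blockCoeff A g = blockCoeff B g + blockCoeff (A \ B) g := by
  simp only [blockCoeff]
  rw [← mul_add, ← finsum_mem_union Set.disjoint_sdiff_right (Set.toFinite _) (Set.toFinite _),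
    Set.union_sdiff_cancel h]

/-- A saturated set with a unit coefficient contains a block with a unit coefficient there. -/
theorem exists_block_of_saturated {A : Set (IrrCharacter G)}
    (hA : ∀ χ ∈ A, blockOf M (χ : G → ℂ) ⊆ A) {g : G}
    (hg : ¬ MemLocalIdeal M (blockCoeff A g)) :
    ∃ χ ∈ A, ¬ MemLocalIdeal M (blockCoeff (blockOf M (χ : G → ℂ)) g) := by
  induction hn : A.ncard using Nat.strong_induction_on generalizing A with
  | _ n ih =>
    subst hn
    rcases A.eq_empty_or_nonempty with rfl | ⟨χ, hχ⟩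
    · refine absurd ?_ hg
      simpa [blockCoeff] using (memLocalIdeal_zero (M := M))
    by_cases h : MemLocalIdeal M (blockCoeff (blockOf M (χ : G → ℂ)) g)
    · have hsat : ∀ ψ ∈ A \ blockOf M (χ : G → ℂ),
          blockOf M (ψ : G → ℂ) ⊆ A \ blockOf M (χ : G → ℂ) := fun ψ hψ η hη =>
        ⟨hA ψ hψ.1 hη, fun hηχ => hψ.2 (block_eq_of_mem (isPBlock_blockOf χ) (isPBlock_blockOf ψ)
          hηχ hη ▸ self_mem_blockOf ψ)⟩
      have hlt : (A \ blockOf M (χ : G → ℂ)).ncard < A.ncard :=
        Set.ncard_lt_ncard ⟨Set.sdiff_subset, fun hs => (hs hχ).2 (self_mem_blockOf χ)⟩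
          (Set.toFinite _)
      obtain ⟨ψ, hψ, hψg⟩ := ih _ hlt hsat (fun h' => hg (by
        rw [blockCoeff_union_diff (hA χ hχ) g]
        exact memLocalIdeal_add h h')) rfl
      exact ⟨ψ, hψ.1, hψg⟩
    · exact ⟨χ, hχ, h⟩

/-- A unit coefficient of a central idempotent occurs in one of its blocks. -/
theorem exists_block_of_idem (hM : IsPModular p M) {e : ZG (Res M) G} (he : e * e = e) {g : G}
    (hg : (e : MonoidAlgebra (Res M) G).coeff g ≠ 0) :
    ∃ χ : IrrCharacter G, omegaBar M χ e = 1 ∧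
      ¬ MemLocalIdeal M (blockCoeff (blockOf M (χ : G → ℂ)) g) := by
  classical
  set A := {χ : IrrCharacter G | omegaBar M χ e = 1}
  have hsat : ∀ χ ∈ A, blockOf M (χ : G → ℂ) ⊆ A := fun χ hχ ψ hψ => by
    show omegaBar M ψ e = 1
    rw [← omegaBar_eq_of_sameBlock hψ]
    exact hχ
  have hA := fun u => blockCoeff_mem_loc_of_saturated (M := M) hsat u
  have hbe : bBar M A = e := idem_ext hM (bBar_mul_self hA) he fun χ => by
    rw [omegaBar_bBar hA]
    by_cases h : χ ∈ A
    · rw [if_pos h]; exact (Eq.symm h)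
    · rw [if_neg h]
      by_contra h0
      have h2 : omegaBar M χ e * omegaBar M χ e = omegaBar M χ e := by rw [← map_mul, he]
      exact h (mul_left_cancel₀ (Ne.symm h0) (h2.trans (mul_one _).symm))
  rw [← hbe] at hg
  obtain ⟨χ, hχ, h⟩ := exists_block_of_saturated hsat ((coeff_bBar_ne_zero_iff hA g).mp hg)
  exact ⟨χ, hχ, h⟩

end Cfsg.Agent.Blocks
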