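import Cfsg.Agent.Lib.Blocks.Inflation
import Cfsg.Agent.Lib.Blocks.FirstMain
import Cfsg.Agent.Lib.Blocks.IdemBlock

/-!
# Defect groups of the blocks of a quotient contained in a block
-/

set_option linter.unusedSectionVars false

namespace Cfsg.Agent.Blocks.Dominated

open MonoidAlgebra Cfsg.Agent.Blocks

universe u v

variable {G : Type u} [Group G] [Finite G] {p : ℕ} {M : Ideal AlgInt} [M.IsPrime]
  {N : Subgroup G} [N.Normal]

theorem map_conj_map (Q : Subgroup G) (x : G) :
    (Q.map (MulAut.conj x).toMonoidHom).map (QuotientGroup.mk' N) =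
      (Q.map (QuotientGroup.mk' N)).map (MulAut.conj (x : G ⧸ N)).toMonoidHom := by
  rw [Subgroup.map_map, Subgroup.map_map]
  congr 1

/-- A defect group of a block of the quotient lies in the image of one of the containing block. -/
theorem le_map_defect (hM : IsPModular p M) {Bbar : Set (IrrCharacter (G ⧸ N))}
    (hBbar : IsPBlock M Bbar) {B : Set (IrrCharacter G)} (hB : IsPBlock M B)
    (hsub : ∀ χ ∈ Bbar, inflIrr χ ∈ B) {Dbar : Subgroup (G ⧸ N)}
    (hDbar : IsDefectGroup p M Bbar Dbar) :
    ∃ P : Subgroup G, IsDefectGroup p M B P ∧ Dbar ≤ P.map (QuotientGroup.mk' N) := by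
  haveI : Fact p.Prime := ⟨hM.1⟩
  obtain ⟨P, hP⟩ := exists_defectGroup (p := p) hB
  obtain ⟨g, hg, hle, hPp, hcard⟩ := defectGroup_spec hP
  obtain ⟨χ, hχ⟩ := block_nonempty hBbar
  have h1 := hg.2.2 _ (hsub χ hχ)
  rw [centralChar_inflIrr] at h1
  set C := Subgroup.centralizer ({g} : Set G)
  set Cq := Subgroup.centralizer ({(g : G ⧸ N)} : Set (G ⧸ N)) with hCq
  set r := C.relIndex (Cq.comap (QuotientGroup.mk' N)) with hr
  have hω : ¬ MemLocalIdeal M (centralChar (χ : G ⧸ N → ℂ) (g : G ⧸ N)) := fun h =>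
    h1 (memLocalIdeal_mul_left (natCast_mem _ _) h)
  have hrp : ¬ p ∣ r := fun h => h1 (by
    rw [mul_comm]
    exact memLocalIdeal_mul_left (integral_mem_loc (isIntegral_centralChar χ.2 _))
      ((memLocalIdeal_natCast hM _).mpr h))
  obtain ⟨x, hx⟩ := defect_conj_le_centralizer hM hBbar hDbar hχ hω
  -- the image of the defect group is a Sylow subgroup of the centralizer in the quotient
  have hle' : P.map (QuotientGroup.mk' N) ≤ Cq := by
    rintro _ ⟨y, hy, rfl⟩
    exact centralizer_le_comap (N := N) g (hle hy)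
  have hcardP : Nat.card (P.map (QuotientGroup.mk' N)) =
      p ^ (Nat.card Cq).factorization p := by
    obtain ⟨k, hk⟩ := (IsPGroup.iff_card).mp (hPp.map (QuotientGroup.mk' N))
    obtain ⟨j, hj⟩ := (IsPGroup.iff_card).mp
      (hPp.to_le (inf_le_left : P ⊓ N ≤ P))
    have hk1 : k ≤ (Nat.card Cq).factorization p :=
      (hM.1.pow_dvd_iff_le_factorization Nat.card_pos.ne').mp
        (hk ▸ Subgroup.card_dvd_of_le hle')
    have hj1 : j ≤ (Nat.card N).factorization p :=
      (hM.1.pow_dvd_iff_le_factorization Nat.card_pos.ne').mp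
        (hj ▸ Subgroup.card_dvd_of_le (inf_le_right : P ⊓ N ≤ N))
    -- the order of `P`
    have hPsplit : Nat.card P = p ^ k * p ^ j := by
      rw [← hk, ← hj]
      have e := ((QuotientGroup.mk' N).comp P.subtype).ker.card_eq_card_quotient_mul_card_subgroup
      rw [Nat.card_congr (QuotientGroup.quotientKerEquivRange _).toEquiv,
        MonoidHom.range_comp, Subgroup.range_subtype] at e
      rw [e]
      congr 1
      refine Nat.card_congr
        { toFun := fun u => ⟨u.1.1, u.1.2, (QuotientGroup.eq_one_iff _).mp u.2⟩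
          invFun := fun u => ⟨⟨u.1, u.2.1⟩, (QuotientGroup.eq_one_iff _).mpr u.2.2⟩
          left_inv := fun u => rfl
          right_inv := fun u => rfl }
    -- the order of the preimage of the centralizer
    have hsplit : r * Nat.card C = Nat.card Cq * Nat.card N := by
      have e1 := Subgroup.relIndex_mul_index (centralizer_le_comap (N := N) g)
      rw [← hr, ← hCq, Subgroup.index_comap_of_surjective _ (QuotientGroup.mk'_surjective N)] at e1
      have e2 := C.index_mul_card
      have e3 := Cq.index_mul_card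
      have e4 := N.index_mul_card
      rw [Subgroup.index_eq_card N] at e4
      rw [← e1, ← e4, ← e3] at e2
      apply Nat.eq_of_mul_eq_mul_left (Nat.pos_of_ne_zero Subgroup.index_ne_zero_of_finite : 0 < Cq.index)
      calc Cq.index * (r * Nat.card C) = r * Cq.index * Nat.card C := by ring
        _ = Cq.index * Nat.card Cq * Nat.card N := e2
        _ = Cq.index * (Nat.card Cq * Nat.card N) := by ring
    have hr0 : r ≠ 0 := fun h => hrp (h ▸ dvd_zero p)
    have e5 := congrArg (fun n => n.factorization p) hsplit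
    simp only [Nat.factorization_mul hr0 Nat.card_pos.ne',
      Nat.factorization_mul Nat.card_pos.ne' Nat.card_pos.ne', Finsupp.coe_add, Pi.add_apply,
      Nat.factorization_eq_zero_of_not_dvd hrp, zero_add] at e5
    have e6 : k + j = (Nat.card C).factorization p := by
      apply Nat.pow_right_injective hM.1.two_le
      show p ^ (k + j) = _
      rw [pow_add, ← hPsplit, hcard]
    rw [hk, show k = (Nat.card Cq).factorization p by omega]
  obtain ⟨c, hc⟩ := conj_le_of_le_centralizer hle' hcardP
    (isPGroup_map_conj (defectGroup_spec hDbar).choose_spec.2.2.1 x) hx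
  rw [map_conj_map_conj] at hc
  obtain ⟨z, hz⟩ := QuotientGroup.mk_surjective (c * x)⁻¹
  refine ⟨_, isDefectGroup_conj hP z, ?_⟩
  rw [map_conj_map, hz]
  intro d hd
  rw [mem_map_conj, inv_inv]
  refine hc (mem_map_conj.mpr ?_)
  rwa [show (c * x)⁻¹ * ((c * x) * d * (c * x)⁻¹) * (c * x) = d by group]

/-- The projection of the center of a group algebra to that of a quotient. -/
noncomputable def piZ (R : Type v) [CommRing R] (N : Subgroup G) [N.Normal] :
    ZG R G →+* ZG R (G ⧸ N) :=
  ((MonoidAlgebra.mapDomainRingHom R (QuotientGroup.mk' N)).comp (Subring.center _).subtype).codRestrict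
    (Subring.center _) fun A => by
      rw [Subring.mem_center_iff]
      intro b
      induction b using MonoidAlgebra.induction_linear with
      | zero => simp
      | add x y hx hy => rw [add_mul, mul_add, hx, hy]
      | single x c =>
        obtain ⟨g, rfl⟩ := QuotientGroup.mk_surjective x
        simp only [RingHom.comp_apply, Subring.coe_subtype]
        rw [show (single (g : G ⧸ N) c : MonoidAlgebra R (G ⧸ N)) =
            MonoidAlgebra.mapDomainRingHom R (QuotientGroup.mk' N) (single g c) by simp,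
          ← map_mul, ← map_mul, Subring.mem_center_iff.mp A.2]

theorem coe_piZ {R : Type v} [CommRing R] (a : ZG R G) :
    (piZ R N a : MonoidAlgebra R (G ⧸ N)) =
      MonoidAlgebra.mapDomainRingHom R (QuotientGroup.mk' N) (a : MonoidAlgebra R G) := rfl

theorem coeff_piZ {R : Type v} [CommRing R] [Fintype G] [DecidableEq (G ⧸ N)] (a : ZG R G)
    (x : G ⧸ N) : (piZ R N a : MonoidAlgebra R (G ⧸ N)).coeff x =
      ∑ v : G, if (v : G ⧸ N) = x then (a : MonoidAlgebra R G).coeff v else 0 := by
  classical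
  rw [coe_piZ]
  show (MonoidAlgebra.mapDomain (QuotientGroup.mk' N) (a : MonoidAlgebra R G)).coeff x = _
  simp only [MonoidAlgebra.coeff_mapDomain, Finsupp.mapDomain, Finsupp.sum_apply]
  rw [Finsupp.sum_fintype _ _ (by simp)]
  exact Finset.sum_congr rfl fun v _ => by simp [Finsupp.single_apply]

theorem omegaBar_piZ (χ : IrrCharacter (G ⧸ N)) (a : ZG (Res M) G) :
    omegaBar M χ (piZ (Res M) N a) = omegaBar M (inflIrr χ) a := by
  obtain ⟨A, rfl⟩ := redZ_surjective a
  have hlift : piZ (Res M) N (redZ M G A) = redZ M (G ⧸ N) (piZ (Loc M) N A) := by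
    refine Subtype.ext ?_
    rw [coe_piZ, coe_redZ, coe_redZ, coe_piZ]
    generalize (A : MonoidAlgebra (Loc M) G) = a
    induction a using MonoidAlgebra.induction_linear with
    | zero => simp
    | add x y hx hy => simp only [map_add, hx, hy]
    | single g c => simp [redG]
  rw [hlift, omegaBar_redZ, omegaBar_redZ]
  congr 1
  refine Subtype.ext ?_
  rw [coe_omegaL, coe_omegaL, omega, omega, inflIrr_apply, QuotientGroup.mk_one, coe_piZ]
  congr 1
  haveI := Fintype.ofFinite G
  haveI := Fintype.ofFinite (G ⧸ N)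
  generalize (A : MonoidAlgebra (Loc M) G) = a
  induction a using MonoidAlgebra.induction_linear with
  | zero => simp
  | add x y hx hy => simp only [map_add, ev_add, hx, hy]
  | single g c => simp [toC]

/-- Over a normal `p`-subgroup some block of the quotient inside the block has the full images of
the defect groups as defect groups. -/
theorem exists_block_image_defect (hM : IsPModular p M) (hN : IsPGroup p N)
    {B : Set (IrrCharacter G)} (hB : IsPBlock M B) :
    ∃ Bbar : Set (IrrCharacter (G ⧸ N)), IsPBlock M Bbar ∧ (∀ χ ∈ Bbar, inflIrr χ ∈ B) ∧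
      ∀ Dbar : Subgroup (G ⧸ N), IsDefectGroup p M Bbar Dbar ↔
        ∃ P : Subgroup G, IsDefectGroup p M B P ∧ Dbar = P.map (QuotientGroup.mk' N) := by
  classical
  haveI : Fact p.Prime := ⟨hM.1⟩
  haveI := charP_res hM
  haveI := Fintype.ofFinite G
  have hA := blockCoeff_mem_loc hB
  obtain ⟨P, hP⟩ := exists_defectGroup (p := p) hB
  obtain ⟨g, hg, hle, hPp, -⟩ := defectGroup_spec hP
  have hNP : N ≤ P := normal_le_defect hM hB hN hP
  have hreg := regular_of_defectClass hM hB hg
  have hne : (piZ (Res M) N (bBar M B) : MonoidAlgebra (Res M) (G ⧸ N)).coeff (g : G ⧸ N) ≠ 0 := by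
    rw [coeff_piZ, Finset.sum_eq_single g, if_pos rfl]
    · exact (coeff_bBar_ne_zero_iff hA g).mpr hg.2.1
    · intro v _ hv
      split_ifs with hvg
      swap
      · rfl
      by_contra h0
      have hvreg := regular_of_red_blockCoeff hM hB ((coeff_bBar_ne_zero_iff hA v).mp h0)
      have hu : g⁻¹ * v ∈ N := QuotientGroup.eq.mp hvg.symm
      have hc : Commute (g⁻¹ * v) g := Subgroup.mem_centralizer_singleton_iff.mp (hle (hNP hu))
      obtain ⟨k, hk⟩ := exists_pow_eq_one_of_isPGroup hN hu
      have h1 := isPPart_mk (p := p) hc ⟨k, hk⟩ hreg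
      have h2 : ¬ p ∣ orderOf (g⁻¹ * v * g) := by
        rw [hc.eq, mul_inv_cancel_left]; exact hvreg
      exact hv (inv_mul_eq_one.mp (ppart_unique h1 (isPPart_one h2))).symm
    · exact fun h => absurd (Finset.mem_univ _) h
  obtain ⟨χ, hχ1, hχg⟩ := exists_block_of_idem hM
    (show piZ (Res M) N (bBar M B) * piZ (Res M) N (bBar M B) = piZ (Res M) N (bBar M B) by
      rw [← map_mul, bBar_mul_self hA]) hne
  rw [omegaBar_piZ, omegaBar_bBar hA] at hχ1
  have hχB : inflIrr χ ∈ B := by
    by_contra h
    rw [if_neg h] at hχ1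
    exact zero_ne_one hχ1
  have hsub : ∀ χ' ∈ blockOf M (χ : G ⧸ N → ℂ), inflIrr χ' ∈ B := fun χ' hχ' =>
    (mem_block_iff hB hχB).mpr (sameBlock_inflIrr hχ')
  have hb := isPBlock_blockOf (M := M) χ
  have hQ : P.map (QuotientGroup.mk' N) ≤ Subgroup.centralizer ({(g : G ⧸ N)} : Set (G ⧸ N)) := by
    rintro _ ⟨y, hy, rfl⟩
    exact centralizer_le_comap (N := N) g (hle hy)
  have key : ∀ Dbar : Subgroup (G ⧸ N), IsDefectGroup p M (blockOf M (χ : G ⧸ N → ℂ)) Dbar →
      ∃ P' : Subgroup G, IsDefectGroup p M B P' ∧ Dbar = P'.map (QuotientGroup.mk' N) := by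
    intro Dbar hD
    obtain ⟨P', hP', hle'⟩ := le_map_defect hM hb hB hsub hD
    obtain ⟨x, hx⟩ := conj_le_defect hM hb hD (hPp.map (QuotientGroup.mk' N)) hχg hQ
    obtain ⟨y, hy⟩ := defect_conj hM hB hP hP'
    refine ⟨P', hP', Subgroup.eq_of_le_of_card_ge hle' ?_⟩
    rw [← hy, map_conj_map, card_map_conj, ← card_map_conj (P.map (QuotientGroup.mk' N)) x]
    exact Subgroup.card_le_of_le hx
  refine ⟨_, hb, hsub, fun Dbar => ⟨key Dbar, ?_⟩⟩
  rintro ⟨P', hP', rfl⟩
  obtain ⟨D₀, hD₀⟩ := exists_defectGroup (p := p) hb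
  obtain ⟨P₀, hP₀, rfl⟩ := key D₀ hD₀
  obtain ⟨z, hz⟩ := defect_conj hM hB hP₀ hP'
  rw [← hz, map_conj_map]
  exact isDefectGroup_conj hD₀ _

end Cfsg.Agent.Blocks.Dominated
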