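import Cfsg.Agent.Lib.Blocks.CoverDefect
import Cfsg.Agent.Lib.Blocks.Fong
import Cfsg.Prelude.Def_BrauerPairs

/-!
# Stable blocks of normal subgroups and normal subgroups of `p`-power index
-/

namespace Cfsg.Agent.Blocks

open MonoidAlgebra
open scoped ComplexConjugate

universe u

variable {G : Type u} [Group G] [Finite G] {p : ℕ} {M : Ideal AlgInt} [M.IsPrime]
  {N : Subgroup G} [Fintype N] [hN : N.Normal]

set_option linter.unusedSectionVars false

theorem isConjCharOf_iff (x : G) (θ θ' : IrrCharacter N) :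
    IsConjCharOf N x (θ : N → ℂ) (θ' : N → ℂ) ↔ θ' = conjIrr x⁻¹ θ := by
  constructor
  · intro h
    refine Subtype.ext (funext fun n => ?_)
    rw [coe_conjIrr]
    exact h ⟨x⁻¹ * n * (x⁻¹)⁻¹, hN.conj_mem _ n.2 _⟩ n (by group)
  · rintro rfl k k' hk
    rw [coe_conjIrr]
    refine congrArg (θ : N → ℂ) (Subtype.ext ?_)
    show x⁻¹ * (k' : G) * (x⁻¹)⁻¹ = k
    rw [hk]
    group

theorem stabilizesBlock_iff {c : Set (IrrCharacter N)} (hc : IsPBlock M c) (x : G) :
    StabilizesBlock N c x ↔ ∀ θ ∈ c, conjIrr x θ ∈ c := by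
  constructor
  · intro h θ hθ
    obtain ⟨θ', hθ', e⟩ := h.2 θ hθ
    rw [isConjCharOf_iff] at e
    have h1 := sameBlock_conjIrr x ((mem_block_iff hc hθ).mp (e ▸ hθ'))
    rw [← conjIrr_mul, inv_mul_cancel, conjIrr_one] at h1
    exact (mem_block_iff hc hθ).mpr (sameBlock_symm h1)
  · intro h
    refine ⟨by rw [Subgroup.normalizer_eq_top]; trivial, fun θ hθ =>
      ⟨conjIrr x⁻¹ θ, ?_, (isConjCharOf_iff x θ _).mpr rfl⟩⟩
    have h1 := sameBlock_conjIrr x⁻¹ ((mem_block_iff hc hθ).mp (h θ hθ))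
    rw [← conjIrr_mul, mul_inv_cancel, conjIrr_one] at h1
    exact (mem_block_iff hc hθ).mpr (sameBlock_symm h1)

/-- The image of a set of characters of the normal subgroup under conjugation. -/
def preConj (g : G) (b : Set (IrrCharacter N)) : Set (IrrCharacter N) := {θ | conjIrr g θ ∈ b}

theorem preConj_mul (g h : G) (b : Set (IrrCharacter N)) :
    preConj (g * h) b = preConj g (preConj h b) := by
  ext θ
  show conjIrr (g * h) θ ∈ b ↔ conjIrr h (conjIrr g θ) ∈ b
  rw [conjIrr_mul]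

theorem preConj_one (b : Set (IrrCharacter N)) : preConj (1 : G) b = b := by
  ext θ
  show conjIrr 1 θ ∈ b ↔ θ ∈ b
  rw [conjIrr_one]

theorem isPBlock_preConj {b : Set (IrrCharacter N)} (hb : IsPBlock M b) (g : G) :
    IsPBlock M (preConj g b) := by
  obtain ⟨θ, hθ⟩ := block_nonempty hb
  refine ⟨conjIrr g⁻¹ θ, Set.ext fun ψ => ⟨fun h => ?_, fun h => ?_⟩⟩
  · have h1 := sameBlock_conjIrr g⁻¹ ((mem_block_iff hb hθ).mp h)
    rwa [← conjIrr_mul, mul_inv_cancel, conjIrr_one] at h1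
  · show conjIrr g ψ ∈ b
    have h1 := sameBlock_conjIrr g (show SameBlock M (conjIrr g⁻¹ θ : N → ℂ) (ψ : N → ℂ) from h)
    rw [← conjIrr_mul, inv_mul_cancel, conjIrr_one] at h1
    exact (mem_block_iff hb hθ).mpr h1

theorem blockCoeff_preConj (g : G) (b : Set (IrrCharacter N)) (n : N) :
    blockCoeff (preConj g b) n =
      blockCoeff b ⟨g⁻¹ * n * (g⁻¹)⁻¹, hN.conj_mem _ n.2 _⟩ := by
  classical
  simp only [blockCoeff, finsum_mem_irr]
  congr 1
  refine Fintype.sum_equiv
    { toFun := conjIrr g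
      invFun := conjIrr g⁻¹
      left_inv := fun θ => by rw [← conjIrr_mul, mul_inv_cancel, conjIrr_one]
      right_inv := fun θ => by rw [← conjIrr_mul, inv_mul_cancel, conjIrr_one] } _ _ fun θ => ?_
  simp only [Equiv.coe_fn_mk, coe_conjIrr]
  by_cases h : conjIrr g θ ∈ b
  · rw [if_pos (show θ ∈ preConj g b from h), if_pos h]
    congr 1
    · exact congrArg (θ : N → ℂ) (Subtype.ext (by simp))
    · refine congrArg conj (congrArg (θ : N → ℂ) (Subtype.ext ?_))
      show (n : G) = g * (g⁻¹ * n * (g⁻¹)⁻¹) * g⁻¹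
      group
  · rw [if_neg (show ¬ θ ∈ preConj g b from h), if_neg h]

theorem preConj_eq_self_iff {c : Set (IrrCharacter N)} (hc : IsPBlock M c) (x : G) :
    preConj x c = c ↔ StabilizesBlock N c x := by
  rw [stabilizesBlock_iff hc]
  constructor
  · intro h θ hθ
    have h2 : θ ∈ preConj x c := by rw [h]; exact hθ
    exact h2
  · intro h
    obtain ⟨θ, hθ⟩ := block_nonempty hc
    exact block_eq_of_mem (isPBlock_preConj hc x) hc (χ := θ) (h θ hθ) hθ

theorem stabilizesBlock_of_mem {c : Set (IrrCharacter N)} (hc : IsPBlock M c) {x : G}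
    (hx : x ∈ N) : StabilizesBlock N c x := by
  refine (stabilizesBlock_iff hc x).mpr fun θ hθ => ?_
  have : conjIrr x θ = θ := by
    refine Subtype.ext (funext fun n => ?_)
    rw [coe_conjIrr]
    show (θ : N → ℂ) ((⟨x, hx⟩ : N) * n * (⟨x, hx⟩ : N)⁻¹) = _
    exact isClassFn_irr θ n ⟨x, hx⟩
  rwa [this]

theorem stabilizesBlock_mul {c : Set (IrrCharacter N)} (hc : IsPBlock M c) {x y : G}
    (hx : StabilizesBlock N c x) (hy : StabilizesBlock N c y) : StabilizesBlock N c (x * y) := by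
  rw [← preConj_eq_self_iff hc] at *
  rw [preConj_mul, hy, hx]

theorem blockCoeff_conj_of_stab {c : Set (IrrCharacter N)} (hc : IsPBlock M c) {x : G}
    (hx : StabilizesBlock N c x) (n : N) :
    blockCoeff c ⟨x⁻¹ * n * (x⁻¹)⁻¹, hN.conj_mem _ n.2 _⟩ = blockCoeff c n := by
  rw [← blockCoeff_preConj x c n, (preConj_eq_self_iff hc x).mpr hx]

/-- Some block in the orbit, fixed by a given `p`-group and with unit coefficient at a
fixed element. -/
theorem exists_fixed_block (hM : IsPModular p M) {b : Set (IrrCharacter N)} (hb : IsPBlock M b)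
    {P : Subgroup G} (hP : IsPGroup p P) {n : N}
    (hn : (n : G) ∈ Subgroup.centralizer (P : Set G))
    (hunit : ¬ MemLocalIdeal M (blockCoeff (conjSet (G := G) b) n)) :
    ∃ c : Set (IrrCharacter N), IsPBlock M c ∧ c ⊆ conjSet (G := G) b ∧
      (∀ x ∈ P, StabilizesBlock N c x) ∧ ¬ MemLocalIdeal M (blockCoeff c n) := by
  classical
  haveI : Fact p.Prime := ⟨hM.1⟩
  haveI := charP_res hM
  let W := {c : Set (IrrCharacter N) // IsPBlock M c ∧ c ⊆ conjSet (G := G) b}
  have hsub : ∀ (x : G) (c : W), preConj x c.1 ⊆ conjSet (G := G) b := fun x c θ hθ =>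
    (conjIrr_mem_conjSet_iff x b θ).mp (c.2.2 hθ)
  letI : MulAction P W :=
    { smul := fun x c => ⟨preConj (x : G) c.1, isPBlock_preConj c.2.1 _, hsub _ c⟩
      one_smul := fun c => Subtype.ext (preConj_one c.1)
      mul_smul := fun x y c => Subtype.ext (preConj_mul (x : G) (y : G) c.1) }
  haveI := Fintype.ofFinite W
  have hsum : blockCoeff (conjSet (G := G) b) n = ∑ c : W, blockCoeff c.1 n := by
    simp only [blockCoeff, finsum_mem_irr, ← Finset.mul_sum]
    congr 1
    rw [Finset.sum_comm]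
    refine Finset.sum_congr rfl fun θ _ => ?_
    by_cases hθ : θ ∈ conjSet (G := G) b
    · rw [if_pos hθ, Finset.sum_eq_single (⟨blockOf M (θ : N → ℂ), isPBlock_blockOf θ,
        blockOf_subset_conjSet hb hθ⟩ : W)]
      · rw [if_pos (self_mem_blockOf θ)]
      · intro c _ hne
        rw [if_neg]
        exact fun h => hne (Subtype.ext (block_eq_blockOf c.2.1 h))
      · exact fun h => absurd (Finset.mem_univ _) h
    · rw [if_neg hθ, Finset.sum_eq_zero]
      intro c _
      rw [if_neg fun h => hθ (c.2.2 h)]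
  let F : W → Res M := fun c => red M ⟨blockCoeff c.1 n, blockCoeff_mem_loc c.2.1 n⟩
  have hF : ∀ (x : P) (c : W), F (x • c) = F c := fun x c => by
    refine congrArg (red M) (Subtype.ext ?_)
    show blockCoeff (preConj (x : G) c.1) n = blockCoeff c.1 n
    rw [blockCoeff_preConj]
    congr 1
    refine Subtype.ext ?_
    show (x : G)⁻¹ * n * ((x : G)⁻¹)⁻¹ = n
    rw [Subgroup.mem_centralizer_iff.mp hn _ (P.inv_mem x.2)]
    group
  have hne : ∑ c : W, F c ≠ 0 := by
    intro h0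
    apply hunit
    rw [← map_sum, red_eq_zero_iff] at h0
    convert h0 using 1
    rw [hsum]
    simp
  rw [sum_eq_sum_fixed hP F hF] at hne
  obtain ⟨c, hc, hc0⟩ := Finset.exists_ne_zero_of_sum_ne_zero hne
  rw [Finset.mem_filter] at hc
  refine ⟨c.1, c.2.1, c.2.2, fun x hx => (preConj_eq_self_iff c.2.1 x).mp
    (congrArg Subtype.val (hc.2 ⟨x, hx⟩)), fun h => hc0 (red_eq_zero_iff.mpr h)⟩

/-- A defect group of a block, and a covered block that it stabilizes. -/
theorem exists_stable_covered (hM : IsPModular p M) {B : Set (IrrCharacter G)}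
    (hB : IsPBlock M B) {P : Subgroup G} (hP : IsDefectGroup p M B P) :
    ∃ c : Set (IrrCharacter N), IsPBlock M c ∧ (∀ x ∈ P, StabilizesBlock N c x) ∧
      (∃ χ ∈ B, ∃ θ ∈ c, classInner (fun n : N => (χ : G → ℂ) n) (θ : N → ℂ) ≠ 0) ∧
      IsDefectGroup p M c ((P ⊓ N).subgroupOf N) := by
  classical
  haveI : Fact p.Prime := ⟨hM.1⟩
  haveI := charP_res hM
  letI := Fintype.ofFinite G
  obtain ⟨χ, hχ⟩ := block_nonempty hB
  obtain ⟨θ, hθ⟩ := CT.exists_constituent_restrict N χ.2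
  set b := blockOf M (θ : N → ℂ) with hbdef
  have hb : IsPBlock M b := isPBlock_blockOf θ
  have hA := blockCoeff_mem_loc hB
  have hS := blockCoeff_conjSet_mem_loc (G := G) hb
  obtain ⟨-, -, -, hPp, -⟩ := defectGroup_spec hP
  let f : ZG (Res M) G := redZ M G (coverIdem (G := G) hb)
  have hfsupp : ∀ u ∉ N, (f : MonoidAlgebra (Res M) G).coeff u = 0 := fun u hu => by
    simp [f, coverIdem, coeff_embH_of_notMem _ _ hu]
  have hfn : ∀ n : N, (f : MonoidAlgebra (Res M) G).coeff (n : G) =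
      red M ⟨blockCoeff (conjSet (G := G) b) n, hS n⟩ := fun n => by
    simp only [f, coe_redZ, coeff_map', coverIdem]
    rw [coeff_embH N _ n, coeff_ofFun]
  have hnot : br P hPp f ≠ 0 := by
    intro h0
    refine br_ne_zero hM hPp hB hχ (z := f) ?_
      ((br_bBar_ne_zero_iff hM hB hP hPp).mpr ⟨1, by rw [map_conj_one]⟩) h0
    have e : resZ N f = bBar M (conjSet (G := G) b) := by
      refine Subtype.ext (MonoidAlgebra.ext (Finsupp.ext fun n => ?_))
      rw [coe_resZ, coeff_resH, hfn, bBar, coe_redZ, coeff_map', coeff_bIdem hS]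
    rw [omegaBar_eq_of_cover χ hθ hfsupp, e, omegaBar_bBar hS,
      if_pos (subset_conjSet b (self_mem_blockOf θ))]
    exact one_ne_zero
  rw [br_apply, ne_eq, trunc_eq_zero_iff] at hnot
  push Not at hnot
  obtain ⟨v, hv, hv0⟩ := hnot
  have hvN : v ∈ N := by by_contra h; exact hv0 (hfsupp v h)
  obtain ⟨c, hc, hcS, hst, hcn⟩ := exists_fixed_block hM hb hPp (n := ⟨v, hvN⟩) hv
    (fun h => hv0 (by rw [hfn ⟨v, hvN⟩]; exact red_eq_zero_iff.mpr h))
  obtain ⟨ψ, hψ⟩ := block_nonempty hc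
  obtain ⟨g, hg⟩ := hcS hψ
  have hcov : ∃ χ ∈ B, ∃ θ ∈ c, classInner (fun n : N => (χ : G → ℂ) n) (θ : N → ℂ) ≠ 0 := by
    refine ⟨χ, hχ, conjIrr g⁻¹ θ, (mem_block_iff hc hψ).mpr ?_, ?_⟩
    · have h1 := sameBlock_conjIrr g⁻¹ (show SameBlock M (θ : N → ℂ) (conjIrr g ψ : N → ℂ) from hg)
      rw [← conjIrr_mul, mul_inv_cancel, conjIrr_one] at h1
      exact sameBlock_symm h1
    · rw [classInner_conjIrr (CT.isClassFunction_of_isIrr χ.2)]
      exact hθ
  refine ⟨c, hc, hst, hcov, ?_⟩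
  obtain ⟨Q, hQ⟩ := exists_defectGroup (p := p) hc
  have hR : IsPGroup p ((P ⊓ N).subgroupOf N) :=
    (hPp.to_le inf_le_left).of_equiv (Subgroup.subgroupOfEquivOfLe inf_le_right).symm
  obtain ⟨y, hy⟩ := conj_le_defect hM hc hQ hR hcn (le_centralizer_singleton.mpr fun r hr =>
    Subtype.ext (Subgroup.mem_centralizer_iff.mp hv (r : G) hr.1))
  have hmap : (Q.map N.subtype).subgroupOf N = Q :=
    Subgroup.comap_map_eq_self_of_injective N.subtype_injective Q
  obtain ⟨P', hP', hP'N⟩ := knorr_cover hM hc (Subgroup.map_subtype_le Q) (hmap.symm ▸ hQ) hB hcov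
  obtain ⟨x, hx⟩ := defect_conj hM hB hP hP'
  have hcard : Nat.card (P' ⊓ N : Subgroup G) = Nat.card (P ⊓ N : Subgroup G) := by
    rw [← hx, ← card_map_conj (P ⊓ N) x]
    refine Nat.card_congr (Equiv.setCongr ?_)
    ext z
    simp only [SetLike.mem_coe, Subgroup.mem_inf, mem_map_conj]
    refine and_congr_right fun _ => ⟨fun h => ?_, fun h => ?_⟩
    · have := hN.conj_mem _ h x⁻¹
      simpa [mul_assoc] using this
    · have := hN.conj_mem _ h x
      simpa [mul_assoc] using this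
  have he := Subgroup.eq_of_le_of_card_ge hy (le_of_eq ?_)
  · have h := isDefectGroup_conj hQ y⁻¹
    rw [← he, map_conj_map_conj, inv_mul_cancel, map_conj_one] at h
    exact h
  · rw [card_map_conj, Nat.card_congr (Subgroup.subgroupOfEquivOfLe (inf_le_right : P ⊓ N ≤ N)).toEquiv,
      ← hcard, hP'N, Subgroup.card_map_of_injective N.subtype_injective]

theorem idemC_eq_embH_of_stable (hM : IsPModular p M) {c : Set (IrrCharacter N)}
    (hc : IsPBlock M c) (hst : ∀ x : G, StabilizesBlock N c x) :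
    idemC {χ : IrrCharacter G | HasConstituent c (χ : G → ℂ)} = embH N (idemC c) := by
  classical
  haveI := Fintype.ofFinite G
  have hcc : conjSet (G := G) c = c :=
    conjSet_eq_of_invariant fun g θ hθ => (stabilizesBlock_iff hc g).mp (hst g) θ hθ
  have hstab := blockCoeff_conjSet_stable (G := G) c
  rw [hcc] at hstab
  refine central_ext (idemC_mem_center _) (embH_idemC_mem_center hstab) fun χ => ?_
  rw [omega_idemC]
  split_ifs with hχ
  · exact ((omega_stable hstab χ).resolve_left fun h => (omega_stable_eq_zero_iff χ).mp h hχ).symm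
  · exact ((omega_stable_eq_zero_iff χ).mpr hχ).symm

/-- A stable block of a normal subgroup of `p`-power index is covered by one block, with the same
idempotent. -/
theorem exists_block_over_stable (hM : IsPModular p M) (hidx : ∃ k : ℕ, N.index = p ^ k)
    {c : Set (IrrCharacter N)} (hc : IsPBlock M c) (hst : ∀ x : G, StabilizesBlock N c x) :
    ∃ B : Set (IrrCharacter G), IsPBlock M B ∧
      (∀ g : G, blockCoeff B g = subgroupBlockCoeff N c g) ∧
      ∀ χ : IrrCharacter G, χ ∈ B ↔ HasConstituent c (χ : G → ℂ) := by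
  classical
  haveI : Fact p.Prime := ⟨hM.1⟩
  letI := Fintype.ofFinite G
  set A := {χ : IrrCharacter G | HasConstituent c (χ : G → ℂ)}
  have hcc : conjSet (G := G) c = c :=
    conjSet_eq_of_invariant fun g θ hθ => (stabilizesBlock_iff hc g).mp (hst g) θ hθ
  have hcoeff : ∀ g : G, blockCoeff A g = subgroupBlockCoeff N c g := by
    intro g
    have h := congrArg (fun a : MonoidAlgebra ℂ G => a.coeff g) (idemC_eq_embH_of_stable hM hc hst)
    simp only [idemC, coeff_ofFun] at h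
    rw [h]
    by_cases hg : g ∈ N
    · rw [coeff_embH N _ ⟨g, hg⟩, coeff_ofFun]
      simp [subgroupBlockCoeff, hg]
    · rw [coeff_embH_of_notMem _ _ hg]
      simp [subgroupBlockCoeff, hg]
  obtain ⟨θ, hθ⟩ := block_nonempty hc
  obtain ⟨χ₀, hχ₀⟩ := CT.exists_irr_over N θ.2
  have hχ₀A : χ₀ ∈ A := ⟨θ, hθ, (mult_ne_zero_iff χ₀ θ).mpr hχ₀⟩
  refine ⟨A, ⟨χ₀, Set.ext fun χ => ⟨fun h => ?_, fun h => ?_⟩⟩, hcoeff, fun χ => Iff.rfl⟩
  · obtain ⟨φ, hφ, hφc⟩ := h
    exact mem_of_supported (isPBlock_blockOf χ₀)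
      (fun u hu => supported_of_pow_index hM hidx (isPBlock_blockOf χ₀) hu) (self_mem_blockOf χ₀)
      hχ₀ ((mult_ne_zero_iff χ φ).mp hφc) ((mem_block_iff hc hθ).mp hφ)
  · have hi := blockCoeff_conjSet_mem_loc (G := G) hc
    have hs := blockCoeff_conjSet_stable (G := G) c
    rw [hcc] at hs hi
    exact (hasConstituent_iff_of_sameBlock' hi hs h).mp hχ₀A

theorem defect_of_block_over_stable (hM : IsPModular p M) (hidx : ∃ k : ℕ, N.index = p ^ k)
    {c : Set (IrrCharacter N)} (hc : IsPBlock M c) (hst : ∀ x : G, StabilizesBlock N c x)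
    {B : Set (IrrCharacter G)} (hB : IsPBlock M B)
    (hBc : ∀ g : G, blockCoeff B g = subgroupBlockCoeff N c g) {P : Subgroup G}
    (hP : IsDefectGroup p M B P) :
    N ⊔ P = ⊤ ∧ IsDefectGroup p M c ((P ⊓ N).subgroupOf N) := by
  classical
  haveI : Fact p.Prime := ⟨hM.1⟩
  obtain ⟨A, hA, hAc, hAiff⟩ := exists_block_over_stable hM hidx hc hst
  have hAB : A = B := by
    obtain ⟨χ, hχ⟩ := block_nonempty hA
    refine block_eq_of_mem hA hB hχ ?_
    have e : omega (χ : G → ℂ) (idemC B) = omega (χ : G → ℂ) (idemC A) :=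
      congrArg _ (MonoidAlgebra.ext (Finsupp.ext fun g => by
        simp only [idemC, coeff_ofFun]
        rw [hBc, hAc]))
    rw [omega_idemC, omega_idemC, if_pos hχ] at e
    by_contra h
    rw [if_neg h] at e
    exact zero_ne_one e
  subst hAB
  obtain ⟨χ, hχ⟩ := block_nonempty hA
  obtain ⟨θ, hθ, hθc⟩ := (hAiff χ).mp hχ
  obtain ⟨h1, h2, -⟩ := fong hM hc (fun g θ hθ => (stabilizesBlock_iff hc g).mp (hst g) θ hθ) hA
    ⟨χ, hχ, θ, hθ, (mult_ne_zero_iff χ θ).mp hθc⟩ (fun B' hB' hcov => by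
      obtain ⟨χ', hχ', θ', hθ', hc'⟩ := hcov
      rw [block_eq_of_mem hB' hA hχ' ((hAiff χ').mpr ⟨θ', hθ', (mult_ne_zero_iff χ' θ').mpr hc'⟩)]) hP
  refine ⟨?_, h2⟩
  rw [sup_comm, ← Subgroup.index_eq_one]
  obtain ⟨k, hk⟩ := hidx
  obtain ⟨j, -, hj⟩ := (Nat.dvd_prime_pow hM.1).mp
    (hk ▸ Subgroup.index_dvd_of_le (le_sup_right : N ≤ P ⊔ N))
  rw [hj] at h1 ⊢
  cases j with
  | zero => rfl
  | succ j => exact absurd (dvd_pow_self p (Nat.succ_ne_zero j)) h1

end Cfsg.Agent.Blocks
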