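import Cfsg.Agent.Lib.CoprimeExt.Residual
import Cfsg.Agent.Lib.Blocks.Covering
import Cfsg.Agent.Lib.Blocks.Regular
import Cfsg.Agent.Lib.Blocks.Normal

/-!
# Characters of degree prime to `p` in the principal block
-/

set_option linter.all false

namespace Cfsg.Agent.Blocks

open Cfsg Cfsg.Agent

universe u

variable {G : Type u} [Group G] [Fintype G] {p : ℕ} {M : Ideal AlgInt} [M.IsPrime]

theorem charDegree_trivIrr : charDegree (CT.trivIrr G : G → ℂ) = 1 := by
  simp [charDegree]

theorem blockHeight_principal (χ : G → ℂ) :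
    blockHeight p (principalBlock M G) χ = (charDegree χ).factorization p := by
  rw [blockHeight]
  have h : sInf ((fun ψ : IrrCharacter G => (charDegree (ψ : G → ℂ)).factorization p) ''
      principalBlock M G) = 0 :=
    Nat.eq_zero_of_le_zero (Nat.sInf_le ⟨CT.trivIrr G, trivIrr_mem_principalBlock, by
      simp [charDegree_trivIrr]⟩)
  omega

theorem blockHeight_principal_eq_zero (hM : IsPModular p M) (χ : IrrCharacter G) :
    blockHeight p (principalBlock M G) (χ : G → ℂ) = 0 ↔ ¬ p ∣ charDegree (χ : G → ℂ) := by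
  rw [blockHeight_principal]
  exact ⟨fun h hd => absurd (Nat.le_zero.mp (h ▸
    (hM.1.dvd_iff_one_le_factorization (charDegree_pos χ).ne').mp hd)) one_ne_zero,
    fun h => Nat.factorization_eq_zero_of_not_dvd h⟩

/-- If `p` divides the group order, the squares of the degrees in the principal block sum to
zero modulo `p`. -/
theorem sum_sq_deg_principal [Fact p.Prime] [CharP (Res M) p] (hM : IsPModular p M)
    (h : p ∣ Nat.card G) [DecidablePred (· ∈ principalBlock M G)] :
    ∑ χ : IrrCharacter G, (if χ ∈ principalBlock M G then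
      ((charDegree (χ : G → ℂ) : ℕ) : Res M) ^ 2 else 0) = 0 := by
  classical
  obtain ⟨y, hy⟩ := exists_prime_orderOf_dvd_card' p h
  have h0 := weak_orthogonality hM (blockCoeff_mem_loc (isPBlock_principalBlock (M := M) (G := G)))
    (g := (1 : G)) (h := y⁻¹) (by rw [orderOf_one]; exact hM.1.not_dvd_one)
    (by rw [orderOf_inv, hy])
  rw [finsum_mem_irr] at h0
  have h1 : (∑ χ : IrrCharacter G, if χ ∈ principalBlock M G then
      charL M χ 1 * charL M χ y else 0) = 0 := by
    refine Subtype.ext ?_
    rw [AddSubmonoidClass.coe_finsetSum, ZeroMemClass.coe_zero, ← h0]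
    refine Finset.sum_congr rfl fun χ _ => ?_
    have : (χ : G → ℂ) y = (starRingEnd ℂ) ((χ : G → ℂ) y⁻¹) := by
      rw [CT.char_inv_eq_conj (CT.isCharacter_of_isIrr χ.2), Complex.conj_conj]
    split_ifs <;> simp [this]
  have h2 := congrArg (red M) h1
  rw [map_sum, map_zero] at h2
  refine Eq.trans (Finset.sum_congr rfl fun χ _ => ?_) h2
  split_ifs
  · have hy1 := red_charL_mul (M := M) (p := p) χ (Commute.one_right y)
      ⟨1, by rw [pow_one]; exact hy ▸ pow_orderOf_eq_one y⟩ (by rw [orderOf_one]; exact hM.1.not_dvd_one)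
    rw [mul_one] at hy1
    have hc : charL M χ 1 = ((charDegree (χ : G → ℂ) : ℕ) : Loc M) :=
      Subtype.ext (by rw [coe_charL, charDegree_cast]; simp)
    rw [map_mul, hy1, hc, map_natCast, sq]
  · rw [map_zero]

/-- `p` divides the group order iff the principal block has a nontrivial character of degree prime
to `p`. -/
theorem exists_ne_triv_of_dvd (hM : IsPModular p M) (h : p ∣ Nat.card G) :
    ∃ χ ∈ principalBlock M G, χ ≠ CT.trivIrr G ∧ ¬ p ∣ charDegree (χ : G → ℂ) := by
  classical
  haveI : Fact p.Prime := ⟨hM.1⟩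
  haveI := charP_res hM
  by_contra hne
  push Not at hne
  have h0 := sum_sq_deg_principal hM h
  rw [Finset.sum_eq_single (CT.trivIrr G) (fun χ _ hχ => by
    split_ifs with hB
    · rw [(CharP.cast_eq_zero_iff (Res M) p _).mpr (hne χ hB hχ), zero_pow two_ne_zero]
    · rfl) (fun h => absurd (Finset.mem_univ _) h), if_pos trivIrr_mem_principalBlock,
    charDegree_trivIrr, Nat.cast_one, one_pow] at h0
  exact one_ne_zero h0

/-- The linear characters of the principal block form a group. -/
theorem mul_mem_principalBlock {f g : G →* ℂˣ}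
    (hf : (⟨fun x => (f x : ℂ), CT.isIrrCharacter_lin f⟩ : IrrCharacter G) ∈ principalBlock M G)
    (hg : (⟨fun x => (g x : ℂ), CT.isIrrCharacter_lin g⟩ : IrrCharacter G) ∈ principalBlock M G) :
    (⟨fun x => ((f * g) x : ℂ), CT.isIrrCharacter_lin (f * g)⟩ : IrrCharacter G) ∈
      principalBlock M G := by
  intro x
  have e : ∀ k : G →* ℂˣ, centralChar (fun y : G => (k y : ℂ)) x =
      ((Subgroup.centralizer ({x} : Set G)).index : ℂ) * (k x : ℂ) := fun k => by
    simp [centralChar]
  have e1 : centralChar (fun _ : G => (1 : ℂ)) x =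
      ((Subgroup.centralizer ({x} : Set G)).index : ℂ) := by simp [centralChar]
  have a := hf x
  have b := hg x
  simp only [e, e1] at a b ⊢
  set c : Loc M := ((Subgroup.centralizer ({x} : Set G)).index : Loc M)
  let u : Loc M := charL M ⟨fun y => (f y : ℂ), CT.isIrrCharacter_lin f⟩ x
  let v : Loc M := charL M ⟨fun y => (g y : ℂ), CT.isIrrCharacter_lin g⟩ x
  have ha : red M c = red M (c * u) := red_eq_iff.mpr (by simpa [c, u] using a)
  have hb : red M c = red M (c * v) := red_eq_iff.mpr (by simpa [c, v] using b)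
  have key : red M c = red M (c * (u * v)) := by
    rw [map_mul, map_mul, ← mul_assoc, ← map_mul, ← ha, ← map_mul, ← hb]
  simpa [c, u, v] using red_eq_iff.mp key

/-- All height-zero characters of the principal block have degree one only if `p` does not divide
the order of the `p`-residual. -/
theorem not_dvd_card_residual (hM : IsPModular p M)
    (h : ∀ χ ∈ principalBlock M G, ¬ p ∣ charDegree (χ : G → ℂ) → charDegree (χ : G → ℂ) = 1) :
    ¬ p ∣ Nat.card (pResidual p G) := by
  classical
  intro hd
  haveI : Fact p.Prime := ⟨hM.1⟩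
  haveI := charP_res hM
  set K := pResidual p G
  haveI : K.Characteristic := Transfer.pResidual_characteristic G p
  haveI : K.Normal := inferInstance
  haveI := Fintype.ofFinite K
  obtain ⟨k, hk⟩ := Transfer.exists_index_pResidual_eq_pow (G := G) (p := p)
  let act : G →* Equiv.Perm (IrrCharacter K) :=
    { toFun := fun g =>
        { toFun := conjIrr g⁻¹
          invFun := conjIrr g
          left_inv := fun θ => by rw [← conjIrr_mul, inv_mul_cancel, conjIrr_one]
          right_inv := fun θ => by rw [← conjIrr_mul, mul_inv_cancel, conjIrr_one] }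
      map_one' := Equiv.ext fun θ => by simp [conjIrr_one]
      map_mul' := fun a b => Equiv.ext fun θ => by simp [conjIrr_mul] }
  have hKtriv : K ≤ act.ker := fun x hx => Equiv.ext fun θ => Subtype.ext (funext fun n => by
    show CT.conjFun K x⁻¹ (θ : K → ℂ) n = (θ : K → ℂ) n
    rw [CT.conjFun, ← CT.isClassFunction_of_isIrr θ.2 n ⟨x⁻¹, K.inv_mem hx⟩]
    exact congrArg _ (Subtype.ext rfl))
  let actQ : G ⧸ K →* Equiv.Perm (IrrCharacter K) := QuotientGroup.lift K act hKtriv
  have hQ : IsPGroup p (G ⧸ K) := IsPGroup.of_card hk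
  set b := principalBlock M K with hb
  have hstab : ∀ (g : G) (θ : IrrCharacter K), θ ∈ b → conjIrr g θ ∈ b := fun g θ hθ => by
    have h1 := sameBlock_conjIrr (M := M) g (θ := CT.trivIrr K) (θ' := θ) hθ
    have h2 : conjIrr g (CT.trivIrr K) = CT.trivIrr K := Subtype.ext (funext fun n => rfl)
    rw [h2] at h1
    exact h1
  let f : IrrCharacter K → Res M := fun θ =>
    if θ ∈ b then ((charDegree (θ : K → ℂ) : ℕ) : Res M) ^ 2 else 0
  have hf : ∀ q θ, f (actQ q θ) = f θ := by
    intro q θ
    induction q using QuotientGroup.induction_on with | _ g =>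
    show f (conjIrr g⁻¹ θ) = f θ
    have hdeg : charDegree (conjIrr g⁻¹ θ : K → ℂ) = charDegree (θ : K → ℂ) := by
      simp only [charDegree, coe_conjIrr, CT.conjFun]
      exact congrArg _ (congrArg _ (congrArg _ (Subtype.ext (by simp))))
    have hiff : conjIrr g⁻¹ θ ∈ b ↔ θ ∈ b := ⟨fun hh => by
      have := hstab g _ hh
      rwa [← conjIrr_mul, inv_mul_cancel, conjIrr_one] at this, hstab _ θ⟩
    simp only [f, hdeg, hiff]
  have hsum := Glauberman.sum_eq_sum_fixed hQ actQ f hf
  rw [show ∑ x, f x = 0 from sum_sq_deg_principal hM hd] at hsum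
  -- invariant linear characters in the principal block
  let L : (K →* ℂˣ) → IrrCharacter K := fun φ => ⟨fun x => (φ x : ℂ), CT.isIrrCharacter_lin φ⟩
  let S : Submonoid (K →* ℂˣ) :=
    { carrier := {φ | L φ ∈ b ∧ ∀ q, actQ q (L φ) = L φ}
      one_mem' := by
        have : L 1 = CT.trivIrr K := Subtype.ext (funext fun x => by simp [L])
        refine ⟨this ▸ trivIrr_mem_principalBlock, fun q => ?_⟩
        induction q using QuotientGroup.induction_on with | _ g =>
        rw [this]; exact Subtype.ext (funext fun n => rfl)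
      mul_mem' := fun {a c} ha hc => ⟨mul_mem_principalBlock ha.1 hc.1, fun q => by
        induction q using QuotientGroup.induction_on with | _ g =>
        refine Subtype.ext (funext fun n => ?_)
        have e1 := congrFun (congrArg Subtype.val (ha.2 (g : G ⧸ K))) n
        have e2 := congrFun (congrArg Subtype.val (hc.2 (g : G ⧸ K))) n
        simp only [actQ, act, L, QuotientGroup.lift_mk, MonoidHom.coe_mk, OneHom.coe_mk,
          Equiv.coe_fn_mk, coe_conjIrr, CT.conjFun] at e1 e2 ⊢
        simp only [MonoidHom.mul_apply, Units.val_mul, e1, e2]⟩ }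
  have hLinj : Function.Injective L := fun a c hac => MonoidHom.ext fun x =>
    Units.ext (congrFun (congrArg Subtype.val hac) x)
  haveI : Finite (K →* ℂˣ) := Finite.of_injective L hLinj
  let S' : Subgroup (K →* ℂˣ) :=
    { S with
      inv_mem' := fun {a} ha => by
        exact Submonoid.powers_le.mpr ha
          (mem_powers_iff_mem_zpowers.mpr ((Subgroup.zpowers a).inv_mem (Subgroup.mem_zpowers a))) }
  haveI := Fintype.ofFinite S'
  have hcard : ((Nat.card S' : ℕ) : Res M) = 0 := by
    rw [hsum, Nat.card_eq_fintype_card, ← Finset.card_univ, Finset.card_eq_sum_ones, Nat.cast_sum,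
      Nat.cast_one]
    refine Finset.sum_bij_ne_zero (fun φ _ _ => L φ.1) (fun φ _ _ => Finset.mem_filter.mpr
      ⟨Finset.mem_univ _, φ.2.2⟩) (fun a _ _ c _ _ hac => Subtype.ext (hLinj hac))
      (fun θ hθ h0 => ?_) (fun φ _ _ => ?_)
    · have hθf := (Finset.mem_filter.mp hθ).2
      have hθb : θ ∈ b := by
        by_contra hn
        simp [f, hn] at h0
      have hpd : ¬ p ∣ charDegree (θ : K → ℂ) := by
        intro hd'
        apply h0
        simp only [f, if_pos hθb, (CharP.cast_eq_zero_iff (Res M) p _).mpr hd',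
          zero_pow two_ne_zero]
      have hinv : ∀ (g : G) (n : K), (θ : K → ℂ) ⟨g * n * g⁻¹, ‹K.Normal›.conj_mem n n.2 g⟩ =
          (θ : K → ℂ) n := fun g n => by
        have := congrFun (congrArg Subtype.val (hθf ((g⁻¹ : G) : G ⧸ K))) n
        simpa [actQ, act, CT.conjFun] using this
      obtain ⟨ψ, ⟨hψ, -⟩, -⟩ := CoprimeExt.exists_coprime_ext K θ hinv
        (by rw [hk]; exact Nat.Coprime.pow_left k (hM.1.coprime_iff_not_dvd.mpr hpd))
        (by rw [hk]; exact Nat.Coprime.pow_left k (hM.1.coprime_iff_not_dvd.mpr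
          (CoprimeExt.not_dvd_detOrder_residual _ (CT.isCharacter_of_isIrr θ.2))))
      have hψB : ψ ∈ principalBlock M G := by
        refine mem_of_supported (N := K) isPBlock_principalBlock
          (fun u hu => supported_of_pow_index hM ⟨k, hk⟩ isPBlock_principalBlock hu)
          (χ := CT.trivIrr G) (θ := CT.trivIrr K) (θ' := θ) trivIrr_mem_principalBlock ?_ ?_ hθb
        · rw [show (fun n : K => (CT.trivIrr G : G → ℂ) n) = (CT.trivIrr K : K → ℂ) from rfl,
            CT.irr_inner_self (CT.trivIrr K).2]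
          exact one_ne_zero
        · rw [show (fun n : K => (ψ : G → ℂ) n) = (θ : K → ℂ) from funext hψ,
            CT.irr_inner_self θ.2]
          exact one_ne_zero
      have hdd : charDegree (ψ : G → ℂ) = charDegree (θ : K → ℂ) := by
        simp only [charDegree]
        rw [← hψ 1, OneMemClass.coe_one]
      have hθ1 : charDegree (θ : K → ℂ) = 1 := hdd ▸ h ψ hψB (hdd ▸ hpd)
      obtain ⟨φ, hφ⟩ := CT.exists_hom_of_degree_one (CT.isCharacter_of_isIrr θ.2)
        (by rw [charDegree_cast, hθ1, Nat.cast_one])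
      have hLφ : L φ = θ := Subtype.ext hφ.symm
      exact ⟨⟨φ, hLφ ▸ hθb, by rw [hLφ]; exact hθf⟩, Finset.mem_univ _, one_ne_zero, hLφ⟩
    · have : charDegree (L φ.1 : K → ℂ) = 1 := by simp [charDegree, L]
      simp [f, this, if_pos φ.2.1]
  obtain ⟨φ, hφ⟩ := exists_prime_orderOf_dvd_card' p ((CharP.cast_eq_zero_iff (Res M) p _).mp hcard)
  have hφ' : orderOf (φ : K →* ℂˣ) = p := by rw [Subgroup.orderOf_coe, hφ]
  have hrange : IsPGroup p (φ : K →* ℂˣ).range := by
    rintro ⟨_, x, rfl⟩
    refine ⟨1, Subtype.ext ?_⟩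
    show (φ : K →* ℂˣ) x ^ p ^ 1 = 1
    have h1 := pow_orderOf_eq_one (φ : K →* ℂˣ)
    rw [hφ'] at h1
    rw [pow_one, ← MonoidHom.pow_apply, h1, MonoidHom.one_apply]
  have htriv : (φ : K →* ℂˣ) = 1 := MonoidHom.ext fun x =>
    congrArg Subtype.val (Transfer.hom_pResidual_eq_one (φ : K →* ℂˣ).rangeRestrict hrange x)
  rw [htriv, orderOf_one] at hφ'
  exact hM.1.ne_one hφ'.symm

end Cfsg.Agent.Blocks
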