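import Cfsg.Agent.Lib.Blocks.GaloisStable
import Cfsg.Agent.Lib.Blocks.NormalPIndex
import Cfsg.Agent.Lib.Blocks.PrincipalHeight
import Cfsg.Agent.Lib.CoprimeExt.Residual

/-!
# Characters of odd degree in the principal 2-block fixed by a power map, above the 2-residual

If `N = O^2(G)` has an even number of fixed odd degree members of its principal block, then the
2-group `G / N` fixes a nontrivial one, whose canonical extension is again fixed and lies in the
principal block.
-/

set_option linter.all false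

namespace Cfsg.Agent.Blocks.FixedOdd

open Cfsg Cfsg.Agent

universe u

variable {G : Type u} [Group G] [Fintype G] {p : ℕ} [hp : Fact p.Prime]
variable {M : Ideal AlgInt} [M.IsPrime] {k : ℕ}

omit hp in
/-- The determinant order is unchanged by a coprime power map. -/
theorem detOrder_map_pow {χ : G → ℂ} (hχ : IsCharacter G χ) (hk : k.Coprime (Nat.card G)) :
    detOrder (fun g => χ (g ^ k)) = detOrder χ := by
  classical
  obtain ⟨f, hf⟩ := OddChar.exists_ringEquiv_pow (Nat.card_pos (α := G)) hk
  obtain ⟨m, ρ, rfl⟩ := hχ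
  let ρ' : Representation ℂ G (Fin m → ℂ) :=
    ((Matrix.toLinAlgEquiv' (R := ℂ) (n := Fin m)).toMonoidHom.comp
      (f.toRingHom.mapMatrix.toMonoidHom.comp
        ((LinearMap.toMatrixAlgEquiv' (R := ℂ) (n := Fin m)).toMonoidHom.comp ρ)))
  have h1 : (fun g => ρ.character (g ^ k)) = ρ'.character := funext fun g => by
    have h1 : ρ'.character g = f (ρ.character g) := by
      show LinearMap.trace ℂ _ (Matrix.toLinAlgEquiv' ((LinearMap.toMatrixAlgEquiv' (ρ g)).map f)) = _
      rw [show Matrix.toLinAlgEquiv' ((LinearMap.toMatrixAlgEquiv' (ρ g)).map f) =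
        Matrix.toLin' ((LinearMap.toMatrix' (ρ g)).map f) from rfl, Matrix.trace_toLin'_eq]
      show _ = f (LinearMap.trace ℂ _ (ρ g))
      conv_rhs => rw [← Matrix.toLin'_toMatrix' (ρ g), Matrix.trace_toLin'_eq]
      simp only [Matrix.trace, Matrix.diag, map_sum, Matrix.map_apply]
    obtain ⟨ω, hω, he⟩ := CT.exists_eigenvalues ρ g
    have h2 := he 1
    simp only [pow_one] at h2
    rw [h1, h2, map_sum, he k]
    exact Finset.sum_congr rfl fun i _ => (hf _ (orderOf_dvd_iff_pow_eq_one.mp
      ((orderOf_dvd_of_pow_eq_one (hω i)).trans (orderOf_dvd_natCard g)))).symm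
  have hdet : ∀ g, LinearMap.det (ρ' g) = f (LinearMap.det (ρ g)) := fun g => by
    show LinearMap.det (Matrix.toLin' ((LinearMap.toMatrix' (ρ g)).map f)) = _
    rw [LinearMap.det_toLin', ← LinearMap.det_toMatrix' (ρ g)]
    exact (f.toRingHom.map_det _).symm
  rw [h1, detOrder, detOrder, CoprimeExt.detChar_eq, CoprimeExt.detChar_eq]
  let F : (G → ℂ) →* (G → ℂ) :=
    { toFun := fun a g => f (a g)
      map_one' := funext fun g => map_one f
      map_mul' := fun a b => funext fun g => map_mul f (a g) (b g) }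
  have e : (fun g => (CoprimeExt.detHom ρ' g : ℂ)) = F (fun g => (CoprimeExt.detHom ρ g : ℂ)) :=
    funext fun g => by
      show (CoprimeExt.detHom ρ' g : ℂ) = f (CoprimeExt.detHom ρ g : ℂ)
      rw [CoprimeExt.detHom_apply, CoprimeExt.detHom_apply, hdet]
  rw [e]
  exact orderOf_injective F (fun a b h => funext fun g => f.injective (congrFun h g)) _

/-- A fixed invariant member of the principal block of `O^p(G)` of degree prime to `p` extends to a
fixed member of the principal block of `G`. -/
theorem exists_fixed_ext (hM : IsPModular p M) (hk : k.Coprime (Nat.card G))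
    (N : Subgroup G) [N.Normal] [Fintype N] (hN : N = pResidual p G)
    {θ : IrrCharacter N} (hθB : θ ∈ principalBlock M N)
    (hinv : ∀ g, conjIrr g θ = θ) (hd : ¬ p ∣ charDegree (θ : N → ℂ))
    (hfix : ∀ n : N, (θ : N → ℂ) (n ^ k) = (θ : N → ℂ) n) :
    ∃ χ ∈ principalBlock M G, (∀ n : N, (χ : G → ℂ) n = (θ : N → ℂ) n) ∧
      ∀ g : G, (χ : G → ℂ) (g ^ k) = (χ : G → ℂ) g := by
  classical
  obtain ⟨a, ha⟩ := Transfer.exists_index_pResidual_eq_pow (G := G) (p := p)
  have hidx : N.index = p ^ a := hN ▸ ha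
  have hd' : ¬ p ∣ CT.deg (θ : N → ℂ) := by
    have h := charDegree_cast (G := N) θ
    rw [CT.deg_eq (CT.isCharacter_of_isIrr θ.2)] at h
    have h' : charDegree (θ : N → ℂ) = CT.deg (θ : N → ℂ) := by exact_mod_cast h.symm
    exact h' ▸ hd
  have hdo : ¬ p ∣ detOrder (θ : N → ℂ) := by
    subst hN
    exact CoprimeExt.not_dvd_detOrder_residual _ (CT.isCharacter_of_isIrr θ.2)
  have hc1 : Nat.Coprime N.index (CT.deg (θ : N → ℂ)) :=
    hidx ▸ (hM.1.coprime_iff_not_dvd.mpr hd').pow_left a
  have hc2 : Nat.Coprime N.index (detOrder (θ : N → ℂ)) :=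
    hidx ▸ (hM.1.coprime_iff_not_dvd.mpr hdo).pow_left a
  obtain ⟨χ, ⟨hres, hdet⟩, huniq⟩ := CoprimeExt.exists_coprime_ext (N := N) θ (fun g n => by
    have := congrFun (congrArg Subtype.val (hinv g)) n
    rw [coe_conjIrr] at this
    exact this) hc1 hc2
  refine ⟨χ, ?_, hres, fun g => ?_⟩
  · obtain ⟨B, hB, -, hmem⟩ := exists_block_over_stable hM ⟨a, hidx⟩
      (c := principalBlock M N) isPBlock_principalBlock (fun x => by
        refine (stabilizesBlock_iff isPBlock_principalBlock x).mpr fun φ hφ => ?_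
        have h1 := sameBlock_conjIrr (G := G) x
          ((mem_block_iff isPBlock_principalBlock trivIrr_mem_principalBlock).mp hφ)
        rw [show conjIrr x (CT.trivIrr N) = CT.trivIrr N from Subtype.ext rfl] at h1
        exact (mem_block_iff isPBlock_principalBlock trivIrr_mem_principalBlock).mpr h1)
    have htriv : CT.trivIrr G ∈ B := (hmem _).mpr ⟨CT.trivIrr N, trivIrr_mem_principalBlock, by
      intro h0
      have h2 := CT.mult_spec (CT.isCharacter_restrict N (CT.isCharacter_of_isIrr (CT.trivIrr G).2))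
        (CT.isCharacter_of_isIrr (CT.trivIrr N).2)
      rw [h0, Nat.cast_zero] at h2
      exact one_ne_zero ((CT.irr_inner_self (CT.trivIrr N).2).symm.trans h2)⟩
    have hBeq : B = principalBlock M G :=
      block_eq_of_mem hB isPBlock_principalBlock htriv trivIrr_mem_principalBlock
    refine hBeq ▸ (hmem _).mpr ⟨θ, hθB, fun h0 => ?_⟩
    have h2 := CT.mult_spec (CT.isCharacter_restrict N (CT.isCharacter_of_isIrr χ.2))
      (CT.isCharacter_of_isIrr θ.2)
    rw [h0, Nat.cast_zero, show (fun n : N => (χ : G → ℂ) n) = (θ : N → ℂ) from funext hres,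
      CT.irr_inner_self θ.2] at h2
    exact one_ne_zero h2
  · have h := huniq (fun g => (χ : G → ℂ) (g ^ k))
      (OddChar.isCharacter_map_pow (CT.isCharacter_of_isIrr χ.2) hk)
      (fun n => by
        have h1 := hres (n ^ k)
        rw [SubgroupClass.coe_pow] at h1
        rw [h1, hfix])
      (by rw [detOrder_map_pow (CT.isCharacter_of_isIrr χ.2) hk, hdet]; exact hc2)
    exact congrFun h g

/-- An even set of fixed members of degree prime to `p` has a nonlinear invariant one: the linear
invariant ones form a group of odd order, since linear characters of `O^2(G)` have odd order. -/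
theorem exists_invariant (hM : IsPModular 2 M) (N : Subgroup G) [N.Normal] [Fintype N]
    (hN : N = pResidual 2 G)
    (heven : Even (Nat.card {θ : IrrCharacter N // θ ∈ principalBlock M N ∧
      Odd (charDegree (θ : N → ℂ)) ∧ ∀ n : N, (θ : N → ℂ) (n ^ k) = (θ : N → ℂ) n})) :
    ∃ θ ∈ principalBlock M N, charDegree (θ : N → ℂ) ≠ 1 ∧ Odd (charDegree (θ : N → ℂ)) ∧
      (∀ n : N, (θ : N → ℂ) (n ^ k) = (θ : N → ℂ) n) ∧ ∀ g, conjIrr g θ = θ := by
  classical
  haveI : Fact (Nat.Prime 2) := ⟨Nat.prime_two⟩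
  let F := {θ : IrrCharacter N // θ ∈ principalBlock M N ∧ Odd (charDegree (θ : N → ℂ)) ∧
    ∀ n : N, (θ : N → ℂ) (n ^ k) = (θ : N → ℂ) n}
  obtain ⟨P⟩ : Nonempty (Sylow 2 G) := inferInstance
  have hst : ∀ (x : G) (θ : F), conjIrr x θ.1 ∈ principalBlock M N ∧
      Odd (charDegree (conjIrr x θ.1 : N → ℂ)) ∧
      ∀ n : N, (conjIrr x θ.1 : N → ℂ) (n ^ k) = (conjIrr x θ.1 : N → ℂ) n := by
    intro x θ
    obtain ⟨θ, hθ, hodd, hfix⟩ := θ
    refine ⟨?_, ?_, fun n => ?_⟩
    · have h1 := sameBlock_conjIrr (G := G) x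
        ((mem_block_iff isPBlock_principalBlock trivIrr_mem_principalBlock).mp hθ)
      rw [show conjIrr x (CT.trivIrr N) = CT.trivIrr N from Subtype.ext rfl] at h1
      exact (mem_block_iff isPBlock_principalBlock trivIrr_mem_principalBlock).mpr h1
    · have : charDegree (conjIrr x θ : N → ℂ) = charDegree (θ : N → ℂ) := by
        simp [charDegree, CT.conjFun_eq_comp]
      rw [this]; exact hodd
    · simp only [coe_conjIrr, CT.conjFun_eq_comp, Function.comp_apply, map_pow]
      exact hfix _
  let act : (P : Subgroup G) →* Equiv.Perm F :=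
    { toFun := fun x =>
        { toFun := fun θ => ⟨conjIrr (x : G)⁻¹ θ.1, hst _ θ⟩
          invFun := fun θ => ⟨conjIrr (x : G) θ.1, hst _ θ⟩
          left_inv := fun θ => Subtype.ext (by
            show conjIrr (x : G) (conjIrr (x : G)⁻¹ θ.1) = θ.1
            rw [← conjIrr_mul, inv_mul_cancel, conjIrr_one])
          right_inv := fun θ => Subtype.ext (by
            show conjIrr (x : G)⁻¹ (conjIrr (x : G) θ.1) = θ.1
            rw [← conjIrr_mul, mul_inv_cancel, conjIrr_one]) }
      map_one' := Equiv.ext fun θ => Subtype.ext (by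
        show conjIrr ((1 : G))⁻¹ θ.1 = θ.1
        rw [inv_one, conjIrr_one])
      map_mul' := fun x y => Equiv.ext fun θ => Subtype.ext (by
        show conjIrr ((x : G) * (y : G))⁻¹ θ.1 = conjIrr (x : G)⁻¹ (conjIrr (y : G)⁻¹ θ.1)
        rw [mul_inv_rev, conjIrr_mul]) }
  letI : MulAction (P : Subgroup G) F := MulAction.compHom F act
  have hmod := P.isPGroup'.card_modEq_card_fixedPoints F
  have hfe : Even (Nat.card (MulAction.fixedPoints (P : Subgroup G) F)) := by
    have h0 : Nat.card F % 2 = 0 := Nat.even_iff.mp heven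
    have : Nat.card F % 2 = Nat.card (MulAction.fixedPoints (P : Subgroup G) F) % 2 := hmod
    exact Nat.even_iff.mpr (by omega)
  obtain ⟨s, hs, hne⟩ : ∃ s ∈ MulAction.fixedPoints (P : Subgroup G) F,
      charDegree (s.1 : N → ℂ) ≠ 1 := by
    by_contra h
    push Not at h
    -- the linear invariant members form a group of odd order
    let lin : (N →* ℂˣ) → IrrCharacter N := fun l =>
      ⟨fun x => (l x : ℂ), CT.isIrrCharacter_lin l⟩
    let H : Submonoid (N →* ℂˣ) :=
      { carrier := {l | lin l ∈ principalBlock M N ∧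
          (∀ n : N, l (n ^ k) = l n) ∧ ∀ x ∈ (P : Subgroup G), conjIrr x (lin l) = lin l}
        one_mem' := by
          have e : lin 1 = CT.trivIrr N := Subtype.ext (funext fun n => by simp [lin])
          exact ⟨e ▸ trivIrr_mem_principalBlock, fun n => rfl,
            fun x _ => Subtype.ext (funext fun n => by simp [lin, CT.conjFun_eq_comp])⟩
        mul_mem' := fun {f g} hf hg => ⟨mul_mem_principalBlock hf.1 hg.1,
          fun n => by rw [MonoidHom.mul_apply, MonoidHom.mul_apply, hf.2.1, hg.2.1],
          fun x hx => Subtype.ext (funext fun n => by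
            have a := congrFun (congrArg Subtype.val (hf.2.2 x hx)) n
            have b := congrFun (congrArg Subtype.val (hg.2.2 x hx)) n
            simp only [coe_conjIrr, CT.conjFun_eq_comp, lin] at a b ⊢
            simp only [MonoidHom.mul_apply, Units.val_mul, a, b])⟩ }
    haveI : Finite (N →* ℂˣ) := Finite.of_injective lin fun a b e =>
      MonoidHom.ext fun x => Units.ext (congrFun (congrArg Subtype.val e) x)
    let HG : Subgroup (N →* ℂˣ) :=
      { H with
        inv_mem' := fun {f} hf => by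
          obtain ⟨m, hm⟩ := (mem_powers_iff_mem_zpowers (x := f) (y := f⁻¹)).mpr
            (inv_mem (Subgroup.mem_zpowers f))
          show f⁻¹ ∈ H
          rw [← show f ^ m = f⁻¹ from hm]
          exact pow_mem (show f ∈ H from hf) m }
    have hodd : ¬ 2 ∣ Nat.card HG := by
      intro h2
      obtain ⟨⟨l, hlH⟩, hl⟩ := exists_prime_orderOf_dvd_card' 2 h2
      rw [Subgroup.orderOf_mk] at hl
      subst hN
      have hrange : IsPGroup 2 l.range := by
        rintro ⟨_, x, rfl⟩
        refine ⟨1, Subtype.ext ?_⟩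
        show l x ^ 2 ^ 1 = 1
        have h1 := pow_orderOf_eq_one l
        rw [hl] at h1
        rw [pow_one, ← MonoidHom.pow_apply, h1, MonoidHom.one_apply]
      have htriv : l = 1 := MonoidHom.ext fun x =>
        congrArg Subtype.val (Transfer.hom_pResidual_eq_one l.rangeRestrict hrange x)
      rw [htriv, orderOf_one] at hl
      exact absurd hl (by norm_num)
    have hmk : ∀ y : MulAction.fixedPoints (P : Subgroup G) F, ∃ l : N →* ℂˣ,
        y.1.1 = lin l := fun y => by
      obtain ⟨l, hl⟩ := CT.exists_hom_of_degree_one (CT.isCharacter_of_isIrr y.1.1.2)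
        (by rw [charDegree_cast, h y.1 y.2, Nat.cast_one])
      exact ⟨l, Subtype.ext hl⟩
    refine hodd (even_iff_two_dvd.mp ?_)
    refine (show Nat.card HG = Nat.card (MulAction.fixedPoints (P : Subgroup G) F) from ?_) ▸ hfe
    refine Nat.card_congr (Equiv.symm ?_)
    refine Equiv.ofBijective (fun y => ⟨Classical.choose (hmk y), ?_, ?_, ?_⟩) ⟨?_, ?_⟩
    · rw [← Classical.choose_spec (hmk y)]; exact y.1.2.1
    · intro n
      refine Units.ext ?_
      have e := congrArg Subtype.val (Classical.choose_spec (hmk y))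
      have := y.1.2.2.2 n
      rw [e] at this
      exact this
    · intro x hx
      rw [← Classical.choose_spec (hmk y)]
      have h1 := congrArg Subtype.val (y.2 ⟨x⁻¹, inv_mem hx⟩)
      have h2 : conjIrr (x⁻¹)⁻¹ y.1.1 = y.1.1 := h1
      rwa [inv_inv] at h2
    · intro y z e
      refine Subtype.ext (Subtype.ext ?_)
      rw [Classical.choose_spec (hmk y), Classical.choose_spec (hmk z)]
      exact congrArg lin (congrArg Subtype.val e)
    · rintro ⟨l, hl1, hl2, hl3⟩
      let y : F := ⟨lin l, hl1, by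
        rw [show charDegree (lin l : N → ℂ) = 1 by simp [charDegree, lin]]; exact odd_one,
        fun n => congrArg Units.val (hl2 n)⟩
      have hy : y ∈ MulAction.fixedPoints (P : Subgroup G) F := fun x =>
        Subtype.ext (hl3 _ (inv_mem x.2))
      refine ⟨⟨y, hy⟩, Subtype.ext ?_⟩
      have e := (Classical.choose_spec (hmk ⟨y, hy⟩)).symm
      exact MonoidHom.ext fun n => Units.ext (congrFun (congrArg Subtype.val e) n)
  refine ⟨s.1, s.2.1, hne, s.2.2.1, s.2.2.2, ?_⟩
  let S : Subgroup G :=
    { carrier := {g | conjIrr g s.1 = s.1}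
      one_mem' := conjIrr_one _
      mul_mem' := fun {a b} (ha : conjIrr a s.1 = s.1) (hb : conjIrr b s.1 = s.1) => by
        show conjIrr (a * b) s.1 = s.1
        rw [conjIrr_mul, ha, hb]
      inv_mem' := fun {a} (ha : conjIrr a s.1 = s.1) => by
        show conjIrr a⁻¹ s.1 = s.1
        conv_lhs => rw [← ha]
        rw [← conjIrr_mul, mul_inv_cancel, conjIrr_one] }
  have hP : (P : Subgroup G) ≤ S := fun x hx => by
    have h := congrArg Subtype.val (hs ⟨x⁻¹, inv_mem hx⟩)
    show conjIrr x s.1 = s.1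
    have h' : conjIrr (x⁻¹)⁻¹ s.1 = s.1 := h
    rwa [inv_inv] at h'
  have hNS : N ≤ S := fun x hx => Subtype.ext
    ((CT.mem_inertia N).mp (CT.le_inertia N (CT.isClassFunction_of_isIrr s.1.2) hx))
  obtain ⟨a, ha⟩ := Transfer.exists_index_pResidual_eq_pow (G := G) (p := 2)
  have h1 : S.index ∣ 2 ^ a := ha ▸ Subgroup.index_dvd_of_le (hN ▸ hNS)
  have h3 : Nat.Coprime S.index 2 := Nat.Coprime.coprime_dvd_left (Subgroup.index_dvd_of_le hP)
    (Nat.prime_two.coprime_iff_not_dvd.mpr P.not_dvd_index).symm
  have htop : S = ⊤ := Subgroup.index_eq_one.mp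
    (Nat.eq_one_of_dvd_coprimes (h3.pow_right a) dvd_rfl h1)
  intro g
  have : g ∈ S := htop ▸ Subgroup.mem_top g
  exact this

end Cfsg.Agent.Blocks.FixedOdd
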