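import Cfsg.Agent.Lib.Blocks.Covering
import Cfsg.Agent.Lib.Blocks.Height
import Cfsg.Agent.Lib.Blocks.FirstMain
import Cfsg.Agent.Lib.CT.CliffordLe
import Cfsg.Agent.S0917

/-!
# The Fong-Reynolds correspondence
-/

set_option linter.unusedSectionVars false

namespace Cfsg.Agent.Blocks

open MonoidAlgebra
open scoped ComplexConjugate

universe u

variable {G : Type u} [Group G] [Fintype G] {p : ℕ} {M : Ideal AlgInt} [M.IsPrime]

theorem indFun_mem_loc (H : Subgroup G) {f : H → ℂ} (hf : IsClassFunction H f)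
    (hloc : ∀ h, f h ∈ Loc M) (g : G) : indFun H f g ∈ Loc M := by
  classical
  haveI := Fintype.ofFinite H
  haveI := Fintype.ofFinite (G ⧸ H)
  have key : ∀ x : G, extendByZero H f (x⁻¹ * g * x) =
      extendByZero H f (((x : G ⧸ H).out)⁻¹ * g * (x : G ⧸ H).out) := by
    intro x
    obtain ⟨h, hh⟩ := QuotientGroup.mk_out_eq_mul H x
    rw [hh]
    by_cases hx : x⁻¹ * g * x ∈ H
    · have h2 : (x * (h : G))⁻¹ * g * (x * h) ∈ H := by
        have := H.mul_mem (H.mul_mem (H.inv_mem h.2) hx) h.2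
        simpa [mul_assoc] using this
      rw [CT.extendByZero_mem H f hx, CT.extendByZero_mem H f h2,
        ← hf ⟨x⁻¹ * g * x, hx⟩ h⁻¹]
      exact congrArg f (Subtype.ext (by simp [mul_assoc]))
    · rw [CT.extendByZero_not_mem H f hx, CT.extendByZero_not_mem H f fun h2 => hx ?_]
      have := H.mul_mem (H.mul_mem h.2 h2) (H.inv_mem h.2)
      simpa [mul_assoc] using this
  have hmem : ∀ a : G, extendByZero H f a ∈ Loc M := fun a => by
    by_cases ha : a ∈ H
    · rw [CT.extendByZero_mem H f ha]; exact hloc _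
    · rw [CT.extendByZero_not_mem H f ha]; exact (Loc M).zero_mem
  have hsum : indFun H f g =
      ∑ q : G ⧸ H, extendByZero H f (q.out⁻¹ * g * q.out) := by
    rw [indFun, Finset.sum_congr rfl fun x _ => key x,
      ← Finset.sum_fiberwise Finset.univ (fun x : G => (x : G ⧸ H)), Finset.mul_sum]
    refine Finset.sum_congr rfl fun q _ => ?_
    rw [Finset.sum_congr rfl (g := fun _ => extendByZero H f (q.out⁻¹ * g * q.out)) fun x hx => by
        rw [(Finset.mem_filter.mp hx).2], Finset.sum_const, nsmul_eq_mul]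
    have hc : (Finset.univ.filter fun x : G => (x : G ⧸ H) = q).card = Nat.card H := by
      rw [← Fintype.card_subtype, ← Nat.card_eq_fintype_card]
      exact Nat.card_congr
        { toFun := fun x => ⟨q.out⁻¹ * x.1, QuotientGroup.eq.mp (by rw [QuotientGroup.out_eq', x.2])⟩
          invFun := fun h => ⟨q.out * h.1, by
            rw [QuotientGroup.mk_mul_of_mem _ h.2, QuotientGroup.out_eq']⟩
          left_inv := fun x => by simp
          right_inv := fun h => by simp }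
    rw [hc, inv_mul_cancel_left₀ (CT.card_ne_zero (G := H))]
  rw [hsum]
  exact (Loc M).sum_mem fun q _ => hmem _

theorem centralChar_indFun (H : Subgroup G) {ψ : H → ℂ} (hψ1 : ψ 1 ≠ 0) (g : G) :
    centralChar (indFun H ψ) g = inducedCentralChar H ψ g := by
  classical
  haveI := Fintype.ofFinite H
  let S := Finset.univ.filter fun x : G => IsConj g x
  have hsum : ∑ x : G, extendByZero H ψ (x⁻¹ * g * x) =
      (Nat.card (Subgroup.centralizer ({g} : Set G)) : ℂ) * ∑ a ∈ S, extendByZero H ψ a := by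
    rw [← Finset.sum_fiberwise_of_maps_to (g := fun x : G => x⁻¹ * g * x) (t := S)
      (fun x _ => Finset.mem_filter.mpr ⟨Finset.mem_univ _, isConj_iff.mpr ⟨x⁻¹, by simp⟩⟩),
      Finset.mul_sum]
    refine Finset.sum_congr rfl fun a ha => ?_
    obtain ⟨c, hc⟩ := isConj_iff.mp (Finset.mem_filter.mp ha).2
    rw [Finset.sum_congr rfl (g := fun _ => extendByZero H ψ a) fun x hx => by
        rw [(Finset.mem_filter.mp hx).2], Finset.sum_const, nsmul_eq_mul]
    congr 2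
    rw [← Fintype.card_subtype, ← Nat.card_eq_fintype_card]
    exact Nat.card_congr
      { toFun := fun x => ⟨x.1 * c, Subgroup.mem_centralizer_singleton_iff.mpr (by
          have h : x.1⁻¹ * g * x.1 = c * g * c⁻¹ := x.2.trans hc.symm
          calc x.1 * c * g = x.1 * (c * g * c⁻¹) * c := by group
            _ = g * (x.1 * c) := by rw [← h]; group)⟩
        invFun := fun u => ⟨u.1 * c⁻¹, by
          have h : u.1 * g = g * u.1 := Subgroup.mem_centralizer_singleton_iff.mp u.2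
          rw [← hc]
          calc (u.1 * c⁻¹)⁻¹ * g * (u.1 * c⁻¹) = c * (u.1⁻¹ * (g * u.1)) * c⁻¹ := by group
            _ = c * g * c⁻¹ := by rw [← h]; group⟩
        left_inv := fun x => by simp
        right_inv := fun u => by simp }
  have hsum2 : ∑ a ∈ S, extendByZero H ψ a = ∑ h : H, if IsConj g (h : G) then ψ h else 0 := by
    have h := CT.sum_extendByZero H ψ (fun a : G => if IsConj g a then (1 : ℂ) else 0)
    simp only [mul_ite, mul_one, mul_zero] at h
    rw [Finset.sum_filter, ← h]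
  have hR : inducedCentralChar H ψ g =
      (∑ h : H, if IsConj g (h : G) then ψ h else 0) / ψ 1 := by
    rw [inducedCentralChar, finsum_mem_def, finsum_eq_sum_of_fintype, Finset.sum_div]
    refine Finset.sum_congr rfl fun h _ => ?_
    by_cases hc : IsConj g (h : G)
    · rw [Set.indicator_of_mem (s := {h : H | IsConj g (h : G)}) hc, if_pos hc]
    · rw [Set.indicator_of_notMem (s := {h : H | IsConj g (h : G)}) hc, if_neg hc, zero_div]
  rw [centralChar, CT.indFun_one_eval, hR, ← hsum2, indFun, hsum]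
  have h1 := card_centralizer_mul_class g
  have h2 : (H.index : ℂ) * (Nat.card H : ℂ) = (Nat.card G : ℂ) := by
    exact_mod_cast H.index_mul_card
  generalize (∑ a ∈ S, extendByZero H ψ a) = X
  have hH : (Nat.card H : ℂ) ≠ 0 := CT.card_ne_zero (G := H)
  have hi : (H.index : ℂ) ≠ 0 := Nat.cast_ne_zero.mpr Subgroup.index_ne_zero_of_finite
  generalize (Nat.card (Subgroup.centralizer ({g} : Set G)) : ℂ) = c at h1 ⊢
  generalize ((Subgroup.centralizer ({g} : Set G)).index : ℂ) = k at h1 ⊢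
  rw [show k * ((Nat.card H : ℂ)⁻¹ * (c * X)) = (H.index : ℂ) * X by
    field_simp
    linear_combination X * h1 - X * h2, mul_div_mul_left _ _ hi]

/-- A block all of whose members induce irreducibly induces the block of the induced characters. -/
theorem isInducedBlock_of_indFun {H : Subgroup G} {b : Set (IrrCharacter H)} (hb : IsPBlock M b)
    {ξ : IrrCharacter H} (hξ : ξ ∈ b) {χ : IrrCharacter G}
    (h : (χ : G → ℂ) = indFun H (ξ : H → ℂ)) :
    IsInducedBlock M H b (blockOf M (χ : G → ℂ)) := by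
  refine (isInducedBlock_iff hb (isPBlock_blockOf χ) hξ (self_mem_blockOf χ)).mpr fun a => ?_
  refine indBar_eq_of_classSum H ξ χ (fun g => ?_) a
  rw [indBar_classSumZ, omegaBar_classSumZ, red_eq_iff, coe_centralCharL, h,
    centralChar_indFun H (CT.irr_one_ne_zero ξ.2)]
  rw [sub_self]
  exact memLocalIdeal_zero

section Correspondence

variable {N : Subgroup G} [hN : N.Normal] [Fintype N] {b : Set (IrrCharacter N)}
  {T : Subgroup G} [Fintype T]

theorem conj_mem_iff (hb : IsPBlock M b) {θ θ' : IrrCharacter N} (hθ : θ ∈ b) (hθ' : θ' ∈ b)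
    (g : G) : conjIrr g θ ∈ b ↔ conjIrr g θ' ∈ b :=
  ⟨fun h => (mem_block_iff hb h).mpr (sameBlock_conjIrr g ((mem_block_iff hb hθ).mp hθ')),
    fun h => (mem_block_iff hb h).mpr (sameBlock_conjIrr g ((mem_block_iff hb hθ').mp hθ))⟩

theorem mem_stab_of_conj (hb : IsPBlock M b) (hT : ∀ g : G, g ∈ T ↔ ∀ θ ∈ b, conjIrr g θ ∈ b)
    {θ : IrrCharacter N} (hθ : θ ∈ b) {g : G} (h : conjIrr g θ ∈ b) : g ∈ T :=
  (hT g).mpr fun _ hθ' => (conj_mem_iff hb hθ hθ' g).mp h

theorem inertia_le_stab (hb : IsPBlock M b) (hT : ∀ g : G, g ∈ T ↔ ∀ θ ∈ b, conjIrr g θ ∈ b)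
    {θ : IrrCharacter N} (hθ : θ ∈ b) : CT.inertia N (θ : N → ℂ) ≤ T := fun g hg =>
  mem_stab_of_conj hb hT hθ (by
    rw [show conjIrr g θ = θ from Subtype.ext ((CT.mem_inertia N).mp hg)]; exact hθ)

theorem conjIrr_mem_iff_of_stab (hT : ∀ g : G, g ∈ T ↔ ∀ θ ∈ b, conjIrr g θ ∈ b) {t : G}
    (ht : t ∈ T) (θ : IrrCharacter N) : conjIrr t θ ∈ b ↔ θ ∈ b := by
  refine ⟨fun h => ?_, (hT t).mp ht θ⟩
  have := (hT t⁻¹).mp (T.inv_mem ht) _ h
  rwa [← conjIrr_mul, mul_inv_cancel, conjIrr_one] at this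

variable (b) in
/-- An irreducible character of `T` lies over `b`. -/
def OverBlock (hNT : N ≤ T) (ψ : IrrCharacter T) : Prop :=
  ∃ θ ∈ b, classInner (CT.resTo N T hNT (ψ : T → ℂ)) (θ : N → ℂ) ≠ 0

theorem overBlock_all (hT : ∀ g : G, g ∈ T ↔ ∀ θ ∈ b, conjIrr g θ ∈ b) (hNT : N ≤ T)
    {ψ : IrrCharacter T} (hψ : OverBlock b hNT ψ) {η : IrrCharacter N}
    (hη : classInner (CT.resTo N T hNT (ψ : T → ℂ)) (η : N → ℂ) ≠ 0) : η ∈ b := by
  obtain ⟨θ, hθ, hθc⟩ := hψ
  obtain ⟨t, ht, he⟩ := CT.exists_conj_of_resTo N θ.2 T hNT ψ.2 hθc η.2 hη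
  rw [show η = conjIrr t θ from Subtype.ext he.symm]
  exact (hT t).mp ht θ hθ

/-- The idempotent of `b` evaluates to one or zero on the characters of its stabilizer. -/
theorem sum_blockCoeff_resTo (hb : IsPBlock M b) (hT : ∀ g : G, g ∈ T ↔ ∀ θ ∈ b, conjIrr g θ ∈ b)
    (hNT : N ≤ T) (ψ : IrrCharacter T) [Decidable (OverBlock b hNT ψ)] :
    ∑ n : N, blockCoeff b n * (ψ : T → ℂ) ⟨n, hNT n.2⟩ =
      if OverBlock b hNT ψ then (ψ : T → ℂ) 1 else 0 := by
  classical
  have hres := CT.isCharacter_resTo N T hNT (CT.isCharacter_of_isIrr ψ.2)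
  have hexp := CT.character_eq_sum hres
  have h1 : ∀ θ : IrrCharacter N, ∑ n : N, blockCoeff b n * (θ : N → ℂ) n =
      if θ ∈ b then (θ : N → ℂ) 1 else 0 := fun θ => by
    have h := omega_idemC b θ
    rw [omega, idemC, ev_ofFun, div_eq_iff (CT.irr_one_ne_zero θ.2)] at h
    rw [h]; split_ifs <;> simp
  have h2 : ∀ n : N, (ψ : T → ℂ) ⟨n, hNT n.2⟩ =
      ∑ θ : IrrCharacter N, (CT.mult (CT.resTo N T hNT (ψ : T → ℂ)) θ : ℂ) * (θ : N → ℂ) n :=
    fun n => by
      have := congrFun hexp n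
      simpa [CT.resTo, Finset.sum_apply] using this
  simp only [h2, Finset.mul_sum]
  rw [Finset.sum_comm]
  simp only [mul_left_comm (blockCoeff b _), ← Finset.mul_sum, h1]
  have hm : ∀ θ : IrrCharacter N, (CT.mult (CT.resTo N T hNT (ψ : T → ℂ)) θ : ℂ) ≠ 0 →
      classInner (CT.resTo N T hNT (ψ : T → ℂ)) (θ : N → ℂ) ≠ 0 := fun θ h => by
    rwa [CT.mult_spec hres (CT.isCharacter_of_isIrr θ.2)]
  split_ifs with hov
  · have e1 : (ψ : T → ℂ) 1 = ∑ θ : IrrCharacter N,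
        (CT.mult (CT.resTo N T hNT (ψ : T → ℂ)) θ : ℂ) * (θ : N → ℂ) 1 := by
      rw [← h2 1]; rfl
    rw [e1]
    refine Finset.sum_congr rfl fun θ _ => ?_
    by_cases h0 : (CT.mult (CT.resTo N T hNT (ψ : T → ℂ)) θ : ℂ) = 0
    · rw [h0, zero_mul, zero_mul]
    · rw [if_pos (overBlock_all hT hNT hov (hm θ h0))]
  · refine Finset.sum_eq_zero fun θ _ => ?_
    by_cases h0 : (CT.mult (CT.resTo N T hNT (ψ : T → ℂ)) θ : ℂ) = 0
    · rw [h0, zero_mul]
    · rw [if_neg fun hθ => hov ⟨θ, hθ, hm θ h0⟩, mul_zero]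

/-- Lying over `b` is constant on blocks of the stabilizer. -/
theorem overBlock_of_sameBlock (hb : IsPBlock M b) (hT : ∀ g : G, g ∈ T ↔ ∀ θ ∈ b, conjIrr g θ ∈ b)
    (hNT : N ≤ T) {ψ ψ' : IrrCharacter T} (hψ : OverBlock b hNT ψ)
    (h : SameBlock M (ψ : T → ℂ) (ψ' : T → ℂ)) : OverBlock b hNT ψ' := by
  classical
  let c : T → Loc M := fun t => if ht : (t : G) ∈ N then ⟨blockCoeff b ⟨t, ht⟩, blockCoeff_mem_loc hb _⟩ else 0
  have hinv : ∀ (s : G) (_ : s ∈ T) (n : N),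
      blockCoeff b ⟨s * n * s⁻¹, hN.conj_mem _ n.2 s⟩ = blockCoeff b n := by
    intro s hs n
    simp only [blockCoeff, finsum_mem_irr]
    congr 1
    refine Fintype.sum_equiv
      { toFun := conjIrr s
        invFun := conjIrr s⁻¹
        left_inv := fun θ => by rw [← conjIrr_mul, mul_inv_cancel, conjIrr_one]
        right_inv := fun θ => by rw [← conjIrr_mul, inv_mul_cancel, conjIrr_one] } _ _ fun θ => ?_
    simp only [Equiv.coe_fn_mk, conjIrr_mem_iff_of_stab hT hs]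
    refine if_congr Iff.rfl ?_ rfl
    show _ = CT.conjFun N s (θ : N → ℂ) 1 * conj (CT.conjFun N s (θ : N → ℂ) n)
    simp only [CT.conjFun]
    rw [show (⟨s * ((1 : N) : G) * s⁻¹, hN.conj_mem _ (1 : N).2 s⟩ : N) = 1 from Subtype.ext (by simp)]
  have hc : ofFun c ∈ Subring.center (MonoidAlgebra (Loc M) T) := by
    rw [mem_center_iff_isClassFn]
    intro x s
    simp only [coeff_ofFun, c, Subgroup.coe_mul, Subgroup.coe_inv]
    by_cases hx : (x : G) ∈ N
    · rw [dif_pos (hN.conj_mem _ hx (s : G)), dif_pos hx]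
      exact Subtype.ext (hinv _ s.2 ⟨x, hx⟩)
    · rw [dif_neg hx, dif_neg fun hh => hx ?_]
      have := hN.conj_mem _ hh (s : G)⁻¹
      simpa [mul_assoc] using this
  have hω : ∀ η : IrrCharacter T, ((omegaL M η ⟨ofFun c, hc⟩ : Loc M) : ℂ) =
      if OverBlock b hNT η then 1 else 0 := by
    intro η
    have h3 : ev (η : T → ℂ) (toC M T (ofFun c)) =
        ∑ n : N, blockCoeff b n * (η : T → ℂ) ⟨n, hNT n.2⟩ := by
      rw [ev_eq_sum]
      symm
      refine Finset.sum_bij_ne_zero (fun n _ _ => (⟨n, hNT n.2⟩ : T)) (fun _ _ _ => Finset.mem_univ _)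
        (fun a _ _ a' _ _ e => Subtype.ext (congrArg (fun x : T => (x : G)) e)) (fun t _ ht => ?_)
        (fun n _ _ => ?_)
      · by_cases htN : (t : G) ∈ N
        · refine ⟨⟨t, htN⟩, Finset.mem_univ _, ?_, rfl⟩
          simpa [toC, coeff_map', c, htN] using ht
        · simp [toC, coeff_map', c, htN] at ht
      · simp [toC, coeff_map', c]
    rw [coe_omegaL, omega, h3, sum_blockCoeff_resTo hb hT hNT η]
    split_ifs
    · exact div_self (CT.irr_one_ne_zero η.2)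
    · simp
  by_contra hne
  have h1 : omegaL M ψ ⟨ofFun c, hc⟩ = 1 := Subtype.ext (by rw [hω, if_pos hψ]; rfl)
  have h0 : omegaL M ψ' ⟨ofFun c, hc⟩ = 0 := Subtype.ext (by rw [hω, if_neg hne]; rfl)
  have := red_omegaL_eq_of_sameBlock h ⟨ofFun c, hc⟩
  rw [h1, h0, map_one, map_zero] at this
  exact one_ne_zero this

/-- Induction from the stabilizer is injective over the block. -/
theorem indFun_injective_over (hb : IsPBlock M b) (hT : ∀ g : G, g ∈ T ↔ ∀ θ ∈ b, conjIrr g θ ∈ b)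
    (hNT : N ≤ T) {ψ ψ' : IrrCharacter T} (hψ : OverBlock b hNT ψ) (hψ' : OverBlock b hNT ψ')
    (h : indFun T (ψ : T → ℂ) = indFun T (ψ' : T → ℂ)) : ψ = ψ' := by
  obtain ⟨θ, hθ, hc⟩ := hψ
  obtain ⟨θ', hθ', hc'⟩ := hψ'
  obtain ⟨hirr, hm⟩ := CT.isIrr_indFun_of_over_le N θ.2 T (inertia_le_stab hb hT hθ) hNT ψ.2 hc
  obtain ⟨-, hm'⟩ := CT.isIrr_indFun_of_over_le N θ'.2 T (inertia_le_stab hb hT hθ') hNT ψ'.2 hc'
  rw [← h] at hm'
  obtain ⟨g, hg⟩ := CT.exists_conj_of_constituent N hirr θ.2 θ'.2 (hm.trans_ne hc) (hm'.trans_ne hc')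
  have hgT : g ∈ T := mem_stab_of_conj hb hT hθ
    (by rw [show conjIrr g θ = θ' from Subtype.ext hg]; exact hθ')
  refine CT.indFun_injective_of_over_le N θ.2 T (inertia_le_stab hb hT hθ) hNT hc ?_ h
  rw [← CT.classInner_resTo_conjFun N T hNT (CT.isClassFunction_of_isIrr ψ'.2) _ hgT, hg]
  exact hc'

/-- The Fong-Reynolds theorem for one block of the stabilizer. -/
theorem fong_reynolds (hb : IsPBlock M b) (hT : ∀ g : G, g ∈ T ↔ ∀ θ ∈ b, conjIrr g θ ∈ b)
    (hNT : N ≤ T) {B' : Set (IrrCharacter T)} (hB' : IsPBlock M B')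
    (hcov : ∃ ψ ∈ B', OverBlock b hNT ψ) :
    ∃ B : Set (IrrCharacter G), IsInducedBlock M T B' B ∧
      (∀ ψ ∈ B', OverBlock b hNT ψ ∧ IsIrrCharacter G (indFun T (ψ : T → ℂ))) ∧
      (∃ χ ∈ B, ∃ θ ∈ b, classInner (fun n : N => (χ : G → ℂ) n) (θ : N → ℂ) ≠ 0) ∧
      ∀ χ : IrrCharacter G, χ ∈ B ↔ ∃ ψ ∈ B', (χ : G → ℂ) = indFun T (ψ : T → ℂ) := by
  classical
  obtain ⟨ψ₀, hψ₀, hov₀⟩ := hcov
  have hov : ∀ ψ ∈ B', OverBlock b hNT ψ := fun ψ hψ =>
    overBlock_of_sameBlock hb hT hNT hov₀ ((mem_block_iff hB' hψ₀).mp hψ)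
  have hirr : ∀ ψ ∈ B', IsIrrCharacter G (indFun T (ψ : T → ℂ)) := fun ψ hψ => by
    obtain ⟨θ, hθ, hc⟩ := hov ψ hψ
    exact (CT.isIrr_indFun_of_over_le N θ.2 T (inertia_le_stab hb hT hθ) hNT ψ.2 hc).1
  let χ₀ : IrrCharacter G := ⟨_, hirr ψ₀ hψ₀⟩
  have hind : IsInducedBlock M T B' (blockOf M (χ₀ : G → ℂ)) :=
    isInducedBlock_of_indFun hB' hψ₀ (χ := χ₀) rfl
  refine ⟨_, hind, fun ψ hψ => ⟨hov ψ hψ, hirr ψ hψ⟩, ?_, fun χ => ⟨fun hχ => ?_, ?_⟩⟩
  · obtain ⟨θ, hθ, hc⟩ := hov₀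
    exact ⟨χ₀, self_mem_blockOf χ₀, θ, hθ,
      (CT.isIrr_indFun_of_over_le N θ.2 T (inertia_le_stab hb hT hθ) hNT ψ₀.2 hc).2.trans_ne hc⟩
  · set A : Set (IrrCharacter G) := {χ | ∃ ψ ∈ B', (χ : G → ℂ) = indFun T (ψ : T → ℂ)} with hAdef
    have hA : ∀ u, blockCoeff A u ∈ Loc M := by
      intro u
      have key : blockCoeff A u = indFun T (blockCoeff B') u := by
        have hS : ∑ᶠ χ ∈ A, (χ : G → ℂ) 1 * conj ((χ : G → ℂ) u) =
            ∑ᶠ ψ ∈ B', indFun T (ψ : T → ℂ) 1 * conj (indFun T (ψ : T → ℂ) u) := by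
          symm
          refine finsum_mem_eq_of_bijOn
            (fun ψ : IrrCharacter T => if h : IsIrrCharacter G (indFun T (ψ : T → ℂ)) then
              (⟨_, h⟩ : IrrCharacter G) else χ₀) ⟨fun ψ hψ => ?_, fun ψ hψ ψ' hψ' e => ?_, ?_⟩
            fun ψ hψ => by rw [dif_pos (hirr ψ hψ)]
          · beta_reduce
            rw [dif_pos (hirr ψ hψ)]; exact ⟨ψ, hψ, rfl⟩
          · simp only [dif_pos (hirr ψ hψ), dif_pos (hirr ψ' hψ')] at e
            exact indFun_injective_over hb hT hNT (hov ψ hψ) (hov ψ' hψ') (congrArg Subtype.val e)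
          · rintro η ⟨ψ, hψ, hη⟩
            exact ⟨ψ, hψ, by beta_reduce; rw [dif_pos (hirr ψ hψ)]; exact Subtype.ext hη.symm⟩
        rw [blockCoeff, hS, finsum_mem_eq_toFinset_sum]
        simp only [CT.indFun_one_eval]
        simp only [indFun, map_mul, map_inv₀, Complex.conj_natCast, map_sum]
        have hconj : ∀ (ψ : IrrCharacter T) (a : G), conj (extendByZero T (ψ : T → ℂ) a) =
            extendByZero T (fun t => conj ((ψ : T → ℂ) t)) a := fun ψ a => by
          by_cases ha : a ∈ T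
          · rw [CT.extendByZero_mem T _ ha, CT.extendByZero_mem T _ ha]
          · rw [CT.extendByZero_not_mem T _ ha, CT.extendByZero_not_mem T _ ha, map_zero]
        have hext : ∀ a : G, extendByZero T (blockCoeff B') a = (Nat.card T : ℂ)⁻¹ *
            ∑ ψ ∈ B'.toFinset, (ψ : T → ℂ) 1 * extendByZero T (fun t => conj ((ψ : T → ℂ) t)) a := by
          intro a
          by_cases ha : a ∈ T
          · simp only [CT.extendByZero_mem T _ ha, blockCoeff, finsum_mem_eq_toFinset_sum]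
          · simp only [CT.extendByZero_not_mem T _ ha, mul_zero, Finset.sum_const_zero]
        simp only [hext, hconj, Finset.mul_sum]
        rw [Finset.sum_comm]
        refine Finset.sum_congr rfl fun x _ => Finset.sum_congr rfl fun ψ _ => ?_
        have hH : (Nat.card T : ℂ) ≠ 0 := CT.card_ne_zero (G := T)
        have hi : (T.index : ℂ) ≠ 0 := Nat.cast_ne_zero.mpr Subgroup.index_ne_zero_of_finite
        rw [← T.index_mul_card]
        push_cast
        field_simp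
      rw [key]
      refine indFun_mem_loc T ?_ (blockCoeff_mem_loc hB') u
      exact fun t s => blockCoeff_congr B' (isConj_iff.mpr ⟨s⁻¹, by simp [mul_assoc]⟩)
    exact blockOf_subset_of_integral hA ⟨ψ₀, hψ₀, rfl⟩ hχ
  · rintro ⟨ψ, hψ, hχ⟩
    have h2 := isInducedBlock_of_indFun hB' hψ hχ
    rw [inducedBlock_unique hind h2]
    exact self_mem_blockOf χ

/-- Every block over `b` is induced from a block of the stabilizer over `b`. -/
theorem fong_reynolds_surjective (hb : IsPBlock M b)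
    (hT : ∀ g : G, g ∈ T ↔ ∀ θ ∈ b, conjIrr g θ ∈ b) (hNT : N ≤ T) {B : Set (IrrCharacter G)}
    (hB : IsPBlock M B)
    (hcov : ∃ χ ∈ B, ∃ θ ∈ b, classInner (fun n : N => (χ : G → ℂ) n) (θ : N → ℂ) ≠ 0) :
    ∃ B' : Set (IrrCharacter T), IsPBlock M B' ∧ (∃ ψ ∈ B', OverBlock b hNT ψ) ∧
      IsInducedBlock M T B' B := by
  obtain ⟨χ, hχ, θ, hθ, hc⟩ := hcov
  obtain ⟨ψ, hψ, hψc⟩ :=
    CT.exists_correspondent_le N θ.2 T (inertia_le_stab hb hT hθ) hNT χ.2 hc
  refine ⟨_, isPBlock_blockOf ψ, ⟨ψ, self_mem_blockOf ψ, θ, hθ, hψc⟩, ?_⟩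
  rw [block_eq_blockOf hB hχ]
  exact isInducedBlock_of_indFun (isPBlock_blockOf ψ) (self_mem_blockOf ψ) hψ.symm

/-- Distinct blocks of the stabilizer over `b` induce distinct blocks. -/
theorem fong_reynolds_injective (hb : IsPBlock M b)
    (hT : ∀ g : G, g ∈ T ↔ ∀ θ ∈ b, conjIrr g θ ∈ b) (hNT : N ≤ T)
    {B₁ B₂ : Set (IrrCharacter T)} (h₁ : IsPBlock M B₁) (h₂ : IsPBlock M B₂)
    (hc₁ : ∃ ψ ∈ B₁, OverBlock b hNT ψ) (hc₂ : ∃ ψ ∈ B₂, OverBlock b hNT ψ)
    {B : Set (IrrCharacter G)} (hi₁ : IsInducedBlock M T B₁ B) (hi₂ : IsInducedBlock M T B₂ B) :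
    B₁ = B₂ := by
  obtain ⟨C₁, hC₁, hov₁, -, hmem₁⟩ := fong_reynolds hb hT hNT h₁ hc₁
  obtain ⟨C₂, hC₂, hov₂, -, hmem₂⟩ := fong_reynolds hb hT hNT h₂ hc₂
  have e1 : C₁ = B := inducedBlock_unique hC₁ hi₁
  have e2 : C₂ = B := inducedBlock_unique hC₂ hi₂
  obtain ⟨χ, hχ⟩ := block_nonempty hi₁.2.1
  obtain ⟨ψ₁, hψ₁, he₁⟩ := (hmem₁ χ).mp (e1 ▸ hχ)
  obtain ⟨ψ₂, hψ₂, he₂⟩ := (hmem₂ χ).mp (e2 ▸ hχ)
  have h := indFun_injective_over hb hT hNT (hov₁ ψ₁ hψ₁).1 (hov₂ ψ₂ hψ₂).1 (he₁.symm.trans he₂)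
  exact block_eq_of_mem h₁ h₂ hψ₁ (h ▸ hψ₂)

/-- Defect groups and heights in the Fong-Reynolds correspondence. -/
theorem fong_reynolds_defect (hM : IsPModular p M) (hb : IsPBlock M b)
    (hT : ∀ g : G, g ∈ T ↔ ∀ θ ∈ b, conjIrr g θ ∈ b) (hNT : N ≤ T) {B' : Set (IrrCharacter T)}
    (hB' : IsPBlock M B') (hcov : ∃ ψ ∈ B', OverBlock b hNT ψ) {B : Set (IrrCharacter G)}
    (hind : IsInducedBlock M T B' B) :
    (∀ D : Subgroup T, IsDefectGroup p M B' D → IsDefectGroup p M B (D.map T.subtype)) ∧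
      ∀ ψ ∈ B', ∃ χ ∈ B, (χ : G → ℂ) = indFun T (ψ : T → ℂ) ∧
        blockHeight p B (χ : G → ℂ) = blockHeight p B' (ψ : T → ℂ) := by
  classical
  haveI : Fact p.Prime := ⟨hM.1⟩
  obtain ⟨C, hC, hov, -, hmem⟩ := fong_reynolds hb hT hNT hB' hcov
  obtain rfl : C = B := inducedBlock_unique hC hind
  set s := T.index.factorization p with hs
  have hdeg : ∀ (χ : IrrCharacter G) (ψ : IrrCharacter T), (χ : G → ℂ) = indFun T (ψ : T → ℂ) →
      (charDegree (χ : G → ℂ)).factorization p = s + (charDegree (ψ : T → ℂ)).factorization p := by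
    intro χ ψ he
    have h1 : charDegree (χ : G → ℂ) = T.index * charDegree (ψ : T → ℂ) := by
      have h2 := charDegree_cast χ
      have h3 : (χ : G → ℂ) 1 = (T.index : ℂ) * (charDegree (ψ : T → ℂ) : ℂ) := by
        rw [he, CT.indFun_one_eval, charDegree_cast]
      exact_mod_cast h2.symm.trans h3
    rw [h1, Nat.factorization_mul Subgroup.index_ne_zero_of_finite (charDegree_pos ψ).ne',
      Finsupp.add_apply]
  set f := fun η : IrrCharacter G => (charDegree (η : G → ℂ)).factorization p with hf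
  set f' := fun η : IrrCharacter T => (charDegree (η : T → ℂ)).factorization p with hf'
  have hmin : sInf (f '' C) = s + sInf (f' '' B') := by
    obtain ⟨ψ, hψ⟩ := block_nonempty hB'
    obtain ⟨ψ₁, hψ₁, e₁⟩ := Nat.sInf_mem (s := f' '' B') ⟨_, ψ, hψ, rfl⟩
    obtain ⟨χ₁, hχ₁⟩ : ∃ χ : IrrCharacter G, (χ : G → ℂ) = indFun T (ψ₁ : T → ℂ) :=
      ⟨(⟨_, (hov ψ₁ hψ₁).2⟩ : IrrCharacter G), rfl⟩
    have hχ₁C : χ₁ ∈ C := (hmem χ₁).mpr ⟨ψ₁, hψ₁, hχ₁⟩
    refine le_antisymm ((Nat.sInf_le (Set.mem_image_of_mem f hχ₁C)).trans_eq ?_) ?_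
    · rw [← e₁]; exact hdeg χ₁ ψ₁ hχ₁
    · obtain ⟨χ, hχ, e⟩ := Nat.sInf_mem (s := f '' C) ⟨_, χ₁, hχ₁C, rfl⟩
      obtain ⟨η, hη, he⟩ := (hmem χ).mp hχ
      rw [← e, show f χ = s + f' η from hdeg χ η he]
      exact Nat.add_le_add_left (Nat.sInf_le (Set.mem_image_of_mem f' hη)) s
  have hdef : blockDefect p C = blockDefect p B' := by
    unfold blockDefect
    have hcard : (Nat.card G).factorization p = s + (Nat.card T).factorization p := by
      rw [← T.index_mul_card, Nat.factorization_mul Subgroup.index_ne_zero_of_finite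
        Nat.card_pos.ne', Finsupp.add_apply]
    rw [show sInf ((fun χ : IrrCharacter G => (charDegree (χ : G → ℂ)).factorization p) '' C) =
      s + sInf (f' '' B') from hmin, hcard,
      show sInf ((fun χ : IrrCharacter T => (charDegree (χ : T → ℂ)).factorization p) '' B') =
        sInf (f' '' B') from rfl]
    omega
  refine ⟨fun D hD => ?_, fun ψ hψ => ?_⟩
  · obtain ⟨E, hE, hle⟩ := Cfsg.Agent.S0917.result p M hM T B' hB' C hind.2.1 hind D hD
    have hcardE : Nat.card E = Nat.card (D.map T.subtype) := by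
      rw [card_defectGroup hM hind.2.1 hE, hdef, ← card_defectGroup hM hB' hD]
      exact Nat.card_congr (D.equivMapOfInjective T.subtype T.subtype_injective).toEquiv
    rw [Subgroup.eq_of_le_of_card_ge hle hcardE.le]
    exact hE
  · let χ : IrrCharacter G := ⟨_, (hov ψ hψ).2⟩
    refine ⟨χ, (hmem χ).mpr ⟨ψ, hψ, rfl⟩, rfl, ?_⟩
    unfold blockHeight
    rw [hdeg χ ψ rfl, show sInf ((fun η : IrrCharacter G => (charDegree (η : G → ℂ)).factorization p) '' C) =
      s + sInf (f' '' B') from hmin,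
      show sInf ((fun χ : IrrCharacter T => (charDegree (χ : T → ℂ)).factorization p) '' B') =
        sInf (f' '' B') from rfl]
    omega

end Correspondence

end Cfsg.Agent.Blocks
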