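import Cfsg.Agent.Lib.Blocks.KleinOrder

/-!
# Arithmetic consequences of the Klein four order identity
-/

namespace Cfsg.Agent.Blocks

variable {G : Type*} [Group G] [Finite G]

theorem order_formula_aux {n c p N k x₁ x₂ x₃ : ℕ} {e₁ e₂ e₃ : ℤ} (hp : 0 < p) (hc : 0 < c)
    (hx₁ : 0 < x₁) (hx₂ : 0 < x₂) (hx₃ : 0 < x₃) (hN : N * p = c) (hk : k * c = n)
    (hrel : 1 + e₁ * (x₁ : ℤ) + e₂ * (x₂ : ℤ) + e₃ * (x₃ : ℤ) = 0)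
    (hsq : e₁ ^ 2 = 1 ∧ e₂ ^ 2 = 1 ∧ e₃ ^ 2 = 1)
    (hkey : (k : ℚ) * (1 + (e₁ : ℚ) / x₁ + (e₂ : ℚ) / x₂ + (e₃ : ℚ) / x₃) = 8 * (N : ℚ) ^ 2) :
    (n : ℚ) = 8 * (((x₁ : ℚ) * x₂ * x₃) / (((x₁ : ℚ) + e₁) * ((x₂ : ℚ) + e₂) * ((x₃ : ℚ) + e₃))) *
      (c : ℚ) ^ 3 / (p : ℚ) ^ 2 := by
  have h1 : (x₁ : ℚ) ≠ 0 := Nat.cast_ne_zero.mpr hx₁.ne'
  have h2 : (x₂ : ℚ) ≠ 0 := Nat.cast_ne_zero.mpr hx₂.ne'
  have h3 : (x₃ : ℚ) ≠ 0 := Nat.cast_ne_zero.mpr hx₃.ne'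
  have hp' : (p : ℚ) ≠ 0 := Nat.cast_ne_zero.mpr hp.ne'
  have hr : (1 : ℚ) + e₁ * x₁ + e₂ * x₂ + e₃ * x₃ = 0 := by exact_mod_cast hrel
  have s1 : (e₁ : ℚ) ^ 2 = 1 := by exact_mod_cast hsq.1
  have s2 : (e₂ : ℚ) ^ 2 = 1 := by exact_mod_cast hsq.2.1
  have s3 : (e₃ : ℚ) ^ 2 = 1 := by exact_mod_cast hsq.2.2
  have hprod : ((x₁ : ℚ) + e₁) * ((x₂ : ℚ) + e₂) * ((x₃ : ℚ) + e₃) =
      (x₁ : ℚ) * x₂ * x₃ * (1 + (e₁ : ℚ) / x₁ + (e₂ : ℚ) / x₂ + (e₃ : ℚ) / x₃) := by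
    field_simp
    linear_combination ((e₁ : ℚ) * e₂ * e₃) * hr - (x₁ : ℚ) * e₂ * e₃ * s1 -
      (x₂ : ℚ) * e₁ * e₃ * s2 - (x₃ : ℚ) * e₁ * e₂ * s3
  have hc' : (c : ℚ) = N * p := by exact_mod_cast hN.symm
  have hn : (n : ℚ) = k * c := by exact_mod_cast hk.symm
  have hN0 : (N : ℚ) ≠ 0 := fun h => by
    rw [h, zero_mul] at hc'
    exact hc.ne' (by exact_mod_cast hc')
  have hS : (1 + (e₁ : ℚ) / x₁ + (e₂ : ℚ) / x₂ + (e₃ : ℚ) / x₃) ≠ 0 := fun h => by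
    rw [h, mul_zero] at hkey
    exact hN0 (by simpa using hkey.symm)
  rw [hprod, hn, hc', div_mul_eq_div_div, div_self (mul_ne_zero (mul_ne_zero h1 h2) h3)]
  generalize (1 + (e₁ : ℚ) / x₁ + (e₂ : ℚ) / x₂ + (e₃ : ℚ) / x₃) = S at hkey hS ⊢
  field_simp
  linear_combination hkey

theorem order_formula_neg {n c p N k x q : ℕ} (hx : Odd x) (hN : N * p = c) (hk : k * c = n)
    (hq : q = 2 * x + 1)
    (hkey : (k : ℚ) * (1 + 1 / (x : ℚ) + 1 / (x : ℚ) + (-1) / (q : ℚ)) = 8 * (N : ℚ) ^ 2) :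
    ∃ m : ℕ, 4 * c = m * p * (q + 1) ∧ 8 * n = m ^ 3 * p * (q ^ 3 - q) := by
  obtain ⟨b, rfl⟩ := hx
  set a := b + 1 with ha
  have hx0 : ((2 * b + 1 : ℕ) : ℚ) ≠ 0 := Nat.cast_ne_zero.mpr (by omega)
  have hq0 : (q : ℚ) ≠ 0 := Nat.cast_ne_zero.mpr (by omega)
  have h1 : k * a ^ 2 = N ^ 2 * ((2 * b + 1) * q) := by
    have e : (k : ℚ) * (a : ℚ) ^ 2 = (N : ℚ) ^ 2 * (((2 * b + 1 : ℕ) : ℚ) * q) := by
      field_simp at hkey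
      subst hq
      push_cast [ha] at hkey ⊢
      linear_combination hkey / 8
    exact_mod_cast e
  have ha1 : Nat.Coprime a (2 * b + 1) := by
    refine Nat.Coprime.symm (Nat.coprime_of_dvd' fun d _ hd1 hd2 => ?_)
    have : d ∣ 2 * a - (2 * b + 1) := Nat.dvd_sub (Dvd.dvd.mul_left hd2 2) hd1
    simpa [ha, show 2 * (b + 1) - (2 * b + 1) = 1 by omega] using this
  have ha2 : Nat.Coprime a q := by
    refine Nat.coprime_of_dvd' fun d _ hd2 hd1 => ?_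
    have : d ∣ 4 * a - q := Nat.dvd_sub (Dvd.dvd.mul_left hd2 4) hd1
    simpa [ha, hq, show 4 * (b + 1) - (2 * (2 * b + 1) + 1) = 1 by omega] using this
  have haN : a ∣ N := by
    have h2 : a ^ 2 ∣ N ^ 2 * ((2 * b + 1) * q) := ⟨k, by rw [← h1]; ring⟩
    have h3 := (Nat.Coprime.pow_left 2 (ha1.mul_right ha2)).dvd_of_dvd_mul_right h2
    exact (Nat.pow_dvd_pow_iff two_ne_zero).mp h3
  obtain ⟨m, rfl⟩ := haN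
  have hk' : k = m ^ 2 * ((2 * b + 1) * q) := by
    have : a ^ 2 * k = a ^ 2 * (m ^ 2 * ((2 * b + 1) * q)) := by rw [mul_comm, h1]; ring
    exact Nat.eq_of_mul_eq_mul_left (pow_pos (by omega) 2) this
  refine ⟨m, ?_, ?_⟩
  · rw [← hN, hq, ha]; ring
  · have e : q ^ 3 - q = 8 * (a * ((2 * b + 1) * q)) := by
      apply Nat.sub_eq_of_eq_add
      rw [hq, ha]
      ring
    rw [← hk, hk', ← hN, e]
    ring

end Cfsg.Agent.Blocks
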