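import Cfsg.Agent.Lib.Blocks.LocalRing
import Cfsg.Agent.Lib.Blocks.CentralChar
import Mathlib.RingTheory.Nilpotent.Basic

/-!
# Block idempotents over the local ring and the residue field
-/

namespace Cfsg.Agent.Blocks

open MonoidAlgebra
open scoped ComplexConjugate

universe u v

variable {G : Type u} [Group G] [Finite G] {p : ℕ} {M : Ideal AlgInt}

set_option linter.unusedSectionVars false

section SameBlock

variable [M.IsPrime]

theorem sameBlock_refl (χ : G → ℂ) : SameBlock M χ χ := fun g => by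
  rw [sub_self]; exact memLocalIdeal_zero

theorem sameBlock_symm {χ ψ : G → ℂ} (h : SameBlock M χ ψ) : SameBlock M ψ χ := fun g => by
  simpa using memLocalIdeal_neg (h g)

theorem sameBlock_trans {χ ψ η : G → ℂ} (h : SameBlock M χ ψ) (h' : SameBlock M ψ η) :
    SameBlock M χ η := fun g => by
  simpa using memLocalIdeal_add (h g) (h' g)

theorem self_mem_blockOf (χ : IrrCharacter G) : χ ∈ blockOf M (χ : G → ℂ) :=
  sameBlock_refl _

theorem block_eq_blockOf {B : Set (IrrCharacter G)} (hB : IsPBlock M B) {χ : IrrCharacter G}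
    (hχ : χ ∈ B) : B = blockOf M (χ : G → ℂ) := by
  obtain ⟨ψ, rfl⟩ := hB
  ext η
  exact ⟨fun h => sameBlock_trans (sameBlock_symm hχ) h, fun h => sameBlock_trans hχ h⟩

theorem block_nonempty {B : Set (IrrCharacter G)} (hB : IsPBlock M B) : ∃ χ, χ ∈ B := by
  obtain ⟨χ, rfl⟩ := hB
  exact ⟨χ, self_mem_blockOf χ⟩

theorem mem_block_iff {B : Set (IrrCharacter G)} (hB : IsPBlock M B) {χ ψ : IrrCharacter G}
    (hχ : χ ∈ B) : ψ ∈ B ↔ SameBlock M (χ : G → ℂ) (ψ : G → ℂ) := by
  rw [block_eq_blockOf hB hχ]; rfl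

theorem isPBlock_blockOf (χ : IrrCharacter G) : IsPBlock M (blockOf M (χ : G → ℂ)) := ⟨χ, rfl⟩

theorem block_eq_of_mem {B B' : Set (IrrCharacter G)} (hB : IsPBlock M B) (hB' : IsPBlock M B')
    {χ : IrrCharacter G} (h : χ ∈ B) (h' : χ ∈ B') : B = B' := by
  rw [block_eq_blockOf hB h, block_eq_blockOf hB' h']

theorem principalBlock_eq : principalBlock M G = blockOf M ((CT.trivIrr G : IrrCharacter G) : G → ℂ) :=
  rfl

theorem isPBlock_principalBlock : IsPBlock M (principalBlock M G) := ⟨CT.trivIrr G, rfl⟩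

theorem trivIrr_mem_principalBlock : CT.trivIrr G ∈ principalBlock M G :=
  self_mem_blockOf (CT.trivIrr G)

end SameBlock

section Loc

variable [M.IsPrime]

/-- An irreducible character with values in the local ring. -/
def charL (M : Ideal AlgInt) [M.IsPrime] (χ : IrrCharacter G) (u : G) : Loc M :=
  ⟨(χ : G → ℂ) u, integral_mem_loc (isIntegral_irr χ.2 u)⟩

@[simp] theorem coe_charL (χ : IrrCharacter G) (u : G) :
    ((charL M χ u : Loc M) : ℂ) = (χ : G → ℂ) u := rfl

theorem isClassFn_charL (χ : IrrCharacter G) : IsClassFn (charL M χ) :=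
  fun g h => Subtype.ext (isClassFn_irr χ g h)

/-- The central character with values in the local ring. -/
noncomputable def centralCharL (M : Ideal AlgInt) [M.IsPrime] (χ : IrrCharacter G) (g : G) :
    Loc M :=
  ⟨centralChar (χ : G → ℂ) g, integral_mem_loc (isIntegral_centralChar χ.2 g)⟩

@[simp] theorem coe_centralCharL (χ : IrrCharacter G) (g : G) :
    ((centralCharL M χ g : Loc M) : ℂ) = centralChar (χ : G → ℂ) g := rfl

/-- Extension of scalars from the local ring to the complex numbers. -/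
noncomputable abbrev toC (M : Ideal AlgInt) [M.IsPrime] (G : Type u) [Group G] :
    MonoidAlgebra (Loc M) G →+* MonoidAlgebra ℂ G :=
  mapRingHom G (Loc M).subtype

/-- Reduction of the group algebra modulo the local ideal. -/
noncomputable abbrev redG (M : Ideal AlgInt) [M.IsPrime] (G : Type u) [Group G] :
    MonoidAlgebra (Loc M) G →+* MonoidAlgebra (Res M) G :=
  mapRingHom G (red M)

theorem toC_injective : Function.Injective (toC M G) := fun a b h => by
  ext u
  have := congrArg (fun x : MonoidAlgebra ℂ G => x.coeff u) h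
  simpa using this

/-- The centre of a group algebra. -/
noncomputable abbrev ZG (R : Type v) [CommRing R] (G : Type u) [Group G] :=
  Subring.center (MonoidAlgebra R G)

theorem omega_toC_eq (χ : IrrCharacter G) {a : MonoidAlgebra (Loc M) G}
    (ha : a ∈ ZG (Loc M) G) :
    omega (χ : G → ℂ) (toC M G a) =
      ((∑ K : ConjClasses G, a.coeff (rep K) * centralCharL M χ (rep K) : Loc M) : ℂ) := by
  rw [omega_central_eq_sum (isClassFn_irr χ) (mem_center_map _ ha)]
  simp

theorem omega_toC_mem (χ : IrrCharacter G) {a : MonoidAlgebra (Loc M) G}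
    (ha : a ∈ ZG (Loc M) G) : omega (χ : G → ℂ) (toC M G a) ∈ Loc M := by
  rw [omega_toC_eq χ ha]; exact Subtype.prop _

/-- The central character as a ring homomorphism on the centre over the local ring. -/
noncomputable def omegaL (M : Ideal AlgInt) [M.IsPrime] (χ : IrrCharacter G) :
    ZG (Loc M) G →+* Loc M where
  toFun a := ⟨omega (χ : G → ℂ) (toC M G a), omega_toC_mem χ a.2⟩
  map_one' := Subtype.ext (by simp [omega_one (CT.irr_one_ne_zero χ.2)])
  map_mul' a b := Subtype.ext (by
    show omega _ (toC M G ((a : MonoidAlgebra (Loc M) G) * b)) = _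
    rw [map_mul, omega_mul χ.2 (mem_center_map _ a.2)]; rfl)
  map_zero' := Subtype.ext (by simp [omega_zero])
  map_add' a b := Subtype.ext (by
    show omega _ (toC M G ((a : MonoidAlgebra (Loc M) G) + b)) = _
    rw [map_add, omega_add]; rfl)

@[simp] theorem coe_omegaL (χ : IrrCharacter G) (a : ZG (Loc M) G) :
    ((omegaL M χ a : Loc M) : ℂ) = omega (χ : G → ℂ) (toC M G a) := rfl

theorem omegaL_eq_sum (χ : IrrCharacter G) (a : ZG (Loc M) G) :
    omegaL M χ a = ∑ K : ConjClasses G,
      (a : MonoidAlgebra (Loc M) G).coeff (rep K) * centralCharL M χ (rep K) :=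
  Subtype.ext (omega_toC_eq χ a.2)

/-- The class sum in the centre. -/
noncomputable def classSumZ (R : Type v) [CommRing R] (g : G) : ZG R G :=
  ⟨classSum R g, classSum_mem_center g⟩

@[simp] theorem coe_classSumZ {R : Type v} [CommRing R] (g : G) :
    ((classSumZ R g : ZG R G) : MonoidAlgebra R G) = classSum R g := rfl

theorem omegaL_classSumZ (χ : IrrCharacter G) (g : G) :
    omegaL M χ (classSumZ (Loc M) g) = centralCharL M χ g := by
  refine Subtype.ext ?_
  simp [map_classSum, centralChar_eq_omega (isClassFn_irr χ)]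

/-- A scalar in the centre. -/
noncomputable def scalarZ {R : Type v} [CommRing R] (c : R) : ZG R G :=
  ⟨single 1 c, by
    rw [Subring.mem_center_iff]
    intro b
    exact (single_commute (fun m => Commute.one_left m) (fun r => Commute.all c r) b).symm⟩

theorem omegaL_scalarZ (χ : IrrCharacter G) (c : Loc M) : omegaL M χ (scalarZ c) = c :=
  Subtype.ext (by
    simp [scalarZ, omega]
    field_simp [CT.irr_one_ne_zero χ.2])

theorem sameBlock_iff_red {χ ψ : IrrCharacter G} :
    SameBlock M (χ : G → ℂ) (ψ : G → ℂ) ↔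
      ∀ g, red M (centralCharL M χ g) = red M (centralCharL M ψ g) :=
  forall_congr' fun g => (red_eq_iff (x := centralCharL M χ g) (y := centralCharL M ψ g)).symm

theorem red_omegaL_eq_of_sameBlock {χ ψ : IrrCharacter G}
    (h : SameBlock M (χ : G → ℂ) (ψ : G → ℂ)) (a : ZG (Loc M) G) :
    red M (omegaL M χ a) = red M (omegaL M ψ a) := by
  simp only [omegaL_eq_sum, map_sum, map_mul]
  exact Finset.sum_congr rfl fun K _ => by rw [sameBlock_iff_red.mp h]

/-- An element of the centre over the local ring taking the value `1` on a block and `0` off it. -/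
theorem exists_block_element {B : Set (IrrCharacter G)} (hB : IsPBlock M B) :
    ∃ e : ZG (Loc M) G, ∀ χ : IrrCharacter G,
      (χ ∈ B → omegaL M χ e = 1) ∧ (χ ∉ B → omegaL M χ e = 0) := by
  classical
  obtain ⟨χ₀, hχ₀⟩ := block_nonempty hB
  have h1 : ∀ ψ : IrrCharacter G, ∃ e : ZG (Loc M) G,
      (∀ χ ∈ B, omegaL M χ e = 1) ∧ (ψ ∉ B → omegaL M ψ e = 0) := by
    intro ψ
    by_cases hψ : ψ ∈ B
    · exact ⟨1, fun χ _ => map_one _, fun h => absurd hψ h⟩
    obtain ⟨g, hg⟩ : ∃ g, red M (centralCharL M χ₀ g) ≠ red M (centralCharL M ψ g) := by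
      by_contra hne
      push Not at hne
      exact hψ ((mem_block_iff hB hχ₀).mpr (sameBlock_iff_red.mpr hne))
    let y : ZG (Loc M) G := classSumZ (Loc M) g - scalarZ (centralCharL M ψ g)
    have hy : ∀ χ, omegaL M χ y = centralCharL M χ g - centralCharL M ψ g := fun χ => by
      rw [map_sub, omegaL_classSumZ, omegaL_scalarZ]
    have hu : ∀ χ ∈ B, IsUnit (omegaL M χ y) := by
      intro χ hχ
      rw [isUnit_loc_iff, hy, ← red_eq_zero_iff, map_sub, sub_eq_zero]
      rw [← sameBlock_iff_red.mp ((mem_block_iff hB hχ₀).mp hχ) g]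
      exact hg
    refine ⟨1 - ∏ χ ∈ Finset.univ.filter (· ∈ B),
      (1 - y * scalarZ (Ring.inverse (omegaL M χ y))), fun χ hχ => ?_, fun _ => ?_⟩
    · rw [map_sub, map_one, map_prod, Finset.prod_eq_zero (Finset.mem_filter.mpr ⟨Finset.mem_univ χ, hχ⟩),
        sub_zero]
      rw [map_sub, map_one, map_mul, omegaL_scalarZ, Ring.mul_inverse_cancel _ (hu χ hχ), sub_self]
    · rw [map_sub, map_one, map_prod, Finset.prod_eq_one fun χ _ => by
        rw [map_sub, map_one, map_mul, hy ψ, sub_self, zero_mul, sub_zero], sub_self]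
  choose e he using h1
  refine ⟨∏ ψ, e ψ, fun χ => ⟨fun hχ => ?_, fun hχ => ?_⟩⟩
  · rw [map_prod]; exact Finset.prod_eq_one fun ψ _ => (he ψ).1 χ hχ
  · rw [map_prod]; exact Finset.prod_eq_zero (Finset.mem_univ χ) ((he χ).2 hχ)

theorem blockCoeff_mem_loc {B : Set (IrrCharacter G)} (hB : IsPBlock M B) (g : G) :
    blockCoeff B g ∈ Loc M := by
  classical
  obtain ⟨e, he⟩ := exists_block_element hB
  have : toC M G e = idemC B := central_ext (mem_center_map _ e.2) (idemC_mem_center B) fun χ => by
    rw [← coe_omegaL, omega_idemC]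
    by_cases hχ : χ ∈ B
    · rw [(he χ).1 hχ, if_pos hχ]; rfl
    · rw [(he χ).2 hχ, if_neg hχ]; rfl
  have h2 : ((toC M G e).coeff g) = blockCoeff B g := by rw [this]; rfl
  rw [← h2, coeff_map']
  exact Subtype.prop _

open Classical in
/-- The idempotent of a set of characters over the local ring (meaningful for integral sets). -/
noncomputable def bIdem (M : Ideal AlgInt) [M.IsPrime] (A : Set (IrrCharacter G)) :
    ZG (Loc M) G :=
  ⟨ofFun fun u => if h : blockCoeff A u ∈ Loc M then ⟨blockCoeff A u, h⟩ else 0, by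
    rw [mem_center_iff_isClassFn]
    intro g c
    have h : blockCoeff A (c * g * c⁻¹) = blockCoeff A g :=
      (mem_center_iff_isClassFn _).mp (idemC_mem_center A) g c
    simp only [coeff_ofFun]
    simp_rw [h]⟩

variable {A : Set (IrrCharacter G)}

theorem coeff_bIdem (hA : ∀ u, blockCoeff A u ∈ Loc M) (u : G) :
    (bIdem M A : MonoidAlgebra (Loc M) G).coeff u = ⟨blockCoeff A u, hA u⟩ := by
  simp [bIdem, hA u]

theorem toC_bIdem (hA : ∀ u, blockCoeff A u ∈ Loc M) :
    toC M G (bIdem M A : MonoidAlgebra (Loc M) G) = idemC A := by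
  ext u
  rw [coeff_map', coeff_bIdem hA]
  rfl

theorem coe_coeff_bIdem (hA : ∀ u, blockCoeff A u ∈ Loc M) (u : G) :
    (((bIdem M A : MonoidAlgebra (Loc M) G).coeff u : Loc M) : ℂ) = blockCoeff A u := by
  rw [coeff_bIdem hA]

open Classical in
theorem omegaL_bIdem (hA : ∀ u, blockCoeff A u ∈ Loc M) (χ : IrrCharacter G) :
    omegaL M χ (bIdem M A) = if χ ∈ A then 1 else 0 := by
  refine Subtype.ext ?_
  rw [coe_omegaL, toC_bIdem hA, omega_idemC]
  split_ifs <;> rfl

theorem bIdem_mul_self (hA : ∀ u, blockCoeff A u ∈ Loc M) : bIdem M A * bIdem M A = bIdem M A := by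
  classical
  refine Subtype.ext (toC_injective (M := M) (central_ext (mem_center_map _ (Subtype.prop _))
    (mem_center_map _ (Subtype.prop _)) fun χ => ?_))
  rw [← coe_omegaL, ← coe_omegaL, map_mul, omegaL_bIdem hA]
  split_ifs <;> simp

theorem bIdem_pow (hA : ∀ u, blockCoeff A u ∈ Loc M) {n : ℕ} (hn : n ≠ 0) :
    bIdem M A ^ n = bIdem M A := IsIdempotentElem.pow_eq (bIdem_mul_self hA) hn

/-- A set with integral idempotent coefficients is a union of blocks. -/
theorem blockOf_subset_of_integral (hA : ∀ u, blockCoeff A u ∈ Loc M) {χ : IrrCharacter G}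
    (hχ : χ ∈ A) : blockOf M (χ : G → ℂ) ⊆ A := by
  classical
  intro ψ hψ
  by_contra hne
  have h := red_omegaL_eq_of_sameBlock hψ (bIdem M A)
  rw [omegaL_bIdem hA, omegaL_bIdem hA, if_pos hχ, if_neg hne, map_one, map_zero] at h
  exact one_ne_zero h

end Loc

section Residue

variable [M.IsPrime]

/-- The central character modulo the local ideal, on the centre of the residue group algebra. -/
noncomputable def omegaBarFun (M : Ideal AlgInt) [M.IsPrime] (χ : IrrCharacter G)
    (a : ZG (Res M) G) : Res M :=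
  ∑ K : ConjClasses G, (a : MonoidAlgebra (Res M) G).coeff (rep K) *
    red M (centralCharL M χ (rep K))

/-- Reduction on centres. -/
noncomputable def redZ (M : Ideal AlgInt) [M.IsPrime] (G : Type u) [Group G] :
    ZG (Loc M) G →+* ZG (Res M) G :=
  ((redG M G).comp (Subring.subtype _)).codRestrict _ fun a => mem_center_map _ a.2

@[simp] theorem coe_redZ (a : ZG (Loc M) G) :
    ((redZ M G a : ZG (Res M) G) : MonoidAlgebra (Res M) G) = redG M G a := rfl

theorem omegaBarFun_redZ (χ : IrrCharacter G) (a : ZG (Loc M) G) :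
    omegaBarFun M χ (redZ M G a) = red M (omegaL M χ a) := by
  simp [omegaBarFun, omegaL_eq_sum]

theorem redZ_surjective : Function.Surjective (redZ M G) := by
  intro a
  choose s hs using red_surjective (M := M)
  refine ⟨⟨ofFun fun u => s ((a : MonoidAlgebra (Res M) G).coeff u), ?_⟩, Subtype.ext ?_⟩
  · rw [mem_center_iff_isClassFn]
    intro g c
    simp only [coeff_ofFun]
    exact congrArg s ((mem_center_iff_isClassFn _).mp a.2 g c)
  · ext u
    simp [hs]

/-- The modular central character as a ring homomorphism. -/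
noncomputable def omegaBar (M : Ideal AlgInt) [M.IsPrime] (χ : IrrCharacter G) :
    ZG (Res M) G →+* Res M where
  toFun := omegaBarFun M χ
  map_one' := by rw [← map_one (redZ M G), omegaBarFun_redZ, map_one, map_one]
  map_mul' a b := by
    obtain ⟨a, rfl⟩ := redZ_surjective a
    obtain ⟨b, rfl⟩ := redZ_surjective b
    rw [← map_mul, omegaBarFun_redZ, omegaBarFun_redZ, omegaBarFun_redZ, map_mul, map_mul]
  map_zero' := by rw [← map_zero (redZ M G), omegaBarFun_redZ, map_zero, map_zero]
  map_add' a b := by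
    obtain ⟨a, rfl⟩ := redZ_surjective a
    obtain ⟨b, rfl⟩ := redZ_surjective b
    rw [← map_add, omegaBarFun_redZ, omegaBarFun_redZ, omegaBarFun_redZ, map_add, map_add]

theorem omegaBar_apply (χ : IrrCharacter G) (a : ZG (Res M) G) :
    omegaBar M χ a = ∑ K : ConjClasses G, (a : MonoidAlgebra (Res M) G).coeff (rep K) *
      red M (centralCharL M χ (rep K)) := rfl

theorem omegaBar_redZ (χ : IrrCharacter G) (a : ZG (Loc M) G) :
    omegaBar M χ (redZ M G a) = red M (omegaL M χ a) := omegaBarFun_redZ χ a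

theorem omegaBar_eq_of_sameBlock {χ ψ : IrrCharacter G}
    (h : SameBlock M (χ : G → ℂ) (ψ : G → ℂ)) : omegaBar M χ = omegaBar M ψ := by
  refine RingHom.ext fun a => ?_
  simp only [omegaBar_apply, sameBlock_iff_red.mp h]

theorem redZ_classSumZ (g : G) : redZ M G (classSumZ (Loc M) g) = classSumZ (Res M) g :=
  Subtype.ext (by simp [map_classSum])

theorem omegaBar_classSumZ (χ : IrrCharacter G) (g : G) :
    omegaBar M χ (classSumZ (Res M) g) = red M (centralCharL M χ g) := by
  rw [← redZ_classSumZ, omegaBar_redZ, omegaL_classSumZ]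

theorem redZ_scalarZ (c : Loc M) : redZ M G (scalarZ c) = scalarZ (red M c) :=
  Subtype.ext (by simp [scalarZ])

theorem omegaBar_scalarZ (χ : IrrCharacter G) (c : Res M) :
    omegaBar M χ (scalarZ c) = c := by
  obtain ⟨c, rfl⟩ := red_surjective c
  rw [← redZ_scalarZ, omegaBar_redZ, omegaL_scalarZ]

/-- The reduced idempotent of a set of characters. -/
noncomputable def bBar (M : Ideal AlgInt) [M.IsPrime] (A : Set (IrrCharacter G)) : ZG (Res M) G :=
  redZ M G (bIdem M A)

theorem bBar_mul_self {A : Set (IrrCharacter G)} (hA : ∀ u, blockCoeff A u ∈ Loc M) :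
    bBar M A * bBar M A = bBar M A := by rw [bBar, ← map_mul, bIdem_mul_self hA]

open Classical in
theorem omegaBar_bBar {A : Set (IrrCharacter G)} (hA : ∀ u, blockCoeff A u ∈ Loc M)
    (χ : IrrCharacter G) : omegaBar M χ (bBar M A) = if χ ∈ A then 1 else 0 := by
  rw [bBar, omegaBar_redZ, omegaL_bIdem hA]
  split_ifs <;> simp

/-- A central element killed by all modular central characters is nilpotent. -/
theorem isNilpotent_of_omegaBar (hM : IsPModular p M) (a : ZG (Res M) G)
    (h : ∀ χ : IrrCharacter G, omegaBar M χ a = 0) : IsNilpotent a := by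
  haveI : Fact p.Prime := ⟨hM.1⟩
  haveI := Fintype.ofFinite G
  obtain ⟨A, rfl⟩ := redZ_surjective a
  have hmem : ∀ χ : IrrCharacter G, MemLocalIdeal M ((omegaL M χ A : Loc M) : ℂ) := fun χ => by
    rw [← red_eq_zero_iff, ← omegaBar_redZ]; exact h χ
  obtain ⟨a', m, hm, hcard⟩ : ∃ a' m, ¬ p ∣ m ∧ Nat.card G = p ^ a' * m :=
    Nat.exists_eq_pow_mul_and_not_dvd Nat.card_pos.ne' p hM.1.ne_one
  obtain ⟨N, hN⟩ := exists_pow_dvd_pow_family hM _ hmem (a' + 1)
  refine ⟨N, Subtype.ext ?_⟩
  rw [← map_pow]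
  ext u
  simp only [coe_redZ, coeff_map', Subring.coe_zero, coeff_zero, Finsupp.coe_zero, Pi.zero_apply]
  rw [red_eq_zero_iff]
  choose w hw using fun χ => hN χ N le_rfl
  have hc := coeff_central_eq (mem_center_map (Loc M).subtype (A ^ N).2) u
  rw [coeff_map'] at hc
  rw [show ((((A ^ N : ZG (Loc M) G) : MonoidAlgebra (Loc M) G).coeff u : Loc M) : ℂ) =
    (Loc M).subtype (((A ^ N : ZG (Loc M) G) : MonoidAlgebra (Loc M) G).coeff u) from rfl, hc]
  have key : (Nat.card G : ℂ)⁻¹ * ∑ χ : IrrCharacter G, (χ : G → ℂ) 1 *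
      omega (χ : G → ℂ) (toC M G ((A ^ N : ZG (Loc M) G) : MonoidAlgebra (Loc M) G)) *
        conj ((χ : G → ℂ) u) =
      (p : ℂ) * ((m : ℂ)⁻¹ * ∑ χ : IrrCharacter G, (χ : G → ℂ) 1 * (w χ : ℂ) *
        conj ((χ : G → ℂ) u)) := by
    have e : ∀ χ : IrrCharacter G,
        omega (χ : G → ℂ) (toC M G ((A ^ N : ZG (Loc M) G) : MonoidAlgebra (Loc M) G)) =
          (p : ℂ) ^ (a' + 1) * (w χ : ℂ) := fun χ => by
      rw [← coe_omegaL, map_pow, hw χ]; simp
    have hp0 : (p : ℂ) ≠ 0 := Nat.cast_ne_zero.mpr hM.1.ne_zero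
    rw [hcard]
    simp only [e, Finset.mul_sum]
    refine Finset.sum_congr rfl fun χ _ => ?_
    push_cast
    have hm0 : (m : ℂ) ≠ 0 := Nat.cast_ne_zero.mpr fun h0 => hm (h0 ▸ dvd_zero p)
    field_simp
    ring
  rw [key, mul_comm (p : ℂ)]
  refine memLocalIdeal_mul_left ((Loc M).mul_mem ?_ ((Loc M).sum_mem fun χ _ => ?_))
    ((memLocalIdeal_natCast hM p).mpr dvd_rfl)
  · exact inv_mem_loc (natCast_mem _ m) fun hI => hm ((memLocalIdeal_natCast hM m).mp hI)
  · refine (Loc M).mul_mem ((Loc M).mul_mem ?_ (w χ).2) ?_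
    · exact integral_mem_loc (isIntegral_irr χ.2 1)
    · exact integral_mem_loc (CT.isIntegral_conj (isIntegral_irr χ.2 u))

/-- An idempotent killed by all modular central characters is zero. -/
theorem eq_zero_of_omegaBar (hM : IsPModular p M) (a : ZG (Res M) G) (ha : a * a = a)
    (h : ∀ χ : IrrCharacter G, omegaBar M χ a = 0) : a = 0 := by
  obtain ⟨n, hn⟩ := isNilpotent_of_omegaBar hM a h
  rcases Nat.eq_zero_or_pos n with rfl | hpos
  · rw [pow_zero] at hn
    rw [← mul_one a, hn, mul_zero]
  · rwa [IsIdempotentElem.pow_eq ha hpos.ne'] at hn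

/-- Idempotents with the same modular central characters are equal. -/
theorem idem_ext (hM : IsPModular p M) {a b : ZG (Res M) G} (ha : a * a = a) (hb : b * b = b)
    (h : ∀ χ : IrrCharacter G, omegaBar M χ a = omegaBar M χ b) : a = b := by
  have h1 : a * (1 - b) = 0 := eq_zero_of_omegaBar hM _
    (by linear_combination (1 - b) ^ 2 * ha + a * hb) fun χ => by
      have e : omegaBar M χ b * omegaBar M χ b = omegaBar M χ b := by rw [← map_mul, hb]
      rw [map_mul, map_sub, map_one, h χ, mul_sub, mul_one, e, sub_self]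
  have h2 : b * (1 - a) = 0 := eq_zero_of_omegaBar hM _
    (by linear_combination (1 - a) ^ 2 * hb + b * ha) fun χ => by
      have e : omegaBar M χ a * omegaBar M χ a = omegaBar M χ a := by rw [← map_mul, ha]
      rw [map_mul, map_sub, map_one, ← h χ, mul_sub, mul_one, e, sub_self]
  linear_combination h1 - h2

end Residue

end Cfsg.Agent.Blocks
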