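import Cfsg.Agent.Lib.Blocks.PPart
import Mathlib.Algebra.MonoidAlgebra.Basic
import Mathlib.Algebra.MonoidAlgebra.MapDomain
import Mathlib.Algebra.Module.Submodule.Ker
import Mathlib.Dynamics.PeriodicPts.Lemmas
import Mathlib.GroupTheory.GroupAction.Period
import Mathlib.GroupTheory.GroupAction.ConjAct

/-!
# Group algebras of finite groups: evaluation functionals and the word expansion of powers
-/

namespace Cfsg.Agent.Blocks

open MonoidAlgebra

universe u v w

variable {G : Type u} [Group G] {R : Type v} [CommRing R]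

/-- A function constant on conjugacy classes. -/
def IsClassFn {X : Type w} (T : G → X) : Prop := ∀ g h : G, T (h * g * h⁻¹) = T g

theorem IsClassFn.mul_comm {X : Type w} {T : G → X} (hT : IsClassFn T) (a b : G) :
    T (a * b) = T (b * a) := by
  rw [← hT (b * a) a]; congr 1; group

theorem IsClassFn.eq_of_isConj {X : Type w} {T : G → X} (hT : IsClassFn T) {a b : G}
    (h : IsConj a b) : T a = T b := by
  obtain ⟨c, rfl⟩ := isConj_iff.mp h
  exact (hT a c).symm

theorem isClassFn_of_isConj {X : Type w} {T : G → X} (h : ∀ a b, IsConj a b → T a = T b) :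
    IsClassFn T := fun g c => (h g _ (isConj_iff.mpr ⟨c, rfl⟩)).symm

/-- The linear extension of a function on the group to the group algebra. -/
noncomputable def ev (T : G → R) (a : MonoidAlgebra R G) : R := a.coeff.sum fun u r => r * T u

@[simp] theorem ev_single (T : G → R) (u : G) (r : R) : ev T (single u r) = r * T u := by
  simp [ev]

@[simp] theorem ev_zero (T : G → R) : ev T (0 : MonoidAlgebra R G) = 0 := by simp [ev]

theorem ev_add (T : G → R) (a b : MonoidAlgebra R G) : ev T (a + b) = ev T a + ev T b := by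
  simp only [ev, coeff_add]
  exact Finsupp.sum_add_index' (by simp) (by simp [add_mul])

/-- `ev` as an additive map. -/
noncomputable def evHom (T : G → R) : MonoidAlgebra R G →+ R where
  toFun := ev T
  map_zero' := ev_zero T
  map_add' := ev_add T

theorem ev_sum {ι : Type w} (T : G → R) (s : Finset ι) (f : ι → MonoidAlgebra R G) :
    ev T (∑ i ∈ s, f i) = ∑ i ∈ s, ev T (f i) := map_sum (evHom T) f s

theorem ev_sub (T : G → R) (a b : MonoidAlgebra R G) : ev T (a - b) = ev T a - ev T b :=
  map_sub (evHom T) a b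

theorem ev_smul (T : G → R) (c : R) (a : MonoidAlgebra R G) : ev T (c • a) = c * ev T a := by
  induction a using MonoidAlgebra.induction_linear with
  | zero => simp
  | add x y hx hy => rw [smul_add, ev_add, hx, hy, ev_add, mul_add]
  | single m r => simp [mul_assoc]

theorem ev_eq_sum [Fintype G] (T : G → R) (a : MonoidAlgebra R G) :
    ev T a = ∑ u, a.coeff u * T u := by
  rw [ev, Finsupp.sum_fintype]; simp

theorem ev_mul_single (T : G → R) (a : MonoidAlgebra R G) (g : G) (r : R) :
    ev T (a * single g r) = r * ev (fun u => T (u * g)) a := by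
  induction a using MonoidAlgebra.induction_linear with
  | zero => simp
  | add x y hx hy => rw [add_mul, ev_add, hx, hy, ev_add, mul_add]
  | single m s => simp; ring

theorem ev_single_mul (T : G → R) (a : MonoidAlgebra R G) (g : G) (r : R) :
    ev T (single g r * a) = r * ev (fun u => T (g * u)) a := by
  induction a using MonoidAlgebra.induction_linear with
  | zero => simp
  | add x y hx hy => rw [mul_add, ev_add, hx, hy, ev_add, mul_add]
  | single m s => simp; ring

theorem ev_mul_comm {T : G → R} (hT : IsClassFn T) (a b : MonoidAlgebra R G) :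
    ev T (a * b) = ev T (b * a) := by
  induction b using MonoidAlgebra.induction_linear with
  | zero => simp
  | add x y hx hy => rw [mul_add, add_mul, ev_add, ev_add, hx, hy]
  | single g r =>
    rw [ev_mul_single, ev_single_mul]
    simp [hT.mul_comm]

/-- The element of the group algebra with given coefficients. -/
noncomputable def ofFun [Finite G] (f : G → R) : MonoidAlgebra R G :=
  ofCoeff (Finsupp.equivFunOnFinite.symm f)

@[simp] theorem coeff_ofFun [Finite G] (f : G → R) (u : G) : (ofFun f).coeff u = f u := rfl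

theorem coeff_mul_sum [Fintype G] (a b : MonoidAlgebra R G) (m : G) :
    (a * b).coeff m = ∑ u, a.coeff u * b.coeff (u⁻¹ * m) := by
  classical
  induction a using MonoidAlgebra.induction_linear with
  | zero => simp
  | add x y hx hy => simp [add_mul, hx, hy, Finset.sum_add_distrib]
  | single g r =>
    rw [Finset.sum_eq_single g (fun u _ hu => by simp [Finsupp.single_eq_of_ne hu]) (by simp)]
    rw [coeff_single, Finsupp.single_eq_same]
    exact coeff_single_mul_eq_mul_coeff _ (fun m' _ => by rw [eq_inv_mul_iff_mul_eq])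

theorem coeff_mul_single' (a : MonoidAlgebra R G) (g : G) (r : R) (u : G) :
    (a * single g r).coeff u = a.coeff (u * g⁻¹) * r :=
  coeff_mul_single_eq_coeff_mul _ (fun m' _ => by rw [eq_mul_inv_iff_mul_eq])

theorem coeff_single_mul' (a : MonoidAlgebra R G) (g : G) (r : R) (u : G) :
    (single g r * a).coeff u = r * a.coeff (g⁻¹ * u) :=
  coeff_single_mul_eq_mul_coeff _ (fun m' _ => by rw [eq_inv_mul_iff_mul_eq])

theorem eq_sum_single [Fintype G] (a : MonoidAlgebra R G) : a = ∑ u, single u (a.coeff u) := by
  classical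
  ext m
  simp [Finsupp.single_apply]

theorem ev_ofFun [Fintype G] (T f : G → R) : ev T (ofFun f) = ∑ u, f u * T u := by
  simp [ev_eq_sum]

/-- Commuting with a group element means invariance of the coefficients under conjugation. -/
theorem commute_single_iff (a : MonoidAlgebra R G) (z : G) :
    Commute a (single z 1) ↔ ∀ u, a.coeff (z * u * z⁻¹) = a.coeff u := by
  constructor
  · intro h u
    have := congrArg (fun x : MonoidAlgebra R G => x.coeff (z * u)) h.eq
    simpa [coeff_mul_single', coeff_single_mul', mul_assoc] using this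
  · intro h
    ext u
    rw [coeff_mul_single', coeff_single_mul', mul_one, one_mul, ← h (z⁻¹ * u)]
    congr 1
    group

/-- The central elements are those with class functions as coefficients. -/
theorem mem_center_iff_isClassFn (a : MonoidAlgebra R G) :
    a ∈ Subring.center (MonoidAlgebra R G) ↔ IsClassFn (fun u => a.coeff u) := by
  constructor
  · intro h g c
    exact (commute_single_iff a c).mp (Subring.mem_center_iff.mp h (single c 1)).symm g
  · intro h
    rw [Subring.mem_center_iff]
    intro b
    induction b using MonoidAlgebra.induction_linear with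
    | zero => simp
    | add x y hx hy => rw [add_mul, mul_add, hx, hy]
    | single g r =>
      have hg : Commute a (single g 1) := (commute_single_iff a g).mpr fun u => h u g
      have he : single g r = r • single g (1 : R) := by simp
      rw [he, smul_mul_assoc, mul_smul_comm, hg.eq]

section Orbits

/-- A sum of an invariant function is divisible by `m` if each value or each orbit size is. -/
theorem dvd_sum_of_orbits {H : Type w} [Group H] {W : Type*} [MulAction H W] [Fintype W]
    (F : W → R) (hF : ∀ (h : H) (x : W), F (h • x) = F x) (m : ℕ)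
    (hm : ∀ x, (m : R) ∣ F x ∨ m ∣ Nat.card (MulAction.orbit H x)) :
    (m : R) ∣ ∑ x, F x := by
  classical
  rw [← Finset.sum_fiberwise_of_maps_to (t := (Finset.univ : Finset W).image
      (fun x : W => MulAction.orbit H x)) (fun x _ => Finset.mem_image_of_mem _ (Finset.mem_univ x))]
  refine Finset.dvd_sum fun O hO => ?_
  obtain ⟨x, -, rfl⟩ := Finset.mem_image.mp hO
  have hval : ∀ y ∈ Finset.univ.filter (fun y : W => MulAction.orbit H y = MulAction.orbit H x),
      F y = F x := by
    intro y hy
    obtain ⟨h, rfl⟩ := MulAction.orbit_eq_iff.mp (Finset.mem_filter.mp hy).2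
    exact hF h x
  rw [Finset.sum_congr rfl hval, Finset.sum_const, nsmul_eq_mul]
  rcases hm x with h | h
  · exact h.mul_left _
  · refine (Nat.cast_dvd_cast ?_).mul_right _
    rw [← Fintype.card_subtype, ← Nat.card_eq_fintype_card]
    refine h.trans (dvd_of_eq (Nat.card_congr (Equiv.subtypeEquivRight fun y => ?_)))
    rw [MulAction.orbit_eq_iff]

/-- Modulo `p`, only fixed points of a `p`-group contribute to an invariant sum. -/
theorem sum_eq_sum_fixed {p : ℕ} [Fact p.Prime] [CharP R p] {H : Type w} [Group H]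
    (hH : IsPGroup p H) {W : Type*} [MulAction H W] [Fintype W]
    [DecidablePred (· ∈ MulAction.fixedPoints H W)]
    (F : W → R) (hF : ∀ (h : H) (x : W), F (h • x) = F x) :
    ∑ x, F x = ∑ x ∈ Finset.univ.filter (· ∈ MulAction.fixedPoints H W), F x := by
  classical
  rw [← Finset.sum_filter_add_sum_filter_not Finset.univ (· ∈ MulAction.fixedPoints H W) F]
  convert add_zero _
  rw [Finset.sum_filter]
  have := dvd_sum_of_orbits (H := H)
    (fun x => if x ∉ MulAction.fixedPoints H W then F x else 0) (fun h x => by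
      have : h • x ∈ MulAction.fixedPoints H W ↔ x ∈ MulAction.fixedPoints H W := by
        constructor
        · intro hx
          have := hx h⁻¹
          rw [inv_smul_smul] at this
          rw [this]
          exact hx
        · intro hx; rw [hx h]; exact hx
      simp only [this, hF]) p (fun x => by
      by_cases hx : x ∈ MulAction.fixedPoints H W
      · left; simp [hx]
      · right
        obtain ⟨n, hn⟩ := hH.card_orbit (a := x)
        rcases Nat.eq_zero_or_pos n with rfl | hpos
        · refine absurd ?_ hx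
          intro h
          rw [pow_zero] at hn
          haveI := (Nat.card_eq_one_iff_unique.mp hn).1
          exact congrArg Subtype.val (Subsingleton.elim (⟨h • x, ⟨h, rfl⟩⟩ : MulAction.orbit H x)
            ⟨x, MulAction.mem_orbit_self x⟩)
        · rw [hn]; exact dvd_pow_self p hpos.ne')
  obtain ⟨c, hc⟩ := this
  rw [hc, CharP.cast_eq_zero, zero_mul]

end Orbits

section Words

variable [Fintype G]

theorem pow_eq_sum_words (a : MonoidAlgebra R G) (N : ℕ) :
    a ^ N = ∑ w : Fin N → G, single (List.ofFn w).prod (∏ i, a.coeff (w i)) := by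
  classical
  induction N with
  | zero => simp [one_def]
  | succ N ih =>
    calc a ^ (N + 1) = (∑ u, single u (a.coeff u)) * a ^ N := by rw [← eq_sum_single, pow_succ']
      _ = ∑ q : G × (Fin N → G),
          single (q.1 * (List.ofFn q.2).prod) (a.coeff q.1 * ∏ i, a.coeff (q.2 i)) := by
        rw [ih, Finset.sum_mul_sum, Fintype.sum_prod_type]
        simp
      _ = _ := Fintype.sum_equiv (Fin.consEquiv fun _ => G) _ _ fun q => by
        simp [List.ofFn_succ, Fin.prod_univ_succ, Fin.consEquiv]

theorem ev_pow_mul_single (T : G → R) (a : MonoidAlgebra R G) (N : ℕ) (z : G) :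
    ev T (a ^ N * single z 1) =
      ∑ w : Fin N → G, (∏ i, a.coeff (w i)) * T ((List.ofFn w).prod * z) := by
  rw [pow_eq_sum_words, Finset.sum_mul, ev_sum]
  simp

end Words

section Rotation

/-- The extension of a word to a `z`-twisted periodic sequence. -/
def ext {N : ℕ} (hN : 0 < N) (z : G) (w : Fin N → G) (t : ℕ) : G :=
  z ^ (t / N) * w ⟨t % N, Nat.mod_lt t hN⟩ * (z ^ (t / N))⁻¹

/-- The twisted rotation of words. -/
def rot {N : ℕ} (hN : 0 < N) (z : G) : Equiv.Perm (Fin N → G) where
  toFun w i := if h : (i : ℕ) + 1 < N then w ⟨i + 1, h⟩ else z * w ⟨0, hN⟩ * z⁻¹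
  invFun w i := if h : (i : ℕ) = 0 then z⁻¹ * w ⟨N - 1, by omega⟩ * z
    else w ⟨(i : ℕ) - 1, by omega⟩
  left_inv w := by
    funext i
    by_cases h : (i : ℕ) = 0
    · have hi : i = ⟨0, hN⟩ := Fin.ext h
      subst hi
      simp only [dif_pos, show ¬(N - 1 + 1 < N) by omega, dite_false]
      group
    · simp only [h, dite_false]
      have h1 : (i : ℕ) - 1 + 1 < N := by omega
      simp only [h1, dite_true]
      congr 1
      exact Fin.ext (by simp; omega)
  right_inv w := by
    funext i
    by_cases h : (i : ℕ) + 1 < N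
    · simp only [h, dite_true, Nat.succ_ne_zero, dite_false]
      congr 1
    · simp only [h, dite_false, dite_true]
      have hi : (⟨N - 1, by omega⟩ : Fin N) = i := Fin.ext (by simp; omega)
      rw [hi]
      group

variable {N : ℕ} (hN : 0 < N) (z : G)

theorem rot_apply (w : Fin N → G) (i : Fin N) :
    rot hN z w i = if h : (i : ℕ) + 1 < N then w ⟨i + 1, h⟩ else z * w ⟨0, hN⟩ * z⁻¹ := rfl

theorem ext_of_lt (w : Fin N → G) {t : ℕ} (h : t < N) : ext hN z w t = w ⟨t, h⟩ := by
  simp [ext, Nat.div_eq_of_lt h, Nat.mod_eq_of_lt h]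

theorem ext_add (w : Fin N → G) (t : ℕ) : ext hN z w (t + N) = z * ext hN z w t * z⁻¹ := by
  simp only [ext, Nat.add_div_right t hN, Nat.add_mod_right]
  rw [pow_succ' z]
  group

theorem ext_rot (w : Fin N → G) (t : ℕ) : ext hN z (rot hN z w) t = ext hN z w (t + 1) := by
  induction t using Nat.strong_induction_on with
  | _ t ih =>
    rcases Nat.lt_or_ge t N with h | h
    · rw [ext_of_lt hN z _ h, rot_apply]
      by_cases h1 : t + 1 < N
      · rw [dif_pos h1, ext_of_lt hN z w h1]
      · rw [dif_neg h1, show t + 1 = 0 + N by omega, ext_add, ext_of_lt hN z w hN]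
    · obtain ⟨s, rfl⟩ : ∃ s, t = s + N := ⟨t - N, by omega⟩
      rw [ext_add, ih s (by omega), show s + N + 1 = s + 1 + N by omega, ext_add]

theorem ext_rot_pow (w : Fin N → G) (j t : ℕ) :
    ext hN z ((rot hN z ^ j) w) t = ext hN z w (t + j) := by
  induction j generalizing t with
  | zero => simp
  | succ j ih => rw [pow_succ', Equiv.Perm.mul_apply, ext_rot, ih, add_right_comm, add_assoc]

theorem rot_pow_mul_apply (w : Fin N → G) (q : ℕ) (i : Fin N) :
    (rot hN z ^ (N * q)) w i = z ^ q * w i * (z ^ q)⁻¹ := by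
  have h := ext_rot_pow hN z w (N * q) i
  rw [ext_of_lt hN z _ i.2] at h
  rw [h]
  induction q with
  | zero => simp [ext_of_lt hN z w i.2]
  | succ q ih =>
    rw [show (i : ℕ) + N * (q + 1) = (i : ℕ) + N * q + N by ring, ext_add,
      ih (ext_rot_pow hN z w (N * q) i ▸ (ext_of_lt hN z _ i.2).symm), pow_succ' z]
    group

theorem isPGroup_zpowers_rot {p n r : ℕ} (hN' : N = p ^ n) (hz : z ^ p ^ r = 1) :
    IsPGroup p (Subgroup.zpowers (rot hN z)) := by
  have h1 : rot hN z ^ p ^ (n + r) = 1 := by
    refine Equiv.ext fun w => funext fun i => ?_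
    rw [pow_add, ← hN', rot_pow_mul_apply, hz]
    simp
  rintro ⟨g, hg⟩
  obtain ⟨m, rfl⟩ := Subgroup.mem_zpowers_iff.mp hg
  refine ⟨n + r, Subtype.ext ?_⟩
  show (rot hN z ^ m) ^ p ^ (n + r) = 1
  rw [← zpow_natCast, ← zpow_mul, mul_comm, zpow_mul, zpow_natCast, h1, one_zpow]

theorem rot_prod_mul {T : G → R} (hT : IsClassFn T) (w : Fin N → G) :
    T ((List.ofFn (rot hN z w)).prod * z) = T ((List.ofFn w).prod * z) := by
  obtain ⟨k, rfl⟩ : ∃ k, N = k + 1 := ⟨N - 1, by omega⟩
  rw [List.ofFn_succ' (f := rot hN z w), List.ofFn_succ (f := w), List.concat_eq_append,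
    List.prod_append, List.prod_cons, List.prod_cons, List.prod_nil, mul_one]
  have e1 : (fun i : Fin k => rot hN z w i.castSucc) = fun i : Fin k => w i.succ := by
    funext i
    rw [rot_apply, dif_pos (by simp)]
    congr 1
  have e2 : rot hN z w (Fin.last k) = z * w 0 * z⁻¹ := by
    rw [rot_apply, dif_neg (by simp)]
    rfl
  rw [e1, e2, hT.mul_comm (w 0 * _) z]
  rw [show ∀ X : G, X * (z * w 0 * z⁻¹) * z = X * z * w 0 from fun X => by group]
  rw [hT.mul_comm _ (w 0)]
  rw [show ∀ X : G, w 0 * (X * z) = w 0 * X * z from fun X => by group]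
  rw [hT.mul_comm z]

theorem rot_prod_coeff {f : G → R} (hf : ∀ u, f (z * u * z⁻¹) = f u) (w : Fin N → G) :
    ∏ i, f (rot hN z w i) = ∏ i, f (w i) := by
  obtain ⟨k, rfl⟩ : ∃ k, N = k + 1 := ⟨N - 1, by omega⟩
  rw [Fin.prod_univ_castSucc, Fin.prod_univ_succ (f := fun i => f (w i)), mul_comm]
  congr 1
  · rw [rot_apply, dif_neg (by simp)]
    exact hf _
  · refine Finset.prod_congr rfl fun i _ => ?_
    rw [rot_apply, dif_pos (by simp)]
    rfl

theorem periodic_of_fixed {m q : ℕ} (hmq : N = m * q) {w : Fin N → G}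
    (hw : (rot hN z ^ m) w = w) :
    (∀ i : Fin N, Commute (w i) z) ∧
      (List.ofFn w).prod = ((List.range m).map (ext hN z w)).prod ^ q ∧
      ∀ f : G → R, ∏ i, f (w i) = (∏ t ∈ Finset.range m, f (ext hN z w t)) ^ q := by
  have hper : ∀ t, ext hN z w (t + m) = ext hN z w t := fun t => by
    rw [← ext_rot_pow, hw]
  have hper' : ∀ t k, ext hN z w (m * k + t) = ext hN z w t := by
    intro t k
    induction k with
    | zero => simp
    | succ k ih =>
      rw [show m * (k + 1) + t = m * k + t + m by ring, hper, ih]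
  refine ⟨fun i => ?_, ?_, fun f => ?_⟩
  · have h1 := ext_add hN z w i
    rw [add_comm, show ext hN z w (N + i) = ext hN z w i by simpa only [← hmq] using hper' i q,
      ext_of_lt hN z w i.2] at h1
    show w i * z = z * w i
    conv_lhs => rw [h1]
    group
  · have e1 : List.ofFn w = (List.range N).map (ext hN z w) := by
      refine List.ext_getElem (by simp) fun i h1 h2 => ?_
      simp only [List.getElem_ofFn, List.getElem_map, List.getElem_range]
      rw [ext_of_lt hN z w (by simpa using h1)]
    suffices h : ∀ q, ((List.range (m * q)).map (ext hN z w)).prod =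
        ((List.range m).map (ext hN z w)).prod ^ q by
      rw [e1, ← h q]; simp only [← hmq]
    intro q
    induction q with
    | zero => simp
    | succ q ih =>
      rw [Nat.mul_succ, List.range_add, List.map_append, List.prod_append, ih, List.map_map,
        pow_succ]
      congr 1
      congr 1
      exact List.map_congr_left fun t _ => hper' t q
  · have e1 : ∏ i, f (w i) = ∏ t ∈ Finset.range N, f (ext hN z w t) := by
      rw [Finset.prod_range]
      exact Finset.prod_congr rfl fun i _ => by rw [ext_of_lt hN z w i.2]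
    suffices h : ∀ q, ∏ t ∈ Finset.range (m * q), f (ext hN z w t) =
        (∏ t ∈ Finset.range m, f (ext hN z w t)) ^ q by
      rw [e1, ← h q]; simp only [← hmq]
    intro q
    induction q with
    | zero => simp
    | succ q ih =>
      rw [Nat.mul_succ, Finset.prod_range_add, ih, pow_succ]
      congr 1
      exact Finset.prod_congr rfl fun t _ => by rw [hper']

end Rotation

section Trick

variable [Fintype G] {p : ℕ} [hp : Fact p.Prime]

/-- Twisted rotation of words: `p`-adic divisibility of a trace of a `p`-power. -/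
theorem dvd_ev_pow_mul_single {T : G → R} (hT : IsClassFn T) (a : MonoidAlgebra R G) {z : G}
    (haz : Commute a (single z 1)) (hz : ∃ r, z ^ p ^ r = 1) {n k : ℕ} (hkn : k ≤ n)
    (H : ∀ j < k, ∀ v : ℕ → G, (∀ t < p ^ j, Commute (v t) z) →
      (p : R) ^ k ∣ (∏ t ∈ Finset.range (p ^ j), a.coeff (v t)) ^ p ^ (n - j) *
        T (((List.range (p ^ j)).map v).prod ^ p ^ (n - j) * z)) :
    (p : R) ^ k ∣ ev T (a ^ p ^ n * single z 1) := by
  classical
  obtain ⟨r, hr⟩ := hz
  have hN : 0 < p ^ n := pow_pos hp.out.pos n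
  rw [ev_pow_mul_single, ← Nat.cast_pow]
  have hinv : ∀ u, a.coeff (z * u * z⁻¹) = a.coeff u := (commute_single_iff a z).mp haz
  set F : (Fin (p ^ n) → G) → R := fun w => (∏ i, a.coeff (w i)) * T ((List.ofFn w).prod * z)
    with hFdef
  have hFrot : ∀ w, F (rot hN z w) = F w := fun w => by
    simp only [hFdef]
    rw [rot_prod_mul hN z hT, rot_prod_coeff (f := fun u => a.coeff u) hN z hinv]
  have hFpow : ∀ (j : ℕ) (w), F ((rot hN z ^ j) w) = F w := by
    intro j
    induction j with
    | zero => simp
    | succ j ih => intro w; rw [pow_succ', Equiv.Perm.mul_apply, hFrot, ih]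
  refine dvd_sum_of_orbits (H := Subgroup.zpowers (rot hN z)) F ?_ _ fun w => ?_
  · rintro ⟨g, hg⟩ w
    obtain ⟨m, rfl⟩ := mem_powers_iff_mem_zpowers.mpr hg
    exact hFpow m w
  · obtain ⟨j, hj⟩ := (isPGroup_zpowers_rot hN z rfl hr).card_orbit (a := w)
    rcases Nat.lt_or_ge j k with hjk | hjk
    · left
      rw [Nat.cast_pow]
      have hfix : (rot hN z ^ (p ^ j)) w = w := by
        haveI := Fintype.ofFinite (MulAction.orbit (Subgroup.zpowers (rot hN z)) w)
        have h1 := MulAction.minimalPeriod_eq_card (a := rot hN z) (b := w)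
        rw [← Nat.card_eq_fintype_card, hj] at h1
        have h2 := Function.iterate_minimalPeriod (f := (rot hN z • ·)) (x := w)
        rw [h1, smul_iterate] at h2
        exact h2
      have hmq : p ^ n = p ^ j * p ^ (n - j) := by rw [← pow_add]; congr 1; omega
      obtain ⟨hc, hpr, hpc⟩ := periodic_of_fixed (R := R) hN z hmq hfix
      simp only [hFdef]
      rw [hpr, hpc]
      refine H j hjk (ext hN z w) fun t ht => ?_
      have ht' : t < p ^ n :=
        lt_of_lt_of_le ht (Nat.pow_le_pow_right hp.out.pos (by omega))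
      rw [ext_of_lt hN z w ht']
      exact hc _
    · right
      rw [hj]
      exact pow_dvd_pow p hjk

theorem commute_list_prod {z : G} (l : List G) (h : ∀ x ∈ l, Commute x z) : Commute l.prod z := by
  induction l with
  | nil => exact Commute.one_left z
  | cons a l ih =>
    rw [List.prod_cons]
    exact (h a (List.mem_cons_self ..)).mul_left (ih fun x hx => h x (List.mem_cons_of_mem _ hx))

/-- If `a` is fixed by arbitrarily high `p`-th powers and the class function `T` vanishes at
every element with `p`-part `z`, then `T` vanishes at `a * z`. -/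
theorem ev_mul_single_eq_zero_of_ppart {T : G → R} (hT : IsClassFn T)
    (a : MonoidAlgebra R G) {z : G} (haz : Commute a (single z 1)) (hz : ∃ r, z ^ p ^ r = 1)
    (ha : ∀ n₀, ∃ n ≥ n₀, a ^ p ^ n = a) (hTz : ∀ g, IsPPart p g z → T g = 0)
    (hsep : ∀ x : R, (∀ k : ℕ, ∃ n ≥ k, (p : R) ^ n ∣ x) → x = 0) :
    ev T (a * single z 1) = 0 := by
  refine hsep _ fun k => ⟨k, le_rfl, ?_⟩
  obtain ⟨n, hn, han⟩ := ha (k + (Nat.card G).factorization p)
  rw [← han]
  refine dvd_ev_pow_mul_single hT a haz hz (by omega) fun j hj v hv => ?_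
  set c := ((List.range (p ^ j)).map v).prod
  have hc : Commute c z := commute_list_prod _ fun x hx => by
    obtain ⟨t, ht, rfl⟩ := List.mem_map.mp hx
    exact hv t (List.mem_range.mp ht)
  have hreg : ¬ p ∣ orderOf (c ^ p ^ (n - j)) := isPRegular_pow_of_le c (by omega)
  have hpp := isPPart_mk (p := p) ((hc.pow_left _).symm) hz hreg
  rw [(hc.pow_left (p ^ (n - j))).eq, hTz _ hpp]
  simp

/-- If `a` is fixed by arbitrarily high `p`-th powers and its coefficients on the centralizer
of `z` are nilpotent modulo `p`, then every class function vanishes at `a * z`. -/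
theorem ev_mul_single_eq_zero_of_nil {T : G → R} (hT : IsClassFn T)
    (a : MonoidAlgebra R G) {z : G} (haz : Commute a (single z 1)) (hz : ∃ r, z ^ p ^ r = 1)
    (ha : ∀ n₀, ∃ n ≥ n₀, a ^ p ^ n = a)
    (hnil : ∀ u, Commute u z → ∀ k : ℕ, ∃ N : ℕ, ∀ m ≥ N, (p : R) ^ k ∣ a.coeff u ^ m)
    (hsep : ∀ x : R, (∀ k : ℕ, ∃ n ≥ k, (p : R) ^ n ∣ x) → x = 0) :
    ev T (a * single z 1) = 0 := by
  classical
  refine hsep _ fun k => ⟨k, le_rfl, ?_⟩
  have : ∀ u : G, ∃ N : ℕ, Commute u z → ∀ m ≥ N, (p : R) ^ k ∣ a.coeff u ^ m := fun u => by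
    by_cases hu : Commute u z
    · obtain ⟨N, hN⟩ := hnil u hu k; exact ⟨N, fun _ => hN⟩
    · exact ⟨0, fun h => absurd h hu⟩
  choose N hN using this
  obtain ⟨n, hn, han⟩ := ha (k + Finset.univ.sup N)
  rw [← han]
  refine dvd_ev_pow_mul_single hT a haz hz (by omega) fun j hj v hv => ?_
  refine Dvd.dvd.mul_right ?_ _
  have h0 : 0 < p ^ j := pow_pos hp.out.pos j
  rw [← Finset.mul_prod_erase _ _ (Finset.mem_range.mpr h0), mul_pow]
  refine Dvd.dvd.mul_right (hN _ (hv 0 h0) _ ?_) _
  have h1 : N (v 0) ≤ Finset.univ.sup N := Finset.le_sup (Finset.mem_univ _)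
  have h2 : n - j ≤ p ^ (n - j) := (Nat.lt_pow_self hp.out.one_lt).le
  omega

/-- In characteristic `p`, the sum of the coefficients on the `p`-elements is semilinear. -/
theorem ev_pElem_pow [CharP R p] (a : MonoidAlgebra R G) (n : ℕ) {T : G → R}
    (hT : IsClassFn T) (hT01 : ∀ u, T u ^ p ^ n = T u) (hTp : ∀ u, T (u ^ p ^ n) = T u) :
    ev T (a ^ p ^ n) = ev T a ^ p ^ n := by
  classical
  have hN : 0 < p ^ n := pow_pos hp.out.pos n
  have h := ev_pow_mul_single T a (p ^ n) (1 : G)
  rw [← one_def, mul_one] at h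
  rw [h]
  set F : (Fin (p ^ n) → G) → R := fun w => (∏ i, a.coeff (w i)) * T ((List.ofFn w).prod * 1)
    with hFdef
  have hFrot : ∀ w, F (rot hN 1 w) = F w := fun w => by
    simp only [hFdef]
    rw [rot_prod_mul hN 1 hT, rot_prod_coeff (f := fun u => a.coeff u) hN 1 (by simp)]
  have hFpow : ∀ (j : ℕ) (w), F ((rot hN (1 : G) ^ j) w) = F w := by
    intro j
    induction j with
    | zero => simp
    | succ j ih => intro w; rw [pow_succ', Equiv.Perm.mul_apply, hFrot, ih]
  rw [sum_eq_sum_fixed (p := p) (isPGroup_zpowers_rot hN (1 : G) rfl (r := 0) (by simp)) F (by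
    rintro ⟨g, hg⟩ w
    obtain ⟨m, rfl⟩ := mem_powers_iff_mem_zpowers.mpr hg
    exact hFpow m w)]
  rw [ev_eq_sum, sum_pow_char_pow]
  symm
  refine Finset.sum_bij (fun u _ => fun _ : Fin (p ^ n) => u) (fun u _ => ?_)
    (fun u _ v _ e => congrFun e ⟨0, hN⟩) (fun w hw => ?_) (fun u _ => ?_)
  · simp only [Finset.mem_filter, Finset.mem_univ, true_and, MulAction.mem_fixedPoints]
    have h1 : rot hN (1 : G) (fun _ => u) = fun _ => u := by
      funext i; rw [rot_apply]; split_ifs <;> simp
    rintro ⟨g, hg⟩
    obtain ⟨m, rfl⟩ := mem_powers_iff_mem_zpowers.mpr hg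
    show (rot hN (1 : G) ^ m) _ = _
    induction m with
    | zero => rfl
    | succ m ih => rw [pow_succ', Equiv.Perm.mul_apply, ih (Subgroup.pow_mem _
        (Subgroup.mem_zpowers _) m), h1]
  · simp only [Finset.mem_filter, Finset.mem_univ, true_and, MulAction.mem_fixedPoints] at hw
    refine ⟨w ⟨0, hN⟩, Finset.mem_univ _, funext fun i => ?_⟩
    have h1 : (rot hN (1 : G) ^ 1) w = w :=
      hw ⟨rot hN (1 : G) ^ 1, Subgroup.pow_mem _ (Subgroup.mem_zpowers _) 1⟩
    have hper : ∀ t, ext hN 1 w (t + 1) = ext hN 1 w t := fun t => by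
      rw [← ext_rot_pow, h1]
    have : ∀ t, ext hN 1 w t = ext hN 1 w 0 := fun t => by
      induction t with
      | zero => rfl
      | succ t ih => rw [hper, ih]
    show w ⟨0, hN⟩ = w i
    rw [← ext_of_lt hN 1 w hN, ← ext_of_lt hN 1 w i.2]
    exact (this i).symm
  · simp only [hFdef, Finset.prod_const, Finset.card_univ, Fintype.card_fin, List.ofFn_const,
      List.prod_replicate, mul_one, hTp]
    rw [mul_pow, hT01]

end Trick

end Cfsg.Agent.Blocks
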