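import Cfsg.Agent.Lib.Blocks.FrobNormalizerMain
import Cfsg.Agent.Lib.CT.Tables
import Cfsg.Agent.Lib.CT.NormalizerExtend
import Cfsg.Agent.Lib.Invol.ThreePoint

/-!
# The principal block for a Frobenius normalizer action of order three
-/

set_option linter.unusedSectionVars false
set_option linter.style.haveILetI false

namespace Cfsg.Agent.Blocks.FrobN

open scoped ComplexConjugate Classical

universe u

variable {G : Type u} [Group G] [Fintype G] {p : ℕ} [hp : Fact p.Prime] {P : Sylow p G}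

/-- Values at involutions are integers. -/
theorem exists_int_value {t : G} (ht : orderOf t = 2) (χ : IrrCharacter G) :
    ∃ z : ℤ, (χ : G → ℂ) t = z := by
  obtain ⟨χ, n, ρ, -, rfl⟩ := χ
  obtain ⟨ω, hω, he⟩ := CT.exists_eigenvalues ρ t
  have hsq : ∀ i, ∃ z : ℤ, ω i = z := fun i => by
    have h := hω i
    rw [ht] at h
    rcases sq_eq_one_iff.mp h with h' | h'
    · exact ⟨1, by rw [h']; norm_num⟩
    · exact ⟨-1, by rw [h']; norm_num⟩
  choose z hz using hsq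
  refine ⟨∑ i, z i, ?_⟩
  have h1 := he 1
  simp only [pow_one] at h1
  show ρ.character t = _
  rw [h1]
  push_cast
  exact Finset.sum_congr rfl fun i _ => hz i

/-- One negative sign forces the extreme values. -/
theorem one_negative {A B C a b c : ℤ} (hA : 0 < A) (hB : 0 < B) (hC : 1 + A + B = C)
    (hc : 1 + a + b = c)
    (h : A * B * C + a ^ 2 * B * C + b ^ 2 * A * C = c ^ 2 * A * B) : a = A ∧ b = B := by
  have e : B * (a - A) ^ 2 + A * (b - B) ^ 2 + (a * B - b * A) ^ 2 = 0 := by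
    subst hC hc; linear_combination h
  have h1 : 0 ≤ B * (a - A) ^ 2 := mul_nonneg hB.le (sq_nonneg _)
  have h2 : 0 ≤ A * (b - B) ^ 2 := mul_nonneg hA.le (sq_nonneg _)
  have h3 := sq_nonneg (a * B - b * A)
  have e1 : B * (a - A) ^ 2 = 0 := by linarith
  have e2 : A * (b - B) ^ 2 = 0 := by linarith
  simp only [mul_eq_zero, hB.ne', hA.ne', false_or, pow_eq_zero_iff two_ne_zero, sub_eq_zero] at e1 e2
  exact ⟨e1, e2⟩

/-- Two negative signs force a square. -/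
theorem two_negative {A B C a b c : ℤ} (hC : 1 + A = B + C) (hc : 1 + a = b + c) (ha : a ≠ A)
    (h : A * B * C + a ^ 2 * B * C = b ^ 2 * A * C + c ^ 2 * A * B) : IsSquare (A * B * C) := by
  set R := A * ((1 + A) * b - B * (1 + a)) with hR
  have key : A * B * C * (A - a) ^ 2 = R ^ 2 := by
    obtain rfl : C = 1 + A - B := by linarith
    obtain rfl : c = 1 + a - b := by linarith
    rw [hR]
    linear_combination (A + A ^ 2) * h
  have hdvd : (A - a) ^ 2 ∣ R ^ 2 := ⟨A * B * C, by rw [← key]; ring⟩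
  obtain ⟨q, hq⟩ := (Int.pow_dvd_pow_iff two_ne_zero).mp hdvd
  refine ⟨q, mul_right_cancel₀ (pow_ne_zero 2 (sub_ne_zero.mpr ha.symm)) (key.trans ?_)⟩
  rw [hq]; ring

variable {M : Ideal AlgInt} [M.IsPrime]

/-- Vanishing of the principal part of a class multiplication coefficient. -/
theorem principal_triple (hM : IsPModular p M) {t y : G} (ht : orderOf t = 2)
    (hy : ∃ k : ℕ, y ^ p ^ k = 1)
    (hpair : ∀ z x₁ x₂ : G, IsPPart p z y → IsConj t x₁ → IsConj t x₂ → x₁ * x₂ = z → False) :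
    ∑ χ ∈ Finset.univ.filter (fun χ : IrrCharacter G => χ ∈ principalBlock M G),
      (χ : G → ℂ) t * (χ : G → ℂ) t / (χ : G → ℂ) 1 * (χ : G → ℂ) y = 0 := by
  set F : G → ℂ := fun z =>
    ∑ χ : IrrCharacter G, (χ : G → ℂ) t * (χ : G → ℂ) t / (χ : G → ℂ) 1 * (χ : G → ℂ) z with hF
  have hinv : ∀ x : G, IsConj t x → x⁻¹ = x := fun x hx => by
    obtain ⟨c, rfl⟩ := isConj_iff.mp hx
    refine inv_eq_of_mul_eq_one_right ?_
    have h2 : t * t = 1 := by rw [← pow_two, ← ht, pow_orderOf_eq_one]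
    rw [conj_mul, h2, mul_one, mul_inv_cancel]
  have hF0 : ∀ z, IsPPart p z y → F z = 0 := by
    intro z hz
    have h := CT.class_mul_formula t t z⁻¹
    have hemp : IsEmpty {q : G × G // IsConj t q.1 ∧ IsConj t q.2 ∧ q.1 * q.2 = z⁻¹} := by
      refine ⟨fun ⟨⟨x₁, x₂⟩, h1, h2, h3⟩ => hpair z x₂ x₁ hz h2 h1 ?_⟩
      simp only at h1 h2 h3
      have := congrArg Inv.inv h3
      rwa [mul_inv_rev, inv_inv, hinv _ h1, hinv _ h2] at this
    rw [Nat.card_of_isEmpty, Nat.cast_zero, eq_comm, mul_eq_zero] at h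
    have hpos : (Nat.card {x : G // IsConj t x} : ℂ) ≠ 0 := by
      haveI : Nonempty {x : G // IsConj t x} := ⟨⟨t, IsConj.refl t⟩⟩
      exact Nat.cast_ne_zero.mpr Nat.card_pos.ne'
    have h' := h.resolve_left (div_ne_zero (mul_ne_zero hpos hpos) CT.card_ne_zero)
    rw [hF]
    refine Eq.trans (Finset.sum_congr rfl fun χ _ => ?_) h'
    rw [CT.char_inv_eq_conj (CT.isCharacter_of_isIrr χ.2), Complex.conj_conj]
    ring
  set C := Subgroup.centralizer ({y} : Set G)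
  have hyC : y ∈ C := Subgroup.mem_centralizer_singleton_iff.mpr rfl
  set e := idemC (principalBlock M C) with he
  set yC : C := ⟨y, hyC⟩
  letI := Fintype.ofFinite C
  have hR : ev F (embH C e * MonoidAlgebra.single y 1) = 0 := by
    rw [show (MonoidAlgebra.single y (1 : ℂ)) = embH C (MonoidAlgebra.single yC 1) from
      (embH_single C yC 1).symm, ← map_mul, ev_embH, ev_eq_sum]
    refine Finset.sum_eq_zero fun u _ => ?_
    rw [coeff_mul_single', mul_one, he, idemC, coeff_ofFun]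
    by_cases hu : p ∣ orderOf (u * yC⁻¹)
    · rw [blockCoeff_eq_zero_of_singular hM
        (blockCoeff_mem_loc (isPBlock_principalBlock (M := M) (G := C))) hu, zero_mul]
    · have hz : IsPPart p (u : G) y := by
        have := isPPart_mk (p := p) (x := y) (y := ((u * yC⁻¹ : C) : G))
          (Subgroup.mem_centralizer_singleton_iff.mp (u * yC⁻¹).2).symm hy (by rwa [Subgroup.orderOf_coe])
        convert this using 1
        rw [← Subgroup.mem_centralizer_singleton_iff.mp (u * yC⁻¹).2]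
        simp [yC]
      rw [hF0 _ hz, mul_zero]
  rw [show F = ∑ χ : IrrCharacter G,
      ((χ : G → ℂ) t * (χ : G → ℂ) t / (χ : G → ℂ) 1) • (χ : G → ℂ) by
    funext z; simp [hF, Finset.sum_apply], ev_sum_smul_fun] at hR
  rw [Finset.sum_filter]
  refine Eq.trans (Finset.sum_congr rfl fun χ _ => ?_) hR
  rw [show y = ((yC : C) : G) from rfl, ev_principal_section hM hy (h := yC) (isPPart_self hy) χ]
  split_ifs <;> simp [yC]

variable [hab : IsMulCommutative (P : Subgroup G)]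

theorem aut_inv_eq (hm : Nat.card (aut P) = 3) (hF : IsFrob P) {y : ↥(P : Subgroup G)} (hy : y ≠ 1)
    (h : IsConj (y : G) (y : G)⁻¹) : y * y = 1 := by
  obtain ⟨e, he, hey⟩ := conj_in_aut (y' := y⁻¹) h
  have h2 : (e * e) y = y := by rw [MulAut.mul_apply, hey, map_inv, hey, inv_inv]
  have hee := aut_free hF (mul_mem he he) hy h2
  have h3 : e ^ 3 = 1 := by
    have := pow_card_eq_one' (x := (⟨e, he⟩ : aut P))
    rw [hm] at this
    exact congrArg Subtype.val this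
  have he1 : e = 1 := by rwa [pow_succ, pow_two, hee, one_mul] at h3
  rw [he1, MulAut.one_apply, eq_inv_iff_mul_eq_one] at hey
  exact hey

/-- The fibres of a map constant on orbits onto a set of the right size. -/
theorem sum_over {m : ℕ} (hm : Nat.card (aut P) = m) (hF : IsFrob P) {Y : Set (IrrCharacter G)}
    {ζ : Lin P → IrrCharacter G} (hY : ∀ ψ : Lin P, ψ ≠ 1 → ζ ψ ∈ Y)
    (hon : ∀ η ∈ Y, ∃ ψ : Lin P, ψ ≠ 1 ∧ ζ ψ = η)
    (hc : ∀ ψ ψ' : Lin P, ψ ≠ 1 → ψ' ∈ orb ψ → ζ ψ' = ζ ψ)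
    (hcard : Nat.card Y = (Nat.card (P : Subgroup G) - 1) / m) (F : IrrCharacter G → ℂ) :
    m ∣ Nat.card (P : Subgroup G) - 1 ∧
    (m : ℂ) * ∑ᶠ η ∈ Y, F η = ∑ ψ ∈ Finset.univ.filter (fun ψ : Lin P => ψ ≠ 1), F (ζ ψ) := by
  set L := Finset.univ.filter (fun ψ : Lin P => ψ ≠ 1) with hL
  have hLc : L.card = Nat.card (P : Subgroup G) - 1 := by
    rw [hL, Finset.filter_ne', Finset.card_erase_of_mem (Finset.mem_univ _), Finset.card_univ,
      ← Nat.card_eq_fintype_card, card_lin P]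
  have hdvd : m ∣ L.card := by
    rw [Finset.card_eq_sum_card_image orb L]
    refine Finset.dvd_sum fun o ho => ?_
    obtain ⟨ψ, hψ, rfl⟩ := Finset.mem_image.mp ho
    have hψ1 := (Finset.mem_filter.mp hψ).2
    rw [← hm, ← card_orb hF hψ1]
    refine dvd_of_eq (congrArg Finset.card ?_)
    ext φ
    simp only [Finset.mem_filter, hL, Finset.mem_univ, true_and]
    exact ⟨fun h => ⟨ne_one_of_mem_orb hψ1 h, orb_eq h⟩, fun h => h.2 ▸ self_mem_orb φ⟩
  refine ⟨hLc ▸ hdvd, ?_⟩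
  have hfin : Y.Finite := Y.toFinite
  rw [finsum_mem_eq_finite_toFinset_sum _ hfin]
  have hmaps : ∀ ψ ∈ L, ζ ψ ∈ hfin.toFinset := fun ψ hψ =>
    hfin.mem_toFinset.mpr (hY ψ (Finset.mem_filter.mp hψ).2)
  rw [← Finset.sum_fiberwise_of_maps_to' hmaps, Finset.mul_sum]
  have hge : ∀ η ∈ hfin.toFinset, m ≤ (L.filter fun ψ => ζ ψ = η).card := by
    intro η hη
    obtain ⟨ψ, hψ, rfl⟩ := hon η (hfin.mem_toFinset.mp hη)
    rw [← hm, ← card_orb hF hψ]
    exact Finset.card_le_card fun φ hφ => Finset.mem_filter.mpr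
      ⟨Finset.mem_filter.mpr ⟨Finset.mem_univ _, ne_one_of_mem_orb hψ hφ⟩, hc ψ φ hψ hφ⟩
  have hsum : ∑ η ∈ hfin.toFinset, m = ∑ η ∈ hfin.toFinset, (L.filter fun ψ => ζ ψ = η).card := by
    rw [← Finset.card_eq_sum_card_fiberwise hmaps, Finset.sum_const, smul_eq_mul, hLc,
      ← Nat.card_eq_card_finite_toFinset hfin, hcard, Nat.div_mul_cancel (hLc ▸ hdvd)]
  refine Finset.sum_congr rfl fun η hη => ?_
  rw [Finset.sum_const, nsmul_eq_mul,
    ← (Finset.sum_eq_sum_iff_of_le hge).mp hsum η hη]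

/-- The sum of the values on an orbit. -/
noncomputable def orbVal (ψ : Lin P) (w : ↥(P : Subgroup G)) : ℂ :=
  ∑ φ ∈ orb ψ, chF P φ w

theorem orbVal_eq (hF : IsFrob P) {ψ : Lin P} (hψ : ψ ≠ 1) (w : ↥(P : Subgroup G)) :
    orbVal ψ w = ∑ e : aut P, chF P ψ ((e : MulAut ↥(P : Subgroup G)) w) := by
  have hinj : Function.Injective fun e : aut P => act (e : MulAut ↥(P : Subgroup G)) ψ := by
    have h : (Finset.univ.image fun e : aut P => act (e : MulAut ↥(P : Subgroup G)) ψ).card =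
        (Finset.univ : Finset (aut P)).card := by
      rw [Finset.card_univ, ← Nat.card_eq_fintype_card, ← card_orb hF hψ, orb]
      congr
      exact Subsingleton.elim _ _
    have := Finset.injOn_of_card_image_eq h
    rwa [Finset.coe_univ, Set.injOn_univ] at this
  rw [orbVal]
  exact (Finset.sum_bij (fun (e : aut P) _ => act (e : MulAut ↥(P : Subgroup G)) ψ)
    (fun e _ => mem_orb.mpr ⟨e.1, e.2, rfl⟩) (fun a _ b _ h => hinj h)
    (fun φ hφ => by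
      obtain ⟨e, he, h⟩ := mem_orb.mp hφ
      exact ⟨⟨e, he⟩, Finset.mem_univ _, h⟩)
    (fun e _ => rfl)).symm

theorem sum_orbVal (hF : IsFrob P) {y : ↥(P : Subgroup G)} (hy : y ≠ 1) :
    ∑ ψ ∈ Finset.univ.filter (fun ψ : Lin P => ψ ≠ 1), orbVal ψ y = -(Nat.card (aut P) : ℂ) := by
  rw [Finset.sum_congr rfl fun ψ hψ => orbVal_eq hF (Finset.mem_filter.mp hψ).2 y, Finset.sum_comm]
  refine (Finset.sum_congr rfl (g := fun _ => (-1 : ℂ)) fun e _ => ?_).trans ?_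
  rotate_left
  · simp [Finset.card_univ, Nat.card_eq_fintype_card]
  · rw [Finset.filter_ne', Finset.sum_erase_eq_sub (Finset.mem_univ _),
      sum_lin (fun h => hy ((map_eq_one_iff _ (e : MulAut ↥(P : Subgroup G)).injective).mp h))]
    simp [chF]

theorem sum_orbVal_three (hF : IsFrob P) {t y : ↥(P : Subgroup G)}
    (h : ∀ a b c : aut P, (a : MulAut ↥(P : Subgroup G)) t * (b : MulAut ↥(P : Subgroup G)) t *
      (c : MulAut ↥(P : Subgroup G)) y ≠ 1) :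
    ∑ ψ ∈ Finset.univ.filter (fun ψ : Lin P => ψ ≠ 1), orbVal ψ t * orbVal ψ t * orbVal ψ y =
      -(Nat.card (aut P) : ℂ) ^ 3 := by
  calc _ = ∑ ψ ∈ Finset.univ.filter (fun ψ : Lin P => ψ ≠ 1), ∑ q : aut P × aut P × aut P,
        chF P ψ ((q.1 : MulAut ↥(P : Subgroup G)) t) * chF P ψ ((q.2.1 : MulAut ↥(P : Subgroup G)) t) *
          chF P ψ ((q.2.2 : MulAut ↥(P : Subgroup G)) y) := by
        refine Finset.sum_congr rfl fun ψ hψ => ?_
        rw [orbVal_eq hF (Finset.mem_filter.mp hψ).2 t, orbVal_eq hF (Finset.mem_filter.mp hψ).2 y,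
          Finset.sum_mul_sum, Finset.sum_mul, Fintype.sum_prod_type]
        refine Finset.sum_congr rfl fun a _ => ?_
        rw [Finset.sum_mul, Fintype.sum_prod_type]
        exact Finset.sum_congr rfl fun b _ => Finset.mul_sum _ _ _
    _ = _ := Finset.sum_comm
    _ = ∑ q : aut P × aut P × aut P, (-1 : ℂ) := Finset.sum_congr rfl fun ⟨a, b, c⟩ _ => ?_
    _ = _ := ?_
  rotate_left
  · simp [Finset.card_univ, Nat.card_eq_fintype_card]
    ring
  · rw [Finset.filter_ne', Finset.sum_erase_eq_sub (Finset.mem_univ _),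
      Finset.sum_congr rfl fun ψ _ => show _ = chF P ψ ((a : MulAut ↥(P : Subgroup G)) t *
        (b : MulAut ↥(P : Subgroup G)) t * (c : MulAut ↥(P : Subgroup G)) y) by simp [chF],
      sum_lin (h a b c)]
    simp [chF]

theorem eq_triv_of_value_one {t : G} (hgen : ∀ K : Subgroup G, K.Normal → t ∈ K → K = ⊤)
    {χ : IrrCharacter G} (h : (χ : G → ℂ) t = (χ : G → ℂ) 1) : (χ : G → ℂ) = fun _ => 1 := by
  have hc := CT.isCharacter_of_isIrr χ.2
  have htop := hgen _ (NormExt.kerChar_normal hc) ((CT.mem_kerChar_iff hc).mpr h)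
  have hconst : ∀ g, (χ : G → ℂ) g = (χ : G → ℂ) 1 := fun g =>
    (CT.mem_kerChar_iff hc).mp (htop ▸ Subgroup.mem_top g)
  have hne : classInner (χ : G → ℂ) (CT.trivIrr G : G → ℂ) ≠ 0 := by
    simp only [classInner, CT.trivIrr_apply, map_one, mul_one, hconst, Finset.sum_const,
      Finset.card_univ, nsmul_eq_mul, ← Nat.card_eq_fintype_card]
    rw [← mul_assoc, inv_mul_cancel₀ (Nat.cast_ne_zero.mpr Nat.card_pos.ne'), one_mul]
    exact CT.irr_one_ne_zero χ.2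
  rw [CT.eq_of_inner_ne_zero χ.2 (CT.trivIrr G).2 hne]
  funext x; simp

/-- The principal block when the inertial index is three. -/
theorem exists_three (hM : IsPModular p M) (hF : IsFrob P) (hm : Nat.card (aut P) = 3)
    (hm2 : 3 + 1 < Nat.card (P : Subgroup G)) :
    ∃ (X Y : Set (IrrCharacter G)) (a : IrrCharacter G → ℤ) (δ : ℤ) (ζ : Lin P → IrrCharacter G),
      principalBlock M G = X ∪ Y ∧ Disjoint X Y ∧ Nat.card X = 3 ∧
      Nat.card Y = (Nat.card (P : Subgroup G) - 1) / 3 ∧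
      (∃ χ₁ ∈ X, (χ₁ : G → ℂ) = (fun _ => 1) ∧ a χ₁ = 1) ∧ (δ = 1 ∨ δ = -1) ∧
      (∀ χ ∈ X, (a χ = 1 ∨ a χ = -1) ∧ ∀ z y : G, IsPPart p z y → y ∈ (P : Subgroup G) → y ≠ 1 →
        (χ : G → ℂ) z = (a χ : ℂ)) ∧
      (∀ ψ : Lin P, ψ ≠ 1 → ζ ψ ∈ Y) ∧ (∀ η ∈ Y, ∃ ψ : Lin P, ψ ≠ 1 ∧ ζ ψ = η) ∧
      (∀ ψ ψ' : Lin P, ψ ≠ 1 → ψ' ∈ orb ψ → ζ ψ' = ζ ψ) ∧
      (∀ ψ : Lin P, ψ ≠ 1 → ∀ (z : G) (y : ↥(P : Subgroup G)), IsPPart p z (y : G) → (y : G) ≠ 1 →
        (ζ ψ : G → ℂ) z = (δ : ℂ) * orbVal ψ y) ∧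
      (∀ η ∈ Y, ∀ η' ∈ Y, ∀ g : G, ¬ p ∣ orderOf g → (η : G → ℂ) g = (η' : G → ℂ) g) ∧
      (∀ η ∈ Y, ∀ g : G, ¬ p ∣ orderOf g →
        -(δ : ℂ) * (η : G → ℂ) g + ∑ᶠ χ ∈ X, (a χ : ℂ) * (χ : G → ℂ) g = 0) := by
  obtain ⟨X, Y, a, d, δ, ζ, hXY, hdis, hYc, hr2, ⟨χ₁, hχ₁, h1, ha1⟩, hδ, hX, hζY, hζon, hζc, hζv,
    hsum, hag, hrel⟩ := exists_structure hM hF hm hm2
  have hdvd := (sum_over hm hF hζY hζon hζc hYc (fun _ => (0 : ℂ))).1
  set r := (Nat.card (P : Subgroup G) - 1) / 3 with hr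
  have h3r : 3 * r = Nat.card (P : Subgroup G) - 1 := Nat.mul_div_cancel' hdvd
  have hrZ : ((Nat.card (P : Subgroup G) : ℤ) - 1) / ((3 : ℕ) : ℤ) = (r : ℤ) := by
    rw [hr, Int.natCast_div, Nat.cast_sub Nat.card_pos, Nat.cast_one]
  rw [hrZ] at hsum
  have hfin : X.Finite := X.toFinite
  set SX := ∑ χ ∈ hfin.toFinset, a χ ^ 2 with hSX
  rw [finsum_mem_eq_finite_toFinset_sum _ hfin, ← hSX] at hsum
  push_cast at hsum
  have hpos : ∀ χ ∈ hfin.toFinset, 1 ≤ a χ ^ 2 := fun χ hχ => by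
    have h0 := (hX χ (hfin.mem_toFinset.mp hχ)).1
    have : 0 < a χ ^ 2 := by positivity
    omega
  have hcard : ((hfin.toFinset.card : ℕ) : ℤ) ≤ SX := by
    have := Finset.sum_le_sum hpos
    rw [hSX]
    simpa using this
  -- the conclusion when the squares sum to three
  have finish : ∀ (δ' : ℤ) (ζ' : Lin P → IrrCharacter G), SX = 3 → (δ' = 1 ∨ δ' = -1) →
      (((r : ℕ) : ℂ) * d - δ = -(δ' : ℂ)) →
      (∀ ψ : Lin P, ψ ≠ 1 → ζ' ψ ∈ Y) → (∀ η ∈ Y, ∃ ψ : Lin P, ψ ≠ 1 ∧ ζ' ψ = η) →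
      (∀ ψ ψ' : Lin P, ψ ≠ 1 → ψ' ∈ orb ψ → ζ' ψ' = ζ' ψ) →
      (∀ ψ : Lin P, ψ ≠ 1 → ∀ (z : G) (y : ↥(P : Subgroup G)), IsPPart p z (y : G) → (y : G) ≠ 1 →
        (ζ' ψ : G → ℂ) z = (δ' : ℂ) * orbVal ψ y) →
      ∃ (X Y : Set (IrrCharacter G)) (a : IrrCharacter G → ℤ) (δ : ℤ) (ζ : Lin P → IrrCharacter G),
      principalBlock M G = X ∪ Y ∧ Disjoint X Y ∧ Nat.card X = 3 ∧
      Nat.card Y = r ∧
      (∃ χ₁ ∈ X, (χ₁ : G → ℂ) = (fun _ => 1) ∧ a χ₁ = 1) ∧ (δ = 1 ∨ δ = -1) ∧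
      (∀ χ ∈ X, (a χ = 1 ∨ a χ = -1) ∧ ∀ z y : G, IsPPart p z y → y ∈ (P : Subgroup G) → y ≠ 1 →
        (χ : G → ℂ) z = (a χ : ℂ)) ∧
      (∀ ψ : Lin P, ψ ≠ 1 → ζ ψ ∈ Y) ∧ (∀ η ∈ Y, ∃ ψ : Lin P, ψ ≠ 1 ∧ ζ ψ = η) ∧
      (∀ ψ ψ' : Lin P, ψ ≠ 1 → ψ' ∈ orb ψ → ζ ψ' = ζ ψ) ∧
      (∀ ψ : Lin P, ψ ≠ 1 → ∀ (z : G) (y : ↥(P : Subgroup G)), IsPPart p z (y : G) → (y : G) ≠ 1 →
        (ζ ψ : G → ℂ) z = (δ : ℂ) * orbVal ψ y) ∧
      (∀ η ∈ Y, ∀ η' ∈ Y, ∀ g : G, ¬ p ∣ orderOf g → (η : G → ℂ) g = (η' : G → ℂ) g) ∧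
      (∀ η ∈ Y, ∀ g : G, ¬ p ∣ orderOf g →
        -(δ : ℂ) * (η : G → ℂ) g + ∑ᶠ χ ∈ X, (a χ : ℂ) * (χ : G → ℂ) g = 0) := by
    intro δ' ζ' h3 hδ' hcoef hY' hon' hc' hv'
    have hone : ∀ χ ∈ hfin.toFinset, a χ ^ 2 = 1 := by
      by_contra hne
      push Not at hne
      obtain ⟨χ, hχ, hχ2⟩ := hne
      have h4 : 4 ≤ a χ ^ 2 := by
        have h0 := (hX χ (hfin.mem_toFinset.mp hχ)).1
        have : 2 ≤ |a χ| := by
          rcases lt_trichotomy |a χ| 1 with h | h | h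
          · exact absurd (abs_eq_zero.mp (le_antisymm (by omega) (abs_nonneg _))) h0
          · exact absurd (by rw [← sq_abs, h, one_pow]) hχ2
          · omega
        nlinarith [sq_abs (a χ)]
      have := Finset.single_le_sum (f := fun χ => a χ ^ 2) (fun i _ => sq_nonneg _) hχ
      omega
    have hc3 : Nat.card X = 3 := by
      rw [Nat.card_eq_card_finite_toFinset hfin]
      have : SX = (hfin.toFinset.card : ℤ) := by
        rw [hSX, Finset.sum_congr rfl hone]; simp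
      omega
    refine ⟨X, Y, a, δ', ζ', hXY, hdis, hc3, hYc, ⟨χ₁, hχ₁, h1, ha1⟩, hδ',
      fun χ hχ => ⟨sq_eq_one_iff.mp (hone χ (hfin.mem_toFinset.mpr hχ)), (hX χ hχ).2⟩,
      hY', hon', hc', hv', hag, fun η hη g hg => ?_⟩
    rw [← hcoef]
    exact hrel η hη g hg
  by_cases hd : d = 0
  · refine finish δ ζ ?_ hδ (by simp [hd]) hζY hζon hζc fun ψ hψ z y hz hy => ?_
    · rcases hδ with rfl | rfl <;> subst hd <;> simp at hsum <;> omega
    · rw [hζv ψ hψ z y hz hy, hd, Int.cast_zero, zero_add]; rfl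
  -- otherwise `d = δ` and `r ≤ 4`
  have hr2' : (2 : ℤ) ≤ (r : ℤ) := by exact_mod_cast hr2
  have hSX1 : 1 ≤ SX := by
    refine le_trans ?_ hcard
    exact_mod_cast Finset.card_pos.mpr ⟨χ₁, hfin.mem_toFinset.mpr hχ₁⟩
  have hd2 : 1 ≤ d ^ 2 := by have := mul_self_pos.mpr hd; rw [pow_two]; omega
  have hdd : d = δ ∧ r ≤ 4 := by
    have h1' : (d - δ) ^ 2 ≤ 2 := by nlinarith
    have hdδ : d - δ = 0 ∨ d - δ = 1 ∨ d - δ = -1 := by
      have : -2 < d - δ ∧ d - δ < 2 := ⟨by nlinarith, by nlinarith⟩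
      omega
    rcases hdδ with h | h | h
    · refine ⟨by omega, ?_⟩
      have hdδ' : d = δ := by omega
      rw [hdδ'] at hsum
      have : (r : ℤ) ≤ 4 := by rcases hδ with rfl | rfl <;> norm_num at hsum <;> omega
      exact_mod_cast this
    all_goals
      exfalso
      rcases hδ with rfl | rfl
      · have hd' : d = 2 ∨ d = 0 := by omega
        rcases hd' with rfl | rfl <;> first | contradiction | nlinarith
      · have hd' : d = -2 ∨ d = 0 := by omega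
        rcases hd' with rfl | rfl <;> first | contradiction | nlinarith
  obtain ⟨hdδ, hr4⟩ := hdd
  have hYc' : Nat.card Y = (Nat.card (P : Subgroup G) - 1) / 3 := hYc
  subst hdδ
  have hsum' : (r : ℤ) - 1 + SX = 4 := by
    rcases hδ with rfl | rfl <;> norm_num at hsum <;> omega
  interval_cases r
  · -- two exceptional characters
    have hYf : Y.Finite := Y.toFinite
    obtain ⟨η₁, η₂, hne, hY2⟩ := Set.ncard_eq_two.mp
      (show Y.ncard = 2 by rw [← Nat.card_coe_set_eq, hYc])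
    have hmem : ∀ η, η ∈ Y ↔ η = η₁ ∨ η = η₂ := fun η => by rw [hY2]; simp
    have hswapY : ∀ η ∈ Y, Equiv.swap η₁ η₂ η ∈ Y := fun η hη => by
      rcases (hmem η).mp hη with rfl | rfl <;> simp [hmem]
    refine finish (-d) (fun ψ => Equiv.swap η₁ η₂ (ζ ψ)) (by omega) (by omega) (by push_cast; ring)
      (fun ψ hψ => hswapY _ (hζY ψ hψ)) (fun η hη => ?_) (fun ψ ψ' hψ h => by
        simp only [hζc ψ ψ' hψ h]) (fun ψ hψ z y hz hy => ?_)
    · obtain ⟨ψ, hψ, he⟩ := hζon _ (hswapY η hη)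
      exact ⟨ψ, hψ, by simp [he]⟩
    · have hy1 : y ≠ 1 := fun h => hy (by simp [h])
      have hS := (sum_over hm hF hζY hζon hζc hYc' (fun η => (η : G → ℂ) z)).2
      rw [Finset.sum_congr rfl fun φ hφ => show _ = (d : ℂ) + (d : ℂ) * orbVal φ y from
        hζv φ (Finset.mem_filter.mp hφ).2 z y hz hy, Finset.sum_add_distrib, Finset.sum_const,
        ← Finset.mul_sum, sum_orbVal hF hy1, hm, Finset.filter_ne',
        Finset.card_erase_of_mem (Finset.mem_univ _), Finset.card_univ, ← Nat.card_eq_fintype_card,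
        card_lin P, hY2, finsum_mem_pair hne, show Nat.card (P : Subgroup G) - 1 = 6 by omega] at hS
      have hv := hζv ψ hψ z y hz hy
      rw [show (∑ ψ' ∈ orb ψ, chF P ψ' y) = orbVal ψ y from rfl] at hv
      push_cast at hS ⊢
      rcases (hmem _).mp (hζY ψ hψ) with h | h <;> rw [h] at hv ⊢
      · rw [Equiv.swap_apply_left]
        linear_combination (1 / 3 : ℂ) * hS - hv
      · rw [Equiv.swap_apply_right]
        linear_combination (1 / 3 : ℂ) * hS - hv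
  · -- order ten is not a prime power
    exfalso
    obtain ⟨k, hk⟩ := IsPGroup.iff_card.mp P.2
    have h10 : p ^ k = 10 := by omega
    have h5 : 5 ∣ p := Nat.Prime.dvd_of_dvd_pow (by norm_num : Nat.Prime 5) ⟨2, h10⟩
    have h2 : 2 ∣ p := Nat.Prime.dvd_of_dvd_pow (by norm_num : Nat.Prime 2) ⟨5, h10⟩
    have e5 := (Nat.prime_dvd_prime_iff_eq (by norm_num) hp.out).mp h5
    have e2 := (Nat.prime_dvd_prime_iff_eq (by norm_num) hp.out).mp h2
    omega
  · -- only the trivial character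
    exfalso
    have hX1 : hfin.toFinset = {χ₁} := by
      refine Finset.eq_singleton_iff_unique_mem.mpr ⟨hfin.mem_toFinset.mpr hχ₁, fun χ hχ => ?_⟩
      refine Finset.card_le_one.mp ?_ χ hχ χ₁ (hfin.mem_toFinset.mpr hχ₁)
      exact_mod_cast hcard.trans (by omega : SX ≤ ((1 : ℕ) : ℤ))
    obtain ⟨η, hη⟩ : Y.Nonempty := by
      rw [← Set.ncard_pos, ← Nat.card_coe_set_eq, hYc]; norm_num
    have h := hrel η hη 1 (by rw [orderOf_one]; exact hp.out.not_dvd_one)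
    rw [finsum_mem_eq_finite_toFinset_sum _ hfin, hX1, Finset.sum_singleton, ha1, h1,
      charDegree_cast] at h
    have h' : (4 * d - d) * (charDegree (η : G → ℂ) : ℤ) + 1 = 0 := by
      exact_mod_cast (show (((4 * d - d) * (charDegree (η : G → ℂ) : ℤ) + 1 : ℤ) : ℂ) = ((0 : ℤ) : ℂ) by
        push_cast at h ⊢; linear_combination h)
    rcases hδ with rfl | rfl <;> omega

/-- Values of the principal block at a product of two conjugate involutions. -/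
theorem no_pair (hF : IsFrob P) (hm : Nat.card (aut P) = 3) {t : G} (ht : orderOf t = 2)
    {y : ↥(P : Subgroup G)} (hy : y ≠ 1)
    (hgood : p = 2 → ∃ t₀ : ↥(P : Subgroup G), IsConj t (t₀ : G) ∧
      ∀ a b : aut P, (a : MulAut ↥(P : Subgroup G)) t₀ * (b : MulAut ↥(P : Subgroup G)) t₀ ≠ y)
    (z x₁ x₂ : G) (hz : IsPPart p z (y : G)) (h1 : IsConj t x₁) (h2 : IsConj t x₂)
    (h12 : x₁ * x₂ = z) : False := by
  have hord : ∀ x : G, IsConj t x → orderOf x = 2 := fun x hx => by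
    obtain ⟨c, rfl⟩ := isConj_iff.mp hx
    exact (orderOf_injective (MulAut.conj c).toMonoidHom (MulAut.conj c).injective t).trans ht
  have hinv : ∀ x : G, IsConj t x → x⁻¹ = x := fun x hx => inv_eq_of_mul_eq_one_right
    (by rw [← pow_two, ← hord x hx, pow_orderOf_eq_one])
  have hconj : x₁ * z * x₁⁻¹ = z⁻¹ := by
    have h11 : x₁ * x₁ = 1 := by rw [← pow_two, ← hord x₁ h1, pow_orderOf_eq_one]
    rw [← h12, mul_inv_rev, hinv _ h1, hinv _ h2, ← mul_assoc x₁ x₁, h11, one_mul]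
  have hzinv : IsPPart p z⁻¹ (y : G)⁻¹ := by
    obtain ⟨h, hh, hc, ⟨k, hk⟩, hr⟩ := hz
    exact ⟨h⁻¹, by rw [← hh, mul_inv_rev]; exact (hc.inv_inv.eq), hc.inv_inv,
      ⟨k, by rw [orderOf_inv, hk]⟩, by rwa [orderOf_inv]⟩
  have hyc : x₁ * (y : G) * x₁⁻¹ = (y : G)⁻¹ := by
    have h := ppart_conj hz x₁
    rw [hconj] at h
    exact ppart_unique h hzinv
  have hy2 : y * y = 1 := aut_inv_eq hm hF hy (isConj_iff.mpr ⟨x₁, hyc⟩)
  have hord2 : orderOf (y : G) = 2 := by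
    rw [Subgroup.orderOf_coe]
    exact orderOf_eq_prime (by rw [pow_two, hy2]) hy
  obtain ⟨k, hk⟩ := IsPGroup.iff_orderOf.mp P.2 y
  rw [← Subgroup.orderOf_coe, hord2] at hk
  have hp2 : p = 2 := ((Nat.prime_dvd_prime_iff_eq Nat.prime_two hp.out).mp
    (Nat.prime_two.dvd_of_dvd_pow (dvd_of_eq hk))).symm
  subst hp2
  obtain ⟨t₀, ht₀, hne⟩ := hgood rfl
  have hyinv : (y : G)⁻¹ = (y : G) := by
    rw [inv_eq_iff_mul_eq_one]; exact_mod_cast congrArg Subtype.val hy2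
  rw [hyinv] at hyc
  set C := Subgroup.centralizer ({(y : G)} : Set G) with hC
  have hx1 : x₁ ∈ C := Subgroup.mem_centralizer_singleton_iff.mpr (mul_inv_eq_iff_eq_mul.mp hyc)
  obtain ⟨h, hh, hc, -, hr⟩ := hz
  have hhC : h ∈ C := Subgroup.mem_centralizer_singleton_iff.mpr hc.symm.eq
  have hyC : (y : G) ∈ C := Subgroup.mem_centralizer_singleton_iff.mpr rfl
  have hx2 : x₂ ∈ C := by
    rw [show x₂ = x₁⁻¹ * z by rw [← h12, inv_mul_cancel_left], ← hh]
    exact mul_mem (inv_mem hx1) (mul_mem hyC hhC)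
  set K := pPrimeCore 2 C
  haveI : K.Normal := Basics.pPrimeCore_normal 2
  obtain ⟨i, hi⟩ := complement hF y.2 (fun h => hy (Subtype.ext h))
  set ι : ↥(P : Subgroup G) →* C ⧸ K :=
    (QuotientGroup.mk' K).comp (Subgroup.inclusion (le_centralizer y.2)) with hι
  have hinj : Function.Injective ι := by
    rw [← MonoidHom.ker_eq_bot_iff, eq_bot_iff]
    intro w hw
    rw [MonoidHom.mem_ker, hι, MonoidHom.comp_apply, QuotientGroup.mk'_apply,
      QuotientGroup.eq_one_iff] at hw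
    rw [Subgroup.mem_bot, ← orderOf_eq_one_iff]
    obtain ⟨j, hj⟩ := IsPGroup.iff_orderOf.mp P.2 w
    have hd : orderOf w ∣ Nat.card K := by
      rw [← orderOf_injective (Subgroup.inclusion (le_centralizer y.2)) (Subgroup.inclusion_injective _) w,
        ← Subgroup.orderOf_mk _ hw]
      exact orderOf_dvd_natCard _
    rcases Nat.eq_zero_or_pos j with rfl | hj0
    · simpa using hj
    · exact absurd ((dvd_pow_self 2 hj0.ne').trans (hj ▸ hd)) (Basics.not_dvd_card_pPrimeCore 2)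
  have hsurj : Function.Surjective ι := by
    have hle : Nat.card (C ⧸ K) ≤ Nat.card (P : Subgroup G) := by
      rw [← Subgroup.index_eq_card, show K.index = 2 ^ i from hi, P.card_eq_multiplicity]
      refine Nat.pow_le_pow_right (by norm_num) ?_
      refine (Nat.prime_two.pow_dvd_iff_le_factorization Nat.card_pos.ne').mp ?_
      rw [← hi]
      exact (Subgroup.index_dvd_card K).trans (Subgroup.card_subgroup_dvd_card C)
    exact (Function.Injective.bijective_of_nat_card_le hinj hle).2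
  have hcomm : ∀ a b : C ⧸ K, a * b = b * a := fun a b => by
    obtain ⟨a, rfl⟩ := hsurj a
    obtain ⟨b, rfl⟩ := hsurj b
    rw [← map_mul, ← map_mul, comm a b]
  -- the image of an involution in the class
  have himg : ∀ (x : G) (hx : x ∈ C), IsConj t x →
      ∃ e : aut P, ι ((e : MulAut ↥(P : Subgroup G)) t₀) = QuotientGroup.mk' K ⟨x, hx⟩ := by
    intro x hx hxc
    set Q : Sylow 2 C := P.subtype (le_centralizer y.2)
    obtain ⟨g, hg⟩ := Invol.exists_conj_mem_sylow Q (t := (⟨x, hx⟩ : C)) (k := 1)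
      (by rw [← Subgroup.orderOf_coe, pow_one]; exact hord x hxc)
    have hgP : (g : G) * x * (g : G)⁻¹ ∈ (P : Subgroup G) := hg
    have hcx : IsConj (t₀ : G) ((⟨_, hgP⟩ : ↥(P : Subgroup G)) : G) :=
      (ht₀.symm.trans hxc).trans (isConj_iff.mpr ⟨g, rfl⟩)
    obtain ⟨e, he, hee⟩ := conj_in_aut hcx
    refine ⟨⟨e, he⟩, ?_⟩
    show ι (e t₀) = _
    rw [hee]
    show QuotientGroup.mk' K (g * ⟨x, hx⟩ * g⁻¹) = _
    rw [map_mul, map_mul, map_inv, hcomm (QuotientGroup.mk' K g), mul_inv_cancel_right]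
  obtain ⟨a, ha⟩ := himg x₁ hx1 h1
  obtain ⟨b, hb⟩ := himg x₂ hx2 h2
  refine hne a b (hinj ?_)
  rw [map_mul, ha, hb, ← map_mul]
  have hhK : (⟨h, hhC⟩ : C) ∈ K := mem_of_pow_index ⟨i, hi⟩ (by rwa [← Subgroup.orderOf_coe])
  have e : (⟨x₁, hx1⟩ : C) * ⟨x₂, hx2⟩ = ⟨(y : G), hyC⟩ * ⟨h, hhC⟩ :=
    Subtype.ext (h12.trans hh.symm)
  rw [e, map_mul, show QuotientGroup.mk' K ⟨h, hhC⟩ = 1 from (QuotientGroup.eq_one_iff _).mpr hhK,
    mul_one]
  rfl

/-- An element avoiding the products of two conjugates. -/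
theorem exists_good (hm : Nat.card (aut P) = 3) (hq : 10 < Nat.card (P : Subgroup G))
    (t₀ : ↥(P : Subgroup G)) : ∃ y : ↥(P : Subgroup G), y ≠ 1 ∧
      ∀ a b : aut P, (a : MulAut ↥(P : Subgroup G)) t₀ * (b : MulAut ↥(P : Subgroup G)) t₀ ≠ y := by
  set S : Finset ↥(P : Subgroup G) := insert 1 (Finset.univ.image fun q : aut P × aut P =>
    (q.1 : MulAut ↥(P : Subgroup G)) t₀ * (q.2 : MulAut ↥(P : Subgroup G)) t₀) with hS
  have hcard : S.card < (Finset.univ : Finset ↥(P : Subgroup G)).card := by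
    rw [Finset.card_univ, ← Nat.card_eq_fintype_card]
    refine lt_of_le_of_lt ((Finset.card_insert_le _ _).trans
      (Nat.succ_le_succ Finset.card_image_le)) ?_
    rw [Finset.card_univ, Fintype.card_prod, ← Nat.card_eq_fintype_card, hm]
    omega
  obtain ⟨y, -, hy⟩ := Finset.exists_mem_notMem_of_card_lt_card hcard
  rw [hS, Finset.mem_insert, Finset.mem_image] at hy
  push Not at hy
  exact ⟨y, hy.1, fun a b => hy.2 (a, b) (Finset.mem_univ _)⟩

/-- The signs and the square, from the two relations. -/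
theorem signs_square {D d₂ d₃ s x₂ x₃ c₁ c₂ c₃ : ℤ} (hD : 0 < D) (h2 : 0 < d₂) (h3 : 0 < d₃)
    (hc₁ : c₁ = 1 ∨ c₁ = -1) (hc₂ : c₂ = 1 ∨ c₂ = -1) (hc₃ : c₃ = 1 ∨ c₃ = -1)
    (e1 : 1 + c₁ * D + c₂ * d₂ + c₃ * d₃ = 0) (e2 : 1 + c₁ * s + c₂ * x₂ + c₃ * x₃ = 0)
    (e3 : D * d₂ * d₃ + c₁ * s ^ 2 * d₂ * d₃ + c₂ * x₂ ^ 2 * D * d₃ + c₃ * x₃ ^ 2 * D * d₂ = 0)
    (k₁ : c₁ = 1 → s ≠ D) (k₂ : x₂ ≠ d₂) (k₃ : x₃ ≠ d₃) :
    (((if c₂ = -1 then 1 else 0) + if c₃ = -1 then 1 else 0) + if c₁ = -1 then 1 else 0 : ℕ) = 2 ∧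
      IsSquare (D * (d₂ * d₃)) := by
  rcases hc₁ with rfl | rfl <;> rcases hc₂ with rfl | rfl <;> rcases hc₃ with rfl | rfl <;>
    first
      | (exfalso; omega)
      | skip
  · exact absurd (one_negative hD h2 (show 1 + D + d₂ = d₃ by omega)
      (show 1 + s + x₂ = x₃ by omega) (by linear_combination e3)).2 k₂
  · exact absurd (one_negative hD h3 (show 1 + D + d₃ = d₂ by omega)
      (show 1 + s + x₃ = x₂ by omega) (by linear_combination e3)).2 k₃
  · exact ⟨by norm_num, by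
      rw [← mul_assoc]
      exact two_negative (show 1 + D = d₂ + d₃ by omega) (show 1 + s = x₂ + x₃ by omega) (k₁ rfl)
        (by linear_combination e3)⟩
  · exact absurd (one_negative h2 h3 (show 1 + d₂ + d₃ = D by omega)
      (show 1 + x₂ + x₃ = s by omega) (by linear_combination e3)).1 k₂
  · refine ⟨by norm_num, ?_⟩
    rw [show D * (d₂ * d₃) = d₂ * D * d₃ by ring]
    exact two_negative (show 1 + d₂ = D + d₃ by omega) (show 1 + x₂ = s + x₃ by omega) k₂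
      (by linear_combination e3)
  · refine ⟨by norm_num, ?_⟩
    rw [show D * (d₂ * d₃) = d₃ * D * d₂ by ring]
    exact two_negative (show 1 + d₃ = D + d₂ by omega) (show 1 + x₃ = s + x₂ by omega) k₃
      (by linear_combination e3)

set_option maxHeartbeats 1600000 in
/-- The second part of the theorem on inertial index three. -/
theorem three_involution (hM : IsPModular p M) (hF : IsFrob P) (hm : Nat.card (aut P) = 3)
    (hm2 : 3 + 1 < Nat.card (P : Subgroup G)) {X Y : Set (IrrCharacter G)}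
    {a : IrrCharacter G → ℤ} {δ : ℤ} {ζ : Lin P → IrrCharacter G}
    (hXY : principalBlock M G = X ∪ Y) (hdis : Disjoint X Y) (hX3 : Nat.card X = 3)
    (hY : Nat.card Y = (Nat.card (P : Subgroup G) - 1) / 3)
    {χ₁ : IrrCharacter G} (hχ₁ : χ₁ ∈ X) (h1 : (χ₁ : G → ℂ) = fun _ => 1) (ha1 : a χ₁ = 1)
    (hδ : δ = 1 ∨ δ = -1)
    (hX : ∀ χ ∈ X, (a χ = 1 ∨ a χ = -1) ∧ ∀ z y : G, IsPPart p z y → y ∈ (P : Subgroup G) → y ≠ 1 →
      (χ : G → ℂ) z = (a χ : ℂ))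
    (hζY : ∀ ψ : Lin P, ψ ≠ 1 → ζ ψ ∈ Y) (hζon : ∀ η ∈ Y, ∃ ψ : Lin P, ψ ≠ 1 ∧ ζ ψ = η)
    (hζc : ∀ ψ ψ' : Lin P, ψ ≠ 1 → ψ' ∈ orb ψ → ζ ψ' = ζ ψ)
    (hζv : ∀ ψ : Lin P, ψ ≠ 1 → ∀ (z : G) (y : ↥(P : Subgroup G)), IsPPart p z (y : G) →
      (y : G) ≠ 1 → (ζ ψ : G → ℂ) z = (δ : ℂ) * orbVal ψ y)
    (hag : ∀ η ∈ Y, ∀ η' ∈ Y, ∀ g : G, ¬ p ∣ orderOf g → (η : G → ℂ) g = (η' : G → ℂ) g)
    (hrel : ∀ η ∈ Y, ∀ g : G, ¬ p ∣ orderOf g →
      -(δ : ℂ) * (η : G → ℂ) g + ∑ᶠ χ ∈ X, (a χ : ℂ) * (χ : G → ℂ) g = 0)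
    {t : G} (ht : orderOf t = 2) (hgen : ∀ K : Subgroup G, K.Normal → t ∈ K → K = ⊤) :
    Nat.card {χ : IrrCharacter G // χ ∈ X ∧ (χ : G → ℂ) ≠ (fun _ => 1) ∧ a χ = -1} +
        (if δ = 1 then 1 else 0) = 2 ∧
      ∀ η ∈ Y, IsSquare (charDegree (η : G → ℂ) *
        ∏ᶠ χ ∈ {χ : IrrCharacter G | χ ∈ X ∧ (χ : G → ℂ) ≠ fun _ => 1}, charDegree (χ : G → ℂ)) := by
  have h1eq : ∀ χ : IrrCharacter G, (χ : G → ℂ) = (fun _ => 1) ↔ χ = χ₁ := fun χ =>
    ⟨fun h => Subtype.ext (h.trans h1.symm), fun h => h ▸ h1⟩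
  obtain ⟨χ₂, χ₃, h23, hX'⟩ := Set.ncard_eq_two.mp (show (X \ {χ₁}).ncard = 2 by
    rw [Set.ncard_sdiff_singleton_of_mem hχ₁, ← Nat.card_coe_set_eq, hX3])
  have hm2' : χ₂ ∈ X ∧ χ₂ ≠ χ₁ := by
    have : χ₂ ∈ X \ {χ₁} := hX' ▸ Set.mem_insert _ _
    simpa using this
  have hm3' : χ₃ ∈ X ∧ χ₃ ≠ χ₁ := by
    have : χ₃ ∈ X \ {χ₁} := hX' ▸ Set.mem_insert_of_mem _ rfl
    simpa using this
  have hXeq : X = ({χ₁, χ₂, χ₃} : Set (IrrCharacter G)) := by
    rw [← Set.insert_sdiff_singleton.trans (Set.insert_eq_of_mem hχ₁), hX']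
  have hsumX : ∀ f : IrrCharacter G → ℂ, ∑ᶠ χ ∈ X, f χ = f χ₁ + (f χ₂ + f χ₃) := fun f => by
    rw [hXeq, finsum_mem_insert f (by simp [hm2'.2.symm, hm3'.2.symm]) (Set.toFinite _),
      finsum_mem_pair h23]
  have hdvd := (sum_over hm hF hζY hζon hζc hY (fun _ => (0 : ℂ))).1
  obtain ⟨η₀, hη₀⟩ : Y.Nonempty := by
    rw [← Set.ncard_pos, ← Nat.card_coe_set_eq, hY]
    exact Nat.div_pos (Nat.le_of_dvd (by omega) hdvd) (by norm_num)
  have hη₀1 : (η₀ : G → ℂ) ≠ fun _ => 1 := fun h =>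
    Set.disjoint_left.mp hdis hχ₁ ((h1eq η₀).mp h ▸ hη₀)
  set D : ℤ := (charDegree (η₀ : G → ℂ) : ℤ) with hD
  have hD1 : (η₀ : G → ℂ) 1 = (D : ℂ) := by rw [hD, Int.cast_natCast, charDegree_cast]
  have hdeg : ∀ η ∈ Y, (η : G → ℂ) 1 = (D : ℂ) := fun η hη => by
    rw [hag η hη η₀ hη₀ 1 (by rw [orderOf_one]; exact hp.out.not_dvd_one), hD1]
  obtain ⟨x₂, hx₂⟩ := exists_int_value ht χ₂
  obtain ⟨x₃, hx₃⟩ := exists_int_value ht χ₃
  have e1 : 1 + -δ * D + a χ₂ * (charDegree (χ₂ : G → ℂ) : ℤ) +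
      a χ₃ * (charDegree (χ₃ : G → ℂ) : ℤ) = 0 := by
    have h := hrel η₀ hη₀ 1 (by rw [orderOf_one]; exact hp.out.not_dvd_one)
    rw [hsumX, ha1, h1, hD1, charDegree_cast χ₂, charDegree_cast χ₃] at h
    have h' : ((1 + -δ * D + a χ₂ * (charDegree (χ₂ : G → ℂ) : ℤ) +
        a χ₃ * (charDegree (χ₃ : G → ℂ) : ℤ) : ℤ) : ℂ) = ((0 : ℤ) : ℂ) := by
      push_cast; linear_combination h
    exact_mod_cast h'
  -- the data at `t`
  obtain ⟨s, y, hy, hgood, e2, hsum3, k₁⟩ : ∃ (s : ℤ) (y : ↥(P : Subgroup G)), y ≠ 1 ∧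
      (p = 2 → ∃ t₀ : ↥(P : Subgroup G), IsConj t (t₀ : G) ∧
        ∀ a b : aut P, (a : MulAut ↥(P : Subgroup G)) t₀ * (b : MulAut ↥(P : Subgroup G)) t₀ ≠ y) ∧
      1 + -δ * s + a χ₂ * x₂ + a χ₃ * x₃ = 0 ∧
      (3 : ℂ) * ∑ᶠ η ∈ Y, (η : G → ℂ) t * (η : G → ℂ) t / (η : G → ℂ) 1 * (η : G → ℂ) y =
        -3 * (δ : ℂ) * (s : ℂ) ^ 2 / (D : ℂ) ∧
      (-δ = 1 → s ≠ D) := by
    by_cases hp2 : p = 2
    · subst hp2
      obtain ⟨g, hg⟩ := Invol.exists_conj_mem_sylow P (t := t) (k := 1) (by rw [pow_one, ht])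
      set t₀ : ↥(P : Subgroup G) := ⟨g * t * g⁻¹, hg⟩ with ht₀
      have htc : IsConj t (t₀ : G) := isConj_iff.mpr ⟨g, rfl⟩
      have hval : ∀ χ : IrrCharacter G, (χ : G → ℂ) t = (χ : G → ℂ) t₀ := fun χ =>
        (CT.isClassFunction_of_isIrr χ.2 t g).symm
      have ht1 : (t₀ : G) ≠ 1 := fun h => by
        have hg1 : g * t * g⁻¹ = 1 := h
        rw [conj_eq_one_iff.mp hg1, orderOf_one] at ht
        omega
      have hq : 10 < Nat.card (P : Subgroup G) := by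
        obtain ⟨k, hk⟩ := IsPGroup.iff_card.mp P.2
        rw [hk] at hm2 hdvd ⊢
        rcases Nat.lt_or_ge k 4 with h | h
        · interval_cases k <;> omega
        · have := Nat.pow_le_pow_right (show 0 < 2 by norm_num) h
          omega
      obtain ⟨y, hy, hgood⟩ := exists_good hm hq t₀
      have hy1 : (y : G) ≠ 1 := fun h => hy (Subtype.ext h)
      have hs := (hX χ₂ hm2'.1).2 (t₀ : G) t₀ (isPPart_self (pPart_mem t₀.2)) t₀.2 ht1
      have hs' := (hX χ₃ hm3'.1).2 (t₀ : G) t₀ (isPPart_self (pPart_mem t₀.2)) t₀.2 ht1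
      rw [← hval, hx₂] at hs
      rw [← hval, hx₃] at hs'
      have hx2a : x₂ = a χ₂ := by exact_mod_cast hs
      have hx3a : x₃ = a χ₃ := by exact_mod_cast hs'
      refine ⟨3 * δ, y, hy, fun _ => ⟨t₀, htc, hgood⟩, ?_, ?_, fun h1δ hsD => ?_⟩
      · rw [hx2a, hx3a]
        rcases hδ with rfl | rfl <;> rcases (hX χ₂ hm2'.1).1 with h | h <;>
          rcases (hX χ₃ hm3'.1).1 with h' | h' <;> norm_num [h, h']
      · have h' := (sum_over hm hF hζY hζon hζc hY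
          (fun η => (η : G → ℂ) t * (η : G → ℂ) t / (η : G → ℂ) 1 * (η : G → ℂ) y)).2
        rw [Nat.cast_ofNat] at h'
        rw [h', Finset.sum_congr rfl fun ψ hψ => by
          rw [hval, hdeg _ (hζY ψ (Finset.mem_filter.mp hψ).2),
            hζv ψ (Finset.mem_filter.mp hψ).2 t₀ t₀ (isPPart_self (pPart_mem t₀.2)) ht1,
            hζv ψ (Finset.mem_filter.mp hψ).2 y y (isPPart_self (pPart_mem y.2)) hy1,
            show (δ : ℂ) * orbVal ψ t₀ * ((δ : ℂ) * orbVal ψ t₀) / (D : ℂ) * ((δ : ℂ) * orbVal ψ y) =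
              (δ : ℂ) ^ 3 / (D : ℂ) * (orbVal ψ t₀ * orbVal ψ t₀ * orbVal ψ y) by ring],
          ← Finset.mul_sum, sum_orbVal_three hF (fun a b c habc => ?_), hm]
        · push_cast; ring
        · -- `y` is not a product of two conjugates
          have htt : t₀ * t₀ = 1 := Subtype.ext (by
            show g * t * g⁻¹ * (g * t * g⁻¹) = 1
            rw [conj_mul, ← pow_two, ← ht, pow_orderOf_eq_one, mul_one, mul_inv_cancel])
          refine hgood (c⁻¹ * a) (c⁻¹ * b) ?_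
          have e : (c : MulAut ↥(P : Subgroup G)) y =
              (a : MulAut ↥(P : Subgroup G)) t₀ * (b : MulAut ↥(P : Subgroup G)) t₀ := by
            have h := eq_inv_of_mul_eq_one_right habc
            rw [h, mul_inv_rev, comm, ← map_inv, ← map_inv, inv_eq_of_mul_eq_one_right htt]
          show (c : MulAut ↥(P : Subgroup G)).symm ((a : MulAut ↥(P : Subgroup G)) t₀) *
            (c : MulAut ↥(P : Subgroup G)).symm ((b : MulAut ↥(P : Subgroup G)) t₀) = y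
          rw [← map_mul, ← e, MulEquiv.symm_apply_apply]
      · have : 0 < D := by rw [hD]; exact_mod_cast charDegree_pos η₀
        omega
    · have hreg : ¬ p ∣ orderOf t := by
        rw [ht]
        exact fun h => hp2 ((Nat.prime_dvd_prime_iff_eq hp.out Nat.prime_two).mp h)
      obtain ⟨s, hs⟩ := exists_int_value ht η₀
      obtain ⟨y, hy⟩ : ∃ y : ↥(P : Subgroup G), y ≠ 1 := by
        by_contra hall
        push Not at hall
        have : Subsingleton ↥(P : Subgroup G) := ⟨fun u v => (hall u).trans (hall v).symm⟩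
        have := Nat.card_of_subsingleton (1 : ↥(P : Subgroup G))
        omega
      have hy1 : (y : G) ≠ 1 := fun h => hy (Subtype.ext h)
      refine ⟨s, y, hy, fun h => absurd h hp2, ?_, ?_, fun _ hsD => hη₀1 (eq_triv_of_value_one hgen
        (by rw [hs, hD1, hsD]))⟩
      · have h := hrel η₀ hη₀ t hreg
        rw [hsumX, ha1, h1, hs, hx₂, hx₃] at h
        have h' : ((1 + -δ * s + a χ₂ * x₂ + a χ₃ * x₃ : ℤ) : ℂ) = ((0 : ℤ) : ℂ) := by
          push_cast; linear_combination h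
        exact_mod_cast h'
      · have h' := (sum_over hm hF hζY hζon hζc hY
          (fun η => (η : G → ℂ) t * (η : G → ℂ) t / (η : G → ℂ) 1 * (η : G → ℂ) y)).2
        rw [Nat.cast_ofNat] at h'
        rw [h', Finset.sum_congr rfl fun ψ hψ => by
          rw [hag _ (hζY ψ (Finset.mem_filter.mp hψ).2) η₀ hη₀ t hreg, hs,
            hdeg _ (hζY ψ (Finset.mem_filter.mp hψ).2),
            hζv ψ (Finset.mem_filter.mp hψ).2 y y (isPPart_self (pPart_mem y.2)) hy1,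
            show (s : ℂ) * (s : ℂ) / (D : ℂ) * ((δ : ℂ) * orbVal ψ y) =
              (δ : ℂ) * (s : ℂ) ^ 2 / (D : ℂ) * orbVal ψ y by ring],
          ← Finset.mul_sum, sum_orbVal hF hy, hm]
        push_cast; ring
  -- the vanishing
  have hy1 : (y : G) ≠ 1 := fun h => hy (Subtype.ext h)
  have hT := principal_triple hM ht (pPart_mem y.2) (no_pair hF hm ht hy hgood)
  rw [show (∑ χ ∈ Finset.univ.filter (fun χ : IrrCharacter G => χ ∈ principalBlock M G),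
      (χ : G → ℂ) t * (χ : G → ℂ) t / (χ : G → ℂ) 1 * (χ : G → ℂ) y) =
      ∑ᶠ χ ∈ principalBlock M G, (χ : G → ℂ) t * (χ : G → ℂ) t / (χ : G → ℂ) 1 * (χ : G → ℂ) y by
    rw [finsum_mem_eq_toFinset_sum]; exact Finset.sum_congr (by ext; simp) fun _ _ => rfl,
    hXY, finsum_mem_union hdis (Set.toFinite _) (Set.toFinite _), hsumX] at hT
  have hd2 : (charDegree (χ₂ : G → ℂ) : ℂ) ≠ 0 := Nat.cast_ne_zero.mpr (charDegree_pos χ₂).ne'
  have hd3 : (charDegree (χ₃ : G → ℂ) : ℂ) ≠ 0 := Nat.cast_ne_zero.mpr (charDegree_pos χ₃).ne'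
  have hDpos : 0 < D := by rw [hD]; exact_mod_cast charDegree_pos η₀
  have hD0 : (D : ℂ) ≠ 0 := Int.cast_ne_zero.mpr hDpos.ne'
  rw [(hX χ₂ hm2'.1).2 y y (isPPart_self (pPart_mem y.2)) y.2 hy1,
    (hX χ₃ hm3'.1).2 y y (isPPart_self (pPart_mem y.2)) y.2 hy1, h1, hx₂, hx₃,
    charDegree_cast χ₂, charDegree_cast χ₃] at hT
  have e3 : D * (charDegree (χ₂ : G → ℂ) : ℤ) * (charDegree (χ₃ : G → ℂ) : ℤ) +
      -δ * s ^ 2 * (charDegree (χ₂ : G → ℂ) : ℤ) * (charDegree (χ₃ : G → ℂ) : ℤ) +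
      a χ₂ * x₂ ^ 2 * D * (charDegree (χ₃ : G → ℂ) : ℤ) +
      a χ₃ * x₃ ^ 2 * D * (charDegree (χ₂ : G → ℂ) : ℤ) = 0 := by
    have hY' : ∑ᶠ η ∈ Y, (η : G → ℂ) t * (η : G → ℂ) t / (η : G → ℂ) 1 * (η : G → ℂ) y =
        -(δ : ℂ) * (s : ℂ) ^ 2 / (D : ℂ) := by linear_combination (1 / 3 : ℂ) * hsum3
    rw [hY'] at hT
    have h' : ((D * (charDegree (χ₂ : G → ℂ) : ℤ) * (charDegree (χ₃ : G → ℂ) : ℤ) +
      -δ * s ^ 2 * (charDegree (χ₂ : G → ℂ) : ℤ) * (charDegree (χ₃ : G → ℂ) : ℤ) +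
      a χ₂ * x₂ ^ 2 * D * (charDegree (χ₃ : G → ℂ) : ℤ) +
      a χ₃ * x₃ ^ 2 * D * (charDegree (χ₂ : G → ℂ) : ℤ) : ℤ) : ℂ) = ((0 : ℤ) : ℂ) := by
      field_simp at hT
      push_cast
      linear_combination hT
    exact_mod_cast h'
  have k : ∀ χ : IrrCharacter G, χ ≠ χ₁ → ∀ x : ℤ, (χ : G → ℂ) t = (x : ℂ) →
      x ≠ (charDegree (χ : G → ℂ) : ℤ) := fun χ hne x hx he => hne ((h1eq χ).mp
    (eq_triv_of_value_one hgen (by rw [hx, he, Int.cast_natCast, charDegree_cast])))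
  obtain ⟨hcount, hsq⟩ := signs_square hDpos (Int.natCast_pos.mpr (charDegree_pos χ₂))
    (Int.natCast_pos.mpr (charDegree_pos χ₃)) (c₁ := -δ) (by omega) (hX χ₂ hm2'.1).1
    (hX χ₃ hm3'.1).1 e1 e2 e3 k₁ (k χ₂ hm2'.2 x₂ hx₂) (k χ₃ hm3'.2 x₃ hx₃)
  have hset : {χ : IrrCharacter G | χ ∈ X ∧ (χ : G → ℂ) ≠ fun _ => 1} = {χ₂, χ₃} := by
    rw [← hX']
    ext χ
    simp [h1eq]
  refine ⟨?_, fun η hη => ?_⟩
  · rw [Nat.card_eq_fintype_card, Fintype.card_subtype,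
      show (Finset.univ.filter fun χ : IrrCharacter G =>
          χ ∈ X ∧ (χ : G → ℂ) ≠ (fun _ => 1) ∧ a χ = -1) =
        ({χ₂, χ₃} : Finset (IrrCharacter G)).filter (fun χ => a χ = -1) from ?_,
      Finset.card_filter, Finset.sum_pair h23]
    · refine Eq.trans ?_ hcount
      congr 1
      exact if_congr (by omega) rfl rfl
    · ext χ
      have := Set.ext_iff.mp hset χ
      simp only [Set.mem_setOf_eq, Set.mem_insert_iff, Set.mem_singleton_iff] at this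
      simp only [Finset.mem_filter, Finset.mem_univ, true_and, Finset.mem_insert,
        Finset.mem_singleton]
      tauto
  · rw [hset, finprod_mem_pair h23]
    have hηD : (charDegree (η : G → ℂ) : ℤ) = D := by
      have h := hdeg η hη
      rw [charDegree_cast] at h
      exact_mod_cast h
    rw [← hηD] at hsq
    obtain ⟨z, hz⟩ := hsq
    refine ⟨z.natAbs, ?_⟩
    have := congrArg Int.natAbs hz
    simpa [Int.natAbs_mul] using this

end Cfsg.Agent.Blocks.FrobN
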