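import Cfsg.Agent.Lib.Blocks.SmallCentMain
import Cfsg.Agent.Lib.Blocks.DefectOneCombi
import Cfsg.Agent.Lib.CT.SmallDegree
import Mathlib.GroupTheory.Transfer
import Mathlib.GroupTheory.FiniteAbelian.Duality
import Mathlib.Analysis.Complex.Polynomial.Basic
import Mathlib.RingTheory.RootsOfUnity.AlgebraicallyClosed

/-!
# The principal block when an abelian Sylow subgroup has a Frobenius normalizer action
-/

set_option linter.unusedSectionVars false
set_option linter.style.haveILetI false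

namespace Cfsg.Agent.Blocks.FrobN

open scoped ComplexConjugate Classical

universe u

variable {G : Type u} [Group G] [Fintype G] {p : ℕ} [hp : Fact p.Prime] (P : Sylow p G)

/-- The action on `P` of its normalizer. -/
noncomputable def aut : Subgroup (MulAut ↥(P : Subgroup G)) :=
  (Subgroup.normalizerMonoidHom (P : Subgroup G)).range

theorem card_aut {m : ℕ} (hm : (Subgroup.centralizer ((P : Subgroup G) : Set G)).relIndex
    (Subgroup.normalizer ((P : Subgroup G) : Set G)) = m) : Nat.card (aut P) = m := by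
  rw [aut, ← Nat.card_congr (QuotientGroup.quotientKerEquivRange _).toEquiv,
    Subgroup.normalizerMonoidHom_ker, ← hm]
  rfl

theorem mem_aut_iff (e : MulAut ↥(P : Subgroup G)) : e ∈ aut P ↔
    ∃ n ∈ Subgroup.normalizer ((P : Subgroup G) : Set G),
      ∀ w : ↥(P : Subgroup G), (e w : G) = n * w * n⁻¹ := by
  constructor
  · rintro ⟨n, rfl⟩
    exact ⟨n, n.2, fun w => rfl⟩
  · rintro ⟨n, hn, h⟩
    exact ⟨⟨n, hn⟩, MulEquiv.ext fun w => Subtype.ext (h w).symm⟩

/-- The centralizer condition. -/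
def IsFrob : Prop := ∀ y : G, y ∈ (P : Subgroup G) → y ≠ 1 →
  Subgroup.centralizer ({y} : Set G) ⊓ Subgroup.normalizer ((P : Subgroup G) : Set G) =
    Subgroup.centralizer ((P : Subgroup G) : Set G)

variable {P}

theorem aut_free (hF : IsFrob P) {e : MulAut ↥(P : Subgroup G)} (he : e ∈ aut P)
    {w : ↥(P : Subgroup G)} (hw : w ≠ 1) (hew : e w = w) : e = 1 := by
  obtain ⟨n, hn, h⟩ := (mem_aut_iff P e).mp he
  have hnw : n ∈ Subgroup.centralizer ({(w : G)} : Set G) := by
    rw [Subgroup.mem_centralizer_singleton_iff]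
    have := h w
    rw [hew] at this
    exact eq_mul_inv_iff_mul_eq.mp this ▸ rfl
  have hC : n ∈ Subgroup.centralizer ((P : Subgroup G) : Set G) :=
    hF w w.2 (fun h1 => hw (Subtype.ext h1)) ▸ Subgroup.mem_inf.mpr ⟨hnw, hn⟩
  refine MulEquiv.ext fun v => Subtype.ext ?_
  rw [h v, ← Subgroup.mem_centralizer_iff.mp hC v v.2, mul_inv_cancel_right]
  rfl

variable [hab : IsMulCommutative (P : Subgroup G)]

theorem comm (a b : ↥(P : Subgroup G)) : a * b = b * a := mul_comm' a b

theorem le_centralizer {y : G} (hy : y ∈ (P : Subgroup G)) :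
    (P : Subgroup G) ≤ Subgroup.centralizer ({y} : Set G) := fun x hx =>
  Subgroup.mem_centralizer_singleton_iff.mpr
    (congrArg Subtype.val (comm (⟨x, hx⟩ : ↥(P : Subgroup G)) ⟨y, hy⟩))

/-- Centralizers of non-identity elements of `P` have normal `p`-complements. -/
theorem complement (hF : IsFrob P) {y : G} (hy : y ∈ (P : Subgroup G)) (hy1 : y ≠ 1) :
    ∃ k : ℕ, (pPrimeCore p (Subgroup.centralizer ({y} : Set G))).index = p ^ k := by
  set H := Subgroup.centralizer ({y} : Set G) with hH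
  set Q : Sylow p H := P.subtype (le_centralizer hy)
  have hQ : Subgroup.normalizer ((Q : Subgroup H) : Set H) ≤
      Subgroup.centralizer ((Q : Subgroup H) : Set H) := by
    intro g hg
    have hgN : (g : G) ∈ Subgroup.normalizer ((P : Subgroup G) : Set G) := by
      rw [Subgroup.mem_normalizer_iff] at hg ⊢
      intro x
      constructor
      · intro hx
        have := (hg ⟨x, le_centralizer hy hx⟩).mp hx
        exact this
      · intro hx
        have hxH : x ∈ H := by
          have : g⁻¹.1 * ((g : G) * x * (g : G)⁻¹) * g.1 ∈ H :=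
            H.mul_mem (H.mul_mem g⁻¹.2 (le_centralizer hy hx)) g.2
          simpa [mul_assoc] using this
        exact (hg ⟨x, hxH⟩).mpr hx
    have hC : (g : G) ∈ Subgroup.centralizer ((P : Subgroup G) : Set G) :=
      hF y hy hy1 ▸ Subgroup.mem_inf.mpr ⟨g.2, hgN⟩
    exact Subgroup.mem_centralizer_iff.mpr fun x hx =>
      Subtype.ext (Subgroup.mem_centralizer_iff.mp hC x hx)
  set K := (MonoidHom.transferSylow Q hQ).ker
  have hc := MonoidHom.ker_transferSylow_isComplement' Q hQ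
  have hKQ : K.index = Nat.card (Q : Subgroup H) := hc.symm.index_eq_card
  obtain ⟨k, hk⟩ := IsPGroup.iff_card.mp Q.isPGroup'
  have hle : K ≤ pPrimeCore p H := by
    refine le_sSup ⟨inferInstance, ?_⟩
    rw [Nat.coprime_comm, hp.out.coprime_iff_not_dvd]
    exact MonoidHom.not_dvd_card_ker_transferSylow Q hQ
  obtain ⟨i, -, hi⟩ := (Nat.dvd_prime_pow hp.out).mp
    (hk ▸ hKQ ▸ Subgroup.index_dvd_of_le hle)
  exact ⟨i, hi⟩

theorem conj_in_aut {y y' : ↥(P : Subgroup G)} (h : IsConj (y : G) y') :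
    ∃ e ∈ aut P, e y = y' := by
  obtain ⟨g, hg⟩ := isConj_iff.mp h
  have h1 : (y : G) ∈ Subgroup.centralizer ((P : Subgroup G) : Set G) :=
    Subgroup.mem_centralizer_iff.mpr fun x hx => congrArg Subtype.val (comm ⟨x, hx⟩ y)
  have h2 : g⁻¹⁻¹ * (y : G) * g⁻¹ ∈ Subgroup.centralizer ((P : Subgroup G) : Set G) := by
    rw [inv_inv, hg]
    exact Subgroup.mem_centralizer_iff.mpr fun x hx => congrArg Subtype.val (comm ⟨x, hx⟩ y')
  obtain ⟨n, hn, hne⟩ := Sylow.conj_eq_normalizer_conj_of_mem_centralizer P (y : G) g⁻¹ h1 h2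
  rw [inv_inv, hg] at hne
  refine ⟨(Subgroup.normalizerMonoidHom (P : Subgroup G)) ⟨n⁻¹, inv_mem hn⟩, ⟨_, rfl⟩,
    Subtype.ext ?_⟩
  show n⁻¹ * (y : G) * n⁻¹⁻¹ = y'
  rw [inv_inv, ← hne]

variable {M : Ideal AlgInt} [M.IsPrime]

theorem pPart_mem {y : G} (hy : y ∈ (P : Subgroup G)) : ∃ k : ℕ, y ^ p ^ k = 1 :=
  exists_pow_eq_one_of_isPGroup P.2 hy

theorem dvd_orderOf {y : G} (hy : y ∈ (P : Subgroup G)) (hy1 : y ≠ 1) : p ∣ orderOf y := by
  obtain ⟨k, hk⟩ := pPart_mem hy
  obtain ⟨i, -, hi⟩ := (Nat.dvd_prime_pow hp.out).mp (orderOf_dvd_of_pow_eq_one hk)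
  rcases Nat.eq_zero_or_pos i with rfl | hi0
  · exact absurd (orderOf_eq_one_iff.mp (hi.trans (pow_zero _))) hy1
  · exact hi ▸ dvd_pow_self p hi0.ne'

/-- The principal block is constant on sections. -/
theorem value_section (hM : IsPModular p M) (hF : IsFrob P) {χ : IrrCharacter G}
    (hχ : χ ∈ principalBlock M G) {z y : G} (hz : IsPPart p z y) (hy : y ∈ (P : Subgroup G))
    (hy1 : y ≠ 1) : (χ : G → ℂ) z = (χ : G → ℂ) y := by
  obtain ⟨h, rfl, hcom, -, hh⟩ := hz
  set C := Subgroup.centralizer ({y} : Set G) with hC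
  letI := Fintype.ofFinite C
  have hyC : y ∈ C := Subgroup.mem_centralizer_singleton_iff.mpr rfl
  have hu := pPart_mem hy
  set hC' : C := ⟨h, Subgroup.mem_centralizer_singleton_iff.mpr hcom.symm.eq⟩ with hhC
  have hr : ¬ p ∣ orderOf hC' := by rwa [← Subgroup.orderOf_coe]
  have e1 := SmallCent.principal_value hM hu C rfl hyC hχ hr
  have e2 := SmallCent.principal_value hM hu C rfl hyC hχ (y := (1 : C))
    (by rw [orderOf_one]; exact hp.out.not_dvd_one)
  rw [OneMemClass.coe_one, mul_one] at e2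
  rw [show y * h = y * (hC' : G) from rfl, e1, e2]
  have hnc := complement hF hy hy1
  refine Finset.sum_congr rfl fun η hη => ?_
  rw [Finset.mem_filter] at hη
  have hmem := Cfsg.Agent.S0939.result p M hM hnc
  haveI : (pPrimeCore p C).Normal := Basics.pPrimeCore_normal p
  have hk : hC' ∈ pPrimeCore p C := mem_of_pow_index hnc hr
  congr 1
  rw [mul_one]
  exact (CT.mem_kerChar_iff (CT.isCharacter_of_isIrr η.2)).mpr
    (apply_eq_one_of_mem_principalBlock hM (Basics.not_dvd_card_pPrimeCore p) hη.2 hk) _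

theorem norm_sq (hM : IsPModular p M) (hF : IsFrob P) {y : G} (hy : y ∈ (P : Subgroup G))
    (hy1 : y ≠ 1) :
    ∑ χ ∈ Finset.univ.filter (fun χ : IrrCharacter G => χ ∈ principalBlock M G),
      (χ : G → ℂ) y * conj ((χ : G → ℂ) y) = (Nat.card (P : Subgroup G) : ℂ) := by
  have h := section_sums hM (pPart_mem hy)
    (y := (1 : Subgroup.centralizer ({y} : Set G))) (by rw [orderOf_one]; exact hp.out.not_dvd_one)
  rw [sum_sq_of_normal_complement hM (complement hF hy hy1)
    (by rw [orderOf_one]; exact hp.out.not_dvd_one), finsum_mem_eq_toFinset_sum] at h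
  have hcard : p ^ (Nat.card (Subgroup.centralizer ({y} : Set G))).factorization p =
      Nat.card (P : Subgroup G) := by
    rw [← (P.subtype (le_centralizer hy)).card_eq_multiplicity, P.coe_subtype]
    exact Nat.card_congr (Subgroup.subgroupOfEquivOfLe (le_centralizer hy)).toEquiv
  rw [hcard] at h
  have h2 := congrArg (fun r : ℝ => (r : ℂ)) h
  simp only [Complex.ofReal_sum, Complex.ofReal_natCast, OneMemClass.coe_one, mul_one] at h2
  rw [← h2]
  refine Finset.sum_congr (by ext; simp) fun χ _ => ?_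
  rw [Complex.mul_conj, Complex.normSq_eq_norm_sq, Complex.ofReal_pow]

/-- Orthogonality of the principal block on `P`. -/
theorem column (hM : IsPModular p M) (hF : IsFrob P) {y y' : ↥(P : Subgroup G)} (hy : y ≠ 1)
    (hy' : y' ≠ 1) :
    ∑ χ ∈ Finset.univ.filter (fun χ : IrrCharacter G => χ ∈ principalBlock M G),
      (χ : G → ℂ) y * conj ((χ : G → ℂ) y') =
    (Nat.card (P : Subgroup G) : ℂ) *
      ∑ e : aut P, if (e : MulAut ↥(P : Subgroup G)) y = y' then (1 : ℂ) else 0 := by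
  by_cases hc : ∃ e : aut P, (e : MulAut ↥(P : Subgroup G)) y = y'
  · obtain ⟨e, he⟩ := hc
    rw [Finset.sum_eq_single e, if_pos he, mul_one]
    · obtain ⟨n, -, hn⟩ := (mem_aut_iff P _).mp e.2
      have hv : ∀ χ : IrrCharacter G, (χ : G → ℂ) y' = (χ : G → ℂ) y := fun χ => by
        rw [← he, hn y]; exact CT.isClassFunction_of_isIrr χ.2 y n
      simp only [hv]
      exact norm_sq hM hF y.2 fun h => hy (Subtype.ext h)
    · intro e' _ hne
      refine if_neg fun he' => hne ?_
      have := aut_free hF (mul_mem (inv_mem e.2) e'.2) hy (w := y) (by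
        show (e : MulAut ↥(P : Subgroup G))⁻¹ ((e' : MulAut ↥(P : Subgroup G)) y) = y
        rw [he', ← he]
        exact (e : MulAut ↥(P : Subgroup G)).symm_apply_apply y)
      exact Subtype.ext (inv_mul_eq_one.mp this).symm
    · exact fun h => absurd (Finset.mem_univ e) h
  · push Not at hc
    rw [Finset.sum_eq_zero fun e _ => if_neg (hc e), mul_zero]
    have hnot : ¬ IsConj (y : G) y' := fun h => by
      obtain ⟨e, he, hey⟩ := conj_in_aut h
      exact hc ⟨e, he⟩ hey
    have h0 := block_orthogonality hM (blockCoeff_mem_loc (isPBlock_principalBlock (M := M) (G := G)))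
      (isPPart_self (pPart_mem y.2)) (isPPart_self (pPart_mem y'.2)) hnot
    rw [finsum_mem_eq_toFinset_sum] at h0
    exact (Finset.sum_congr (by ext; simp) fun _ _ => rfl).trans h0

/-- No member of the principal block vanishes on `P`. -/
theorem value_ne_zero (hM : IsPModular p M) {χ : IrrCharacter G} (hχ : χ ∈ principalBlock M G)
    {y : G} (hy : y ∈ (P : Subgroup G)) : (χ : G → ℂ) y ≠ 0 := by
  intro h0
  have h := hχ y
  simp only [centralChar, h0, mul_zero, zero_div, mul_one, div_one, sub_zero] at h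
  rw [memLocalIdeal_natCast hM] at h
  exact P.not_dvd_index (h.trans (Subgroup.index_dvd_of_le (le_centralizer hy)))

section Dual

variable (P)

/-- The linear characters of `P`. -/
abbrev Lin : Type u := ↥(P : Subgroup G) →* ℂˣ

omit hab in
/-- A linear character as a function. -/
noncomputable def chF (ψ : Lin P) : ↥(P : Subgroup G) → ℂ := fun w => ((ψ w : ℂˣ) : ℂ)

omit hab in
theorem isIrr_chF (ψ : Lin P) : IsIrrCharacter ↥(P : Subgroup G) (chF P ψ) := by
  letI := Fintype.ofFinite ↥(P : Subgroup G)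
  simpa [chF] using! CT.SmallDeg.isIrr_lin_mul ψ (CT.trivIrr ↥(P : Subgroup G)).2

theorem card_lin : Nat.card (Lin P) = Nat.card (P : Subgroup G) := by
  letI : CommGroup ↥(P : Subgroup G) := { (inferInstance : Group ↥(P : Subgroup G)) with mul_comm := comm }
  exact CommGroup.card_monoidHom_of_hasEnoughRootsOfUnity ↥(P : Subgroup G) ℂ

instance : Finite (Lin P) := Nat.finite_of_card_ne_zero (card_lin P ▸ Nat.card_pos.ne')

noncomputable instance : Fintype (Lin P) := Fintype.ofFinite _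

variable {P}

theorem sum_lin {w : ↥(P : Subgroup G)} (hw : w ≠ 1) : ∑ ψ : Lin P, chF P ψ w = 0 := by
  letI : CommGroup ↥(P : Subgroup G) := { (inferInstance : Group ↥(P : Subgroup G)) with mul_comm := comm }
  obtain ⟨φ, hφ⟩ := CommGroup.exists_apply_ne_one_of_hasEnoughRootsOfUnity ↥(P : Subgroup G) ℂ hw
  have h : ((φ w : ℂˣ) : ℂ) * ∑ ψ : Lin P, chF P ψ w = ∑ ψ : Lin P, chF P ψ w := by
    rw [Finset.mul_sum]
    exact Fintype.sum_equiv (Equiv.mulLeft φ) _ _ fun ψ => by simp [chF]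
  by_contra hne
  exact hφ (Units.val_eq_one.mp ((mul_eq_right₀ hne).mp h))

omit hab in
theorem chF_conj (ψ : Lin P) (w : ↥(P : Subgroup G)) : conj (chF P ψ w) = chF P ψ w⁻¹ :=
  (CT.char_inv_eq_conj (CT.isCharacter_of_isIrr (isIrr_chF P ψ)) w).symm

theorem sum_lin_conj (y w : ↥(P : Subgroup G)) :
    ∑ ψ : Lin P, conj (chF P ψ y) * chF P ψ w =
      if y = w then (Nat.card (P : Subgroup G) : ℂ) else 0 := by
  have e : ∀ ψ : Lin P, conj (chF P ψ y) * chF P ψ w = chF P ψ (y⁻¹ * w) := fun ψ => by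
    rw [chF_conj]; simp [chF]
  simp only [e]
  split_ifs with h
  · subst h
    simp [chF, Finset.card_univ, ← Nat.card_eq_fintype_card, card_lin P]
  · exact sum_lin fun h1 => h (inv_mul_eq_one.mp h1)

/-- Multiplicity of a linear character minus that of the trivial one. -/
noncomputable def cc (χ : IrrCharacter G) (ψ : Lin P) : ℤ :=
  (CT.mult (fun w : ↥(P : Subgroup G) => (χ : G → ℂ) w) (chF P ψ) : ℤ) -
    CT.mult (fun w : ↥(P : Subgroup G) => (χ : G → ℂ) w) (chF P 1)

omit hab in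
theorem cc_one (χ : IrrCharacter G) : cc χ (1 : Lin P) = 0 := sub_self _

omit hab in
/-- The coefficient function attached to a linear character. -/
noncomputable def co (ψ : Lin P) (w : ↥(P : Subgroup G)) : ℂ :=
  (Nat.card (P : Subgroup G) : ℂ)⁻¹ * (conj (chF P ψ w) - 1)

omit hab in
theorem co_one (ψ : Lin P) : co ψ (1 : ↥(P : Subgroup G)) = 0 := by simp [co, chF]

omit hab in
theorem cc_eq (χ : IrrCharacter G) (ψ : Lin P) :
    (cc χ ψ : ℂ) = ∑ w : ↥(P : Subgroup G), (χ : G → ℂ) w * co ψ w := by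
  have hc := CT.isCharacter_restrict (P : Subgroup G) (CT.isCharacter_of_isIrr χ.2)
  have h : ∀ φ : Lin P,
      (CT.mult (fun w : ↥(P : Subgroup G) => (χ : G → ℂ) w) (chF P φ) : ℂ) =
        (Nat.card (P : Subgroup G) : ℂ)⁻¹ *
          ∑ w : ↥(P : Subgroup G), (χ : G → ℂ) w * conj (chF P φ w) := fun φ => by
    rw [← CT.mult_spec hc (CT.isCharacter_of_isIrr (isIrr_chF P φ))]
    rfl
  rw [cc, Int.cast_sub, Int.cast_natCast, Int.cast_natCast, h, h, ← mul_sub, ← Finset.sum_sub_distrib,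
    Finset.mul_sum]
  exact Finset.sum_congr rfl fun w _ => by
    rw [show chF P 1 w = 1 by simp [chF], map_one]; simp only [co]; ring

theorem expand (χ : IrrCharacter G) {y : ↥(P : Subgroup G)} (hy : y ≠ 1) :
    (χ : G → ℂ) y = ∑ ψ : Lin P, (cc χ ψ : ℂ) * chF P ψ y := by
  have hne : (Nat.card (P : Subgroup G) : ℂ) ≠ 0 := Nat.cast_ne_zero.mpr Nat.card_pos.ne'
  simp only [cc_eq, Finset.sum_mul]
  rw [Finset.sum_comm]
  simp only [co, mul_assoc, ← Finset.mul_sum, sub_mul, one_mul, Finset.sum_sub_distrib,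
    sum_lin_conj, sum_lin hy, sub_zero]
  rw [Finset.sum_eq_single y (fun w _ hw => by rw [if_neg hw]; simp) (by simp), if_pos rfl,
    inv_mul_cancel₀ hne, mul_one]

omit hab in
theorem sum_chF_eq (φ : Lin P) :
    ∑ w : ↥(P : Subgroup G), chF P φ w = if φ = 1 then (Nat.card (P : Subgroup G) : ℂ) else 0 := by
  split_ifs with h
  · simp [h, chF, Finset.card_univ, ← Nat.card_eq_fintype_card]
  · obtain ⟨v, hv⟩ : ∃ v, φ v ≠ 1 := by
      by_contra hall
      push Not at hall
      exact h (MonoidHom.ext hall)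
    have e : ((φ v : ℂˣ) : ℂ) * ∑ w, chF P φ w = ∑ w, chF P φ w := by
      rw [Finset.mul_sum]
      exact Fintype.sum_equiv (Equiv.mulLeft v) _ _ fun w => by simp [chF]
    by_contra hne
    exact hv (Units.val_eq_one.mp ((mul_eq_right₀ hne).mp e))

omit hab in
theorem sum_conj_chF (ψ φ : Lin P) :
    ∑ w : ↥(P : Subgroup G), conj (chF P ψ w) * chF P φ w =
      if φ = ψ then (Nat.card (P : Subgroup G) : ℂ) else 0 := by
  have e : ∀ w, conj (chF P ψ w) * chF P φ w = chF P (φ * ψ⁻¹) w := fun w => by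
    rw [chF_conj]; simp [chF, mul_comm]
  simp only [e, sum_chF_eq]
  exact if_congr ⟨fun h => MonoidHom.ext fun w => mul_inv_eq_one.mp (DFunLike.congr_fun h w),
    fun h => h ▸ MonoidHom.ext fun w => mul_inv_cancel _⟩ rfl rfl

omit hab in
/-- The action of an automorphism on linear characters. -/
def act (e : MulAut ↥(P : Subgroup G)) (ψ : Lin P) : Lin P := ψ.comp e.toMonoidHom

omit hab in
theorem chF_act (e : MulAut ↥(P : Subgroup G)) (ψ : Lin P) (w : ↥(P : Subgroup G)) :
    chF P (act e ψ) w = chF P ψ (e w) := rfl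

omit hab in
theorem act_eq_one_iff (e : MulAut ↥(P : Subgroup G)) (ψ : Lin P) : act e ψ = 1 ↔ ψ = 1 := by
  refine ⟨fun h => MonoidHom.ext fun w => ?_, fun h => by subst h; rfl⟩
  have := DFunLike.congr_fun h (e.symm w)
  simpa [act] using this

theorem act_free (hF : IsFrob P) {e : MulAut ↥(P : Subgroup G)} (he : e ∈ aut P) {ψ : Lin P}
    (hψ : ψ ≠ 1) (h : act e ψ = ψ) : e = 1 := by
  by_contra hne
  have hinj : Function.Injective fun w : ↥(P : Subgroup G) => e w * w⁻¹ := by
    intro a b hab'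
    simp only at hab'
    have hfix : e (b⁻¹ * a) = b⁻¹ * a := by
      rw [map_mul, map_inv]
      calc (e b)⁻¹ * e a = (e b)⁻¹ * ((e a * a⁻¹) * a) := by rw [inv_mul_cancel_right]
        _ = (e b)⁻¹ * (e b * b⁻¹ * a) := by rw [hab']
        _ = b⁻¹ * a := by rw [mul_assoc, inv_mul_cancel_left]
    by_contra hab''
    exact hne (aut_free hF he (fun h1 => hab'' (inv_mul_eq_one.mp h1).symm) hfix)
  refine hψ (MonoidHom.ext fun v => ?_)
  obtain ⟨w, hw⟩ := (Finite.injective_iff_surjective.mp hinj) v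
  simp only at hw
  have := DFunLike.congr_fun h w
  rw [← hw, map_mul, map_inv, show ψ (e w) = ψ w from this, mul_inv_cancel]
  rfl

omit hab in
theorem cc_act (χ : IrrCharacter G) {e : MulAut ↥(P : Subgroup G)} (he : e ∈ aut P) (ψ : Lin P) :
    cc χ (act e ψ) = cc χ ψ := by
  obtain ⟨n, -, hn⟩ := (mem_aut_iff P e).mp he
  have h : (cc χ (act e ψ) : ℂ) = (cc χ ψ : ℂ) := by
    simp only [cc_eq]
    refine Fintype.sum_equiv e.toEquiv _ _ fun w => ?_
    show (χ : G → ℂ) w * co (act e ψ) w = (χ : G → ℂ) (e w : ↥(P : Subgroup G)) * co ψ (e w)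
    rw [hn w, CT.isClassFunction_of_isIrr χ.2]
    rfl
  exact_mod_cast h

theorem gram (hM : IsPModular p M) (hF : IsFrob P) {ψ φ : Lin P} (hψ : ψ ≠ 1) (hφ : φ ≠ 1) :
    ∑ χ ∈ Finset.univ.filter (fun χ : IrrCharacter G => χ ∈ principalBlock M G),
      cc χ ψ * cc χ φ =
    (Nat.card (aut P) : ℤ) + if ∃ e ∈ aut P, act e φ = ψ then 1 else 0 := by
  have hne : (Nat.card (P : Subgroup G) : ℂ) ≠ 0 := Nat.cast_ne_zero.mpr Nat.card_pos.ne'
  set T := Finset.univ.filter (fun χ : IrrCharacter G => χ ∈ principalBlock M G) with hT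
  have key : ∀ y w : ↥(P : Subgroup G),
      co ψ y * conj (co φ w) * ∑ χ ∈ T, (χ : G → ℂ) y * conj ((χ : G → ℂ) w) =
      co ψ y * conj (co φ w) * ((Nat.card (P : Subgroup G) : ℂ) *
        ∑ e : aut P, if (e : MulAut ↥(P : Subgroup G)) y = w then (1 : ℂ) else 0) := by
    intro y w
    by_cases hy : y = 1
    · simp [hy, co_one]
    by_cases hw : w = 1
    · simp [hw, co_one]
    rw [hT, column hM hF hy hw]
  have hE : ∀ e : aut P,
      ∑ y : ↥(P : Subgroup G), co ψ y * conj (co φ ((e : MulAut ↥(P : Subgroup G)) y)) =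
        (Nat.card (P : Subgroup G) : ℂ)⁻¹ *
          ((if act (e : MulAut ↥(P : Subgroup G)) φ = ψ then 1 else 0) + 1) := by
    intro e
    have e1 : ∀ y, co ψ y * conj (co φ ((e : MulAut ↥(P : Subgroup G)) y)) =
        (Nat.card (P : Subgroup G) : ℂ)⁻¹ ^ 2 *
          (conj (chF P ψ y) * chF P (act (e : MulAut ↥(P : Subgroup G)) φ) y -
            chF P (act (e : MulAut ↥(P : Subgroup G)) φ) y - conj (chF P ψ y) + 1) := by
      intro y
      simp only [co, chF_act, map_mul, map_sub, map_one, map_inv₀, map_natCast, Complex.conj_conj]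
      ring
    have e2 : ∑ y, conj (chF P ψ y) = 0 := by
      rw [← map_sum, sum_chF_eq, if_neg hψ, map_zero]
    simp only [e1, ← Finset.mul_sum, Finset.sum_add_distrib, Finset.sum_sub_distrib, e2,
      sum_conj_chF, sum_chF_eq, if_neg (mt (act_eq_one_iff _ φ).mp hφ), Finset.sum_const,
      Finset.card_univ, ← Nat.card_eq_fintype_card, nsmul_eq_mul, mul_one, sub_zero]
    split_ifs <;> field_simp <;> ring
  have h : ((∑ χ ∈ T, cc χ ψ * cc χ φ : ℤ) : ℂ) =
      ∑ e : aut P, ((if act (e : MulAut ↥(P : Subgroup G)) φ = ψ then 1 else 0) + 1 : ℂ) := by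
    calc ((∑ χ ∈ T, cc χ ψ * cc χ φ : ℤ) : ℂ)
        = ∑ χ ∈ T, (cc χ ψ : ℂ) * conj (cc χ φ : ℂ) := by
          push_cast; exact Finset.sum_congr rfl fun χ _ => by rw [map_intCast]
      _ = ∑ y : ↥(P : Subgroup G), ∑ w : ↥(P : Subgroup G),
          co ψ y * conj (co φ w) * ∑ χ ∈ T, (χ : G → ℂ) y * conj ((χ : G → ℂ) w) := by
          rw [Finset.sum_congr rfl fun χ (_ : χ ∈ T) => by
            rw [cc_eq, cc_eq, map_sum, Finset.sum_mul_sum], Finset.sum_comm]
          refine Finset.sum_congr rfl fun y _ => ?_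
          rw [Finset.sum_comm]
          refine Finset.sum_congr rfl fun w _ => ?_
          rw [Finset.mul_sum]
          exact Finset.sum_congr rfl fun χ _ => by rw [map_mul]; ring
      _ = ∑ e : aut P, (Nat.card (P : Subgroup G) : ℂ) *
          ∑ y : ↥(P : Subgroup G), co ψ y * conj (co φ ((e : MulAut ↥(P : Subgroup G)) y)) := by
          simp only [key, Finset.mul_sum]
          rw [Finset.sum_comm (γ := ↥(aut P))]
          refine Finset.sum_congr rfl fun y _ => ?_
          rw [Finset.sum_comm]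
          refine Finset.sum_congr rfl fun e _ => ?_
          rw [Finset.sum_eq_single ((e : MulAut ↥(P : Subgroup G)) y)
            (fun w _ hw => by rw [if_neg hw.symm]; ring) (by simp), if_pos rfl]
          ring
      _ = _ := Finset.sum_congr rfl fun e _ => by rw [hE, ← mul_assoc, mul_inv_cancel₀ hne, one_mul]
  have hcount : ∑ e : aut P, (if act (e : MulAut ↥(P : Subgroup G)) φ = ψ then (1 : ℂ) else 0) =
      if ∃ e ∈ aut P, act e φ = ψ then 1 else 0 := by
    split_ifs with hex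
    · obtain ⟨e, he, hee⟩ := hex
      rw [Finset.sum_eq_single (⟨e, he⟩ : aut P), if_pos hee]
      · intro e' _ hne'
        refine if_neg fun he' => hne' (Subtype.ext ?_)
        have h2 : act (e'.1 * e⁻¹) φ = φ → e'.1 * e⁻¹ = 1 :=
          act_free hF (mul_mem e'.2 (inv_mem he)) hφ
        refine mul_inv_eq_one.mp (h2 (MonoidHom.ext fun w => ?_))
        show φ (e'.1 (e.symm w)) = φ w
        rw [show φ (e'.1 (e.symm w)) = ψ (e.symm w) from DFunLike.congr_fun he' _, ← hee]
        show φ (e (e.symm w)) = φ w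
        rw [MulEquiv.apply_symm_apply]
      · exact fun h => absurd (Finset.mem_univ _) h
    · exact Finset.sum_eq_zero fun e _ => if_neg fun he => hex ⟨e.1, e.2, he⟩
  rw [Finset.sum_add_distrib, hcount, Finset.sum_const, Finset.card_univ, nsmul_eq_mul, mul_one,
    ← Nat.card_eq_fintype_card, add_comm] at h
  have h' : ((∑ χ ∈ T, cc χ ψ * cc χ φ : ℤ) : ℂ) =
      (((Nat.card (aut P) : ℤ) + if ∃ e ∈ aut P, act e φ = ψ then 1 else 0 : ℤ) : ℂ) := by
    rw [h]; split_ifs <;> simp
  exact_mod_cast h'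

theorem sum_cc_regular (hM : IsPModular p M) (ψ : Lin P) {g : G} (hg : ¬ p ∣ orderOf g) :
    ∑ χ ∈ Finset.univ.filter (fun χ : IrrCharacter G => χ ∈ principalBlock M G),
      (cc χ ψ : ℂ) * (χ : G → ℂ) g = 0 := by
  simp only [cc_eq, Finset.sum_mul]
  rw [Finset.sum_comm]
  refine Finset.sum_eq_zero fun w _ => ?_
  by_cases hw : w = 1
  · simp [hw, co_one]
  have h := weak_orthogonality' hM (blockCoeff_mem_loc (isPBlock_principalBlock (M := M) (G := G)))
    (dvd_orderOf w.2 fun h => hw (Subtype.ext h)) (h := g⁻¹) (by rwa [orderOf_inv])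
  rw [finsum_mem_eq_toFinset_sum] at h
  calc _ = co ψ w * ∑ χ ∈ Finset.univ.filter (fun χ : IrrCharacter G => χ ∈ principalBlock M G),
        (χ : G → ℂ) w * conj ((χ : G → ℂ) g⁻¹) := by
        rw [Finset.mul_sum]
        refine Finset.sum_congr rfl fun χ _ => ?_
        rw [CT.char_inv_eq_conj (CT.isCharacter_of_isIrr χ.2), Complex.conj_conj]
        ring
    _ = 0 := by
        rw [(Finset.sum_congr (by ext; simp) fun _ _ => rfl).trans h, mul_zero]

/-- An orbit of linear characters. -/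
noncomputable def orb (ψ : Lin P) : Finset (Lin P) :=
  Finset.univ.image fun e : aut P => act (e : MulAut ↥(P : Subgroup G)) ψ

theorem mem_orb {ψ φ : Lin P} : φ ∈ orb ψ ↔ ∃ e ∈ aut P, act e ψ = φ := by
  simp [orb]

theorem self_mem_orb (ψ : Lin P) : ψ ∈ orb ψ := mem_orb.mpr ⟨1, one_mem _, rfl⟩

theorem orb_eq {ψ φ : Lin P} (h : φ ∈ orb ψ) : orb φ = orb ψ := by
  obtain ⟨e, he, rfl⟩ := mem_orb.mp h
  ext θ
  simp only [mem_orb]
  constructor
  · rintro ⟨f, hf, rfl⟩
    exact ⟨e * f, mul_mem he hf, rfl⟩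
  · rintro ⟨f, hf, rfl⟩
    exact ⟨e⁻¹ * f, mul_mem (inv_mem he) hf, MonoidHom.ext fun w => by
      show ψ (e (e.symm (f w))) = ψ (f w)
      rw [MulEquiv.apply_symm_apply]⟩

theorem ne_one_of_mem_orb {ψ φ : Lin P} (hψ : ψ ≠ 1) (h : φ ∈ orb ψ) : φ ≠ 1 := by
  obtain ⟨e, -, rfl⟩ := mem_orb.mp h
  exact fun h1 => hψ ((act_eq_one_iff e ψ).mp h1)

theorem card_orb (hF : IsFrob P) {ψ : Lin P} (hψ : ψ ≠ 1) :
    (orb ψ).card = Nat.card (aut P) := by
  rw [orb, Finset.card_image_of_injective, Finset.card_univ, Nat.card_eq_fintype_card]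
  intro a b hab'
  simp only at hab'
  have h : (a : MulAut ↥(P : Subgroup G)) * (b : MulAut ↥(P : Subgroup G))⁻¹ = 1 :=
    act_free hF (mul_mem a.2 (inv_mem b.2)) hψ (MonoidHom.ext fun w => by
      show ψ (a.1 (b.1.symm w)) = ψ w
      rw [show ψ (a.1 (b.1.symm w)) = ψ (b.1 (b.1.symm w)) from DFunLike.congr_fun hab' _,
        MulEquiv.apply_symm_apply])
  exact Subtype.ext (mul_inv_eq_one.mp h)

theorem cc_orb (χ : IrrCharacter G) {ψ φ : Lin P} (h : φ ∈ orb ψ) : cc χ φ = cc χ ψ := by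
  obtain ⟨e, he, rfl⟩ := mem_orb.mp h
  exact cc_act χ he ψ

end Dual

end Cfsg.Agent.Blocks.FrobN
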