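import Cfsg.Agent.Lib.Blocks.FrobNormalizer
import Cfsg.Agent.Lib.Blocks.DefectOneTools

/-!
# The structure of the principal block for a Frobenius normalizer action
-/

set_option linter.unusedSectionVars false
set_option linter.style.haveILetI false

namespace Cfsg.Agent.Blocks.FrobN

open scoped ComplexConjugate Classical

universe u

variable {G : Type u} [Group G] [Fintype G] {p : ℕ} [hp : Fact p.Prime] {P : Sylow p G}
variable [hab : IsMulCommutative (P : Subgroup G)]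
variable {M : Ideal AlgInt} [M.IsPrime]

theorem cc_trivIrr {ψ : Lin P} (hψ : ψ ≠ 1) : cc (CT.trivIrr G) ψ = -1 := by
  have h : (cc (CT.trivIrr G) ψ : ℂ) = -1 := by
    rw [cc_eq]
    simp only [CT.trivIrr_apply, one_mul, co, ← Finset.mul_sum, Finset.sum_sub_distrib]
    rw [show ∑ w, conj (chF P ψ w) = 0 by rw [← map_sum, sum_chF_eq, if_neg hψ, map_zero],
      Finset.sum_const, Finset.card_univ, ← Nat.card_eq_fintype_card, nsmul_eq_mul, mul_one,
      zero_sub, mul_neg, inv_mul_cancel₀ (Nat.cast_ne_zero.mpr Nat.card_pos.ne')]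
  exact_mod_cast h

/-- The set of conjugates used in the statements. -/
theorem orb_coe (ψ : Lin P) :
    {ψ' : Lin P | ∃ n : G, n ∈ Subgroup.normalizer ((P : Subgroup G) : Set G) ∧
      ∀ w w' : ↥(P : Subgroup G), (w' : G) = n * w * n⁻¹ → ψ' w' = ψ w} = ↑(orb ψ) := by
  ext φ
  rw [Set.mem_setOf_eq, Finset.mem_coe, mem_orb]
  constructor
  · rintro ⟨n, hn, h⟩
    set e := (Subgroup.normalizerMonoidHom (P : Subgroup G)) ⟨n, hn⟩ with he
    refine ⟨e⁻¹, inv_mem ⟨_, rfl⟩, MonoidHom.ext fun v => ?_⟩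
    show ψ (e.symm v) = φ v
    rw [← h (e.symm v) v]
    conv_lhs => rw [← e.apply_symm_apply v]
    rfl
  · rintro ⟨e, he, rfl⟩
    obtain ⟨n, hn, hne⟩ := (mem_aut_iff P _).mp (inv_mem he)
    refine ⟨n, hn, fun w w' hw => ?_⟩
    have hw' : w' = e.symm w := Subtype.ext (hw.trans (hne w).symm)
    show ψ (e w') = ψ w
    rw [hw', MulEquiv.apply_symm_apply]

/-- The structure of the principal block. -/
theorem exists_structure (hM : IsPModular p M) (hF : IsFrob P) {m : ℕ}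
    (hm : Nat.card (aut P) = m) (hm2 : m + 1 < Nat.card (P : Subgroup G)) :
    ∃ (X Y : Set (IrrCharacter G)) (a : IrrCharacter G → ℤ) (d δ : ℤ) (ζ : Lin P → IrrCharacter G),
      principalBlock M G = X ∪ Y ∧ Disjoint X Y ∧ Nat.card Y = (Nat.card (P : Subgroup G) - 1) / m ∧
      2 ≤ (Nat.card (P : Subgroup G) - 1) / m ∧
      (∃ χ₁ ∈ X, (χ₁ : G → ℂ) = (fun _ => 1) ∧ a χ₁ = 1) ∧ (δ = 1 ∨ δ = -1) ∧
      (∀ χ ∈ X, a χ ≠ 0 ∧ ∀ z y : G, IsPPart p z y → y ∈ (P : Subgroup G) → y ≠ 1 →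
        (χ : G → ℂ) z = (a χ : ℂ)) ∧
      (∀ ψ : Lin P, ψ ≠ 1 → ζ ψ ∈ Y) ∧ (∀ η ∈ Y, ∃ ψ : Lin P, ψ ≠ 1 ∧ ζ ψ = η) ∧
      (∀ ψ ψ' : Lin P, ψ ≠ 1 → ψ' ∈ orb ψ → ζ ψ' = ζ ψ) ∧
      (∀ ψ : Lin P, ψ ≠ 1 → ∀ (z : G) (y : ↥(P : Subgroup G)), IsPPart p z (y : G) → (y : G) ≠ 1 →
        (ζ ψ : G → ℂ) z = (d : ℂ) + (δ : ℂ) * ∑ ψ' ∈ orb ψ, chF P ψ' y) ∧
      ((d - δ) ^ 2 + ((Nat.card (P : Subgroup G) - 1) / m - 1 : ℤ) * d ^ 2 + ∑ᶠ χ ∈ X, a χ ^ 2 =
        (m : ℤ) + 1) ∧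
      (∀ η ∈ Y, ∀ η' ∈ Y, ∀ g : G, ¬ p ∣ orderOf g → (η : G → ℂ) g = (η' : G → ℂ) g) ∧
      (∀ η ∈ Y, ∀ g : G, ¬ p ∣ orderOf g →
        ((((Nat.card (P : Subgroup G) - 1) / m : ℕ) : ℂ) * d - δ) * (η : G → ℂ) g +
          ∑ᶠ χ ∈ X, (a χ : ℂ) * (χ : G → ℂ) g = 0) := by
  -- the orbits
  set L : Finset (Lin P) := Finset.univ.filter (· ≠ 1) with hL
  set Js : Finset (Finset (Lin P)) := L.image orb with hJs
  let J := ↥Js
  have hrep : ∀ j : J, ∃ ψ : Lin P, ψ ≠ 1 ∧ orb ψ = j.1 := fun j => by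
    obtain ⟨ψ, hψ, h⟩ := Finset.mem_image.mp j.2
    exact ⟨ψ, (Finset.mem_filter.mp hψ).2, h⟩
  choose rep hrep1 hrepo using hrep
  have hjm : ∀ ψ : Lin P, ψ ≠ 1 → orb ψ ∈ Js := fun ψ hψ =>
    Finset.mem_image_of_mem _ (Finset.mem_filter.mpr ⟨Finset.mem_univ _, hψ⟩)
  have hccrep : ∀ (χ : IrrCharacter G) (ψ : Lin P) (hψ : ψ ≠ 1),
      cc χ ψ = cc χ (rep ⟨orb ψ, hjm ψ hψ⟩) := fun χ ψ hψ =>
    cc_orb χ (by rw [hrepo]; exact self_mem_orb ψ)
  have hmpos : 0 < m := hm ▸ Nat.card_pos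
  have hJcard : Fintype.card J * m = Nat.card (P : Subgroup G) - 1 := by
    have h1 : L.card = ∑ o ∈ Js, (L.filter fun ψ => orb ψ = o).card :=
      Finset.card_eq_sum_card_fiberwise fun ψ hψ => Finset.mem_image_of_mem _ hψ
    have h2 : ∀ o ∈ Js, (L.filter fun ψ => orb ψ = o).card = m := by
      intro o ho
      obtain ⟨ψ, hψ, rfl⟩ := Finset.mem_image.mp ho
      have hψ1 := (Finset.mem_filter.mp hψ).2
      rw [← hm, ← card_orb hF hψ1]
      congr 1
      ext φ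
      simp only [Finset.mem_filter, hL, Finset.mem_univ, true_and]
      exact ⟨fun h => h.2 ▸ self_mem_orb φ, fun h => ⟨ne_one_of_mem_orb hψ1 h, orb_eq h⟩⟩
    rw [Finset.sum_congr rfl h2, Finset.sum_const, smul_eq_mul] at h1
    rw [Fintype.card_coe, ← h1, hL, Finset.filter_ne', Finset.card_erase_of_mem (Finset.mem_univ _),
      Finset.card_univ, ← Nat.card_eq_fintype_card, card_lin P]
  have hrq : (Nat.card (P : Subgroup G) - 1) / m = Fintype.card J := by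
    rw [← hJcard, Nat.mul_div_cancel _ hmpos]
  have hr2 : 2 ≤ Fintype.card J := by
    by_contra hlt
    have : Fintype.card J * m ≤ 1 * m := Nat.mul_le_mul_right _ (by omega)
    omega
  obtain ⟨j₁, j₀, hne⟩ := Fintype.exists_pair_of_one_lt_card (by omega : 1 < Fintype.card J)
  -- the vectors
  let B0 := Finset.univ.filter (fun χ : IrrCharacter G => χ ∈ principalBlock M G)
  let Φ := ↥B0
  let A : Φ → J → ℤ := fun χ j => cc χ.1 (rep j)
  let w : Φ → ℤ := fun χ => charDegree (χ.1 : G → ℂ)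
  have hg : ∀ j k, ∑ χ, A χ j * A χ k = (m : ℤ) + if j = k then 1 else 0 := by
    intro j k
    rw [Finset.sum_coe_sort B0 (fun χ => cc χ (rep j) * cc χ (rep k)), gram hM hF (hrep1 j) (hrep1 k), hm]
    congr 1
    refine if_congr ?_ rfl rfl
    constructor
    · intro h
      apply Subtype.ext
      rw [← hrepo j, ← hrepo k]
      exact orb_eq (mem_orb.mpr h)
    · rintro rfl
      exact mem_orb.mp (self_mem_orb _)
  have hw : ∀ χ, 0 < w χ := fun χ => by
    exact Int.natCast_pos.mpr (charDegree_pos χ.1)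
  have hregA : ∀ j (g : G), ¬ p ∣ orderOf g → ∑ χ : Φ, (A χ j : ℂ) * (χ.1 : G → ℂ) g = 0 := by
    intro j g hg'
    rw [Finset.sum_coe_sort B0 (fun χ => (cc χ (rep j) : ℂ) * (χ : G → ℂ) g)]
    exact sum_cc_regular hM _ hg'
  have h0 : ∀ j, ∑ χ, w χ * A χ j = 0 := by
    intro j
    have h := hregA j 1 (by rw [orderOf_one]; exact hp.out.not_dvd_one)
    have h' : ((∑ χ, w χ * A χ j : ℤ) : ℂ) = ((0 : ℤ) : ℂ) := by
      rw [Int.cast_zero, ← h]
      push_cast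
      exact Finset.sum_congr rfl fun χ _ => by
        simp only [w, Int.cast_natCast, ← charDegree_cast]; ring
    exact_mod_cast h'
  obtain ⟨c, ε, b, hε, hinj, hform, hb, -⟩ := D1.Combi.exists_sunflower hg w hw h0 j₀ j₁ hne
  set u := b (c j₀) with hu
  have hbc : ∀ j, b (c j) = u := fun j => hb j j₀
  let Yf : Finset Φ := Finset.univ.image c
  let X : Set (IrrCharacter G) := Subtype.val '' ((↑(Yfᶜ) : Set Φ))
  let Y : Set (IrrCharacter G) := Subtype.val '' (↑Yf : Set Φ)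
  let a : IrrCharacter G → ℤ := fun χ => if h : χ ∈ B0 then -b ⟨χ, h⟩ else 0
  let ζ : Lin P → IrrCharacter G := fun ψ =>
    if h : ψ ≠ 1 then (c ⟨orb ψ, hjm ψ h⟩).1 else CT.trivIrr G
  have hnotY : ∀ χ : Φ, χ ∉ Yf → ∀ j, A χ j = b χ := fun χ hχ j => by
    rw [hform, if_neg fun h => hχ (Finset.mem_image.mpr ⟨j, Finset.mem_univ _, h.symm⟩),
      mul_zero, add_zero]
  -- values on sections
  have hval : ∀ (χ : Φ) (z : G) (y : ↥(P : Subgroup G)), IsPPart p z (y : G) → (y : G) ≠ 1 →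
      (χ.1 : G → ℂ) z = -(b χ : ℂ) +
        (ε : ℂ) * ∑ ψ ∈ L, (if h : ψ ≠ 1 then (if χ = c ⟨orb ψ, hjm ψ h⟩ then chF P ψ y else 0)
          else 0) := by
    intro χ z y hz hy
    have hy' : y ≠ 1 := fun h => hy (by simp [h])
    rw [value_section hM hF (Finset.mem_filter.mp χ.2).2 hz y.2 hy, expand χ.1 hy']
    have hL1 : ∑ ψ ∈ L, chF P ψ y = -1 := by
      have h := sum_lin hy'
      rw [← Finset.sum_erase_add _ _ (Finset.mem_univ (1 : Lin P))] at h
      rw [hL, Finset.filter_ne']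
      rw [show chF P 1 y = 1 by simp [chF]] at h
      linear_combination h
    calc ∑ ψ : Lin P, (cc χ.1 ψ : ℂ) * chF P ψ y
        = ∑ ψ ∈ L, (cc χ.1 ψ : ℂ) * chF P ψ y := by
          rw [hL, Finset.sum_filter]
          exact Finset.sum_congr rfl fun ψ _ => by
            by_cases h : ψ = 1 <;> simp [h, cc_one]
      _ = ∑ ψ ∈ L, ((b χ : ℂ) * chF P ψ y + (ε : ℂ) *
          (if h : ψ ≠ 1 then (if χ = c ⟨orb ψ, hjm ψ h⟩ then chF P ψ y else 0) else 0)) := by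
          refine Finset.sum_congr rfl fun ψ hψ => ?_
          have hψ1 := (Finset.mem_filter.mp hψ).2
          rw [dif_pos hψ1, hccrep χ.1 ψ hψ1, show cc χ.1 (rep ⟨orb ψ, hjm ψ hψ1⟩) = _ from
            hform χ ⟨orb ψ, hjm ψ hψ1⟩]
          split_ifs <;> push_cast <;> ring
      _ = _ := by
          rw [Finset.sum_add_distrib, ← Finset.mul_sum, ← Finset.mul_sum, hL1]; ring
  have hXval : ∀ χ : Φ, χ ∉ Yf → ∀ z y : G, IsPPart p z y → y ∈ (P : Subgroup G) → y ≠ 1 →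
      (χ.1 : G → ℂ) z = -(b χ : ℂ) := by
    intro χ hχ z y hz hy hy1
    rw [hval χ z ⟨y, hy⟩ hz hy1, Finset.sum_eq_zero, mul_zero, add_zero]
    intro ψ hψ
    rw [dif_pos (Finset.mem_filter.mp hψ).2,
      if_neg fun h => hχ (Finset.mem_image.mpr ⟨_, Finset.mem_univ _, h.symm⟩)]
  have haX : ∀ χ : Φ, a χ.1 = -b χ := fun χ => dif_pos χ.2
  -- a non-trivial element of `P`
  obtain ⟨y₀, hy₀⟩ : ∃ y : ↥(P : Subgroup G), y ≠ 1 := by
    by_contra hall
    push Not at hall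
    have : Subsingleton ↥(P : Subgroup G) := ⟨fun s t => (hall s).trans (hall t).symm⟩
    have := Nat.card_of_subsingleton (1 : ↥(P : Subgroup G))
    omega
  have hy₀1 : (y₀ : G) ≠ 1 := fun h => hy₀ (Subtype.ext h)
  -- the trivial character
  have ht : CT.trivIrr G ∈ B0 := Finset.mem_filter.mpr ⟨Finset.mem_univ _, trivIrr_mem_principalBlock⟩
  have htA : ∀ j, A ⟨_, ht⟩ j = -1 := fun j => cc_trivIrr (hrep1 j)
  have htY : (⟨_, ht⟩ : Φ) ∉ Yf := by
    intro h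
    obtain ⟨j, -, hj⟩ := Finset.mem_image.mp h
    obtain ⟨k, hk⟩ : ∃ k, k ≠ j := by
      rcases eq_or_ne j j₀ with rfl | h
      · exact ⟨j₁, hne⟩
      · exact ⟨j₀, h.symm⟩
    have e1 := hform (c j) j
    have e2 := hform (c j) k
    rw [if_pos rfl] at e1
    rw [if_neg fun h => hk (hinj h).symm] at e2
    rw [hj, htA] at e1
    rw [hj, htA] at e2
    omega
  have htb : b ⟨_, ht⟩ = -1 := (hnotY _ htY j₀).symm.trans (htA j₀)
  refine ⟨X, Y, a, -u, ε, ζ, ?_, ?_, ?_, by rw [hrq]; exact hr2,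
    ⟨CT.trivIrr G, ⟨⟨_, ht⟩, by simpa using htY, rfl⟩, by funext x; simp, ?_⟩,
    hε, ?_, ?_, ?_, ?_, ?_, ?_, ?_, ?_⟩
  · ext χ
    constructor
    · intro h
      have hχ : χ ∈ B0 := Finset.mem_filter.mpr ⟨Finset.mem_univ _, h⟩
      by_cases hY : (⟨χ, hχ⟩ : Φ) ∈ Yf
      · exact Or.inr ⟨⟨χ, hχ⟩, hY, rfl⟩
      · exact Or.inl ⟨⟨χ, hχ⟩, by simpa using hY, rfl⟩
    · rintro (⟨x, -, rfl⟩ | ⟨x, -, rfl⟩) <;> exact (Finset.mem_filter.mp x.2).2
  · rw [Set.disjoint_left]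
    rintro χ ⟨x, hx, rfl⟩ ⟨x', hx', he⟩
    rw [Subtype.ext he] at hx'
    exact absurd hx' (by simpa using hx)
  · rw [Nat.card_image_of_injective Subtype.val_injective, Nat.card_coe_set_eq, Set.ncard_coe_finset,
      Finset.card_image_of_injective _ hinj, Finset.card_univ, hrq]
  · rw [show a (CT.trivIrr G) = _ from haX ⟨_, ht⟩, htb]; rfl
  · rintro _ ⟨x, hx, rfl⟩
    have hx' : x ∉ Yf := by simpa using hx
    refine ⟨?_, fun z y hz hy hy1 => ?_⟩
    · rw [haX]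
      intro h0'
      refine value_ne_zero (P := P) hM (Finset.mem_filter.mp x.2).2 y₀.2 ?_
      rw [hXval x hx' y₀ y₀ (isPPart_self (pPart_mem y₀.2)) y₀.2 hy₀1]
      exact_mod_cast h0'
    · rw [hXval x hx' z y hz hy hy1, haX]; push_cast; rfl
  · intro ψ hψ
    exact ⟨c ⟨orb ψ, hjm ψ hψ⟩, Finset.mem_image_of_mem _ (Finset.mem_univ _), by simp only [ζ, dif_pos hψ]⟩
  · rintro _ ⟨x, hx, rfl⟩
    obtain ⟨j, -, rfl⟩ := Finset.mem_image.mp hx
    refine ⟨rep j, hrep1 j, ?_⟩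
    simp only [ζ, dif_pos (hrep1 j)]
    congr 2
    exact Subtype.ext (hrepo j)
  · intro ψ ψ' hψ hmem
    simp only [ζ, dif_pos hψ, dif_pos (ne_one_of_mem_orb hψ hmem)]
    congr 2
    exact Subtype.ext (orb_eq hmem)
  · intro ψ hψ z y hz hy
    simp only [ζ, dif_pos hψ]
    rw [hval _ z y hz hy, hbc, Int.cast_neg]
    congr 2
    have hsub : orb ψ ⊆ L := fun φ hφ =>
      Finset.mem_filter.mpr ⟨Finset.mem_univ _, ne_one_of_mem_orb hψ hφ⟩
    rw [← Finset.sum_subset hsub (f := fun φ => if h : φ ≠ 1 then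
      (if c ⟨orb ψ, hjm ψ hψ⟩ = c ⟨orb φ, hjm φ h⟩ then chF P φ y else 0) else 0)]
    · refine Finset.sum_congr rfl fun φ hφ => ?_
      rw [dif_pos (ne_one_of_mem_orb hψ hφ), if_pos]
      congr 1
      exact Subtype.ext (orb_eq hφ).symm
    · intro φ hφ hnot
      rw [dif_pos (Finset.mem_filter.mp hφ).2, if_neg]
      intro h
      have h' : orb ψ = orb φ := congrArg Subtype.val (hinj h)
      exact hnot (h' ▸ self_mem_orb φ)
  · have hn := hg j₀ j₀
    rw [if_pos rfl, Finset.sum_congr rfl fun χ _ => by rw [hform χ j₀],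
      D1.Combi.sum_sq_shift] at hn
    have hεε : ε * ε = 1 := by rcases hε with rfl | rfl <;> rfl
    rw [hεε, ← Finset.sum_add_sum_compl Yf, Finset.sum_image fun i _ j _ h => hinj h,
      Finset.sum_congr rfl (fun j _ => by rw [hbc]), Finset.sum_const, Finset.card_univ,
      nsmul_eq_mul, ← hu] at hn
    rw [finsum_mem_image Subtype.val_injective.injOn, finsum_mem_coe_finset,
      Finset.sum_congr rfl fun χ _ => by rw [haX]]
    rw [show ((Nat.card (P : Subgroup G) : ℤ) - 1) / (m : ℤ) = (Fintype.card J : ℤ) by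
      rw [← hrq, Int.natCast_div, Nat.cast_sub Nat.card_pos, Nat.cast_one]]
    simp only [sq, neg_mul_neg]
    linear_combination hn + hεε
  · intro η hη η' hη' g hg'
    obtain ⟨x, hx, rfl⟩ := hη
    obtain ⟨x', hx', rfl⟩ := hη'
    obtain ⟨j, -, rfl⟩ := Finset.mem_image.mp hx
    obtain ⟨k, -, rfl⟩ := Finset.mem_image.mp hx'
    have e : ∀ i, (ε : ℂ) * ((c i).1 : G → ℂ) g = -∑ χ : Φ, (b χ : ℂ) * (χ.1 : G → ℂ) g := fun i => by
      have h := hregA i g hg'
      simp only [hform] at h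
      push_cast at h
      simp only [add_mul, Finset.sum_add_distrib, mul_ite, mul_one, mul_zero, ite_mul, zero_mul] at h
      have h2 : ∑ x : Φ, (if x = c i then (ε : ℂ) * (x.1 : G → ℂ) g else 0) =
          (ε : ℂ) * ((c i).1 : G → ℂ) g := by
        rw [Finset.sum_eq_single (c i) (fun x _ hx => if_neg hx) (by simp), if_pos rfl]
      linear_combination h - h2
    refine mul_left_cancel₀ ?_ ((e j).trans (e k).symm)
    rcases hε with rfl | rfl <;> simp
  · intro η hη g hg'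
    obtain ⟨x, hx, rfl⟩ := hη
    obtain ⟨j, -, rfl⟩ := Finset.mem_image.mp hx
    have e : ∀ i, (ε : ℂ) * ((c i).1 : G → ℂ) g = -∑ χ : Φ, (b χ : ℂ) * (χ.1 : G → ℂ) g := fun i => by
      have h := hregA i g hg'
      simp only [hform] at h
      push_cast at h
      simp only [add_mul, Finset.sum_add_distrib, mul_ite, mul_one, mul_zero, ite_mul, zero_mul] at h
      have h2 : ∑ x : Φ, (if x = c i then (ε : ℂ) * (x.1 : G → ℂ) g else 0) =
          (ε : ℂ) * ((c i).1 : G → ℂ) g := by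
        rw [Finset.sum_eq_single (c i) (fun x _ hx => if_neg hx) (by simp), if_pos rfl]
      linear_combination h - h2
    have hsame : ∀ i, ((c i).1 : G → ℂ) g = ((c j).1 : G → ℂ) g := fun i =>
      mul_left_cancel₀ (by rcases hε with rfl | rfl <;> simp) ((e i).trans (e j).symm)
    have h := e j
    rw [← Finset.sum_add_sum_compl Yf, Finset.sum_image fun i _ j _ h => hinj h,
      Finset.sum_congr rfl (fun i _ => by rw [hbc, hsame]), Finset.sum_const, Finset.card_univ,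
      nsmul_eq_mul] at h
    rw [finsum_mem_image Subtype.val_injective.injOn, finsum_mem_coe_finset,
      Finset.sum_congr rfl fun χ _ => by rw [haX], hrq]
    push_cast
    simp only [neg_mul, Finset.sum_neg_distrib]
    linear_combination -h

end Cfsg.Agent.Blocks.FrobN
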