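import Cfsg.Agent.Lib.Blocks.Defect
import Cfsg.Agent.Lib.Blocks.PGroupSum
import Cfsg.Agent.Lib.Blocks.Subgroup

/-!
# Green's theorem on defect groups as Sylow intersections
-/

namespace Cfsg.Agent.Blocks

open MonoidAlgebra
open scoped ComplexConjugate

universe u v

variable {G : Type u} [Group G] [Finite G] {p : ℕ} {M : Ideal AlgInt} [M.IsPrime]

set_option linter.unusedSectionVars false

open Classical in
theorem sum_coset_fixed [Fintype G] {R : Type v} [CommRing R] [Fact p.Prime] [CharP R p]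
    {Q : Subgroup G} (hQ : IsPGroup p Q) (F : G → R) (hF : ∀ q ∈ Q, ∀ u, F (q * u * q⁻¹) = F u) :
    ∑ u, F u = ∑ u ∈ Finset.univ.filter (fun u => u ∈ Subgroup.centralizer (Q : Set G)), F u := by
  have hfix : ∀ u : G, u ∈ MulAction.fixedPoints
      (Q.map (ConjAct.toConjAct : G ≃* ConjAct G).toMonoidHom) G ↔
        u ∈ Subgroup.centralizer (Q : Set G) := by
    intro u
    simp only [MulAction.mem_fixedPoints, Subgroup.mem_centralizer_iff]
    constructor
    · intro h q hq
      have := h ⟨_, q, hq, rfl⟩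
      rw [Subgroup.smul_def] at this
      simp only [MulEquiv.toMonoidHom_eq_coe, MonoidHom.coe_coe, ConjAct.smul_def,
        ConjAct.ofConjAct_toConjAct] at this
      exact mul_inv_eq_iff_eq_mul.mp this
    · rintro h ⟨_, q, hq, rfl⟩
      rw [Subgroup.smul_def]
      simp only [MulEquiv.toMonoidHom_eq_coe, MonoidHom.coe_coe, ConjAct.smul_def,
        ConjAct.ofConjAct_toConjAct]
      exact mul_inv_eq_iff_eq_mul.mpr (h q hq)
  rw [sum_eq_sum_fixed (p := p) (hQ.map (ConjAct.toConjAct : G ≃* ConjAct G).toMonoidHom) F]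
  · exact Finset.sum_congr (Finset.filter_congr fun u _ => hfix u) fun _ _ => rfl
  · rintro ⟨_, q, hq, rfl⟩ u
    rw [Subgroup.smul_def]
    simp only [MulEquiv.toMonoidHom_eq_coe, MonoidHom.coe_coe, ConjAct.smul_def,
      ConjAct.ofConjAct_toConjAct]
    exact hF q hq u

/-- Green: a defect group is a Sylow intersection `P ∩ xPx⁻¹` with `x` a regular element having
it as a Sylow subgroup of its centralizer. -/
theorem exists_sylow_intersection (hM : IsPModular p M) [Fact p.Prime]
    {B : Set (IrrCharacter G)} (hB : IsPBlock M B) {D : Subgroup G}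
    (hD : IsDefectGroup p M B D) {P : Subgroup G} (hP : IsPGroup p P) (hDP : D ≤ P) :
    ∃ x : G, ¬ p ∣ orderOf x ∧ D ≤ Subgroup.centralizer ({x} : Set G) ∧
      Nat.card D = p ^ (Nat.card (Subgroup.centralizer ({x} : Set G))).factorization p ∧
      P ⊓ P.map (MulAut.conj x).toMonoidHom = D := by
  classical
  haveI := charP_res hM
  haveI := Fintype.ofFinite G
  obtain ⟨-, -, -, hDp, -⟩ := defectGroup_spec hD
  have hA := blockCoeff_mem_loc hB
  set f : G → Res M := fun u => (bBar M B : MonoidAlgebra (Res M) G).coeff u with hf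
  have hfc : IsClassFn f := (mem_center_iff_isClassFn _).mp (bBar M B).2
  set e := br D hDp (bBar M B) with he
  set C := Subgroup.centralizer (D : Set G) with hC
  have heq : ∀ u, e.coeff u = if u ∈ C then f u else 0 := fun u => by
    rw [he, br_apply]
    split_ifs with hu
    · exact coeff_trunc_of_mem _ hu
    · exact coeff_trunc_of_notMem _ hu
  have hne : e ≠ 0 := (br_bBar_ne_zero_iff hM hB hD hDp).mpr ⟨1, by rw [map_conj_one]⟩
  have hS : e * subgroupSum (Res M) (P ⊓ C) ≠ 0 := by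
    refine idem_mul_subgroupSum_ne_zero (hP.to_le inf_le_left) hne
      (by rw [he, ← map_mul, bBar_mul_self hA]) fun q hq => ?_
    refine (isInv_iff_commute (Q := P ⊓ C)).mp (fun r hr u => ?_) q hq
    have hrN : r ∈ Subgroup.normalizer (D : Set G) := Subgroup.centralizer_le_normalizer _ hr.2
    rw [heq, heq, hfc u r]
    exact if_congr (centralizer_conj_mem hrN) rfl rfl
  obtain ⟨c, hc0⟩ : ∃ c, (e * subgroupSum (Res M) (P ⊓ C)).coeff c ≠ 0 := by
    by_contra h
    push Not at h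
    exact hS (by ext u; rw [h u]; rfl)
  rw [coeff_mul_subgroupSum] at hc0
  obtain ⟨q₀, -, hq₀⟩ := Finset.exists_ne_zero_of_sum_ne_zero hc0
  have hcC : c ∈ C := by
    by_cases hq : q₀ ∈ P ⊓ C
    · rw [if_pos hq, heq] at hq₀
      by_cases hcq : c * q₀ ∈ C
      · simpa using C.mul_mem hcq (C.inv_mem hq.2)
      · rw [if_neg hcq] at hq₀; exact absurd rfl hq₀
    · rw [if_neg hq] at hq₀; exact absurd rfl hq₀
  let F : G → Res M := fun u => if c⁻¹ * u ∈ P then f u else 0
  set Q' := P ⊓ P.map (MulAut.conj c).toMonoidHom with hQ'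
  have hQ'p : IsPGroup p Q' := hP.to_le inf_le_left
  have hDQ : D ≤ Q' := by
    refine le_inf hDP fun d hd => mem_map_conj.mpr ?_
    rw [mul_assoc, Subgroup.mem_centralizer_iff.mp hcC d hd, inv_mul_cancel_left]
    exact hDP hd
  have hFinv : ∀ q ∈ Q', ∀ u, F (q * u * q⁻¹) = F u := by
    intro q hq u
    have h2 : c⁻¹ * q * c ∈ P := mem_map_conj.mp hq.2
    have e1 : c⁻¹ * (q * u * q⁻¹) = (c⁻¹ * q * c) * (c⁻¹ * u) * q⁻¹ := by group
    simp only [F, hfc u q]
    refine if_congr ?_ rfl rfl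
    rw [e1, P.mul_mem_cancel_right (P.inv_mem hq.1), P.mul_mem_cancel_left h2]
  have hsum : ∑ u, F u ≠ 0 := by
    rw [sum_coset_fixed hDp F fun q hq => hFinv q (hDQ hq), Finset.sum_filter]
    refine fun h => hc0 (Eq.trans ?_ h)
    refine Fintype.sum_equiv (Equiv.mulLeft c) _ _ fun q => ?_
    simp only [Equiv.coe_mulLeft, F, inv_mul_cancel_left]
    by_cases hq : q ∈ P <;> by_cases hqC : q ∈ C <;>
      simp [hq, hqC, heq, hC.symm, C.mul_mem_cancel_left hcC]
  rw [sum_coset_fixed hQ'p F hFinv] at hsum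
  obtain ⟨u, hu, hu0⟩ := Finset.exists_ne_zero_of_sum_ne_zero hsum
  have huQ := (Finset.mem_filter.mp hu).2
  have hcu : c⁻¹ * u ∈ P := by
    by_contra h
    exact hu0 (if_neg h)
  have hfu : f u ≠ 0 := fun h => hu0 (by simp [F, h])
  have huB := (coeff_bBar_ne_zero_iff hA u).mp hfu
  have hreg : ¬ p ∣ orderOf u := regular_of_red_blockCoeff hM hB huB
  have hQu := le_centralizer_singleton.mpr huQ
  obtain ⟨y, hy⟩ := conj_le_defect hM hB hD hQ'p huB hQu
  have hQD : D = Q' := Subgroup.eq_of_le_of_card_ge hDQ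
    (card_map_conj Q' y ▸ Subgroup.card_le_of_le hy)
  obtain ⟨S, hS'⟩ := exists_sylow_ge (p := p) (hQD ▸ hQu) hDp
  obtain ⟨z, hz⟩ := conj_le_defect hM hB hD (S.isPGroup'.map _) huB (Subgroup.map_subtype_le _)
  have hDS := Subgroup.eq_of_le_of_card_ge hS' (card_map_conj _ z ▸ Subgroup.card_le_of_le hz)
  refine ⟨u, hreg, hQD ▸ hQu, by rw [hDS]; exact card_sylow_map S, ?_⟩
  rw [hQD, hQ']
  congr 1
  ext v
  rw [mem_map_conj, mem_map_conj, show u⁻¹ * v * u = (c⁻¹ * u)⁻¹ * (c⁻¹ * v * c) * (c⁻¹ * u) by group,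
    P.mul_mem_cancel_right hcu, P.mul_mem_cancel_left (P.inv_mem hcu)]

end Cfsg.Agent.Blocks
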