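import Cfsg.Agent.Lib.Blocks.Extended
import Cfsg.Agent.Lib.Blocks.Fong
import Cfsg.Agent.Lib.Blocks.FongReynolds

/-!
# When is the defect group of the induced block the original one
-/

set_option linter.unusedSectionVars false

namespace Cfsg.Agent.Blocks

universe u v

variable {G : Type u} [Group G] [Finite G] {p : ℕ} {M : Ideal AlgInt} [M.IsPrime]

theorem compIrr_symm {H : Type v} [Group H] (e : H ≃* G) (η : IrrCharacter H) :
    compIrr e (compIrr e.symm η) = η :=
  Subtype.ext (funext fun x => congrArg (η : H → ℂ) (e.symm_apply_apply x))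

theorem image_compIrr {H : Type v} [Group H] [Finite H] (e : H ≃* G) {b : Set (IrrCharacter G)}
    (hb : IsPBlock M b) : IsPBlock M (compIrr e '' b) := by
  obtain ⟨ξ, hξ⟩ := block_nonempty hb
  have : compIrr e '' b = blockOf M (compIrr e ξ : H → ℂ) := by
    ext η
    refine ⟨fun ⟨θ, hθ, he⟩ => he ▸ sameBlock_compIrr e ((mem_block_iff hb hξ).mp hθ), fun h => ?_⟩
    refine ⟨compIrr e.symm η, (mem_block_iff hb hξ).mpr (sameBlock_of_compIrr e ?_), compIrr_symm e η⟩
    rw [compIrr_symm]; exact h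
  exact this ▸ isPBlock_blockOf _

theorem blockDefect_image_compIrr {H : Type v} [Group H] [Finite H] (e : H ≃* G)
    (b : Set (IrrCharacter G)) : blockDefect p (compIrr e '' b) = blockDefect p b := by
  unfold blockDefect
  rw [Nat.card_congr e.toEquiv, Set.image_image]
  congr 3
  funext θ
  simp [charDegree]

theorem stabilizer_defect (hM : IsPModular p M) {P H : Subgroup G} (hP : IsPGroup p P)
    (hH : H = P ⊔ Subgroup.centralizer (P : Set G)) {b : Set (IrrCharacter H)} (hb : IsPBlock M b)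
    (hbP : IsDefectGroup p M b (P.subgroupOf H)) {B : Set (IrrCharacter G)}
    (hind : IsInducedBlock M H b B) (T : Subgroup G)
    (hT : ∀ g : G, g ∈ T ↔ (g ∈ Subgroup.normalizer (P : Set G) ∧
      ∀ θ ∈ b, ∀ θ' : IrrCharacter H, (∀ h h' : H, (h' : G) = g * h * g⁻¹ →
        (θ' : H → ℂ) h' = (θ : H → ℂ) h) → θ' ∈ b)) :
    IsDefectGroup p M B P ↔ ¬ p ∣ H.relIndex T := by
  classical
  haveI : Fact p.Prime := ⟨hM.1⟩
  haveI := charP_res hM
  set N := Subgroup.normalizer (P : Set G) with hN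
  have hHN : H ≤ N := hH ▸ sup_le Subgroup.le_normalizer (Subgroup.centralizer_le_normalizer _)
  have hPH : P ≤ H := hH ▸ le_sup_left
  have hCH : Subgroup.centralizer (P : Set G) ≤ H := hH ▸ le_sup_right
  have hTN : T ≤ N := fun g hg => ((hT g).mp hg).1
  letI : Fintype N := Fintype.ofFinite N
  set L := H.subgroupOf N
  haveI hLn : L.Normal :=
    (Subgroup.normal_subgroupOf_iff_le_normalizer hHN).mpr (hH ▸ normalizer_le_normalizer_sup P)
  letI : Fintype L := Fintype.ofFinite L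
  set eL : L ≃* H := Subgroup.subgroupOfEquivOfLe hHN
  set b₂ := compIrr eL '' b
  have hb₂ : IsPBlock M b₂ := image_compIrr eL hb
  set T₂ := T.subgroupOf N
  letI : Fintype T₂ := Fintype.ofFinite T₂
  have hT₂ : ∀ g : N, g ∈ T₂ ↔ ∀ θ ∈ b₂, conjIrr g θ ∈ b₂ := by
    intro g
    -- conjugation by `g` as an isomorphism of `H`
    have hc : ∀ (θ : IrrCharacter H) (θ' : IrrCharacter H),
        (∀ h h' : H, (h' : G) = (g : G)⁻¹ * h * (g : G)⁻¹⁻¹ → (θ' : H → ℂ) h' = (θ : H → ℂ) h) →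
          conjIrr g (compIrr eL θ) = compIrr eL θ' := by
      intro θ θ' h
      refine Subtype.ext (funext fun n => ?_)
      show (θ : H → ℂ) (eL ⟨g * n * g⁻¹, hLn.conj_mem _ n.2 g⟩) = (θ' : H → ℂ) (eL n)
      refine (h _ _ ?_).symm
      show ((n : N) : G) = (g : G)⁻¹ * ((g : G) * (n : N) * (g : G)⁻¹) * (g : G)⁻¹⁻¹
      group
    have hiff : g ∈ T₂ ↔ (g : G)⁻¹ ∈ T := Subgroup.mem_subgroupOf.trans T.inv_mem_iff.symm
    rw [hiff, hT]
    constructor
    · rintro ⟨-, h⟩ _ ⟨θ, hθ, rfl⟩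
      let θ' : IrrCharacter H := compIrr eL.symm (conjIrr g (compIrr eL θ))
      refine ⟨θ', h θ hθ θ' fun x x' hx => ?_, compIrr_symm eL _⟩
      show (θ : H → ℂ) (eL ⟨g * (eL.symm x' : L) * g⁻¹, hLn.conj_mem _ (eL.symm x').2 g⟩) = _
      refine congrArg _ (Subtype.ext ?_)
      show (g : G) * (x' : G) * (g : G)⁻¹ = x
      rw [hx]; group
    · refine fun h => ⟨inv_mem g.2, fun θ hθ θ' he => ?_⟩
      obtain ⟨θ'', hθ'', e⟩ := h _ ⟨θ, hθ, rfl⟩
      rw [hc θ θ' he] at e
      have : θ'' = θ' := Subtype.ext (funext fun x => by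
        have := congrFun (congrArg Subtype.val e) (eL.symm x)
        simpa using this)
      exact this ▸ hθ''
  have hLT : L ≤ T₂ := fun l hl => (hT₂ l).mpr fun θ hθ => by
    rwa [show conjIrr l θ = θ from Subtype.ext
      (CT.conjFun_of_mem L (CT.isClassFunction_of_isIrr θ.2) hl)]
  set L₃ := L.subgroupOf T₂
  letI : Fintype L₃ := Fintype.ofFinite L₃
  set e₃ : L₃ ≃* L := Subgroup.subgroupOfEquivOfLe hLT
  set b₃ := compIrr e₃ '' b₂
  have hb₃ : IsPBlock M b₃ := image_compIrr e₃ hb₂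
  have hinv : ∀ t : T₂, ∀ θ ∈ b₃, conjIrr t θ ∈ b₃ := by
    rintro t _ ⟨θ, hθ, rfl⟩
    refine ⟨conjIrr (t : N) θ, (hT₂ t).mp t.2 θ hθ, Subtype.ext (funext fun n => ?_)⟩
    rfl
  -- a covering block of maximal defect
  obtain ⟨ξ₃, hξ₃⟩ := block_nonempty hb₃
  obtain ⟨η₀, hη₀⟩ := CT.exists_irr_over L₃ ξ₃.2
  set S := Finset.univ.filter fun η : IrrCharacter T₂ =>
    ∃ θ ∈ b₃, classInner (fun n : L₃ => (η : T₂ → ℂ) n) (θ : L₃ → ℂ) ≠ 0
  obtain ⟨η, hηS, hmax⟩ := S.exists_max_image (fun η => blockDefect p (blockOf M (η : T₂ → ℂ)))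
    ⟨η₀, Finset.mem_filter.mpr ⟨Finset.mem_univ _, ξ₃, hξ₃, hη₀⟩⟩
  obtain ⟨θ₃, hθ₃, hηc⟩ := (Finset.mem_filter.mp hηS).2
  set B' := blockOf M (η : T₂ → ℂ)
  have hB' : IsPBlock M B' := isPBlock_blockOf η
  obtain ⟨P', hP'⟩ := exists_defectGroup (p := p) hB'
  have hF := fong hM hb₃ hinv hB' ⟨η, self_mem_blockOf η, θ₃, hθ₃, hηc⟩ (fun B'' hB'' hc => by
    obtain ⟨χ, hχ, hrest⟩ := hc
    rw [block_eq_blockOf hB'' hχ]
    exact hmax χ (Finset.mem_filter.mpr ⟨Finset.mem_univ _, hrest⟩)) hP'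
  obtain ⟨-, -, hdef⟩ := hF
  obtain ⟨n, hn⟩ := IsPGroup.iff_card.mp hP
  have hdb : blockDefect p b₃ = n := by
    have h := card_defectGroup hM hb hbP
    rw [card_subgroupOf hPH, hn] at h
    rw [blockDefect_image_compIrr, blockDefect_image_compIrr]
    exact (Nat.pow_right_injective hM.1.two_le h).symm
  have hidx : L₃.index = H.relIndex T := by
    show L.relIndex T₂ = H.relIndex T
    exact Subgroup.relIndex_subgroupOf hTN
  rw [hdb, hidx] at hdef
  -- the induced block of the normalizer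
  obtain ⟨θ₂, hθ₂, rfl⟩ := hθ₃
  have hover : OverBlock b₂ hLT η := by
    refine ⟨θ₂, hθ₂, fun h0 => hηc ?_⟩
    rw [← h0]
    simp only [classInner, coe_compIrr]
    rw [Nat.card_congr e₃.toEquiv]
    congr 1
    exact Fintype.sum_equiv e₃.toEquiv _ _ fun x => rfl
  obtain ⟨β, hβ, hovs, -, hmem⟩ := fong_reynolds hb₂ hT₂ hLT hB' ⟨η, self_mem_blockOf η, hover⟩
  obtain ⟨hdefβ, -⟩ := fong_reynolds_defect hM hb₂ hT₂ hLT hB' ⟨η, self_mem_blockOf η, hover⟩ hβ
  obtain ⟨ξ, hξ, rfl⟩ := hθ₂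
  have hβB : IsInducedBlock M N β B := by
    let χ : IrrCharacter N := ⟨_, (hovs η (self_mem_blockOf η)).2⟩
    have hχβ : χ ∈ β := (hmem χ).mpr ⟨η, self_mem_blockOf η, rfl⟩
    rw [block_eq_blockOf hβ.2.1 hχβ]
    refine induced_of_cover hM hP hPH hCH hHN hind hξ ?_
    obtain ⟨θ', hθ', hc'⟩ := hover
    have hcc := (CT.isIrr_indFun_of_over_le L (compIrr eL ξ).2 T₂
      (inertia_le_stab hb₂ hT₂ ⟨ξ, hξ, rfl⟩) hLT η.2 (fun h0 => hηc ?_))
    · rw [hcc.2]
      intro h0
      apply hηc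
      rw [← h0]
      simp only [classInner, coe_compIrr]
      rw [Nat.card_congr e₃.toEquiv]
      congr 1
      exact Fintype.sum_equiv e₃.toEquiv _ _ fun x => rfl
    · rw [← h0]
      simp only [classInner, coe_compIrr]
      rw [Nat.card_congr e₃.toEquiv]
      congr 1
      exact Fintype.sum_equiv e₃.toEquiv _ _ fun x => rfl
  have hPN : P ≤ N := Subgroup.le_normalizer
  constructor
  · intro hD hdvd
    have h1 : IsDefectGroup p M β (P.subgroupOf N) := defect_of_induced_normalizer hM hβB hD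
    have h2 := card_defectGroup hM hβ.2.1 h1
    rw [← card_defectGroup hM hβ.2.1 (hdefβ P' hP'), card_subgroupOf hPN, hn,
      Subgroup.card_map_of_injective T₂.subtype_injective, card_defectGroup hM hB' hP'] at h2
    have h3 := Nat.pow_right_injective hM.1.two_le h2
    have h4 : 0 < (H.relIndex T).factorization p :=
      hM.1.factorization_pos_of_dvd Subgroup.index_ne_zero_of_finite hdvd
    omega
  · intro hndvd
    rw [Nat.factorization_eq_zero_of_not_dvd hndvd, add_zero] at hdef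
    refine defect_of_induced_from_normalizer hM hP ?_ hβB
    set P₂ := P.subgroupOf N
    have hPT : P₂ ≤ T₂ := le_trans (fun x hx => Subgroup.mem_subgroupOf.mpr (hPH hx)) hLT
    haveI hP₂n : P₂.Normal := Subgroup.normal_in_normalizer
    haveI : (P₂.subgroupOf T₂).Normal := hP₂n.comap _
    have hpg : IsPGroup p (P₂.subgroupOf T₂) := hP.comap_subtype.comap_subtype
    have hle : P₂.subgroupOf T₂ ≤ P' := normal_le_defect hM hB' hpg hP'
    have hcard : Nat.card P' ≤ Nat.card (P₂.subgroupOf T₂) := by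
      rw [card_defectGroup hM hB' hP', card_subgroupOf hPT, card_subgroupOf hPN, hn, hdef]
    have heq := Subgroup.eq_of_le_of_card_ge hle hcard
    have := hdefβ P' hP'
    rwa [← heq, Subgroup.subgroupOf_map_subtype, inf_eq_left.mpr hPT] at this

end Cfsg.Agent.Blocks
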