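import Cfsg.Agent.Lib.Blocks.RankBasics
import Cfsg.Agent.Lib.Blocks.StabilizerDefect
import Cfsg.Agent.Lib.BrauerPairs.AbelianFusion
import Mathlib.GroupTheory.SpecificGroups.KleinFour

/-!
# Blocks with a Klein four defect group
-/

set_option linter.unusedSectionVars false

namespace Cfsg.Agent.Blocks

open CT

universe u

variable {G : Type u} [Group G] [Fintype G] {M : Ideal AlgInt} [M.IsPrime]

open Classical in
/-- A `2`-block of defect two has four characters. -/
theorem card_block_of_defect_two (hM : IsPModular 2 M) {B : Set (IrrCharacter G)}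
    (hB : IsPBlock M B) (hd : blockDefect 2 B = 2) : Nat.card B = 4 := by
  haveI : Fact (Nat.Prime 2) := ⟨Nat.prime_two⟩
  have h0 : ∀ χ ∈ B, blockHeight 2 B (χ : G → ℂ) = 0 := fun χ hχ => by
    by_contra h
    have := (height_bound hM hB hχ (Nat.pos_of_ne_zero h)).1
    omega
  obtain ⟨χ, hχ⟩ := block_nonempty hB
  choose X hX using fun ψ => exists_int_bfPair (p := 2) hM hχ ψ
  have hodd : ∀ ψ ∈ B, Odd (X ψ) := by
    intro ψ hψ
    obtain ⟨W, hW, hiff⟩ := bfInt_valuation hM hχ ψ (hX ψ)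
    rw [h0 χ hχ, pow_zero, one_mul] at hW
    rw [hW, ← Int.not_even_iff_odd, even_iff_two_dvd]
    exact fun h => (hiff hB hψ).mp (by exact_mod_cast h) (h0 ψ hψ)
  have hout : ∀ ψ, ψ ∉ B → X ψ = 0 := fun ψ hψ => by
    have := hX ψ
    rw [bfPair_zero_of_mem hM hB hχ hψ, mul_zero] at this
    exact_mod_cast this.symm
  set S := Finset.univ.filter (fun ψ : IrrCharacter G => ψ ∈ B) with hS
  have hsum : ∑ ψ ∈ S, X ψ ^ 2 = 4 * X χ := by
    have := sum_sq_bfInt χ _ hX
    rw [hd] at this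
    rw [Finset.sum_subset (Finset.subset_univ S) fun ψ _ h => by
      rw [hout ψ fun hm => h (Finset.mem_filter.mpr ⟨Finset.mem_univ _, hm⟩)]; norm_num, this]
    norm_num
  have hmem : ∀ ψ, ψ ∈ S ↔ ψ ∈ B := fun ψ => by simp [hS]
  have hχS : χ ∈ S := (hmem χ).mpr hχ
  have hge : ∀ ψ ∈ S, 1 ≤ X ψ ^ 2 := fun ψ h => by
    obtain ⟨m, hm⟩ := hodd ψ ((hmem ψ).mp h)
    have hne : X ψ ≠ 0 := by omega
    exact Int.add_one_le_iff.mpr (pow_two_pos_of_ne_zero hne)
  have h8 : (8 : ℤ) ∣ (S.card : ℤ) - 4 * X χ := by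
    rw [← hsum, Finset.card_eq_sum_ones, Nat.cast_sum, ← Finset.sum_sub_distrib]
    refine Finset.dvd_sum fun ψ h => ?_
    obtain ⟨m, hm⟩ := hodd ψ ((hmem ψ).mp h)
    obtain ⟨r, hr⟩ := Int.even_mul_succ_self m
    exact ⟨-r, by rw [hm]; push_cast; linear_combination (-4 : ℤ) * hr⟩
  have hbound : X χ ^ 2 + ((S.card : ℤ) - 1) ≤ 4 * X χ := by
    rw [← hsum, ← Finset.add_sum_erase S _ hχS]
    have := Finset.card_nsmul_le_sum (S.erase χ) (fun ψ => X ψ ^ 2) 1
      fun ψ h => hge ψ (Finset.mem_of_mem_erase h)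
    rw [Finset.card_erase_of_mem hχS, nsmul_eq_mul, mul_one,
      Nat.cast_sub (Finset.card_pos.mpr ⟨χ, hχS⟩), Nat.cast_one] at this
    linarith
  have hk : Nat.card B = S.card := by
    rw [Nat.card_eq_fintype_card, Fintype.card_subtype]
  obtain ⟨m, hm⟩ := hodd χ hχ
  have hk5 : (S.card : ℤ) ≤ 5 := by nlinarith [sq_nonneg (X χ - 2)]
  have hkpos : 0 < S.card := Finset.card_pos.mpr ⟨χ, hχS⟩
  rw [hk]
  omega

open Subgroup in
/-- The action of a subgroup normalizing `P` on the nontrivial elements of `P`. -/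
noncomputable def conjPermAux (P T : Subgroup G) (hT : T ≤ Subgroup.normalizer (P : Set G)) :
    T →* Equiv.Perm {y : G // y ∈ P ∧ y ≠ 1} where
  toFun t := (MulAut.conj (t : G)).toEquiv.subtypeEquiv fun y => by
    simp only [MulEquiv.toEquiv_eq_coe, MulEquiv.coe_toEquiv, MulAut.conj_apply, ne_eq,
      conj_eq_one_iff]
    exact and_congr_left' (Subgroup.mem_normalizer_iff.mp (hT t.2) y)
  map_one' := by ext y; simp
  map_mul' := fun a b => by ext y; simp [mul_assoc]

theorem conjPermAux_apply {P T : Subgroup G} (hT : T ≤ Subgroup.normalizer (P : Set G)) (t : T)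
    (y : {y : G // y ∈ P ∧ y ≠ 1}) :
    (conjPermAux P T hT t y : G) = (t : G) * y * (t : G)⁻¹ := rfl

theorem ker_conjPermAux {P T : Subgroup G} (hT : T ≤ Subgroup.normalizer (P : Set G)) :
    (conjPermAux P T hT).ker = (Subgroup.centralizer (P : Set G)).subgroupOf T := by
  ext t
  rw [MonoidHom.mem_ker, Subgroup.mem_subgroupOf, Subgroup.mem_centralizer_iff]
  constructor
  · intro h y hy
    by_cases h1 : y = 1
    · simp [h1]
    · have := congrArg Subtype.val (Equiv.congr_fun h ⟨y, hy, h1⟩)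
      rw [conjPermAux_apply] at this
      exact (mul_inv_eq_iff_eq_mul.mp this).symm
  · intro h
    ext y
    rw [conjPermAux_apply]
    simp [← h y y.2.1]

theorem card_klein_ne_one {P : Subgroup G} (hV : IsKleinFour P) :
    Nat.card {y : G // y ∈ P ∧ y ≠ 1} = 3 := by
  classical
  have h : ({y : G | y ∈ P ∧ y ≠ 1}) = (P : Set G) \ {1} := by ext y; simp [and_comm]
  rw [show Nat.card {y : G // y ∈ P ∧ y ≠ 1} = ({y : G | y ∈ P ∧ y ≠ 1}).ncard from
    Nat.card_coe_set_eq _, h, Set.ncard_sdiff_singleton_of_mem (one_mem P), ← Nat.card_coe_set_eq]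
  rw [show Nat.card ((P : Set G)) = Nat.card P from rfl, hV.card_four]

theorem perm_three_transitive : ∀ σ : Equiv.Perm (Fin 3), σ ≠ 1 → σ ^ 3 = 1 →
    ∀ i j : Fin 3, ∃ k : Fin 3, (σ ^ (k : ℕ)) i = j := by decide

/-- The inertial index of a Klein four group, and transitivity when it is three. -/
theorem klein_index {P T : Subgroup G} (hV : IsKleinFour P)
    (hT : T ≤ Subgroup.normalizer (P : Set G))
    (hodd : ¬ 2 ∣ (Subgroup.centralizer (P : Set G)).relIndex T) :
    ((Subgroup.centralizer (P : Set G)).relIndex T = 1 ∧ T ≤ Subgroup.centralizer (P : Set G)) ∨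
      ((Subgroup.centralizer (P : Set G)).relIndex T = 3 ∧
        ∀ y y' : G, y ∈ P → y ≠ 1 → y' ∈ P → y' ≠ 1 → ∃ t ∈ T, t * y * t⁻¹ = y') := by
  classical
  set φ := conjPermAux P T hT
  obtain ⟨eq3⟩ : Nonempty ({y : G // y ∈ P ∧ y ≠ 1} ≃ Fin 3) := by
    have := card_klein_ne_one hV
    exact ⟨(Finite.equivFinOfCardEq this)⟩
  set ψ : T →* Equiv.Perm (Fin 3) := (Equiv.permCongrHom eq3).toMonoidHom.comp φ
  have hker : ψ.ker = φ.ker := by
    ext t
    simp [ψ, MonoidHom.mem_ker]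
  have he : (Subgroup.centralizer (P : Set G)).relIndex T = Nat.card ψ.range := by
    rw [Subgroup.relIndex, ← ker_conjPermAux hT, ← hker, Subgroup.index_ker]
  have hdvd : Nat.card ψ.range ∣ 6 := by
    have := Subgroup.card_subgroup_dvd_card ψ.range
    rwa [Nat.card_eq_fintype_card (α := Equiv.Perm (Fin 3)), Fintype.card_perm, Fintype.card_fin] at this
  rw [he] at hodd ⊢
  have hcases : Nat.card ψ.range = 1 ∨ Nat.card ψ.range = 3 := by
    have h6 : Nat.card ψ.range ≤ 6 := Nat.le_of_dvd (by norm_num) hdvd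
    interval_cases Nat.card ψ.range <;> omega
  rcases hcases with h | h
  · refine Or.inl ⟨h, ?_⟩
    rw [← he] at h
    exact Subgroup.relIndex_eq_one.mp h
  · refine Or.inr ⟨h, fun y y' hy hy1 hy' hy1' => ?_⟩
    obtain ⟨⟨σ, t, rfl⟩, hσ⟩ : ∃ σ : ψ.range, σ ≠ 1 := by
      haveI : Nontrivial ψ.range := (Finite.one_lt_card_iff_nontrivial).mp (by omega)
      exact exists_ne 1
    have hσ1 : ψ t ≠ 1 := fun h => hσ (Subtype.ext h)
    have hσ3 : ψ t ^ 3 = 1 := by
      have := pow_card_eq_one' (x := (⟨ψ t, t, rfl⟩ : ψ.range))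
      rw [h] at this
      exact congrArg Subtype.val this
    obtain ⟨k, hk⟩ := perm_three_transitive _ hσ1 hσ3 (eq3 ⟨y, hy, hy1⟩) (eq3 ⟨y', hy', hy1'⟩)
    rw [← map_pow] at hk
    refine ⟨_, (t ^ (k : ℕ)).2, ?_⟩
    have := congrArg (fun i => (eq3.symm i : G)) hk
    simpa [ψ, Equiv.permCongrHom, Equiv.permCongr_apply, φ, ← map_pow, conjPermAux_apply] using this

/-- A block of the centralizer of a `p`-subgroup inducing `B` gives a pair of `B`. -/
theorem brauerPairOf_of_induced {p : ℕ} (hM : IsPModular p M) {Q : Subgroup G} (hQ : IsPGroup p Q)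
    {e : Set (IrrCharacter (Subgroup.centralizer (Q : Set G)))} {B : Set (IrrCharacter G)}
    (h : IsInducedBlock M (Subgroup.centralizer (Q : Set G)) e B) :
    IsBrauerPairOf p M B Q e :=
  BPairs.isBrauerPairOf_iff.mpr ⟨hQ, h.1, h.2.1, fun ξ hξ => by
    have := (isInducedBlock_centralizer_iff hM hQ h.1 h.2.1 hξ).mp h
    rw [BPairs.val_eq_omegaBar Q ξ (resH_mem_center _ (bBar M B).2)]
    exact this⟩

theorem idx_below_unique {p : ℕ} (hM : IsPModular p M) {P : Subgroup G}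
    {e : Set (IrrCharacter (Subgroup.centralizer (P : Set G)))} (hPe : IsBrauerPair p M P e)
    {a a' : BrauerPairIdx G} (ha : Relation.ReflTransGen (NormalSubpairRel p M) a ⟨P, e⟩)
    (ha' : Relation.ReflTransGen (NormalSubpairRel p M) a' ⟨P, e⟩) (h : a.1 = a'.1) : a = a' := by
  obtain ⟨Q, f⟩ := a
  obtain ⟨Q', f'⟩ := a'
  subst h
  exact congrArg _ (BPairs.eq_of_below hM hPe _ Q rfl f f' ha ha')

theorem exists_of_fst_eq {a : BrauerPairIdx G} {Q : Subgroup G} (h : a.1 = Q) :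
    ∃ b, a = ⟨Q, b⟩ := by
  obtain ⟨Q', b⟩ := a
  subst h
  exact ⟨b, rfl⟩

theorem map_zpowers_conj (g x : G) :
    (Subgroup.zpowers x).map (MulAut.conj g).toMonoidHom = Subgroup.zpowers (g * x * g⁻¹) :=
  MonoidHom.map_zpowers _ x

theorem finsum_rank_eq_card (hM : IsPModular 2 M) {B : Set (IrrCharacter G)}
    (hd : blockDefect 2 B ≤ 2) {x : G} (H : Subgroup G)
    (hH : Subgroup.centralizer ((Subgroup.zpowers x : Subgroup G) : Set G) = H)
    (h2 : ∀ b, IsInducedBlock M (Subgroup.centralizer ((Subgroup.zpowers x : Subgroup G) : Set G)) b B →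
      orderOf x = 2) :
    ∑ᶠ b ∈ {b : Set (IrrCharacter H) | IsInducedBlock M H b B}, blockRank 2 b =
      Nat.card {b : Set (IrrCharacter (Subgroup.centralizer ((Subgroup.zpowers x : Subgroup G) : Set G))) //
        IsInducedBlock M _ b B} := by
  subst hH
  rw [finsum_mem_congr rfl fun b (hb : b ∈ {b : Set (IrrCharacter
      (Subgroup.centralizer ((Subgroup.zpowers x : Subgroup G) : Set G))) | IsInducedBlock M _ b B}) =>
      blockRank_of_involution hM (h2 b hb) _ rfl hb hd,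
    finsum_mem_eq_finite_toFinset_sum _ (Set.toFinite _), ← Finset.card_eq_sum_ones,
    ← Set.ncard_eq_toFinset_card _ (Set.toFinite _), ← Nat.card_coe_set_eq]
  rfl

open Classical in
/-- Representatives of the classes of the elements of `p`-power order, containing `1`. -/
theorem exists_pElement_reps (p : ℕ) : ∃ X : Finset G, (1 : G) ∈ X ∧
    (∀ x ∈ X, ∃ k : ℕ, orderOf x = p ^ k) ∧
      ∀ g : G, (∃ k : ℕ, orderOf g = p ^ k) → ∃! x, x ∈ X ∧ IsConj g x := by
  choose s hs using fun c : ConjClasses G => c.exists_rep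
  have hπ : ∀ g : G, IsConj g (s (ConjClasses.mk g)) := fun g =>
    ConjClasses.mk_eq_mk_iff_isConj.mp (hs _).symm
  refine ⟨(Finset.univ.filter fun g : G => ∃ k : ℕ, orderOf g = p ^ k).image
    fun g => s (ConjClasses.mk g), Finset.mem_image.mpr ⟨1, Finset.mem_filter.mpr
      ⟨Finset.mem_univ _, 0, by simp⟩, isConj_one_right.mp (hπ 1)⟩, fun x hx => ?_, fun g hg => ?_⟩
  · obtain ⟨g, hg, rfl⟩ := Finset.mem_image.mp hx
    obtain ⟨c, hc⟩ := isConj_iff.mp (hπ g)
    rw [← hc, ← MulAut.conj_apply, MulEquiv.orderOf_eq]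
    exact (Finset.mem_filter.mp hg).2
  · refine ⟨_, ⟨Finset.mem_image.mpr ⟨g, Finset.mem_filter.mpr ⟨Finset.mem_univ _, hg⟩, rfl⟩, hπ g⟩,
      ?_⟩
    rintro x ⟨hx, hgx⟩
    obtain ⟨g', -, rfl⟩ := Finset.mem_image.mp hx
    rw [ConjClasses.mk_eq_mk_iff_isConj.mpr ((hπ g').trans hgx.symm)]

open Classical BPairs in
/-- Blocks with a Klein four defect group. -/
theorem klein_defect_block (hM : IsPModular 2 M) {B : Set (IrrCharacter G)} (hB : IsPBlock M B)
    {P : Subgroup G} (hPD : IsDefectGroup 2 M B P) (hV : IsKleinFour P)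
    {c : Set (IrrCharacter (Subgroup.centralizer (P : Set G)))}
    (hc : IsInducedBlock M (Subgroup.centralizer (P : Set G)) c B) {T : Subgroup G}
    (hT : ∀ g : G, g ∈ T ↔ (g ∈ Subgroup.normalizer (P : Set G) ∧
      StabilizesBlock (Subgroup.centralizer (P : Set G)) c g)) :
    ((Subgroup.centralizer (P : Set G)).relIndex T = 1 ∨
      (Subgroup.centralizer (P : Set G)).relIndex T = 3) ∧ Nat.card B = 4 ∧
        blockRank 2 B = (Subgroup.centralizer (P : Set G)).relIndex T := by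
  haveI : Fact (Nat.Prime 2) := ⟨Nat.prime_two⟩
  have hcard := card_defectGroup hM hB hPD
  rw [hV.card_four] at hcard
  have hd : blockDefect 2 B = 2 :=
    Nat.pow_right_injective le_rfl (show 2 ^ blockDefect 2 B = 2 ^ 2 by rw [← hcard])
  have hPp : IsPGroup 2 P := IsPGroup.of_card (n := 2) (by rw [hV.card_four]; norm_num)
  have hsq : ∀ y ∈ P, y * y = 1 := fun y hy => by
    have := Monoid.pow_exponent_eq_one (⟨y, hy⟩ : P)
    rw [hV.exponent_two, pow_two] at this
    simpa using congrArg Subtype.val this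
  have hPC : P ≤ Subgroup.centralizer (P : Set G) := fun u hu =>
    Subgroup.mem_centralizer_iff.mpr fun v hv => by
      have h1 : v⁻¹ = v := inv_eq_of_mul_eq_one_right (hsq v hv)
      have h2 : u⁻¹ = u := inv_eq_of_mul_eq_one_right (hsq u hu)
      have h3 : (v * u)⁻¹ = v * u := inv_eq_of_mul_eq_one_right (hsq _ (mul_mem hv hu))
      rw [← h3, mul_inv_rev, h1, h2]
  -- the pair of `P` is maximal
  have hpair : IsBrauerPairOf 2 M B P c := brauerPairOf_of_induced hM hPp hc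
  have hmax : IsMaximalBrauerPair 2 M B P c := by
    refine ⟨hpair, fun R g hR hle => ?_⟩
    obtain ⟨⟨R', g'⟩, hle', hmax'⟩ := exists_maximal hM hR
    have hcd := card_defect_eq hM hB (isDefectGroup_of_maximal hM hmax') hPD
    have h1 : P ≤ R := subpair_le hle
    have h2 : R ≤ R' := subpair_le hle'
    refine (Subgroup.eq_of_le_of_card_ge h1 ?_).symm
    exact (Subgroup.card_le_of_le h2).trans hcd.le
  have hc' : IsPBlock M c := hc.1
  have hTeq : T = stabSub M P c := Subgroup.ext fun g => (hT g).trans (mem_stabSub hc').symm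
  have hTN : T ≤ Subgroup.normalizer (P : Set G) := fun g hg => ((hT g).mp hg).1
  have hodd : ¬ 2 ∣ (Subgroup.centralizer (P : Set G)).relIndex T := by
    refine (stabilizer_defect hM hPp (sup_eq_right.mpr hPC).symm hc'
      (defect_of_induced hM hPC le_rfl (Subgroup.centralizer_le_normalizer _) hc hPD) hc T
      fun g => (hT g).trans (and_congr_right fun hg => ?_)).mp hPD
    have hgC : g ∈ Subgroup.normalizer ((Subgroup.centralizer (P : Set G)) : Set G) :=
      normalizer_le_normalizer_centralizer P hg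
    constructor
    · intro hs θ hθ θ' hθ'
      obtain ⟨χ', hχ', hcj⟩ := hs.2 θ hθ
      have : θ' = χ' := Subtype.ext (funext fun h' => by
        have hm : g⁻¹ * (h' : G) * g ∈ Subgroup.centralizer (P : Set G) :=
          (Subgroup.mem_normalizer_iff''.mp hgC _).mp h'.2
        rw [hθ' ⟨_, hm⟩ h' (by group), hcj ⟨_, hm⟩ h' (by group)])
      exact this ▸ hχ'
    · intro h
      have hh : ∀ u, u ∈ Subgroup.centralizer (P : Set G) ↔
          g * u * g⁻¹ ∈ Subgroup.centralizer (P : Set G) := fun u =>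
        Subgroup.mem_normalizer_iff.mp hgC u
      refine ⟨hgC, fun χ hχ => ?_⟩
      have hk : ∀ k k' : Subgroup.centralizer (P : Set G), (k' : G) = g * k * g⁻¹ →
          (Glauberman.compIrr (cIso g _ _ hh) χ : Subgroup.centralizer (P : Set G) → ℂ) k' =
            (χ : Subgroup.centralizer (P : Set G) → ℂ) k := fun k k' hk => by
        show (χ : Subgroup.centralizer (P : Set G) → ℂ) _ = _
        exact congrArg _ (Subtype.ext (by
          show g⁻¹ * (k' : G) * g = k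
          rw [hk]; simp [mul_assoc]))
      exact ⟨_, h χ hχ _ hk, hk⟩
  have hk4 := card_block_of_defect_two hM hB hd
  -- subsections
  obtain ⟨X, h1X, hX, hrep⟩ := exists_pElement_reps (G := G) 2
  have h2 : ∀ x : G, ∀ b, IsInducedBlock M
      (Subgroup.centralizer ((Subgroup.zpowers x : Subgroup G) : Set G)) b B →
      (∃ k : ℕ, orderOf x = 2 ^ k) → ∃ g : G, g * x * g⁻¹ ∈ P ∧
        Relation.ReflTransGen (NormalSubpairRel 2 M)
          (conjIdx g ⟨Subgroup.zpowers x, b⟩) (⟨P, c⟩ : BrauerPairIdx G) := by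
    rintro x b hb ⟨k, hk⟩
    obtain ⟨g, hg⟩ := exists_conj_below_maximal hM hmax (brauerPairOf_of_induced hM
      (isPGroup_zpowers ⟨k, hk ▸ pow_orderOf_eq_one x⟩) hb)
    refine ⟨g, subpair_le hg ?_, hg⟩
    exact Subgroup.mem_map_of_mem _ (Subgroup.mem_zpowers x)
  have hinv : ∀ x ∈ X.erase 1, ∀ b, IsInducedBlock M
      (Subgroup.centralizer ((Subgroup.zpowers x : Subgroup G) : Set G)) b B → orderOf x = 2 := by
    intro x hx b hb
    obtain ⟨g, hg, -⟩ := h2 x b hb (hX x (Finset.mem_of_mem_erase hx))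
    rw [← MulEquiv.orderOf_eq (MulAut.conj g) x, MulAut.conj_apply]
    refine orderOf_eq_prime (by rw [pow_two]; exact hsq _ hg) fun h => Finset.ne_of_mem_erase hx ?_
    simpa using h
  let Sub := Σ x : {x : G // x ∈ X.erase 1},
    {b : Set (IrrCharacter (Subgroup.centralizer ((Subgroup.zpowers x.1 : Subgroup G) : Set G))) //
      IsInducedBlock M _ b B}
  have hcount : blockRank 2 B + Nat.card Sub = 4 := by
    rw [← hk4, card_block_eq_sum_rank hM hB hX hrep, ← Finset.add_sum_erase X _ h1X,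
      finsum_rank_top hB _ (by rw [Subgroup.centralizer_eq_top_iff_subset]; simp), Nat.card_sigma,
      ← Finset.sum_coe_sort (X.erase 1)]
    congr 1
    exact Finset.sum_congr rfl fun x _ =>
      (finsum_rank_eq_card hM hd.le _ (centralizer_zpowers_eq x.1) (hinv x.1 x.2)).symm
  let Rel : {y : G // y ∈ P ∧ y ≠ 1} → Sub → Prop := fun y q => ∃ g : G,
    g * q.1.1 * g⁻¹ = y.1 ∧ Relation.ReflTransGen (NormalSubpairRel 2 M)
      (conjIdx g ⟨Subgroup.zpowers q.1.1, q.2.1⟩) (⟨P, c⟩ : BrauerPairIdx G)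
  have hsur : ∀ q : Sub, ∃ y, Rel y q := by
    rintro ⟨⟨x, hx⟩, b, hb⟩
    obtain ⟨g, hg, hle⟩ := h2 x b hb (hX x (Finset.mem_of_mem_erase hx))
    exact ⟨⟨_, hg, fun h => Finset.ne_of_mem_erase hx (by simpa using h)⟩, g, rfl, hle⟩
  have hex : ∀ y, ∃ q, Rel y q := by
    rintro ⟨y, hyP, hy1⟩
    obtain ⟨f, ⟨hf, hfP⟩, -⟩ := existsUnique_below hM hmax.1.1 (Subgroup.zpowers_le.mpr hyP)
    obtain ⟨x, ⟨hxX, hxy⟩, -⟩ := hrep y ⟨1, by
      rw [pow_one]; exact orderOf_eq_prime (by rw [pow_two]; exact hsq y hyP) hy1⟩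
    have hx1 : x ≠ 1 := fun h => hy1 (isConj_one_left.mp (h ▸ hxy))
    obtain ⟨g, hg⟩ := isConj_iff.mp hxy.symm
    have hya : IsBrauerPairOf 2 M B (Subgroup.zpowers y) f :=
      (pairOf_iff_of_subpair hM hB _ _ hfP).mp hmax.1
    have hfst : (conjIdx g⁻¹ (⟨Subgroup.zpowers y, f⟩ : BrauerPairIdx G)).1 = Subgroup.zpowers x := by
      show (Subgroup.zpowers y).map (MulAut.conj g⁻¹).toMonoidHom = _
      rw [map_zpowers_conj, ← hg]
      congr 1
      group
    obtain ⟨b, hb⟩ := exists_of_fst_eq hfst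
    have hof : IsBrauerPairOf 2 M B (conjIdx g⁻¹ (⟨Subgroup.zpowers y, f⟩ : BrauerPairIdx G)).1
        (conjIdx g⁻¹ (⟨Subgroup.zpowers y, f⟩ : BrauerPairIdx G)).2 :=
      isBrauerPairOf_conj hM hya g⁻¹
    rw [hb] at hof
    refine ⟨⟨⟨x, Finset.mem_erase.mpr ⟨hx1, hxX⟩⟩, b, isInducedBlock_of_brauerPair hM hof⟩, g, hg, ?_⟩
    dsimp only
    rw [← hb, conjIdx_conjIdx (M := M) (show IsPBlock M (⟨Subgroup.zpowers y, f⟩ : BrauerPairIdx G).2 from hf),
      mul_inv_cancel, conjIdx_one (M := M) (show IsPBlock M (⟨Subgroup.zpowers y, f⟩ : BrauerPairIdx G).2 from hf)]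
    exact hfP
  have huniq : ∀ y q q', Rel y q → Rel y q' → q = q' := by
    rintro y ⟨⟨x, hx⟩, b, hb⟩ ⟨⟨x', hx'⟩, b', hb'⟩ ⟨g, hg, hle⟩ ⟨g', hg', hle'⟩
    dsimp only at hg hg' hle hle'
    have hxx : x = x' := (hrep x (hX x (Finset.mem_of_mem_erase hx))).unique
      ⟨Finset.mem_of_mem_erase hx, IsConj.refl x⟩
      ⟨Finset.mem_of_mem_erase hx', (isConj_iff.mpr ⟨g, hg⟩).trans (isConj_iff.mpr ⟨g', hg'⟩).symm⟩
    subst hxx
    have heq := idx_below_unique hM hmax.1.1 hle hle' (by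
      show (Subgroup.zpowers x).map _ = (Subgroup.zpowers x).map _
      rw [map_zpowers_conj, map_zpowers_conj, hg, hg'])
    have hbb : IsPBlock M (⟨Subgroup.zpowers x, b⟩ : BrauerPairIdx G).2 := hb.1
    have hbb' : IsPBlock M (⟨Subgroup.zpowers x, b'⟩ : BrauerPairIdx G).2 := hb'.1
    have hmv : conjIdx (g'⁻¹ * g) (⟨Subgroup.zpowers x, b⟩ : BrauerPairIdx G) =
        ⟨Subgroup.zpowers x, b'⟩ := by
      rw [← conjIdx_conjIdx hbb, heq, conjIdx_conjIdx hbb', inv_mul_cancel, conjIdx_one hbb']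
    have hh : g'⁻¹ * g ∈ Subgroup.centralizer ((Subgroup.zpowers x : Subgroup G) : Set G) := by
      rw [centralizer_zpowers_eq, Subgroup.mem_centralizer_singleton_iff]
      have h := hg.trans hg'.symm
      have e1 : g * x = g' * x * g'⁻¹ * g := by rw [← h]; group
      calc g'⁻¹ * g * x = g'⁻¹ * (g * x) := mul_assoc _ _ _
        _ = x * (g'⁻¹ * g) := by rw [e1]; group
    rw [(conjIdx_eq_self_iff hbb).mpr ⟨Subgroup.centralizer_le_normalizer _ hh,
      isInv_iff_conjA.mp (isInv_bel _ b) _ hh⟩] at hmv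
    obtain rfl : b = b' := eq_of_heq (Sigma.mk.inj_iff.mp hmv).2
    rfl
  have hfib : ∀ y y' q, Rel y q → Rel y' q → ∃ t ∈ T, t * y.1 * t⁻¹ = y'.1 := by
    rintro y y' ⟨⟨x, hx⟩, b, hb⟩ ⟨g, hg, hle⟩ ⟨g', hg', hle'⟩
    dsimp only at hg hg' hle hle'
    have hbb : IsPBlock M (⟨Subgroup.zpowers x, b⟩ : BrauerPairIdx G).2 := hb.1
    have hh : conjIdx (g' * g⁻¹) (conjIdx g (⟨Subgroup.zpowers x, b⟩ : BrauerPairIdx G)) =
        conjIdx g' ⟨Subgroup.zpowers x, b⟩ := by
      rw [conjIdx_conjIdx hbb, inv_mul_cancel_right]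
    obtain ⟨t, ht, z, hz, hzt⟩ := abelian_fusion hM hmax hPC hle hle' hh
    refine ⟨t, hTeq ▸ ht, ?_⟩
    rw [map_zpowers_conj, centralizer_zpowers_eq, Subgroup.mem_centralizer_singleton_iff] at hz
    have h2 : z * (t * y.1 * t⁻¹) * z⁻¹ = y'.1 := by
      rw [← hg, ← hg', show z * (t * (g * x * g⁻¹) * t⁻¹) * z⁻¹ =
        (z * t) * (g * x * g⁻¹) * (z * t)⁻¹ by group, ← hzt]
      group
    rw [← hg'] at h2 ⊢
    calc t * y.1 * t⁻¹ = z⁻¹ * (z * (t * y.1 * t⁻¹) * z⁻¹) * z := by group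
      _ = z⁻¹ * ((g' * x * g'⁻¹) * z) := by rw [h2, mul_assoc]
      _ = z⁻¹ * (z * (g' * x * g'⁻¹)) := by rw [hz]
      _ = g' * x * g'⁻¹ := by group
  rcases klein_index hV hTN hodd with ⟨he, hTC⟩ | ⟨he, htr⟩
  · refine ⟨Or.inl he, hk4, ?_⟩
    choose f hf using hex
    have hbij : Function.Bijective f := by
      refine ⟨fun y y' h => ?_, fun q => ?_⟩
      · obtain ⟨t, ht, hty⟩ := hfib y y' (f y) (hf y) (h ▸ hf y')
        refine Subtype.ext ?_
        rw [← hty, ← Subgroup.mem_centralizer_iff.mp (hTC ht) y.1 y.2.1, mul_inv_cancel_right]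
      · obtain ⟨y, hy⟩ := hsur q
        exact ⟨y, huniq y _ _ (hf y) hy⟩
    have := Nat.card_eq_of_bijective f hbij
    rw [card_klein_ne_one hV] at this
    omega
  · refine ⟨Or.inr he, hk4, ?_⟩
    have hconj : ∀ y y' q, Rel y q → Rel y' q := by
      rintro y y' q ⟨g, hg, hle⟩
      obtain ⟨t, ht, hty⟩ := htr y.1 y'.1 y.2.1 y.2.2 y'.2.1 y'.2.2
      refine ⟨t * g, ?_, ?_⟩
      · rw [← hty, ← hg]; group
      · have := subpair_conj hM hle t
        rwa [conjIdx_conjIdx (M := M) (show IsPBlock M (⟨Subgroup.zpowers q.1.1, q.2.1⟩ : BrauerPairIdx G).2 from q.2.2.1),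
          (conjIdx_eq_self_iff (M := M) (show IsPBlock M (⟨P, c⟩ : BrauerPairIdx G).2 from hc')).mpr
            (show t ∈ stabSub M P c from hTeq ▸ ht)] at this
    obtain ⟨y₀⟩ : Nonempty {y : G // y ∈ P ∧ y ≠ 1} :=
      Nat.card_pos_iff.mp (by rw [card_klein_ne_one hV]; omega) |>.1
    obtain ⟨q₀, hq₀⟩ := hex y₀
    have hone : Nat.card Sub = 1 := Nat.card_eq_one_iff_exists.mpr ⟨q₀, fun q => by
      obtain ⟨y, hy⟩ := hsur q
      exact huniq y₀ _ _ (hconj y y₀ q hy) hq₀⟩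
    omega

end Cfsg.Agent.Blocks
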