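import Cfsg.Prelude.Def_BlockLocal
import Cfsg.Agent.Lib.BrauerPairs.Fusion
import Cfsg.Agent.Lib.Blocks.KleinDefect

/-!
# Induction inside centralizers and inclusion of Brauer pairs

For an abelian maximal pair `(P, c)` and `Q ≤ P`, the block of `C(Q)` induced by `c` is the block
of the pair below `(P, c)`.
-/

namespace Cfsg.Agent.Blocks

open MonoidAlgebra BPairs

universe u

variable {G : Type u} [Group G] [Finite G] {p : ℕ} {M : Ideal AlgInt} [M.IsPrime]

set_option linter.unusedSectionVars false

open Classical in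
/-- Pairing a class function of `H` against the central character induced inside `H`. -/
theorem sum_rep_inducedIn {H K : Subgroup G} [Fintype H] [Fintype K] (hKH : K ≤ H) (f : K → ℂ)
    {T : H → ℂ} (hT : ∀ a b : H, T (b * a * b⁻¹) = T a) :
    ∑ C : ConjClasses H, T (rep C) * inducedCentralCharIn H K f ((rep C : H) : G) =
      ∑ k : K, T ⟨k, hKH k.2⟩ * (f k / f 1) := by
  rw [← Finset.sum_fiberwise Finset.univ (fun k : K => ConjClasses.mk (⟨k, hKH k.2⟩ : H))]
  refine Finset.sum_congr rfl fun C _ => ?_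
  rw [inducedCentralCharIn, finsum_mem_eq_toFinset_sum, Finset.mul_sum]
  have hiff : ∀ k : K, (∃ x : H, (x : G) * (k : G) * (x : G)⁻¹ = ((rep C : H) : G)) ↔
      ConjClasses.mk (⟨k, hKH k.2⟩ : H) = C := by
    intro k
    conv_rhs => rw [← mk_rep C, ConjClasses.mk_eq_mk_iff_isConj, isConj_iff]
    exact exists_congr fun x => ⟨fun h => Subtype.ext (by simpa using h),
      fun h => by simpa using congrArg Subtype.val h⟩
  refine Finset.sum_congr (Finset.ext fun k => by simp only [Set.mem_toFinset, Set.mem_ofPred_eq, Finset.mem_filter, Finset.mem_univ, true_and]; exact hiff k) fun k hk => ?_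
  obtain ⟨x, hx⟩ := (hiff k).mpr (Finset.mem_filter.mp hk).2
  congr 1
  conv_lhs => rw [show (rep C : H) = x * ⟨k, hKH k.2⟩ * x⁻¹ from Subtype.ext (by simpa using hx.symm)]
  exact hT _ _

/-- The block induced inside `C(Q)` lies below. -/
theorem subpair_of_inducedIn (hM : IsPModular p M) [Fact p.Prime] {P Q : Subgroup G}
    {c : Set (IrrCharacter (Subgroup.centralizer (P : Set G)))}
    {f : Set (IrrCharacter (Subgroup.centralizer (Q : Set G)))}
    (hPc : IsBrauerPair p M P c) (hP : P ≤ Subgroup.centralizer (P : Set G)) (hQP : Q ≤ P)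
    (hf : IsInducedBlockIn M (Subgroup.centralizer (Q : Set G)) (Subgroup.centralizer (P : Set G)) c f) :
    SubpairLE p M Q f P c := by
  classical
  haveI := Fintype.ofFinite G
  obtain ⟨f₀, ⟨hf₀, hle⟩, -⟩ := existsUnique_below hM hPc hQP
  obtain ⟨χ, hχ⟩ := block_nonempty hf.2.1
  obtain ⟨ξ, hξ⟩ := block_nonempty hf.1
  have hPQ : P ≤ Subgroup.centralizer (Q : Set G) := hP.trans (Subgroup.centralizer_le hQP)
  have hKH : Subgroup.centralizer (P : Set G) ≤ Subgroup.centralizer (Q : Set G) :=
    Subgroup.centralizer_le hQP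
  have hrel : NormalSubpairRel p M (⟨Q, f₀⟩ : BrauerPairIdx G) ⟨P, c⟩ :=
    rel_of_below hM hPc hle hQP (hPQ.trans (Subgroup.centralizer_le_normalizer _))
      Relation.ReflTransGen.refl
  have hone : val M P ξ (bel M (Subgroup.centralizer (Q : Set G)) f₀) = 1 :=
    (isNormalSubpair_iff.mp hrel).2.2.2.2.2 ξ hξ
  have hA := blockCoeff_mem_loc (M := M) hf₀
  have hmem : resH (Subgroup.centralizer (P : Set G))
      (embH (Subgroup.centralizer (Q : Set G)) (bIdem M f₀ : MonoidAlgebra (Loc M) _)) ∈
        Subring.center (MonoidAlgebra (Loc M) (Subgroup.centralizer (P : Set G))) := by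
    rw [mem_center_iff_isClassFn]
    intro u v
    simp only [coeff_resH]
    exact isInv_embH hKH (bIdem M f₀).2 (v : G) v.2 (u : G)
  have hkey : red M (omegaL M ξ ⟨_, hmem⟩) = red M (omegaL M χ (bIdem M f₀)) := by
    have hmemC : ∀ C : ConjClasses (Subgroup.centralizer (Q : Set G)),
        inducedCentralCharIn (Subgroup.centralizer (Q : Set G)) (Subgroup.centralizer (P : Set G))
          (ξ : _ → ℂ) ((rep C : Subgroup.centralizer (Q : Set G)) : G) ∈ Loc M := fun C => by
      simpa using add_mem (memLocalRing_of_mem_ideal (hf.2.2 ξ hξ χ hχ (rep C)))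
        (integral_mem_loc (isIntegral_centralChar χ.2 (rep C)))
    have hL : omegaL M ξ ⟨_, hmem⟩ = ∑ C, (bIdem M f₀ : MonoidAlgebra (Loc M) _).coeff (rep C) *
        (⟨_, hmemC C⟩ : Loc M) := by
      apply Subtype.ext
      simp only [coe_omegaL, AddSubmonoidClass.coe_finsetSum, MulMemClass.coe_mul]
      rw [sum_rep_inducedIn hKH (ξ : _ → ℂ)
        (T := fun u => (((bIdem M f₀ : MonoidAlgebra (Loc M) _).coeff u : Loc M) : ℂ))
        (fun a b => congrArg (fun z : Loc M => (z : ℂ))
          ((mem_center_iff_isClassFn _).mp (bIdem M f₀).2 a b)), omega, ev_eq_sum, Finset.sum_div]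
      refine Finset.sum_congr rfl fun k _ => ?_
      rw [coeff_map', coeff_resH, coeff_embH (Subgroup.centralizer (Q : Set G)) _
        (⟨k, hKH k.2⟩ : Subgroup.centralizer (Q : Set G)), mul_div_assoc]
      rfl
    rw [hL, omegaL_eq_sum, map_sum, map_sum]
    refine Finset.sum_congr rfl fun C _ => ?_
    rw [map_mul, map_mul]
    exact congrArg _ (red_eq_iff.mpr (hf.2.2 ξ hξ χ hχ (rep C)))
  have hval : red M (omegaL M ξ ⟨_, hmem⟩) = 1 := by
    rw [← omegaBar_redZ, ← hone, val_eq_omegaBar P ξ
      (BPairs.resH_mem_center_of_isInv (isInv_mono hKH (isInv_bel _ f₀)))]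
    refine congrArg _ (Subtype.ext ?_)
    simp only [coe_redZ, bel, bBar, redG, map_resH, map_embH]
  rw [hval, omegaL_bIdem hA] at hkey
  have hχ₀ : χ ∈ f₀ := by
    by_contra h
    rw [if_neg h, map_zero] at hkey
    exact one_ne_zero hkey
  rw [block_eq_of_mem hf.2.1 hf₀ hχ hχ₀]
  exact hle

/-- The block below is induced inside `C(Q)`. -/
theorem inducedIn_of_subpair (hM : IsPModular p M) [Fact p.Prime] {P Q : Subgroup G}
    {c : Set (IrrCharacter (Subgroup.centralizer (P : Set G)))}
    {f : Set (IrrCharacter (Subgroup.centralizer (Q : Set G)))}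
    (hPc : IsBrauerPair p M P c) (hP : P ≤ Subgroup.centralizer (P : Set G)) (hQP : Q ≤ P)
    (hf : IsPBlock M f) (hle : SubpairLE p M Q f P c) :
    IsInducedBlockIn M (Subgroup.centralizer (Q : Set G)) (Subgroup.centralizer (P : Set G)) c f := by
  classical
  haveI := Fintype.ofFinite G
  have hPQ : P ≤ Subgroup.centralizer (Q : Set G) := hP.trans (Subgroup.centralizer_le hQP)
  have hKH : Subgroup.centralizer (P : Set G) ≤ Subgroup.centralizer (Q : Set G) :=
    Subgroup.centralizer_le hQP
  have hrel : NormalSubpairRel p M (⟨Q, f⟩ : BrauerPairIdx G) ⟨P, c⟩ :=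
    rel_of_below hM hPc hle hQP (hPQ.trans (Subgroup.centralizer_le_normalizer _))
      Relation.ReflTransGen.refl
  have hinv : ∀ a : ZG (Res M) (Subgroup.centralizer (Q : Set G)),
      IsInv P (embH (Subgroup.centralizer (Q : Set G)) (a : MonoidAlgebra (Res M) (Subgroup.centralizer (Q : Set G)))) ∧
        IsInv (Subgroup.centralizer (P : Set G)) (embH (Subgroup.centralizer (Q : Set G)) (a : MonoidAlgebra (Res M) (Subgroup.centralizer (Q : Set G)))) := fun a =>
    ⟨isInv_embH hPQ a.2, isInv_embH hKH a.2⟩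
  refine ⟨hPc.2, hf, fun ξ hξ χ hχ h => ?_⟩
  have hone : val M P ξ (bel M (Subgroup.centralizer (Q : Set G)) f) = 1 :=
    (isNormalSubpair_iff.mp hrel).2.2.2.2.2 ξ hξ
  let φ : ZG (Res M) (Subgroup.centralizer (Q : Set G)) →+* Res M :=
    { toFun := fun a => val M P ξ (embH (Subgroup.centralizer (Q : Set G))
        (a : MonoidAlgebra (Res M) (Subgroup.centralizer (Q : Set G))))
      map_one' := by rw [OneMemClass.coe_one, map_one, val_one]
      map_mul' := fun a b => by
        rw [MulMemClass.coe_mul, map_mul, val_mul hM hPc.1 ξ (hinv a).1 (hinv b).1 (hinv a).2 (hinv b).2]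
      map_zero' := by simp [val]
      map_add' := fun a b => by rw [AddMemClass.coe_add, map_add, val_add] }
  obtain ⟨χ', hχ'⟩ := exists_eq_omegaBar hM φ fun r => by
    show val M P ξ (embH _ (single (1 : Subgroup.centralizer (Q : Set G)) r)) = r
    rw [embH_single, OneMemClass.coe_one, val_eq_omegaBar P ξ
      (BPairs.resH_mem_center_of_isInv (by
        rw [← OneMemClass.coe_one (Subgroup.centralizer (Q : Set G)), ← embH_single]
        exact (hinv (scalarZ r)).2))]
    refine Eq.trans (congrArg _ (Subtype.ext ?_)) (omegaBar_scalarZ ξ r)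
    show resH _ (single (1 : G) r) = single 1 r
    rw [← OneMemClass.coe_one (Subgroup.centralizer (P : Set G)), ← embH_single, resH_embH]
  have hχ'f : χ' ∈ f := by
    by_contra hn
    have h1 : φ (bBar M f) = 1 := hone
    rw [hχ', omegaBar_bBar (blockCoeff_mem_loc hf), if_neg hn] at h1
    exact zero_ne_one h1
  have hcl : φ (classSumZ (Res M) h) = red M (centralCharL M χ h) := by
    rw [hχ', omegaBar_eq_of_sameBlock ((mem_block_iff hf hχ'f).mp hχ),
      show classSumZ (Res M) h = redZ M _ (classSumZ (Loc M) h) from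
        Subtype.ext (by simp [map_classSum]),
      omegaBar_redZ, omegaL_classSumZ]
  have hmem : resH (Subgroup.centralizer (P : Set G))
      (embH (Subgroup.centralizer (Q : Set G)) (classSum (Loc M) h)) ∈
        Subring.center (MonoidAlgebra (Loc M) (Subgroup.centralizer (P : Set G))) := by
    rw [mem_center_iff_isClassFn]
    intro u v
    simp only [coeff_resH]
    exact isInv_embH hKH (classSum_mem_center h) (v : G) v.2 (u : G)
  have hind : ((omegaL M ξ ⟨_, hmem⟩ : Loc M) : ℂ) =
      inducedCentralCharIn (Subgroup.centralizer (Q : Set G)) (Subgroup.centralizer (P : Set G))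
        (ξ : _ → ℂ) (h : G) := by
    rw [coe_omegaL, omega, ev_eq_sum, Finset.sum_div, inducedCentralCharIn,
      finsum_mem_eq_toFinset_sum]
    refine (Finset.sum_subset_zero_on_sdiff (Finset.subset_univ _) (fun k hk => ?_) fun k hk => ?_).symm
    · simp only [Finset.mem_sdiff, Finset.mem_univ, Set.mem_toFinset, Set.mem_ofPred_eq,
        true_and] at hk
      rw [coeff_map', coeff_resH, coeff_embH _ _ (⟨k, hKH k.2⟩ : Subgroup.centralizer (Q : Set G)),
        classSum, coeff_ofFun, classInd_neg fun hc => hk ?_]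
      · simp
      · obtain ⟨x, hx⟩ := isConj_iff.mp hc.symm
        exact ⟨x, by simpa using congrArg Subtype.val hx⟩
    · simp only [Set.mem_toFinset, Set.mem_ofPred_eq] at hk
      obtain ⟨x, hx⟩ := hk
      rw [coeff_map', coeff_resH, coeff_embH _ _ (⟨k, hKH k.2⟩ : Subgroup.centralizer (Q : Set G)),
        classSum, coeff_ofFun, classInd_pos (isConj_iff.mpr ⟨x, Subtype.ext (by simpa using hx)⟩).symm]
      simp
  rw [← hind]
  refine red_eq_iff.mp (Eq.trans ?_ hcl)
  show _ = val M P ξ (embH _ (classSum (Res M) h))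
  rw [← omegaBar_redZ]
  refine Eq.trans ?_ (val_eq_omegaBar P ξ (a := embH _ (classSum (Res M) h))
    (BPairs.resH_mem_center_of_isInv (hinv (classSumZ (Res M) h)).2)).symm
  refine congrArg _ (Subtype.ext ?_)
  simp only [coe_redZ, redG, map_resH, map_embH, map_classSum, coe_classSumZ]

end Cfsg.Agent.Blocks
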