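import Cfsg.Agent.Lib.Blocks.BrauerCorr
import Cfsg.Agent.Lib.Blocks.CoverDefect
import Cfsg.Agent.Lib.Blocks.InducedIn

/-!
# Covering blocks and the normalizer of the defect group (Harris-Knörr)
-/

namespace Cfsg.Agent.HarrisKnorr

open MonoidAlgebra Cfsg.Agent.Blocks

universe u

variable {G : Type u} [Group G] [Finite G] {p : ℕ} {M : Ideal AlgInt} [M.IsPrime]

set_option linter.unusedSectionVars false

/-- A subgroup of a subgroup and its image. -/
noncomputable def subEquiv {K L : Subgroup G} (A : Subgroup K) (h : A.map K.subtype = L) :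
    A ≃* L :=
  (A.equivMapOfInjective K.subtype K.subtype_injective).trans (MulEquiv.subgroupCongr h)

@[simp] theorem coe_subEquiv {K L : Subgroup G} (A : Subgroup K) (h : A.map K.subtype = L)
    (a : A) : ((subEquiv A h a : L) : G) = ((a : K) : G) := rfl

@[simp] theorem coe_subEquiv_symm {K L : Subgroup G} (A : Subgroup K) (h : A.map K.subtype = L)
    (l : L) : ((((subEquiv A h).symm l : A) : K) : G) = (l : G) := by
  rw [← coe_subEquiv A h, MulEquiv.apply_symm_apply]

theorem inducedCentralChar_sub {N L : Subgroup G} (A : Subgroup N) (h : A.map N.subtype = L)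
    (f : L → ℂ) (n : N) :
    inducedCentralChar A (fun a => f (subEquiv A h a)) n = inducedCentralCharIn N L f (n : G) := by
  simp only [inducedCentralChar, inducedCentralCharIn, map_one]
  refine finsum_mem_eq_of_bijOn (subEquiv A h)
    ⟨fun a ha => ?_, (subEquiv A h).injective.injOn, fun l hl => ?_⟩ fun _ _ => rfl
  · obtain ⟨x, hx⟩ := isConj_iff.mp (IsConj.symm ha)
    exact ⟨x, by simpa using congrArg Subtype.val hx⟩
  · obtain ⟨x, hx⟩ := hl
    refine ⟨(subEquiv A h).symm l, IsConj.symm (isConj_iff.mpr ⟨x, Subtype.ext ?_⟩),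
      MulEquiv.apply_symm_apply _ _⟩
    simpa using hx

theorem isInducedBlock_sub {N L : Subgroup G} (A : Subgroup N) (h : A.map N.subtype = L)
    {e : Set (IrrCharacter L)} {d : Set (IrrCharacter N)} (hed : IsInducedBlockIn M N L e d) :
    IsInducedBlock M A (BPairs.pullSet (subEquiv A h) e) d := by
  refine ⟨BPairs.isPBlock_pullSet _ hed.1, hed.2.1, fun η hη θ hθ n => ?_⟩
  have key := hed.2.2 _ hη θ hθ n
  rw [← inducedCentralChar_sub A h] at key
  simpa [Glauberman.compIrr_apply] using key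

theorem isInducedBlockIn_sub {N L : Subgroup G} (A : Subgroup N) (h : A.map N.subtype = L)
    {e : Set (IrrCharacter L)} (he : IsPBlock M e) {d : Set (IrrCharacter N)}
    (hind : IsInducedBlock M A (BPairs.pullSet (subEquiv A h) e) d) :
    IsInducedBlockIn M N L e d := by
  refine ⟨he, hind.2.1, fun ξ hξ θ hθ n => ?_⟩
  have key := hind.2.2 _ ((BPairs.compIrr_mem_pullSet (subEquiv A h)).mpr hξ) θ hθ n
  rw [← inducedCentralChar_sub A h]
  exact key

/-- Congruences at one pair of members give the induced block. -/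
theorem isInducedBlock_of_pair {H : Subgroup G} {b : Set (IrrCharacter H)}
    {B : Set (IrrCharacter G)} (hb : IsPBlock M b) (hB : IsPBlock M B) {ξ : IrrCharacter H}
    (hξ : ξ ∈ b) {χ : IrrCharacter G} (hχ : χ ∈ B)
    (h : ∀ g, MemLocalIdeal M (inducedCentralChar H (ξ : H → ℂ) g - centralChar (χ : G → ℂ) g)) :
    IsInducedBlock M H b B :=
  (isInducedBlock_iff hb hB hξ hχ).mpr (indBar_eq_of_classSum H ξ χ fun g => by
    rw [indBar_classSumZ, omegaBar_classSumZ, red_eq_iff]
    exact h g)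

theorem inducedCentralCharIn_conj (N L : Subgroup G) [hN : N.Normal] (k : G)
    (hk : k ∈ Subgroup.normalizer (L : Set G)) {f f' : L → ℂ}
    (hf : ∀ l l' : L, (l' : G) = k * l * k⁻¹ → f l = f' l') (n : G) :
    inducedCentralCharIn N L f n = inducedCentralCharIn N L f' (k * n * k⁻¹) := by
  have hL := Subgroup.mem_normalizer_iff.mp hk
  have h1 : f 1 = f' 1 := hf 1 1 (by simp)
  refine finsum_mem_eq_of_bijOn (fun l : L => ⟨k * l * k⁻¹, (hL _).mp l.2⟩)
    ⟨fun l hl => ?_, fun a _ b _ hab => ?_, fun l hl => ?_⟩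
    fun l _ => by rw [h1, hf l ⟨k * l * k⁻¹, (hL _).mp l.2⟩ rfl]
  · obtain ⟨x, hx⟩ := hl
    exact ⟨⟨k * x * k⁻¹, hN.conj_mem _ x.2 k⟩, by rw [← hx]; group⟩
  · exact Subtype.ext (by simpa using congrArg Subtype.val hab)
  · obtain ⟨x, hx⟩ := hl
    refine ⟨⟨k⁻¹ * l * k, (hL _).mpr (by simp [mul_assoc])⟩,
      ⟨⟨k⁻¹ * x * k, ?_⟩, ?_⟩, Subtype.ext (by simp [mul_assoc])⟩
    · simpa using hN.conj_mem _ x.2 k⁻¹
    · calc k⁻¹ * (x : G) * k * (k⁻¹ * l * k) * (k⁻¹ * x * k)⁻¹
          = k⁻¹ * ((x : G) * l * (x : G)⁻¹) * k := by group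
        _ = n := by rw [hx]; group

open Classical in
/-- The block induced by a block covering `e` covers the block induced by `e`. -/
theorem covers_of_induced {N H L : Subgroup G} [N.Normal] [Fintype N] [Fintype L]
    [Fintype (N.subgroupOf H)] (hLN : L ≤ N) (hL : (N.subgroupOf H).map H.subtype = L)
    {e : Set (IrrCharacter L)} {d : Set (IrrCharacter N)} (hed : IsInducedBlockIn M N L e d)
    {c : Set (IrrCharacter H)} {B : Set (IrrCharacter G)} (hcB : IsInducedBlock M H c B)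
    {ψ : IrrCharacter H} (hψ : ψ ∈ c) {ξ : IrrCharacter L} (hξ : ξ ∈ e)
    (hcon : classInner (fun x : N.subgroupOf H => (ψ : H → ℂ) x)
      (compIrr (subEquiv (N.subgroupOf H) hL) ξ : N.subgroupOf H → ℂ) ≠ 0) :
    ∃ χ ∈ B, ∃ θ ∈ d, classInner (fun n : N => (χ : G → ℂ) n) (θ : N → ℂ) ≠ 0 := by
  obtain ⟨χ, hχ⟩ := block_nonempty hcB.2.1
  obtain ⟨θ, hθ⟩ := block_nonempty hed.2.1
  refine ⟨χ, hχ, hasConstituent_of_congr hed.2.1 χ hθ fun n => ?_⟩
  suffices h : MemLocalIdeal M (inducedCentralChar H (ψ : H → ℂ) (n : G) -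
      inducedCentralChar N (θ : N → ℂ) (n : G)) by
    simpa using memLocalIdeal_sub h (hcB.2.2 ψ hψ χ hχ n)
  set a : MonoidAlgebra ℂ G := classSum ℂ (n : G) with ha
  have e1 : inducedCentralChar H (ψ : H → ℂ) (n : G) =
      ∑ l : L, a.coeff (l : G) * ((ξ : L → ℂ) l / (ξ : L → ℂ) 1) := by
    rw [inducedCentralChar_eq_omega, omega_eq_of_supported (G := H) (N := N.subgroupOf H) ψ hcon
      (resH_mem_center H (classSum_mem_center _))
      (fun u hu => by rw [coeff_resH]; exact classSum_supported n hu), omega, ev_eq_sum,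
      Finset.sum_div]
    refine Fintype.sum_equiv (subEquiv (N.subgroupOf H) hL).toEquiv _ _ fun x => ?_
    simp only [coeff_resH, coe_compIrr, map_one, MulEquiv.toEquiv_eq_coe, MulEquiv.coe_toEquiv,
      coe_subEquiv, mul_div_assoc, ha]
  have e2 : inducedCentralChar N (θ : N → ℂ) (n : G) =
      ∑ K : ConjClasses N, a.coeff ((rep K : N) : G) * centralChar (θ : N → ℂ) (rep K) := by
    rw [inducedCentralChar_eq_omega, omega_central_eq_sum (isClassFn_irr θ)
      (resH_mem_center N (classSum_mem_center _))]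
    simp [ha]
  rw [e1, e2, ← sum_rep_inducedIn hLN (ξ : L → ℂ) (T := fun u : N => a.coeff (u : G))
    (fun u v => (mem_center_iff_isClassFn a).mp (classSum_mem_center _) (u : G) (v : G)),
    ← Finset.sum_sub_distrib]
  refine Finset.sum_induction _ (MemLocalIdeal M) (fun _ _ => memLocalIdeal_add)
    memLocalIdeal_zero fun K _ => ?_
  by_cases hK : IsConj (n : G) ((rep K : N) : G)
  · simpa [ha, classSum, classInd_pos hK] using hed.2.2 ξ hξ θ hθ (rep K)
  · simpa [ha, classSum, classInd_neg hK] using memLocalIdeal_zero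

/-- A block with defect group `P` induces its correspondent. -/
theorem isInducedBlock_of_congrOn (hM : IsPModular p M) {Q P H : Subgroup G} (hQ : IsPGroup p Q)
    (hQH : Q ≤ H) (hCH : Subgroup.centralizer (Q : Set G) ≤ H)
    (hHN : H ≤ Subgroup.normalizer (Q : Set G)) (hP : IsPGroup p P) (hPH : P ≤ H) (hQP : Q ≤ P)
    {B : Set (IrrCharacter G)} (hB : IsPBlock M B) {c : Set (IrrCharacter H)} (hc : IsPBlock M c)
    (hcP : IsDefectGroup p M c (P.subgroupOf H)) (hcong : CongrOn M P H B c) :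
    IsInducedBlock M H c B := by
  haveI : Fact p.Prime := ⟨hM.1⟩
  haveI := charP_res hM
  obtain ⟨B', hB'⟩ := exists_inducedBlock hM hQ hQH hCH hHN hc
  obtain ⟨ξ, hξ⟩ := block_nonempty hc
  obtain ⟨χ, hχ⟩ := block_nonempty hB'.2.1
  suffices h : χ ∈ B by rwa [← block_eq_of_mem hB'.2.1 hB hχ h]
  by_contra hne
  have h1 := indBar_eq_of_isInducedBlock hB' hξ hχ (bBar M B)
  rw [indBar_eq_brH hM hQ hQH hCH hHN, omegaBar_bBar (blockCoeff_mem_loc hB), if_neg hne] at h1
  have hP' : IsPGroup p (P.subgroupOf H) := hP.of_equiv (Subgroup.subgroupOfEquivOfLe hPH).symm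
  set x := brH Q H hQ hCH hHN (bBar M B) with hx
  have hxx : x * x = x := by rw [hx, ← map_mul, bBar_mul_self (blockCoeff_mem_loc hB)]
  have hcc := bBar_mul_self (blockCoeff_mem_loc hc)
  have h0 : x * bBar M c = 0 := by
    refine idem_ext hM (by rw [mul_mul_mul_comm, hxx, hcc]) (mul_zero 0) fun η => ?_
    rw [map_mul, map_zero, omegaBar_bBar (blockCoeff_mem_loc hc)]
    split_ifs with hη
    · rw [omegaBar_eq_of_sameBlock ((mem_block_iff hc hη).mp hξ), h1, zero_mul]
    · rw [mul_zero]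
  have heq : br (P.subgroupOf H) hP' x = br (P.subgroupOf H) hP' (bBar M c) := by
    rw [br_apply, br_apply]
    refine MonoidAlgebra.ext (Finsupp.ext fun u => ?_)
    by_cases hu : u ∈ Subgroup.centralizer ((P.subgroupOf H : Subgroup H) : Set H)
    · have huP := (mem_centralizer_subgroupOf hPH).mp hu
      rw [coeff_trunc_of_mem _ hu, coeff_trunc_of_mem _ hu, hx, coe_brH, coeff_resH,
        coeff_trunc_of_mem _ (Subgroup.centralizer_le hQP huP),
        coeff_bBar_eq_iff (blockCoeff_mem_loc hB) (blockCoeff_mem_loc hc),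
        ← subgroupBlockCoeff_coe]
      exact hcong _ huP
    · rw [coeff_trunc_of_notMem _ hu, coeff_trunc_of_notMem _ hu]
  refine (br_bBar_ne_zero_iff hM hc hcP hP').mpr ⟨1, by rw [map_conj_one]⟩ ?_
  rw [← hcc, map_mul]
  nth_rewrite 1 [← heq]
  rw [← map_mul, h0, map_zero]

theorem normalizer_le_of_inf {N Q D : Subgroup G} [hN : N.Normal] (hD : D ⊓ N = Q) :
    Subgroup.normalizer (D : Set G) ≤ Subgroup.normalizer (Q : Set G) := by
  intro g hg
  rw [Subgroup.mem_normalizer_iff] at hg ⊢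
  intro u
  rw [← hD]
  simp only [Subgroup.mem_inf]
  refine and_congr (hg u) ⟨fun h => hN.conj_mem _ h g, fun h => ?_⟩
  simpa [mul_assoc] using hN.conj_mem _ h g⁻¹

/-- A block over `e` has a defect group meeting `N` in `Q`, which is also one of the induced
block. -/
theorem exists_defect_of_cover (hM : IsPModular p M) {N Q L : Subgroup G} [N.Normal]
    [Fintype ((N.subgroupOf (Subgroup.normalizer (Q : Set G))))] (hQ : IsPGroup p Q) (hQN : Q ≤ N)
    (hL : (N.subgroupOf (Subgroup.normalizer (Q : Set G))).map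
      (Subgroup.normalizer (Q : Set G)).subtype = L)
    {e : Set (IrrCharacter L)} (he : IsPBlock M e) (heQ : IsDefectGroup p M e (Q.subgroupOf L))
    {c : Set (IrrCharacter (Subgroup.normalizer (Q : Set G)))} (hc : IsPBlock M c)
    {ψ : IrrCharacter (Subgroup.normalizer (Q : Set G))} (hψ : ψ ∈ c) {ξ : IrrCharacter L}
    (hξ : ξ ∈ e)
    (hcon : classInner (fun x : N.subgroupOf (Subgroup.normalizer (Q : Set G)) =>
        (ψ : (Subgroup.normalizer (Q : Set G)) → ℂ) x)
      (compIrr (subEquiv _ hL) ξ : N.subgroupOf (Subgroup.normalizer (Q : Set G)) → ℂ) ≠ 0)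
    {B : Set (IrrCharacter G)} (hcB : IsInducedBlock M (Subgroup.normalizer (Q : Set G)) c B) :
    ∃ D : Subgroup G, IsPGroup p D ∧ D ⊓ N = Q ∧
      IsDefectGroup p M c (D.subgroupOf (Subgroup.normalizer (Q : Set G))) ∧
      IsDefectGroup p M B D ∧ CongrOn M D (Subgroup.normalizer (Q : Set G)) B c := by
  haveI : Fact p.Prime := ⟨hM.1⟩
  have hQH : Q ≤ (Subgroup.normalizer (Q : Set G)) := Subgroup.le_normalizer
  have hQ'N' : Q.subgroupOf (Subgroup.normalizer (Q : Set G)) ≤ (N.subgroupOf (Subgroup.normalizer (Q : Set G))) := fun x hx => hQN hx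
  have hdef : IsDefectGroup p M (BPairs.pullSet (subEquiv (N.subgroupOf (Subgroup.normalizer (Q : Set G))) hL) e)
      ((Q.subgroupOf (Subgroup.normalizer (Q : Set G))).subgroupOf (N.subgroupOf (Subgroup.normalizer (Q : Set G)))) := by
    have h := isDefectGroup_pullSet (subEquiv (N.subgroupOf (Subgroup.normalizer (Q : Set G))) hL) heQ
    convert h using 2
    ext x
    rw [Subgroup.mem_map_equiv]
    simp [Subgroup.mem_subgroupOf]
  obtain ⟨P, hP, hPN⟩ := knorr_cover hM (BPairs.isPBlock_pullSet (subEquiv (N.subgroupOf (Subgroup.normalizer (Q : Set G))) hL) he) hQ'N' hdef hc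
    ⟨ψ, hψ, _, (BPairs.compIrr_mem_pullSet (subEquiv (N.subgroupOf (Subgroup.normalizer (Q : Set G))) hL)).mpr hξ, hcon⟩
  set D := P.map (Subgroup.normalizer (Q : Set G)).subtype with hD
  have hDP : D.subgroupOf (Subgroup.normalizer (Q : Set G)) = P := Subgroup.comap_map_eq_self_of_injective (Subgroup.normalizer (Q : Set G)).subtype_injective P
  have hDN : D ⊓ N = Q := by
    ext x
    constructor
    · rintro ⟨⟨y, hy, rfl⟩, hxN⟩
      exact (hPN.le ⟨hy, hxN⟩ :)
    · intro hx
      exact ⟨⟨⟨x, hQH hx⟩, (hPN.ge hx).1, rfl⟩, hQN hx⟩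
  obtain ⟨-, -, -, hPp, -⟩ := defectGroup_spec hP
  have hDp : IsPGroup p D := hPp.map _
  have hND : Subgroup.normalizer (D : Set G) ≤ (Subgroup.normalizer (Q : Set G)) := normalizer_le_of_inf hDN
  have hcD : IsDefectGroup p M c (D.subgroupOf (Subgroup.normalizer (Q : Set G))) := hDP.symm ▸ hP
  obtain ⟨B', ⟨hB'b, hB'D, hB'c⟩, -⟩ := (brauer_correspondence hM hDp hND).2 c hc hcD
  have hind := isInducedBlock_of_congrOn hM hQ hQH (Subgroup.centralizer_le_normalizer _) le_rfl
    hDp (Subgroup.map_subtype_le _) (hDN ▸ inf_le_left) hB'b hc hcD hB'c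
  rw [inducedBlock_unique hcB hind]
  exact ⟨D, hDp, hDN, hcD, hB'D, hB'c⟩

/-- Blocks over `e` inducing the same block are equal. -/
theorem eq_of_defect (hM : IsPModular p M) {N Q : Subgroup G} [hN : N.Normal] (hQ : IsPGroup p Q)
    {B : Set (IrrCharacter G)} (hB : IsPBlock M B)
    {c c' : Set (IrrCharacter (Subgroup.normalizer (Q : Set G)))}
    (hcB : IsInducedBlock M (Subgroup.normalizer (Q : Set G)) c B)
    {D D' : Subgroup G} (hDN : D ⊓ N = Q)
    (hcD : IsDefectGroup p M c (D.subgroupOf (Subgroup.normalizer (Q : Set G))))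
    (hBD : IsDefectGroup p M B D) (hD'p : IsPGroup p D') (hD'N : D' ⊓ N = Q)
    (hc'b : IsPBlock M c')
    (hc'D : IsDefectGroup p M c' (D'.subgroupOf (Subgroup.normalizer (Q : Set G))))
    (hBD' : IsDefectGroup p M B D')
    (hcong' : CongrOn M D' (Subgroup.normalizer (Q : Set G)) B c') : c = c' := by
  haveI : Fact p.Prime := ⟨hM.1⟩
  obtain ⟨x, hx⟩ := defect_conj hM hB hBD hBD'
  have hxH : x ∈ (Subgroup.normalizer (Q : Set G)) := by
    rw [Subgroup.mem_normalizer_iff]
    intro u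
    rw [← hDN]
    conv_rhs => rw [hDN, ← hD'N, ← hx]
    simp only [Subgroup.mem_inf, mem_map_conj]
    refine and_congr (by simp [mul_assoc]) ⟨fun h => hN.conj_mem _ h x, fun h => ?_⟩
    simpa [mul_assoc] using hN.conj_mem _ h x⁻¹
  have hD'H : D' ≤ (Subgroup.normalizer (Q : Set G)) := Subgroup.le_normalizer.trans (normalizer_le_of_inf hD'N)
  have hcD' : IsDefectGroup p M c (D'.subgroupOf (Subgroup.normalizer (Q : Set G))) := by
    have h := isDefectGroup_conj hcD (⟨x, hxH⟩ : (Subgroup.normalizer (Q : Set G)))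
    convert h using 1
    ext u
    rw [Subgroup.mem_subgroupOf, ← hx, mem_map_conj, mem_map_conj, Subgroup.mem_subgroupOf]
    simp
  have hND' : Subgroup.normalizer (D' : Set G) ≤ (Subgroup.normalizer (Q : Set G)) := normalizer_le_of_inf hD'N
  obtain ⟨B', ⟨hB'b, hB'D, hB'c⟩, -⟩ := (brauer_correspondence hM hD'p hND').2 c hcB.1 hcD'
  have hind := isInducedBlock_of_congrOn hM hQ Subgroup.le_normalizer
    (Subgroup.centralizer_le_normalizer _) le_rfl hD'p hD'H (hD'N ▸ inf_le_left) hB'b hcB.1 hcD'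
    hB'c
  rw [← inducedBlock_unique hcB hind] at hB'c
  exact ((brauer_correspondence hM hD'p hND').1 B hB hBD').unique ⟨hcB.1, hcD', hB'c⟩
    ⟨hc'b, hc'D, hcong'⟩

theorem conjIrr_of_mem {N : Subgroup G} [N.Normal] [Fintype N] {y : G} (hy : y ∈ N)
    (θ : IrrCharacter N) : conjIrr y θ = θ := by
  refine Subtype.ext (funext fun n => ?_)
  have h := CT.isClassFunction_of_isIrr θ.2 n ⟨y, hy⟩
  rw [coe_conjIrr, CT.conjFun_eq_comp]
  convert h using 2
  exact congrArg _ (Subtype.ext (by simp [mul_assoc]))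

/-- A block of the normalizer over a block covering `d` lies over the correspondent of `d`. -/
theorem exists_cover_correspondent (hM : IsPModular p M) {N Q L : Subgroup G} [hN : N.Normal]
    [Fintype N] [Fintype L] [Fintype ((N.subgroupOf (Subgroup.normalizer (Q : Set G))))]
    (hQ : IsPGroup p Q) (hQN : Q ≤ N)
    (hL : (N.subgroupOf (Subgroup.normalizer (Q : Set G))).map
      (Subgroup.normalizer (Q : Set G)).subtype = L)
    {d : Set (IrrCharacter N)} (hd : IsPBlock M d) (hdQ : IsDefectGroup p M d (Q.subgroupOf N))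
    {e : Set (IrrCharacter L)} (heQ : IsDefectGroup p M e (Q.subgroupOf L))
    (hed : IsInducedBlockIn M N L e d)
    {c : Set (IrrCharacter (Subgroup.normalizer (Q : Set G)))} {B : Set (IrrCharacter G)}
    (hcB : IsInducedBlock M (Subgroup.normalizer (Q : Set G)) c B)
    (hcov : ∃ χ ∈ B, ∃ θ ∈ d, classInner (fun n : N => (χ : G → ℂ) n) (θ : N → ℂ) ≠ 0) :
    ∃ ψ ∈ c, ∃ ξ ∈ e, classInner (fun x : N.subgroupOf (Subgroup.normalizer (Q : Set G)) =>
        (ψ : (Subgroup.normalizer (Q : Set G)) → ℂ) x)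
      (compIrr (subEquiv _ hL) ξ : N.subgroupOf (Subgroup.normalizer (Q : Set G)) → ℂ) ≠ 0 := by
  haveI : Fact p.Prime := ⟨hM.1⟩
  haveI := charP_res hM
  letI := Fintype.ofFinite G
  letI : Fintype (Subgroup.normalizer (Q : Set G)) := Fintype.ofFinite _
  set φ := subEquiv (N.subgroupOf (Subgroup.normalizer (Q : Set G))) hL
  have hLeq : L = N ⊓ (Subgroup.normalizer (Q : Set G)) := by rw [← hL]; exact Subgroup.subgroupOf_map_subtype N (Subgroup.normalizer (Q : Set G))
  have hLN : L ≤ N := hLeq ▸ inf_le_left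
  obtain ⟨ψ, hψ⟩ := block_nonempty hcB.1
  obtain ⟨ξ', hξ'⟩ := CT.exists_constituent_restrict (N.subgroupOf (Subgroup.normalizer (Q : Set G))) ψ.2
  set ξ : IrrCharacter L := compIrr φ.symm ξ'
  have hξξ : compIrr φ ξ = ξ' := Subtype.ext (funext fun x => by simp [ξ])
  -- the block of `N` induced by the block under `c`
  set QN : Subgroup N := Q.subgroupOf N with hQN'
  have hQNp : IsPGroup p QN := hQ.of_equiv (Subgroup.subgroupOfEquivOfLe hQN).symm
  set K := Subgroup.normalizer (QN : Set N)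
  have hK : K.map N.subtype = L := by
    rw [hLeq]
    ext u
    constructor
    · rintro ⟨y, hy, rfl⟩
      refine ⟨y.2, Subgroup.mem_normalizer_iff.mpr fun v => ⟨fun hv => ?_, fun hv => ?_⟩⟩
      · exact ((Subgroup.mem_normalizer_iff.mp hy) ⟨v, hQN hv⟩).mp hv
      · have hv' : v ∈ N := by simpa [mul_assoc] using hN.conj_mem _ (hQN hv) (y : G)⁻¹
        exact ((Subgroup.mem_normalizer_iff.mp hy) ⟨v, hv'⟩).mpr hv
    · rintro ⟨huN, huH⟩
      exact ⟨⟨u, huN⟩, Subgroup.mem_normalizer_iff.mpr fun v =>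
        (Subgroup.mem_normalizer_iff.mp huH) v, rfl⟩
  set φN := subEquiv K hK
  set e' := blockOf M (ξ : L → ℂ)
  have he' : IsPBlock M e' := isPBlock_blockOf ξ
  obtain ⟨d', hd'⟩ := exists_inducedBlock hM hQNp Subgroup.le_normalizer
    (Subgroup.centralizer_le_normalizer _) le_rfl (BPairs.isPBlock_pullSet φN he')
  have hed' : IsInducedBlockIn M N L e' d' := isInducedBlockIn_sub K hK he' hd'
  obtain ⟨χ', hχ', θ', hθ', hcon'⟩ := covers_of_induced hLN hL hed' hcB hψ (self_mem_blockOf ξ)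
    (show classInner _ (compIrr φ ξ : (N.subgroupOf (Subgroup.normalizer (Q : Set G))) → ℂ) ≠ 0 by rw [hξξ]; exact hξ')
  obtain ⟨χ, hχ, θ, hθ, hcon⟩ := hcov
  obtain ⟨g, hg⟩ := covered_conj hcB.2.1 hd hχ hθ hcon hχ' hcon'
  -- a defect group of that block
  set σ := (MulAut.conjNormal g : N ≃* N)
  have hd'eq : d' = BPairs.pullSet σ.symm d := by
    refine block_eq_of_mem hd'.2.1 (BPairs.isPBlock_pullSet _ hd) hθ' ?_
    show Glauberman.compIrr σ.symm.symm θ' ∈ d
    convert hg using 1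
    refine Subtype.ext (funext fun n => ?_)
    rw [coe_conjIrr, CT.conjFun_eq_comp]
    rfl
  have hd'Q : IsDefectGroup p M d' (QN.map σ.toMonoidHom) := by
    have h := isDefectGroup_pullSet σ.symm hdQ
    rwa [← hd'eq, MulEquiv.symm_symm] at h
  have hbr : br QN hQNp (bBar M d') ≠ 0 := by
    intro h0
    have h1 := indBar_eq_of_isInducedBlock hd'
      ((BPairs.compIrr_mem_pullSet φN).mpr (self_mem_blockOf ξ)) hθ' (bBar M d')
    rw [indBar_eq_brH hM hQNp Subgroup.le_normalizer (Subgroup.centralizer_le_normalizer _) le_rfl,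
      omegaBar_bBar_eq_one hd'.2.1 hθ'] at h1
    rw [br_apply] at h0
    rw [show brH QN K hQNp (Subgroup.centralizer_le_normalizer _) le_rfl (bBar M d') = 0 from
      Subtype.ext (by rw [coe_brH, h0, resH_zero]; rfl), map_zero] at h1
    exact zero_ne_one h1
  obtain ⟨y, hy⟩ := (br_bBar_ne_zero_iff hM hd'.2.1 hd'Q hQNp).mp hbr
  have hyeq : QN.map (MulAut.conj y).toMonoidHom = QN.map σ.toMonoidHom :=
    Subgroup.eq_of_le_of_card_ge hy (by
      rw [card_map_conj]; exact (Subgroup.card_map_of_injective (f := MulEquiv.toMonoidHom σ) (MulEquiv.injective σ)).le)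
  set k : G := (y : G)⁻¹ * g with hk
  have hkH : k ∈ (Subgroup.normalizer (Q : Set G)) := by
    rw [Subgroup.mem_normalizer_iff]
    have h1 : ∀ v : G, v ∈ Q → k * v * k⁻¹ ∈ Q := by
      intro v hv
      have h : σ ⟨v, hQN hv⟩ ∈ QN.map (MulAut.conj y).toMonoidHom :=
        hyeq ▸ Subgroup.mem_map_of_mem _ hv
      rw [mem_map_conj, hQN', Subgroup.mem_subgroupOf] at h
      simpa [σ, hk, mul_assoc] using h
    exact Subgroup.mem_normalizer_iff.mp
      (Subgroup.mem_normalizer_fintype (S := (Q : Set G)) (by simpa using h1))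
  have hθk : conjIrr k θ' ∈ d := by
    have e : conjIrr g θ' = conjIrr k θ' := by
      rw [show g = (y : G) * k by rw [hk]; group, conjIrr_mul, conjIrr_of_mem y.2]
    rwa [← e]
  -- the conjugate block under `c` is the correspondent
  set ξ₂' := conjIrr (⟨k, hkH⟩ : (Subgroup.normalizer (Q : Set G))) ξ'
  set ξ₂ : IrrCharacter L := compIrr φ.symm ξ₂'
  have hkL : k ∈ Subgroup.normalizer (L : Set G) := by
    rw [Subgroup.mem_normalizer_iff, hLeq]
    intro u
    simp only [Subgroup.mem_inf]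
    refine and_congr ⟨fun h => hN.conj_mem _ h k, fun h => ?_⟩ ⟨fun h => ?_, fun h => ?_⟩
    · simpa [mul_assoc] using hN.conj_mem _ h k⁻¹
    · exact mul_mem (mul_mem hkH h) (inv_mem hkH)
    · simpa [mul_assoc] using mul_mem (mul_mem (inv_mem hkH) h) hkH
  have hval : ∀ l l' : L, (l' : G) = k * l * k⁻¹ → (ξ₂ : L → ℂ) l = (ξ : L → ℂ) l' := by
    intro l l' hll
    simp only [ξ₂, ξ₂', ξ, coe_compIrr, coe_conjIrr, CT.conjFun_eq_comp]
    refine congrArg (ξ' : (N.subgroupOf (Subgroup.normalizer (Q : Set G))) → ℂ) (Subtype.ext (Subtype.ext ?_))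
    simp [hll, φ]
  have hind2 : IsInducedBlock M K (blockOf M (compIrr φN ξ₂ : K → ℂ)) d := by
    refine isInducedBlock_of_pair (isPBlock_blockOf _) hd (self_mem_blockOf _) hθk fun n => ?_
    have h := hed'.2.2 ξ (self_mem_blockOf ξ) θ' hθ' (MulAut.conjNormal k n)
    rw [show (compIrr φN ξ₂ : K → ℂ) = fun a => (ξ₂ : L → ℂ) (subEquiv K hK a) from rfl,
      inducedCentralChar_sub K hK, inducedCentralCharIn_conj N L k hkL hval]
    rw [show centralChar (conjIrr k θ' : N → ℂ) n =
      centralChar (θ' : N → ℂ) (MulAut.conjNormal k n) by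
        rw [coe_conjIrr, CT.conjFun_eq_comp, centralChar_comp_equiv (MulAut.conjNormal k)]]
    simpa using h
  have heK : IsDefectGroup p M (BPairs.pullSet φN e) (QN.subgroupOf K) := by
    have h := isDefectGroup_pullSet φN heQ
    convert h using 2
    ext x
    rw [Subgroup.mem_map_equiv]
    simp [φN, QN, Subgroup.mem_subgroupOf]
  have huniq := induced_normalizer_unique hM hQNp heK (isInducedBlock_sub K hK hed) hind2
  have hmem : compIrr φN ξ₂ ∈ BPairs.pullSet φN e := huniq ▸ self_mem_blockOf _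
  refine ⟨ψ, hψ, ξ₂, (BPairs.compIrr_mem_pullSet φN).mp hmem, ?_⟩
  rw [show compIrr φ ξ₂ = ξ₂' from Subtype.ext (funext fun x => by simp [ξ₂]),
    classInner_conjIrr (G := (Subgroup.normalizer (Q : Set G))) (CT.isClassFunction_of_isIrr ψ.2)]
  exact hξ'

/-- Harris-Knörr. -/
theorem correspondence (hM : IsPModular p M) {N Q L : Subgroup G} [hN : N.Normal] [Fintype N]
    [Fintype L] (hQ : IsPGroup p Q) (hQN : Q ≤ N) (hLeq : L = (Subgroup.normalizer (Q : Set G)) ⊓ N)
    (hLH : L ≤ (Subgroup.normalizer (Q : Set G)))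
    {d : Set (IrrCharacter N)} (hd : IsPBlock M d) (hdQ : IsDefectGroup p M d (Q.subgroupOf N))
    {e : Set (IrrCharacter L)} (he : IsPBlock M e) (heQ : IsDefectGroup p M e (Q.subgroupOf L))
    (hed : IsInducedBlockIn M N L e d) :
    (∀ c : Set (IrrCharacter (Subgroup.normalizer (Q : Set G))), IsPBlock M c →
      (∃ ψ ∈ c, ∃ ξ ∈ e, classInner (fun l : L =>
          (ψ : (Subgroup.normalizer (Q : Set G)) → ℂ) (Subgroup.inclusion hLH l))
        (ξ : L → ℂ) ≠ 0) →
      ∃! B : Set (IrrCharacter G), IsInducedBlock M (Subgroup.normalizer (Q : Set G)) c B ∧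
        (∃ χ ∈ B, ∃ θ ∈ d, classInner (fun n : N => (χ : G → ℂ) n) (θ : N → ℂ) ≠ 0)) ∧
    (∀ B : Set (IrrCharacter G), IsPBlock M B →
      (∃ χ ∈ B, ∃ θ ∈ d, classInner (fun n : N => (χ : G → ℂ) n) (θ : N → ℂ) ≠ 0) →
      ∃! c : Set (IrrCharacter (Subgroup.normalizer (Q : Set G))), (IsPBlock M c ∧
        ∃ ψ ∈ c, ∃ ξ ∈ e, classInner (fun l : L =>
            (ψ : (Subgroup.normalizer (Q : Set G)) → ℂ) (Subgroup.inclusion hLH l))
          (ξ : L → ℂ) ≠ 0) ∧
        IsInducedBlock M (Subgroup.normalizer (Q : Set G)) c B) := by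
  haveI : Fact p.Prime := ⟨hM.1⟩
  letI : Fintype (N.subgroupOf (Subgroup.normalizer (Q : Set G))) := Fintype.ofFinite _
  have hL : (N.subgroupOf (Subgroup.normalizer (Q : Set G))).map (Subgroup.normalizer (Q : Set G)).subtype = L := by
    rw [hLeq, inf_comm]; exact Subgroup.subgroupOf_map_subtype N (Subgroup.normalizer (Q : Set G))
  have hQH : Q ≤ (Subgroup.normalizer (Q : Set G)) := Subgroup.le_normalizer
  have hCH : Subgroup.centralizer (Q : Set G) ≤ (Subgroup.normalizer (Q : Set G)) := Subgroup.centralizer_le_normalizer _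
  have conv : ∀ (ψ : IrrCharacter (Subgroup.normalizer (Q : Set G))) (ξ : IrrCharacter L),
      classInner (fun l : L => (ψ : (Subgroup.normalizer (Q : Set G)) → ℂ) (Subgroup.inclusion hLH l)) (ξ : L → ℂ) =
        classInner (fun x : (N.subgroupOf (Subgroup.normalizer (Q : Set G))) => (ψ : (Subgroup.normalizer (Q : Set G)) → ℂ) x) (compIrr (subEquiv (N.subgroupOf (Subgroup.normalizer (Q : Set G))) hL) ξ : (N.subgroupOf (Subgroup.normalizer (Q : Set G))) → ℂ) := by
    intro ψ ξ
    rw [← Glauberman.classInner_comp_equiv (subEquiv (N.subgroupOf (Subgroup.normalizer (Q : Set G))) hL)]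
    rfl
  simp only [conv]
  refine ⟨fun c hc ⟨ψ, hψ, ξ, hξ, hcon⟩ => ?_, fun B hB hcov => ?_⟩
  · obtain ⟨B, hB⟩ := exists_inducedBlock hM hQ hQH hCH le_rfl hc
    exact ⟨B, ⟨hB, covers_of_induced (hLeq ▸ inf_le_right) hL hed hB hψ hξ hcon⟩,
      fun B' hB' => inducedBlock_unique hB'.1 hB⟩
  · obtain ⟨P, hP, hPN⟩ := knorr_cover hM hd hQN hdQ hB hcov
    obtain ⟨-, -, -, hPp, -⟩ := defectGroup_spec hP
    have hNP : Subgroup.normalizer (P : Set G) ≤ (Subgroup.normalizer (Q : Set G)) := normalizer_le_of_inf hPN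
    obtain ⟨c, ⟨hc, hcP, hcong⟩, -⟩ := (brauer_correspondence hM hPp hNP).1 B hB hP
    have hcB := isInducedBlock_of_congrOn hM hQ hQH hCH le_rfl hPp
      (Subgroup.le_normalizer.trans hNP) (hPN ▸ inf_le_left) hB hc hcP hcong
    refine ⟨c, ⟨⟨hc, exists_cover_correspondent hM hQ hQN hL hd hdQ heQ hed hcB hcov⟩, hcB⟩, ?_⟩
    rintro c' ⟨⟨hc', ψ, hψ, ξ, hξ, hcon⟩, hc'B⟩
    obtain ⟨D, -, hDN, hcD, hBD, -⟩ :=
      exists_defect_of_cover hM hQ hQN hL he heQ hc' hψ hξ hcon hc'B
    exact eq_of_defect hM hQ hB hc'B hDN hcD hBD hPp hPN hc hcP hP hcong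

end Cfsg.Agent.HarrisKnorr
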