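import Mathlib.GroupTheory.Sylow
import Mathlib.GroupTheory.Transfer
import Mathlib.Data.ZMod.Basic
import Mathlib.GroupTheory.Complement

/-!
# Sylow 2-subgroups of the form `Z/2^m × Z/2^m`
-/

set_option linter.unusedSectionVars false

namespace Cfsg.Agent.Blocks

variable {G : Type*} [Group G] [Finite G]

theorem zmod_two_torsion {k : ℕ} {y : ZMod (2 ^ (k + 1))} (h : y + y = 0) :
    y = 0 ∨ y = ((2 ^ k : ℕ) : ZMod (2 ^ (k + 1))) := by
  haveI : NeZero (2 ^ (k + 1)) := ⟨pow_ne_zero _ two_ne_zero⟩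
  have hd : 2 ^ (k + 1) ∣ y.val + y.val := by
    rw [← ZMod.natCast_eq_zero_iff, Nat.cast_add, ZMod.natCast_zmod_val, h]
  have hlt := y.val_lt
  obtain ⟨c, hc, hc2⟩ : ∃ c, y.val = 2 ^ k * c ∧ c < 2 := by
    generalize y.val = v at hd hlt
    rw [pow_succ, ← mul_two] at hd
    obtain ⟨c, hc⟩ := Nat.dvd_of_mul_dvd_mul_right two_pos hd
    refine ⟨c, hc, ?_⟩
    rw [hc, pow_succ] at hlt
    exact Nat.lt_of_mul_lt_mul_left hlt
  rw [← ZMod.natCast_zmod_val y, hc]
  interval_cases c <;> simp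

theorem exists_two_torsion (P : Sylow 2 G) (m : ℕ) (hm : 1 ≤ m)
    (e : (P : Subgroup G) ≃* Multiplicative (ZMod (2 ^ m) × ZMod (2 ^ m))) :
    ∃ a b : G, a ∈ P ∧ b ∈ P ∧ a ≠ b ∧ orderOf a = 2 ∧ orderOf b = 2 ∧
      ∀ x ∈ P, x ^ 2 = 1 → x = 1 ∨ x = a ∨ x = b ∨ x = a * b := by
  haveI : Fact (Nat.Prime 2) := ⟨Nat.prime_two⟩
  obtain ⟨k, rfl⟩ := Nat.exists_eq_add_of_le hm
  rw [Nat.add_comm] at e
  set h : ZMod (2 ^ (k + 1)) := ((2 ^ k : ℕ) : ZMod (2 ^ (k + 1))) with hh
  have h2 : h + h = 0 := by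
    rw [hh, ← Nat.cast_add, ← mul_two, ← pow_succ, ZMod.natCast_self]
  have hne : h ≠ 0 := by
    rw [hh, Ne, ZMod.natCast_eq_zero_iff]
    exact fun hd => by
      have := Nat.le_of_dvd (by positivity) hd
      rw [pow_succ] at this
      have := Nat.one_le_two_pow (n := k)
      omega
  set a := e.symm (Multiplicative.ofAdd (h, 0))
  set b := e.symm (Multiplicative.ofAdd (0, h))
  have hord : ∀ v : ZMod (2 ^ (k + 1)) × ZMod (2 ^ (k + 1)), v + v = 0 → v ≠ 0 →
      orderOf ((e.symm (Multiplicative.ofAdd v) : (P : Subgroup G)) : G) = 2 := by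
    intro v hv hv0
    rw [Subgroup.orderOf_coe, MulEquiv.orderOf_eq, orderOf_ofAdd_eq_addOrderOf]
    exact addOrderOf_eq_prime (by rw [two_nsmul, hv]) hv0
  refine ⟨(a : G), (b : G), a.2, b.2, fun hab => ?_, hord _ (by simp [h2]) (by simp [hne]),
    hord _ (by simp [h2]) (by simp [hne]), fun x hx hx2 => ?_⟩
  · have := e.symm.injective (Subtype.ext hab)
    simp only [EmbeddingLike.apply_eq_iff_eq, Prod.mk.injEq] at this
    exact hne this.1
  · set v := Multiplicative.toAdd (e ⟨x, hx⟩)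
    have hv : v + v = 0 := by
      have h1 : (⟨x, hx⟩ : (P : Subgroup G)) ^ 2 = 1 := Subtype.ext (by simpa using hx2)
      have h2' := congrArg (fun t => Multiplicative.toAdd (e t)) h1
      simp only [map_pow, map_one, toAdd_pow, toAdd_one, two_nsmul] at h2'
      exact h2'
    have hxe : x = ((e.symm (Multiplicative.ofAdd v) : (P : Subgroup G)) : G) := by simp [v]
    rcases zmod_two_torsion (congrArg Prod.fst hv) with h1 | h1 <;>
      rcases zmod_two_torsion (congrArg Prod.snd hv) with h3 | h3 <;>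
      rw [hxe, show v = (v.1, v.2) from rfl, h1, h3, ← hh] at *
    · exact Or.inl (by simp [show ((0 : ZMod (2 ^ (k + 1))), (0 : ZMod (2 ^ (k + 1)))) = 0 from rfl])
    · exact Or.inr (Or.inr (Or.inl rfl))
    · exact Or.inr (Or.inl rfl)
    · refine Or.inr (Or.inr (Or.inr ?_))
      rw [← Subgroup.coe_mul, ← map_mul, ← ofAdd_add]
      simp

theorem sylow_comm (P : Sylow 2 G) (m : ℕ)
    (e : (P : Subgroup G) ≃* Multiplicative (ZMod (2 ^ m) × ZMod (2 ^ m))) :
    ∀ x ∈ P, ∀ y ∈ P, x * y = y * x := fun x hx y hy =>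
  congrArg Subtype.val (e.injective (a₁ := (⟨x, hx⟩ : (P : Subgroup G)) * ⟨y, hy⟩)
    (a₂ := ⟨y, hy⟩ * ⟨x, hx⟩) (by rw [map_mul, map_mul, mul_comm]))

theorem conj_pow_iterate {n x u : G} (h : n * x * n⁻¹ = x * u) (hu : Commute n u) :
    ∀ i : ℕ, n ^ i * x * (n ^ i)⁻¹ = x * u ^ i
  | 0 => by simp
  | i + 1 => by
    calc n ^ (i + 1) * x * (n ^ (i + 1))⁻¹ = n * (n ^ i * x * (n ^ i)⁻¹) * n⁻¹ := by
          rw [pow_succ']; group
      _ = n * (x * u ^ i) * n⁻¹ := by rw [conj_pow_iterate h hu i]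
      _ = (n * x * n⁻¹) * (n * u ^ i * n⁻¹) := by group
      _ = x * u * u ^ i := by rw [h, (hu.pow_right i).eq, mul_inv_cancel_right]
      _ = x * u ^ (i + 1) := by rw [pow_succ', mul_assoc]

/-- An odd order automorphism of an abelian 2-group fixing its involutions is trivial. -/
theorem commute_of_fix_torsion {P : Subgroup G} (hcomm : ∀ x ∈ P, ∀ y ∈ P, x * y = y * x) {n : G}
    (hn : Odd (orderOf n)) (hnorm : ∀ x ∈ P, n * x * n⁻¹ ∈ P)
    (hfix : ∀ x ∈ P, x ^ 2 = 1 → Commute n x) :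
    ∀ j : ℕ, ∀ x ∈ P, x ^ 2 ^ j = 1 → Commute n x
  | 0, x, _, h => by
    rw [pow_zero, pow_one] at h
    exact h ▸ Commute.one_right n
  | j + 1, x, hx, h => by
    have hsq : Commute n (x ^ 2) := commute_of_fix_torsion hcomm hn hnorm hfix j _ (P.pow_mem hx 2)
      (by rw [← pow_mul, ← pow_succ']; exact h)
    set u := x⁻¹ * (n * x * n⁻¹) with hu
    have huP : u ∈ P := P.mul_mem (P.inv_mem hx) (hnorm x hx)
    have hu2 : u ^ 2 = 1 := by
      rw [hu, Commute.mul_pow (hcomm _ (P.inv_mem hx) _ (hnorm x hx)), conj_pow, hsq.eq,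
        mul_inv_cancel_right, inv_pow, inv_mul_cancel]
    have hit := conj_pow_iterate (n := n) (x := x) (u := u) (by rw [hu, mul_inv_cancel_left])
      (hfix u huP hu2) (orderOf n)
    rw [pow_orderOf_eq_one] at hit
    simp only [one_mul, inv_one, mul_one, left_eq_mul] at hit
    obtain ⟨i, hi⟩ := hn
    rw [hi, pow_succ, pow_mul, hu2, one_pow, one_mul, hu, inv_mul_eq_one,
      eq_mul_inv_iff_mul_eq] at hit
    exact hit.symm

/-- An element of the normalizer fixing one involution centralizes the Sylow subgroup. -/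
theorem mem_centralizer_of_fix (P : Sylow 2 G) (m : ℕ) (hm : 1 ≤ m)
    (e : (P : Subgroup G) ≃* Multiplicative (ZMod (2 ^ m) × ZMod (2 ^ m))) {n s : G}
    (hn : n ∈ Subgroup.normalizer (P : Set G)) (hs : s ∈ P) (hs2 : orderOf s = 2)
    (hns : Commute n s) : n ∈ Subgroup.centralizer (P : Set G) := by
  classical
  haveI : Fact (Nat.Prime 2) := ⟨Nat.prime_two⟩
  obtain ⟨a, b, ha, hb, hab, hao, hbo, htor⟩ := exists_two_torsion P m hm e
  have hcomm := sylow_comm P m e
  have hconj : ∀ x ∈ P, n * x * n⁻¹ ∈ P := fun x hx => (Subgroup.mem_normalizer_iff.mp hn x).mp hx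
  -- the square fixes all involutions
  have hsq : ∀ x ∈ P, x ^ 2 = 1 → Commute (n ^ 2) x := by
    intro x hx hx2
    rcases eq_or_ne x 1 with rfl | hx1
    · exact Commute.one_right _
    rcases eq_or_ne x s with rfl | hxs
    · exact hns.pow_left 2
    have hs22 : s ^ 2 = 1 := hs2 ▸ pow_orderOf_eq_one s
    have hs1 : s ≠ 1 := fun h => by rw [h, orderOf_one] at hs2; norm_num at hs2
    have key : ∀ y ∈ P, y ^ 2 = 1 → y ≠ 1 → y ≠ s → y = x ∨ y = s * x := by
      intro y hy hy2 hy1 hys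
      have hmem : ∀ z ∈ P, z ^ 2 = 1 → z ∈ ({1, a, b, a * b} : Finset G) := fun z hz hz2 => by
        simpa using htor z hz hz2
      have hsub : ({1, s, x, s * x} : Finset G) ⊆ ({1, a, b, a * b} : Finset G) := by
        simp only [Finset.insert_subset_iff, Finset.singleton_subset_iff]
        exact ⟨hmem 1 (P : Subgroup G).one_mem (one_pow 2), hmem s hs hs22, hmem x hx hx2,
          hmem _ ((P : Subgroup G).mul_mem hs hx)
            (by rw [Commute.mul_pow (hcomm s hs x hx), hs22, hx2, mul_one])⟩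
      have hcard : ({1, s, x, s * x} : Finset G).card = 4 := by
        refine Finset.card_eq_four.mpr ⟨1, s, x, s * x, hs1.symm, hx1.symm, fun h => hxs ?_,
          hxs.symm, fun h => hx1 ?_, fun h => hs1 ?_, rfl⟩
        · rw [← inv_eq_of_mul_eq_one_right h.symm]
          exact inv_eq_of_mul_eq_one_right (by rw [← sq, hs22])
        · exact left_eq_mul.mp h
        · exact right_eq_mul.mp h
      have heq := Finset.eq_of_subset_of_card_le hsub (by rw [hcard]; exact Finset.card_le_four)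
      have hy' := hmem y hy hy2
      rw [← heq] at hy'
      simpa [hy1, hys] using hy'
    have hy2 : (n * x * n⁻¹) ^ 2 = 1 := by rw [conj_pow, hx2, mul_one, mul_inv_cancel]
    have hy1 : n * x * n⁻¹ ≠ 1 := fun h => hx1 (conj_eq_one_iff.mp h)
    have hys : n * x * n⁻¹ ≠ s := fun h => hxs (by
      rw [mul_inv_eq_iff_eq_mul, ← hns.eq] at h
      exact mul_left_cancel h)
    have key2 : n * (n * x * n⁻¹) * n⁻¹ = x := by
      rcases key _ (hconj x hx) hy2 hy1 hys with h | h
      · rw [h, h]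
      · calc n * (n * x * n⁻¹) * n⁻¹ = n * (s * x) * n⁻¹ := by rw [h]
          _ = s * (n * x * n⁻¹) := by rw [← mul_assoc n, hns.eq]; group
          _ = x := by rw [h, ← mul_assoc, ← sq, hs22, one_mul]
    show n ^ 2 * x = x * n ^ 2
    calc n ^ 2 * x = (n * (n * x * n⁻¹) * n⁻¹) * n ^ 2 := by rw [sq]; group
      _ = x * n ^ 2 := by rw [key2]
  set d := ordCompl[2] (orderOf n) with hd
  set w := (orderOf n).factorization 2 with hw
  have hodd : ¬ 2 ∣ d := Nat.not_dvd_ordCompl Nat.prime_two (orderOf_pos n).ne'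
  have hnd : 2 ^ w * d = orderOf n := Nat.ordProj_mul_ordCompl_eq_self _ _
  -- the 2-part lies in `P`
  have h2part : n ^ d ∈ P := by
    have hpow : (n ^ d) ^ 2 ^ w = 1 := by rw [← pow_mul, mul_comm, hnd, pow_orderOf_eq_one]
    have hQ : IsPGroup 2 (Subgroup.zpowers (n ^ d)) := by
      obtain ⟨i, -, hi⟩ := (Nat.dvd_prime_pow Nat.prime_two).mp (orderOf_dvd_of_pow_eq_one hpow)
      exact IsPGroup.of_card (n := i) (by rw [Nat.card_zpowers, hi])
    exact ((hQ.inf_normalizer_sylow P).le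
      ⟨Subgroup.mem_zpowers _, pow_mem hn d⟩).2
  -- the odd part centralizes `P`
  have hc2 : ∀ x ∈ P, Commute (n ^ 2 ^ w) x := by
    have hn' : Odd (orderOf (n ^ 2 ^ w)) := by
      rw [orderOf_pow, Nat.gcd_eq_right (hnd ▸ dvd_mul_right _ _), ← hnd,
        Nat.mul_div_cancel_left _ (by positivity)]
      exact Nat.not_even_iff_odd.mp fun h => hodd (even_iff_two_dvd.mp h)
    have hfix : ∀ x ∈ P, x ^ 2 = 1 → Commute (n ^ 2 ^ w) x := by
      intro x hx hx2
      rcases Nat.eq_zero_or_pos w with h0 | h0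
      · obtain ⟨j, hj⟩ : Odd (orderOf n) := by
          rw [← hnd, h0, pow_zero, one_mul]
          exact Nat.not_even_iff_odd.mp fun h => hodd (even_iff_two_dvd.mp h)
        have : n = ((n ^ 2) ^ j)⁻¹ := eq_inv_of_mul_eq_one_left (by
          rw [← pow_mul, ← pow_succ', ← hj, pow_orderOf_eq_one])
        rw [h0, pow_zero, pow_one, this]
        exact ((hsq x hx hx2).pow_left j).inv_left
      · obtain ⟨i, hi⟩ := Nat.exists_eq_add_of_le h0
        rw [hi, pow_add, pow_one, pow_mul]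
        exact (hsq x hx hx2).pow_left _
    have hnorm : ∀ x ∈ P, n ^ 2 ^ w * x * (n ^ 2 ^ w)⁻¹ ∈ P := fun x hx =>
      (Subgroup.mem_normalizer_iff.mp (pow_mem hn _) x).mp hx
    intro x hx
    obtain ⟨k, hk⟩ := P.isPGroup' ⟨x, hx⟩
    exact commute_of_fix_torsion (P := (P : Subgroup G)) hcomm hn' hnorm hfix k x hx
      (by simpa using congrArg Subtype.val hk)
  -- combine
  have hco : Nat.Coprime (2 ^ w) d :=
    Nat.Coprime.pow_left _ (Nat.prime_two.coprime_iff_not_dvd.mpr hodd)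
  rw [Subgroup.mem_centralizer_iff]
  intro x hx
  have h1 : Commute (n ^ d) x := hcomm _ h2part x hx
  have h2 := hc2 x hx
  obtain ⟨u, v, huv⟩ : ∃ u v : ℤ, u * ((2 ^ w : ℕ) : ℤ) + v * (d : ℤ) = 1 :=
    ⟨Nat.gcdA (2 ^ w) d, Nat.gcdB (2 ^ w) d, by
      have h := Nat.gcd_eq_gcd_ab (2 ^ w) d
      rw [hco.gcd_eq_one] at h
      rw [mul_comm _ ((2 ^ w : ℕ) : ℤ), mul_comm _ (d : ℤ), ← h]; rfl⟩
  have h3 : Commute ((n ^ (2 ^ w : ℕ)) ^ u * (n ^ d) ^ v) x :=
    (h2.zpow_left u).mul_left (h1.zpow_left v)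
  have h4 : (n ^ (2 ^ w : ℕ)) ^ u * (n ^ d) ^ v = n := by
    rw [← zpow_natCast, ← zpow_natCast n d, ← zpow_mul, ← zpow_mul, ← zpow_add,
      mul_comm _ u, mul_comm _ v, huv, zpow_one]
  rw [h4] at h3
  exact h3.eq.symm

theorem centralizer_le_normalizer' (P : Sylow 2 G) :
    Subgroup.centralizer (P : Set G) ≤ Subgroup.normalizer (P : Set G) :=
  Subgroup.centralizer_le_normalizer _

theorem relIndex_eq_one_or_three (P : Sylow 2 G) (m : ℕ) (hm : 1 ≤ m)
    (e : (P : Subgroup G) ≃* Multiplicative (ZMod (2 ^ m) × ZMod (2 ^ m))) :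
    (Subgroup.centralizer (P : Set G)).relIndex (Subgroup.normalizer (P : Set G)) = 1 ∨
    ((Subgroup.centralizer (P : Set G)).relIndex (Subgroup.normalizer (P : Set G)) = 3 ∧
      ∀ s t : G, orderOf s = 2 → orderOf t = 2 → IsConj s t) := by
  classical
  haveI : Fact (Nat.Prime 2) := ⟨Nat.prime_two⟩
  obtain ⟨a, b, ha, hb, hab, hao, hbo, htor⟩ := exists_two_torsion P m hm e
  have hcomm := sylow_comm P m e
  set N := Subgroup.normalizer (P : Set G)
  set C := (Subgroup.centralizer (P : Set G)).subgroupOf N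
  let T := {x : G // x ∈ P ∧ orderOf x = 2}
  let f : N ⧸ C → T := Quotient.lift
    (fun n : N => (⟨(n : G) * a * (n : G)⁻¹, (Subgroup.mem_normalizer_iff.mp n.2 a).mp ha,
      by rw [show (n : G) * a * (n : G)⁻¹ = MulAut.conj (n : G) a from rfl, MulEquiv.orderOf_eq, hao]⟩ : T))
    (fun n n' h => by
      have hc' : n⁻¹ * n' ∈ C := QuotientGroup.leftRel_apply.mp h
      have hc : ((n⁻¹ * n' : N) : G) ∈ Subgroup.centralizer (P : Set G) := hc'
      have := Subgroup.mem_centralizer_iff.mp hc a ha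
      refine Subtype.ext ?_
      simp only [Subgroup.coe_mul, Subgroup.coe_inv] at this
      show (n : G) * a * (n : G)⁻¹ = (n' : G) * a * (n' : G)⁻¹
      rw [eq_mul_inv_iff_mul_eq, mul_assoc, mul_assoc, this]
      group)
  have hf : Function.Injective f := by
    intro q q' h
    induction q using QuotientGroup.induction_on with
    | H n =>
      induction q' using QuotientGroup.induction_on with
      | H n' =>
        have h' : (n : G) * a * (n : G)⁻¹ = (n' : G) * a * (n' : G)⁻¹ := congrArg Subtype.val h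
        refine QuotientGroup.eq.mpr (mem_centralizer_of_fix P m hm e (n⁻¹ * n').2 ha hao ?_)
        show (n : G)⁻¹ * n' * a = a * ((n : G)⁻¹ * n')
        have := congrArg (fun t => (n : G)⁻¹ * t * (n' : G)) h'
        simp only [← mul_assoc, inv_mul_cancel, one_mul, inv_mul_cancel_right] at this
        rw [← mul_assoc, this]
  have hT : Nat.card T ≤ 3 := by
    have hh : ∀ z : T, z.1 ∈ ({a, b, a * b} : Finset G) := fun z => by
      rcases htor z.1 z.2.1 ((congrArg (z.1 ^ ·) z.2.2.symm).trans (pow_orderOf_eq_one z.1)) with h | h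
      · exfalso; have := z.2.2; rw [h, orderOf_one] at this; norm_num at this
      · simpa using h
    refine (Nat.card_le_card_of_injective (fun z => (⟨z.1, hh z⟩ : ({a, b, a * b} : Finset G)))
      fun x y h => Subtype.ext (congrArg (fun w => w.1) h)).trans ?_
    rw [Nat.card_eq_fintype_card, Fintype.card_coe]
    exact Finset.card_le_three
  have hle : C.index ≤ 3 := (Nat.card_le_card_of_injective f hf).trans hT
  have hodd : ¬ 2 ∣ C.index := by
    intro h2
    refine P.not_dvd_index (h2.trans ?_)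
    rw [← Subgroup.relIndex_top_right (P : Subgroup G)]
    refine dvd_trans ?_ (Dvd.intro _ (Subgroup.relIndex_mul_relIndex (P : Subgroup G)
      N ⊤ Subgroup.le_normalizer le_top))
    exact Subgroup.relIndex_dvd_of_le_left N fun x hx =>
      Subgroup.mem_centralizer_iff.mpr fun y hy => hcomm y hy x hx
  have hpos : C.index ≠ 0 := Subgroup.index_ne_zero_of_finite
  rcases (show C.index = 1 ∨ C.index = 3 by omega) with h | h
  · exact Or.inl h
  refine Or.inr ⟨h, ?_⟩
  have hsurj : Function.Surjective f :=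
    (hf.bijective_of_nat_card_le (hT.trans_eq h.symm)).2
  intro s t hs ht
  have key : ∀ x : G, orderOf x = 2 → IsConj a x := by
    intro x hx
    have hQ : IsPGroup 2 (Subgroup.zpowers x) :=
      IsPGroup.of_card (n := 1) (by rw [Nat.card_zpowers, hx, pow_one])
    obtain ⟨S, hS⟩ := hQ.exists_le_sylow
    obtain ⟨g, hg⟩ := MulAction.exists_smul_eq G S P
    have hgx : g * x * g⁻¹ ∈ P := by
      rw [← hg]
      exact ⟨x, hS (Subgroup.mem_zpowers x), rfl⟩
    obtain ⟨q, hq⟩ := hsurj ⟨_, hgx, by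
      rw [show g * x * g⁻¹ = MulAut.conj g x from rfl, MulEquiv.orderOf_eq, hx]⟩
    obtain ⟨n, rfl⟩ := QuotientGroup.mk_surjective q
    exact (isConj_iff.mpr ⟨(n : G), congrArg Subtype.val hq⟩).trans
      (isConj_iff.mpr ⟨g, rfl⟩).symm
  exact (key s hs).symm.trans (key t ht)

end Cfsg.Agent.Blocks
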