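import Mathlib.Algebra.BigOperators.Group.Finset.Basic
import Mathlib.Algebra.Order.BigOperators.Group.Finset
import Mathlib.Data.Fintype.BigOperators
import Mathlib.Tactic.Linarith
import Mathlib.Tactic.FinCases
import Mathlib.Algebra.Order.Ring.Int

/-!
# Integral vectors of norm three with mutual inner products two
-/

namespace Cfsg.Agent.Blocks.HC

open Finset

variable {α : Type*} [Fintype α] [DecidableEq α]

/-- Five or more such vectors share two coordinates. -/
theorem sunflower (W : Finset (α → ℤ)) (h5 : 5 ≤ W.card) (hn : ∀ w ∈ W, ∑ x, w x * w x = 3)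
    (hi : ∀ w ∈ W, ∀ w' ∈ W, w ≠ w' → ∑ x, w x * w' x = 2) :
    ∃ (a b : α) (δa δb : ℤ), a ≠ b ∧ (δa = 1 ∨ δa = -1) ∧ (δb = 1 ∨ δb = -1) ∧
      ∀ w ∈ W, w a = δa ∧ w b = δb ∧ ∃ y, y ≠ a ∧ y ≠ b ∧ (w y = 1 ∨ w y = -1) ∧
        (∀ x, x ≠ a → x ≠ b → x ≠ y → w x = 0) ∧ ∀ w' ∈ W, w' ≠ w → w' y = 0 := by
  classical
  set S : (α → ℤ) → Finset α := fun w => univ.filter fun x => w x ≠ 0 with hS
  have hmemS : ∀ w x, x ∈ S w ↔ w x ≠ 0 := fun w x => by simp [hS]
  have hpm : ∀ w ∈ W, ∀ x ∈ S w, w x = 1 ∨ w x = -1 := by
    intro w hw x hx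
    have h1 : w x * w x ≤ 3 := hn w hw ▸
      Finset.single_le_sum (fun y _ => mul_self_nonneg (w y)) (mem_univ x)
    have h2 := (hmemS w x).mp hx
    have h3 : -2 < w x ∧ w x < 2 := ⟨by nlinarith, by nlinarith⟩
    omega
  have hone : ∀ w ∈ W, ∀ x ∈ S w, w x * w x = 1 := fun w hw x hx => by
    rcases hpm w hw x hx with h | h <;> simp [h]
  have hc : ∀ w ∈ W, (S w).card = 3 := by
    intro w hw
    have h := hn w hw
    rw [← sum_filter_add_sum_filter_not univ (fun x => w x ≠ 0),
      sum_eq_zero (s := univ.filter fun x => ¬ w x ≠ 0) (fun x hx => by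
        have := (mem_filter.mp hx).2
        push Not at this
        simp [this]), add_zero, sum_congr rfl fun x hx => hone w hw x hx,
      sum_const, nsmul_eq_mul, mul_one] at h
    exact_mod_cast h
  have hI : ∀ w ∈ W, ∀ w' ∈ W, w ≠ w' →
      (S w ∩ S w').card = 2 ∧ ∀ x ∈ S w ∩ S w', w x = w' x := by
    intro w hw w' hw' hne
    have h := hi w hw w' hw' hne
    rw [← sum_subset (subset_univ (S w ∩ S w')) fun x _ hx => by
      rw [mem_inter, hmemS, hmemS] at hx
      by_cases h1 : w x = 0
      · simp [h1]
      · simp [not_not.mp fun h2 => hx ⟨h1, h2⟩]] at h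
    set T := S w ∩ S w'
    set Q := T.filter fun x => w x = w' x
    have hsum : ∑ x ∈ T, w x * w' x = (Q.card : ℤ) - (T.filter fun x => ¬ w x = w' x).card := by
      rw [← sum_filter_add_sum_filter_not T (fun x => w x = w' x),
        sum_congr (s₁ := T.filter fun x => w x = w' x) rfl (f := fun x => w x * w' x)
          (g := fun _ => (1 : ℤ)) fun x hx => by
          obtain ⟨hxT, e⟩ := mem_filter.mp hx
          rw [← e]; exact hone w hw x (mem_inter.mp hxT).1,
        sum_congr (s₁ := T.filter fun x => ¬ w x = w' x) rfl (f := fun x => w x * w' x)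
          (g := fun _ => (-1 : ℤ)) fun x hx => by
          obtain ⟨hxT, e⟩ := mem_filter.mp hx
          rcases hpm w hw x (mem_inter.mp hxT).1 with h1 | h1 <;>
            rcases hpm w' hw' x (mem_inter.mp hxT).2 with h2 | h2 <;> simp_all]
      simp [Q, sub_eq_add_neg]
    rw [h] at hsum
    have hle : T.card ≤ 3 := hc w hw ▸ card_le_card inter_subset_left
    have hadd : Q.card + (T.filter fun x => ¬ w x = w' x).card = T.card :=
      card_filter_add_card_filter_not (s := T) fun x => w x = w' x
    have hle' : (Q.card : ℤ) + (T.filter fun x => ¬ w x = w' x).card ≤ 3 := by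
      exact_mod_cast hadd.le.trans hle
    have h0 : (T.filter fun x => ¬ w x = w' x).card = 0 := by
      by_contra hne'
      have : (1 : ℤ) ≤ (T.filter fun x => ¬ w x = w' x).card := by
        exact_mod_cast Nat.pos_of_ne_zero hne'
      linarith
    have h2 : (Q.card : ℤ) = 2 := by
      rw [h0, Nat.cast_zero, sub_zero] at hsum
      exact hsum.symm
    refine ⟨by rw [← hadd, h0, add_zero]; exact_mod_cast h2, fun x hx => ?_⟩
    by_contra hne'
    exact (card_ne_zero.mpr ⟨x, mem_filter.mpr ⟨hx, hne'⟩⟩) h0
  have hSinj : ∀ w ∈ W, ∀ w' ∈ W, S w = S w' → w = w' := by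
    intro w hw w' hw' e
    by_contra hne
    have := (hI w hw w' hw' hne).1
    rw [← e, inter_self, hc w hw] at this
    omega
  obtain ⟨wA, hA, wB, hB, hAB⟩ := one_lt_card.mp (by omega : 1 < W.card)
  obtain ⟨a, b, hab, hIab⟩ := card_eq_two.mp (hI wA hA wB hB hAB).1
  have haA : a ∈ S wA := (mem_inter.mp (hIab ▸ mem_insert_self a {b})).1
  have haB : a ∈ S wB := (mem_inter.mp (hIab ▸ mem_insert_self a {b})).2
  have hbA : b ∈ S wA := (mem_inter.mp (hIab ▸ mem_insert_of_mem (mem_singleton_self b))).1
  have hbB : b ∈ S wB := (mem_inter.mp (hIab ▸ mem_insert_of_mem (mem_singleton_self b))).2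
  have hthird : ∀ w ∈ W, a ∈ S w → b ∈ S w → ∃ y, y ≠ a ∧ y ≠ b ∧ S w = {a, b, y} := by
    intro w hw ha hb
    obtain ⟨y, hy⟩ := card_eq_one.mp (show (((S w).erase a).erase b).card = 1 by
      rw [card_erase_of_mem (mem_erase.mpr ⟨hab.symm, hb⟩), card_erase_of_mem ha, hc w hw])
    have hym : y ∈ ((S w).erase a).erase b := hy ▸ mem_singleton_self y
    simp only [mem_erase] at hym
    refine ⟨y, hym.2.1, hym.1, ?_⟩
    ext x
    simp only [mem_insert, mem_singleton]
    refine ⟨fun hx => ?_, ?_⟩
    · by_contra h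
      push Not at h
      have : x ∈ ((S w).erase a).erase b := by simp [h.1, h.2.1, hx]
      rw [hy, mem_singleton] at this
      exact h.2.2 this
    · rintro (rfl | rfl | rfl)
      exacts [ha, hb, hym.2.2]
  obtain ⟨a', ha'a, ha'b, hSA⟩ := hthird wA hA haA hbA
  obtain ⟨b', hb'a, hb'b, hSB⟩ := hthird wB hB haB hbB
  have hab' : a' ≠ b' := fun h => hAB (hSinj _ hA _ hB (by rw [hSA, hSB, h]))
  have hall : ∀ w ∈ W, a ∈ S w ∧ b ∈ S w := by
    by_contra hcon
    push Not at hcon
    obtain ⟨wC, hC, hCab⟩ := hcon
    have hform : ∀ w ∈ W, w ≠ wA → w ≠ wB → ¬ (a ∈ S w ∧ b ∈ S w) →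
        S w = {a, a', b'} ∨ S w = {b, a', b'} := by
      intro w hw hwA hwB hnot
      have hca : a' ∈ S w := by
        by_contra h
        have hsub : S w ∩ S wA ⊆ {a, b} := fun x hx => by
          rw [mem_inter, hSA] at hx
          simp only [mem_insert, mem_singleton] at hx ⊢
          rcases hx.2 with e | e | e
          · exact Or.inl e
          · exact Or.inr e
          · exact absurd (e ▸ hx.1) h
        have he := eq_of_subset_of_card_le hsub (by rw [(hI w hw wA hA hwA).1, card_pair hab])
        exact hnot ⟨(mem_inter.mp (he ▸ mem_insert_self a {b} : a ∈ S w ∩ S wA)).1,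
          (mem_inter.mp (he ▸ mem_insert_of_mem (mem_singleton_self b) : b ∈ S w ∩ S wA)).1⟩
      have hcb : b' ∈ S w := by
        by_contra h
        have hsub : S w ∩ S wB ⊆ {a, b} := fun x hx => by
          rw [mem_inter, hSB] at hx
          simp only [mem_insert, mem_singleton] at hx ⊢
          rcases hx.2 with e | e | e
          · exact Or.inl e
          · exact Or.inr e
          · exact absurd (e ▸ hx.1) h
        have he := eq_of_subset_of_card_le hsub (by rw [(hI w hw wB hB hwB).1, card_pair hab])
        exact hnot ⟨(mem_inter.mp (he ▸ mem_insert_self a {b} : a ∈ S w ∩ S wB)).1,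
          (mem_inter.mp (he ▸ mem_insert_of_mem (mem_singleton_self b) : b ∈ S w ∩ S wB)).1⟩
      have h3 := (hI w hw wA hA hwA).1
      by_cases ha : a ∈ S w
      · left
        refine (eq_of_subset_of_card_le ?_ (by rw [hc w hw]; simp [ha'a.symm, hb'a.symm, hab'])).symm
        intro x hx
        simp only [mem_insert, mem_singleton] at hx
        rcases hx with rfl | rfl | rfl
        exacts [ha, hca, hcb]
      · right
        have hb : b ∈ S w := by
          by_contra hb
          have hsub : S w ∩ S wA ⊆ {a'} := fun x hx => by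
            rw [mem_inter, hSA] at hx
            simp only [mem_insert, mem_singleton] at hx ⊢
            rcases hx.2 with e | e | e
            · exact absurd (e ▸ hx.1) ha
            · exact absurd (e ▸ hx.1) hb
            · exact e
          have := card_le_card hsub
          rw [h3, card_singleton] at this
          omega
        refine (eq_of_subset_of_card_le ?_ (by rw [hc w hw]; simp [ha'b.symm, hb'b.symm, hab'])).symm
        intro x hx
        simp only [mem_insert, mem_singleton] at hx
        rcases hx with rfl | rfl | rfl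
        exacts [hb, hca, hcb]
    have hCA : wC ≠ wA := fun h => hCab (h ▸ haA) (h ▸ hbA)
    have hCB : wC ≠ wB := fun h => hCab (h ▸ haB) (h ▸ hbB)
    have hnone : ∀ w ∈ W, w ≠ wA → w ≠ wB → ¬ (a ∈ S w ∧ b ∈ S w) := by
      intro w hw hwA hwB hboth
      obtain ⟨d, hda, hdb, hSw⟩ := hthird w hw hboth.1 hboth.2
      have hd1 : d ≠ a' := fun h => hwA (hSinj _ hw _ hA (by rw [hSw, hSA, h]))
      have hd2 : d ≠ b' := fun h => hwB (hSinj _ hw _ hB (by rw [hSw, hSB, h]))
      have hne : w ≠ wC := fun h => hCab (h ▸ hboth.1) (h ▸ hboth.2)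
      have h2 := (hI w hw wC hC hne).1
      rcases hform wC hC hCA hCB (fun h => hCab h.1 h.2) with e | e
      · have : S w ∩ S wC ⊆ {a} := by
          intro x hx
          rw [mem_inter, hSw, e] at hx
          simp only [mem_insert, mem_singleton] at hx ⊢
          obtain ⟨h1, h1'⟩ := hx
          rcases h1 with rfl | rfl | rfl
          · rfl
          · rcases h1' with e | e | e
            exacts [e, absurd e ha'b.symm, absurd e hb'b.symm]
          · rcases h1' with e | e | e
            exacts [e, absurd e hd1, absurd e hd2]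
        have := card_le_card this
        rw [h2, card_singleton] at this
        omega
      · have : S w ∩ S wC ⊆ {b} := by
          intro x hx
          rw [mem_inter, hSw, e] at hx
          simp only [mem_insert, mem_singleton] at hx ⊢
          obtain ⟨h1, h1'⟩ := hx
          rcases h1 with rfl | rfl | rfl
          · rcases h1' with e | e | e
            exacts [e, absurd e ha'a.symm, absurd e hb'a.symm]
          · rfl
          · rcases h1' with e | e | e
            exacts [e, absurd e hd1, absurd e hd2]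
        have := card_le_card this
        rw [h2, card_singleton] at this
        omega
    have hsub : W.image S ⊆ {S wA, S wB, {a, a', b'}, {b, a', b'}} := by
      intro s hs
      obtain ⟨w, hw, rfl⟩ := mem_image.mp hs
      simp only [mem_insert, mem_singleton]
      by_cases h1 : w = wA
      · exact Or.inl (by rw [h1])
      by_cases h2 : w = wB
      · exact Or.inr (Or.inl (by rw [h2]))
      exact Or.inr (Or.inr (hform w hw h1 h2 (hnone w hw h1 h2)))
    have := (card_le_card hsub).trans card_le_four
    rw [card_image_of_injOn fun w hw w' hw' e => hSinj w hw w' hw' e] at this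
    omega
  refine ⟨a, b, wA a, wA b, hab, hpm _ hA a haA, hpm _ hA b hbA, fun w hw => ?_⟩
  obtain ⟨y, hya, hyb, hSw⟩ := hthird w hw (hall w hw).1 (hall w hw).2
  have hval : ∀ c, c ∈ S w → c ∈ S wA → w c = wA c := fun c h1 h2 => by
    by_cases e : w = wA
    · rw [e]
    · exact (hI w hw wA hA e).2 c (mem_inter.mpr ⟨h1, h2⟩)
  refine ⟨hval a (hall w hw).1 haA, hval b (hall w hw).2 hbA, y, hya, hyb,
    hpm w hw y (by rw [hSw]; simp), fun x hxa hxb hxy => ?_, fun w' hw' hne => ?_⟩
  · by_contra h
    have := (hmemS w x).mpr h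
    rw [hSw] at this
    simp [hxa, hxb, hxy] at this
  · by_contra h
    obtain ⟨y', -, -, hSw'⟩ := hthird w' hw' (hall w' hw').1 (hall w' hw').2
    have := (hmemS w' y).mpr h
    rw [hSw'] at this
    simp only [mem_insert, mem_singleton, hya, hyb, false_or] at this
    exact hne (hSinj _ hw' _ hw (by rw [hSw, hSw', this]))

end Cfsg.Agent.Blocks.HC
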