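import Cfsg.Agent.Lib.Blocks.Homocyclic
import Cfsg.Agent.Lib.Blocks.Section
import Cfsg.Agent.Lib.Blocks.Subsection
import Cfsg.Agent.Lib.Blocks.SylowCentralizer
import Cfsg.Agent.Lib.Basics.Cores
import Cfsg.Agent.Lib.ClassSum.Basic
import Cfsg.Agent.S0942

/-!
# The sections of a homocyclic Sylow 2-subgroup of rank two with inertial index three
-/

set_option linter.unusedSectionVars false

namespace Cfsg.Agent.Blocks.HC

open scoped ComplexConjugate

universe u

variable {G : Type u} [Group G] [Fintype G]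

/-- An element of the normalizer commuting with a nontrivial element centralizes. -/
theorem free (P : Sylow 2 G) (m : ℕ) (hm : 1 ≤ m)
    (e : (P : Subgroup G) ≃* Multiplicative (ZMod (2 ^ m) × ZMod (2 ^ m))) {n z : G}
    (hn : n ∈ Subgroup.normalizer (P : Set G)) (hz : z ∈ (P : Subgroup G)) (hz1 : z ≠ 1)
    (hc : Commute n z) : n ∈ Subgroup.centralizer (P : Set G) := by
  haveI : Fact (Nat.Prime 2) := ⟨Nat.prime_two⟩
  obtain ⟨k, hk⟩ := P.isPGroup' ⟨z, hz⟩
  have hk' : z ^ 2 ^ k = 1 := by simpa using congrArg Subtype.val hk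
  obtain ⟨i, -, hi⟩ := (Nat.dvd_prime_pow Nat.prime_two).mp (orderOf_dvd_of_pow_eq_one hk')
  have hi0 : i ≠ 0 := fun h => hz1 (orderOf_eq_one_iff.mp (by rw [hi, h, pow_zero]))
  obtain ⟨j, rfl⟩ := Nat.exists_eq_succ_of_ne_zero hi0
  refine mem_centralizer_of_fix P m hm e hn ((P : Subgroup G).pow_mem hz (2 ^ j)) ?_
    (hc.pow_right (2 ^ j))
  rw [orderOf_pow_of_dvd (pow_ne_zero j two_ne_zero) (by rw [hi]; exact pow_dvd_pow 2 j.le_succ),
    hi, Nat.succ_eq_add_one, pow_succ, Nat.mul_div_cancel_left _ (by positivity)]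

/-- The data of the action. -/
structure Act (P : Sylow 2 G) (n : G) : Prop where
  mem : ∀ x ∈ (P : Subgroup G), n * x * n⁻¹ ∈ (P : Subgroup G)
  comm : ∀ x ∈ (P : Subgroup G), ∀ y ∈ (P : Subgroup G), x * y = y * x
  fixed : ∀ x ∈ (P : Subgroup G), n * x * n⁻¹ = x → x = 1
  cube : ∀ x ∈ (P : Subgroup G), n * (n * (n * x * n⁻¹) * n⁻¹) * n⁻¹ = x
  fusion : ∀ x ∈ (P : Subgroup G), ∀ y ∈ (P : Subgroup G), IsConj x y →
    y = x ∨ y = n * x * n⁻¹ ∨ y = n * (n * x * n⁻¹) * n⁻¹
  compl : ∀ x ∈ (P : Subgroup G), x ≠ 1 →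
    ∃ k : ℕ, (pPrimeCore 2 (Subgroup.centralizer ({x} : Set G))).index = 2 ^ k

theorem exists_act (P : Sylow 2 G) (m : ℕ) (hm : 1 ≤ m)
    (e : (P : Subgroup G) ≃* Multiplicative (ZMod (2 ^ m) × ZMod (2 ^ m)))
    (h3 : (Subgroup.centralizer (P : Set G)).relIndex (Subgroup.normalizer (P : Set G)) = 3) :
    ∃ n : G, Act P n := by
  classical
  haveI : Fact (Nat.Prime 2) := ⟨Nat.prime_two⟩
  have hcomm := sylow_comm P m e
  set N := Subgroup.normalizer (P : Set G)
  set C := (Subgroup.centralizer (P : Set G)).subgroupOf N with hCdef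
  haveI hCn : C.Normal := ⟨fun c hc g => by
    have hc' : ((c : N) : G) ∈ Subgroup.centralizer (P : Set G) := hc
    show ((g * c * g⁻¹ : N) : G) ∈ Subgroup.centralizer (P : Set G)
    rw [Subgroup.mem_centralizer_iff] at hc' ⊢
    intro x hx
    have h1 : (g : G)⁻¹ * x * g ∈ (P : Subgroup G) := by
      have := (Subgroup.mem_normalizer_iff.mp (inv_mem g.2) x).mp hx
      simpa using this
    simp only [Subgroup.coe_mul, Subgroup.coe_inv]
    calc x * ((g : G) * c * (g : G)⁻¹) = g * (((g : G)⁻¹ * x * g) * c) * (g : G)⁻¹ := by group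
      _ = g * (c * ((g : G)⁻¹ * x * g)) * (g : G)⁻¹ := by rw [hc' _ h1]
      _ = (g : G) * c * (g : G)⁻¹ * x := by group⟩
  have hidx : C.index = 3 := h3
  obtain ⟨n, hn⟩ : ∃ n : N, n ∉ C := by
    by_contra h
    push Not at h
    rw [Subgroup.index_eq_one.mpr (eq_top_iff.mpr fun x _ => h x)] at hidx
    omega
  have hord : orderOf (n : N ⧸ C) = 3 := by
    haveI : Fact (Nat.Prime 3) := ⟨Nat.prime_three⟩
    refine orderOf_eq_prime ?_ fun h => hn ((QuotientGroup.eq_one_iff n).mp h)
    rw [show 3 = Nat.card (N ⧸ C) from hidx.symm]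
    exact pow_card_eq_one'
  have hgen : ∀ g : N, ∃ i < 3, (n ^ i)⁻¹ * g ∈ C := by
    intro g
    have h : (g : N ⧸ C) ∈ Subgroup.zpowers (n : N ⧸ C) := by
      rw [(Subgroup.card_eq_iff_eq_top _).mp
        (show Nat.card (Subgroup.zpowers (n : N ⧸ C)) = Nat.card (N ⧸ C) by
          rw [Nat.card_zpowers, hord]; exact hidx.symm)]
      exact Subgroup.mem_top _
    rw [← mem_powers_iff_mem_zpowers, mem_powers_iff_mem_range_orderOf, hord] at h
    obtain ⟨i, hi, he⟩ := Finset.mem_image.mp h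
    exact ⟨i, Finset.mem_range.mp hi, QuotientGroup.eq.mp (by rw [QuotientGroup.mk_pow]; exact he)⟩
  have hmem : ∀ x ∈ (P : Subgroup G), (n : G) * x * (n : G)⁻¹ ∈ (P : Subgroup G) := fun x hx =>
    (Subgroup.mem_normalizer_iff.mp n.2 x).mp hx
  refine ⟨n, hmem, hcomm, fun x hx hfix => ?_, fun x hx => ?_, fun x hx y hy hxy => ?_,
    fun x hx hx1 => ?_⟩
  · by_contra hx1
    exact hn (free P m hm e n.2 hx hx1 (mul_inv_eq_iff_eq_mul.mp hfix))
  · have h : ((n ^ 3 : N) : G) ∈ Subgroup.centralizer (P : Set G) := by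
      show n ^ 3 ∈ C
      rw [← hidx]
      exact C.pow_index_mem n
    have h' := (Subgroup.mem_centralizer_iff.mp h x hx).symm
    simp only [Subgroup.coe_pow, Subgroup.coe_mul, pow_succ, pow_zero, one_mul] at h'
    calc (n : G) * ((n : G) * ((n : G) * x * (n : G)⁻¹) * (n : G)⁻¹) * (n : G)⁻¹
        = ((n : G) * n * n * x) * ((n : G) * n * n)⁻¹ := by group
      _ = x := by rw [h']; group
  · have hle : ∀ z ∈ (P : Subgroup G), (P : Subgroup G) ≤ Subgroup.centralizer ({z} : Set G) :=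
      fun z hz w hw => Subgroup.mem_centralizer_singleton_iff.mpr (hcomm w hw z hz)
    obtain ⟨g, hg, hgx⟩ := exists_normalizer_conj (p := 2) hxy (hle x hx) (hle y hy) (by
      rw [← (P.subtype (hle y hy)).card_eq_multiplicity, Sylow.coe_subtype]
      exact (Nat.card_congr (Subgroup.subgroupOfEquivOfLe (hle y hy)).toEquiv).symm)
    obtain ⟨i, hi, hc⟩ := hgen ⟨g, hg⟩
    have hc' : (((n ^ i)⁻¹ * ⟨g, hg⟩ : N) : G) ∈ Subgroup.centralizer (P : Set G) := hc
    simp only [Subgroup.coe_mul, Subgroup.coe_inv, Subgroup.coe_pow] at hc'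
    have h2 := (Subgroup.mem_centralizer_iff.mp hc' x hx).symm
    have hyv : y = (n : G) ^ i * x * ((n : G) ^ i)⁻¹ := by
      rw [← hgx]
      calc g * x * g⁻¹ = (n : G) ^ i * ((((n : G) ^ i)⁻¹ * g) * x) * g⁻¹ := by group
        _ = (n : G) ^ i * (x * (((n : G) ^ i)⁻¹ * g)) * g⁻¹ := by rw [h2]
        _ = _ := by group
    interval_cases i
    · exact Or.inl (by simpa using hyv)
    · exact Or.inr (Or.inl (by simpa using hyv))
    · exact Or.inr (Or.inr (by rw [hyv, pow_two]; group))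
  · set Cx := Subgroup.centralizer ({x} : Set G)
    have hPC : (P : Subgroup G) ≤ Cx := fun w hw =>
      Subgroup.mem_centralizer_singleton_iff.mpr (hcomm w hw x hx)
    set P' : Sylow 2 Cx := P.subtype hPC
    have hle : Subgroup.normalizer ((P' : Subgroup Cx) : Set Cx) ≤
        Subgroup.centralizer ((P' : Subgroup Cx) : Set Cx) := by
      intro g hg
      have hm' : ∀ w : Cx, w ∈ (P' : Subgroup Cx) ↔ (w : G) ∈ (P : Subgroup G) := fun w => by
        rw [Sylow.coe_subtype]; exact Subgroup.mem_subgroupOf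
      have hgN : (g : G) ∈ Subgroup.normalizer (P : Set G) := by
        refine Subgroup.mem_normalizer_iff.mpr fun w => ⟨fun hw => ?_, fun hw => ?_⟩
        · exact (hm' _).mp ((Subgroup.mem_normalizer_iff.mp hg ⟨w, hPC hw⟩).mp ((hm' _).mpr hw))
        · have h := (Subgroup.mem_normalizer_iff.mp (inv_mem hg) ⟨_, hPC hw⟩).mp ((hm' _).mpr hw)
          have h' := (hm' _).mp h
          simp only [Subgroup.coe_mul, Subgroup.coe_inv, inv_inv] at h'
          convert h' using 1
          group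
      have hgc := free P m hm e hgN hx hx1 (Subgroup.mem_centralizer_singleton_iff.mp g.2)
      exact Subgroup.mem_centralizer_iff.mpr fun w hw =>
        Subtype.ext (Subgroup.mem_centralizer_iff.mp hgc _ ((hm' w).mp hw))
    have hK := MonoidHom.ker_transferSylow_isComplement' P' hle
    set K := (MonoidHom.transferSylow P' hle).ker
    have hKi : K.index = Nat.card P' := hK.symm.index_eq_card
    have hKodd : ¬ 2 ∣ Nat.card K := by
      rw [← hK.index_eq_card]
      exact P'.not_dvd_index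
    have hKle : K ≤ pPrimeCore 2 Cx :=
      Basics.le_pPrimeCore ((Nat.prime_two.coprime_iff_not_dvd.mpr hKodd).symm)
    obtain ⟨a, ha⟩ := IsPGroup.iff_card.mp P'.isPGroup'
    obtain ⟨k, -, hk⟩ := (Nat.dvd_prime_pow Nat.prime_two).mp
      (ha ▸ hKi ▸ Subgroup.index_dvd_of_le hKle)
    exact ⟨k, hk⟩

variable {M : Ideal AlgInt} [M.IsPrime] {P : Sylow 2 G} {n : G}

theorem Act.ne_self (h : Act P n) {x : G} (hx : x ∈ (P : Subgroup G)) (hx1 : x ≠ 1) :
    n * x * n⁻¹ ≠ x ∧ n * (n * x * n⁻¹) * n⁻¹ ≠ x := by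
  refine ⟨fun e => hx1 (h.fixed x hx e), fun e => hx1 (h.fixed x hx ?_)⟩
  have := h.cube x hx
  rwa [e] at this

/-- Sums over the principal block at two elements of the Sylow subgroup. -/
theorem column (h : Act P n) (hM : IsPModular 2 M) [DecidablePred (· ∈ principalBlock M G)]
    {u : G} (hu : u ∈ (P : Subgroup G)) (hu1 : u ≠ 1) :
    (∀ w ∈ (P : Subgroup G), ¬ IsConj u w → ∑ χ ∈ Finset.univ.filter (· ∈ principalBlock M G),
        (χ : IrrCharacter G).1 u * conj (χ.1 w) = 0) ∧
      ∑ χ ∈ Finset.univ.filter (· ∈ principalBlock M G),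
        (χ : IrrCharacter G).1 u * conj (χ.1 u) = (Nat.card (P : Subgroup G) : ℂ) ∧
      ∀ t : G, orderOf t = 2 → u ^ 2 ≠ 1 → ∑ χ ∈ Finset.univ.filter (· ∈ principalBlock M G),
        (χ : IrrCharacter G).1 t ^ 2 / χ.1 1 * conj (χ.1 u) = 0 := by
  classical
  haveI : Fact (Nat.Prime 2) := ⟨Nat.prime_two⟩
  set C := Subgroup.centralizer ({u} : Set G) with hCdef
  letI := Fintype.ofFinite C
  set K := pPrimeCore 2 C with hKdef
  letI := Fintype.ofFinite K
  haveI : K.Normal := Basics.pPrimeCore_normal 2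
  have hKodd : ¬ 2 ∣ Nat.card K := Basics.not_dvd_card_pPrimeCore 2
  obtain ⟨j, hj⟩ := P.isPGroup' ⟨u, hu⟩
  have hu2 : ∃ k : ℕ, u ^ 2 ^ k = 1 := ⟨j, by simpa using congrArg Subtype.val hj⟩
  have hyK : ∀ y : K, ¬ 2 ∣ orderOf ((y : C)) := fun y hd =>
    hKodd (hd.trans (Subgroup.orderOf_dvd_natCard K y.2))
  have hpp : ∀ y : K, IsPPart 2 (u * ((y : C) : G)) u := fun y =>
    isPPart_mk (Subgroup.mem_centralizer_singleton_iff.mp (y : C).2).symm hu2
      (by rw [Subgroup.orderOf_coe]; exact hyK y)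
  set A : IrrCharacter G → ℂ := fun χ =>
    (Nat.card K : ℂ)⁻¹ * ∑ y : K, (χ : G → ℂ) (u * ((y : C) : G)) with hA
  have hK0 : (Nat.card K : ℂ) ≠ 0 := CT.card_ne_zero
  have hconst : ∀ χ ∈ principalBlock M G, ∀ y : K,
      (χ : G → ℂ) (u * ((y : C) : G)) = (χ : G → ℂ) u := by
    intro χ hχ y
    refine Cfsg.Agent.S0942.result 2 M hM u ?_ _ ⟨(y : C), y.2, rfl⟩ χ hχ
    obtain ⟨k, hk⟩ := hu2
    obtain ⟨i, -, hi⟩ := (Nat.dvd_prime_pow Nat.prime_two).mp (orderOf_dvd_of_pow_eq_one hk)
    exact ⟨i, hi⟩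
  have hAB : ∀ χ ∈ principalBlock M G, A χ = (χ : G → ℂ) u := fun χ hχ => by
    simp only [hA, hconst χ hχ, Finset.sum_const, Finset.card_univ, ← Nat.card_eq_fintype_card,
      nsmul_eq_mul]
    rw [← mul_assoc, inv_mul_cancel₀ hK0, one_mul]
  have hPC : (P : Subgroup G) ≤ C := fun w hw =>
    Subgroup.mem_centralizer_singleton_iff.mpr (h.comm w hw u hu)
  have hq : 2 ^ (Nat.card C).factorization 2 = Nat.card (P : Subgroup G) := by
    rw [← (P.subtype hPC).card_eq_multiplicity, Sylow.coe_subtype]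
    exact Nat.card_congr (Subgroup.subgroupOfEquivOfLe hPC).toEquiv
  have hCK : (Nat.card C : ℂ) = (Nat.card (P : Subgroup G) : ℂ) * (Nat.card K : ℂ) := by
    obtain ⟨k, hk⟩ := h.compl u hu hu1
    have h1 : Nat.card K * K.index = Nat.card C := Subgroup.card_mul_index K
    have h2 : (Nat.card C).factorization 2 = k := by
      rw [← h1, show K.index = 2 ^ k from hk, Nat.factorization_mul Nat.card_pos.ne'
        (pow_ne_zero _ two_ne_zero), Finsupp.coe_add, Pi.add_apply,
        Nat.factorization_eq_zero_of_not_dvd hKodd, Nat.prime_two.factorization_pow,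
        Finsupp.single_eq_same, zero_add]
    rw [← hq, h2, ← h1, show K.index = 2 ^ k from hk]
    push_cast
    ring
  -- the norm of the averages
  have htot : ∑ χ : IrrCharacter G, A χ * conj (A χ) = (Nat.card (P : Subgroup G) : ℂ) := by
    have e1 : ∀ y y' : K, ∑ χ : IrrCharacter G, (χ : G → ℂ) (u * ((y : C) : G)) *
        conj ((χ : G → ℂ) (u * ((y' : C) : G))) =
        if IsConj (y : C) (y' : C) then (Nat.card (Subgroup.centralizer ({(y : C)} : Set C)) : ℂ)
        else 0 := fun y y' => by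
      rw [section_column Nat.prime_two hu2 (hyK y') (hyK y), CT.column_orthogonality]
      split_ifs <;> rfl
    have e2 : ∀ y : K, ∑ y' : K, (if IsConj (y : C) (y' : C) then
        (Nat.card (Subgroup.centralizer ({(y : C)} : Set C)) : ℂ) else 0) = (Nat.card C : ℂ) := by
      intro y
      rw [← Finset.sum_filter, Finset.sum_const, nsmul_eq_mul,
        ← CT.card_conj_class_mul_centralizer (y : C), Nat.cast_mul]
      congr 2
      rw [← Fintype.card_subtype, ← Nat.card_eq_fintype_card]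
      exact Nat.card_congr
        { toFun := fun z => ⟨((z.1 : K) : C), z.2⟩
          invFun := fun z => ⟨⟨z.1, by
            obtain ⟨c, hc⟩ := isConj_iff.mp z.2
            rw [← hc]
            exact (inferInstance : K.Normal).conj_mem _ y.2 c⟩, z.2⟩
          left_inv := fun z => rfl
          right_inv := fun z => rfl }
    rw [Finset.sum_congr rfl fun χ _ => show A χ * conj (A χ) = (Nat.card K : ℂ)⁻¹ *
        (Nat.card K : ℂ)⁻¹ * ∑ y : K, ∑ y' : K, (χ : G → ℂ) (u * ((y : C) : G)) *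
          conj ((χ : G → ℂ) (u * ((y' : C) : G))) by
      simp only [hA, map_mul, map_inv₀, map_natCast, map_sum]
      rw [mul_mul_mul_comm, Finset.sum_mul_sum], ← Finset.mul_sum, Finset.sum_comm,
      Finset.sum_congr rfl fun y _ => by
        rw [Finset.sum_comm, Finset.sum_congr rfl fun y' _ => e1 y y', e2 y],
      Finset.sum_const, Finset.card_univ, ← Nat.card_eq_fintype_card, nsmul_eq_mul, hCK]
    field_simp
  have hsq : ∑ χ ∈ Finset.univ.filter (· ∈ principalBlock M G),
      (χ : IrrCharacter G).1 u * conj (χ.1 u) = (Nat.card (P : Subgroup G) : ℂ) := by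
    have hz : ∃ k : ℕ, u ^ 2 ^ k = 1 := hu2
    have h1 : ∑ᶠ ζ ∈ principalBlock M G, ‖(ζ : G → ℂ) (u * ((1 : C) : G))‖ ^ 2 = _ :=
      section_sums hM hz (y := 1) (by rw [orderOf_one]; norm_num)
    rw [sum_sq_of_normal_complement hM (h.compl u hu hu1) (by rw [orderOf_one]; norm_num), hq,
      finsum_mem_eq_toFinset_sum] at h1
    rw [show (Nat.card (P : Subgroup G) : ℂ) = (((Nat.card (P : Subgroup G) : ℕ) : ℝ) : ℂ) by simp,
      ← h1, Complex.ofReal_sum]
    refine Finset.sum_congr (by ext; simp) fun χ _ => ?_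
    rw [OneMemClass.coe_one, mul_one, Complex.mul_conj, Complex.normSq_eq_norm_sq]
  have hAout : ∀ χ, χ ∉ principalBlock M G → A χ = 0 := by
    intro χ hχ
    have h0 : ∑ χ ∈ Finset.univ.filter (fun χ => χ ∉ principalBlock M G), A χ * conj (A χ) = 0 := by
      have := htot
      rw [← Finset.sum_filter_add_sum_filter_not Finset.univ (· ∈ principalBlock M G),
        Finset.sum_congr rfl fun ψ hψ => by rw [hAB ψ (Finset.mem_filter.mp hψ).2], hsq] at this
      exact add_eq_left.mp this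
    simp only [Complex.mul_conj, ← Complex.ofReal_sum, Complex.ofReal_eq_zero] at h0
    exact Complex.normSq_eq_zero.mp ((Finset.sum_eq_zero_iff_of_nonneg
      fun _ _ => Complex.normSq_nonneg _).mp h0 χ (Finset.mem_filter.mpr ⟨Finset.mem_univ _, hχ⟩))
  have hred : ∀ F : IrrCharacter G → ℂ,
      ∑ χ ∈ Finset.univ.filter (· ∈ principalBlock M G), (χ : IrrCharacter G).1 u * F χ =
        (Nat.card K : ℂ)⁻¹ *
          ∑ y : K, ∑ χ : IrrCharacter G, (χ : G → ℂ) (u * ((y : C) : G)) * F χ := by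
    intro F
    rw [Finset.sum_comm, Finset.mul_sum,
      Finset.sum_congr rfl (g := fun χ => A χ * F χ) fun χ hχ => by
        rw [hAB χ (Finset.mem_filter.mp hχ).2],
      Finset.sum_subset (Finset.subset_univ _) fun χ _ hχ => by
        rw [hAout χ fun h => hχ (Finset.mem_filter.mpr ⟨Finset.mem_univ _, h⟩), zero_mul]]
    refine Finset.sum_congr rfl fun χ _ => ?_
    rw [← Finset.sum_mul, ← mul_assoc]
  refine ⟨fun w hw hnc => ?_, hsq, fun t ht hu4 => ?_⟩
  · rw [hred fun χ => conj ((χ : G → ℂ) w), Finset.sum_eq_zero (fun y _ => ?_), mul_zero]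
    rw [CT.column_orthogonality, if_neg]
    intro hc
    obtain ⟨c, hc⟩ := isConj_iff.mp hc
    obtain ⟨i, hi⟩ := P.isPGroup' ⟨w, hw⟩
    have h1 : IsPPart 2 w w := by
      have := isPPart_mk (p := 2) (x := w) (y := 1) (Commute.one_right w)
        ⟨i, by simpa using congrArg Subtype.val hi⟩ (by rw [orderOf_one]; norm_num)
      rwa [mul_one] at this
    have h2 := ppart_conj (hpp y) c
    rw [hc] at h2
    exact hnc (isConj_iff.mpr ⟨c, ppart_unique h2 h1⟩)
  · -- no product of two involutions lies in the section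
    have hnone : ∀ (y : K) (g : G), IsConj t g → ¬ IsConj (t * g) (u * ((y : C) : G)) := by
      intro y g hg hc
      obtain ⟨a, ha⟩ := isConj_iff.mp hc
      have ht1 : t * t = 1 := by rw [← sq, ← ht, pow_orderOf_eq_one]
      have hg1 : g * g = 1 := by
        obtain ⟨b, rfl⟩ := isConj_iff.mp hg
        calc b * t * b⁻¹ * (b * t * b⁻¹) = b * (t * t) * b⁻¹ := by group
          _ = 1 := by rw [ht1]; group
      have hinv : (a * t * a⁻¹) * (u * ((y : C) : G)) * (a * t * a⁻¹)⁻¹ =
          (u * ((y : C) : G))⁻¹ := by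
        rw [← ha]
        have e1 : g⁻¹ = g := inv_eq_of_mul_eq_one_right hg1
        have e2 : t⁻¹ = t := inv_eq_of_mul_eq_one_right ht1
        simp only [mul_inv_rev, inv_inv, e1, e2]
        calc a * t * a⁻¹ * (a * (t * g) * a⁻¹) * (a * (t * a⁻¹))
            = a * ((t * t) * g * t) * a⁻¹ := by group
          _ = _ := by rw [ht1, one_mul]; group
      have hp1 := ppart_conj (hpp y) (a * t * a⁻¹)
      rw [hinv] at hp1
      have hp2 : IsPPart 2 (u * ((y : C) : G))⁻¹ u⁻¹ := by
        rw [(Subgroup.mem_centralizer_singleton_iff.mp (y : C).2).symm, mul_inv_rev]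
        exact isPPart_mk (Commute.inv_inv (Subgroup.mem_centralizer_singleton_iff.mp (y : C).2).symm)
          ⟨hu2.choose, by rw [inv_pow, hu2.choose_spec, inv_one]⟩
          (by rw [orderOf_inv, Subgroup.orderOf_coe]; exact hyK y)
      have hcu : IsConj u u⁻¹ := isConj_iff.mpr ⟨_, ppart_unique hp1 hp2⟩
      rcases h.fusion u hu _ (inv_mem hu) hcu with e | e | e
      · exact hu4 (by rw [sq]; exact inv_eq_iff_mul_eq_one.mp e)
      · have e' : n * u⁻¹ * n⁻¹ = u := by
          calc n * u⁻¹ * n⁻¹ = (n * u * n⁻¹)⁻¹ := by group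
            _ = u := by rw [← e, inv_inv]
        rw [e] at e'
        exact (h.ne_self hu hu1).2 e'
      · have e' : n * u⁻¹ * n⁻¹ = u := by rw [e]; exact h.cube u hu
        have e'' : n * u * n⁻¹ = u⁻¹ := by
          calc n * u * n⁻¹ = (n * u⁻¹ * n⁻¹)⁻¹ := by group
            _ = u⁻¹ := by rw [e']
        rw [← e'] at e
        exact (h.ne_self hu hu1).2 (by rw [e'']; exact e')
    set c0 : ℂ := ∑ g, (ClassSum.classInd t g : ℂ) with hc0def
    have hc0 : c0 ≠ 0 := by
      have : c0 = ((Finset.univ.filter fun g => IsConj t g).card : ℂ) := by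
        rw [hc0def, Finset.card_filter, Nat.cast_sum]
        refine Finset.sum_congr rfl fun g _ => ?_
        by_cases hg : IsConj t g
        · rw [ClassSum.classInd_pos hg, if_pos hg]; simp
        · rw [ClassSum.classInd_neg hg, if_neg hg]; simp
      rw [this, Nat.cast_ne_zero]
      exact Finset.card_ne_zero.mpr ⟨t, Finset.mem_filter.mpr ⟨Finset.mem_univ _, IsConj.refl t⟩⟩
    have hrel : ∀ η : IrrCharacter G, ∑ g, (ClassSum.classInd t g : ℂ) * (η : G → ℂ) (t * g) =
        c0 * ((η : G → ℂ) t ^ 2 / (η : G → ℂ) 1) := by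
      intro η
      rw [← ClassSum.char_mul_omega η.2 (ClassSum.classInd_isClassWeight t) t, ClassSum.omega]
      have e1 : ∑ g, (ClassSum.classInd t g : ℂ) * (η : G → ℂ) g = c0 * (η : G → ℂ) t := by
        rw [hc0def, Finset.sum_mul]
        refine Finset.sum_congr rfl fun g _ => ?_
        by_cases hg : IsConj t g
        · rw [CT.isClassFunction_isConj (CT.isClassFunction_of_isIrr η.2) hg]
        · rw [ClassSum.classInd_neg hg]; simp
      rw [e1]; ring
    have hzero : ∀ y : K, ∑ χ : IrrCharacter G, (χ : G → ℂ) t ^ 2 / (χ : G → ℂ) 1 *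
        conj ((χ : G → ℂ) (u * ((y : C) : G))) = 0 := by
      intro y
      refine mul_left_cancel₀ hc0 ?_
      rw [mul_zero, Finset.mul_sum, Finset.sum_congr rfl fun χ _ => by
        rw [← mul_assoc, ← hrel, Finset.sum_mul], Finset.sum_comm]
      refine Finset.sum_eq_zero fun g _ => ?_
      by_cases hg : IsConj t g
      · rw [Finset.sum_congr rfl fun χ _ => mul_assoc _ _ _, ← Finset.mul_sum,
          CT.column_orthogonality, if_neg (hnone y g hg), mul_zero]
      · simp [ClassSum.classInd_neg hg]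
    have h2 := hred fun χ => conj ((χ : G → ℂ) t ^ 2 / (χ : G → ℂ) 1)
    rw [Finset.sum_eq_zero (s := (Finset.univ : Finset K)) (fun y _ => ?_), mul_zero] at h2
    · rw [← map_zero (starRingEnd ℂ), ← h2, map_sum]
      refine Finset.sum_congr rfl fun χ _ => ?_
      rw [map_mul, Complex.conj_conj, mul_comm]
    · rw [← map_zero (starRingEnd ℂ), ← hzero y, map_sum]
      refine Finset.sum_congr rfl fun χ _ => ?_
      rw [map_mul, Complex.conj_conj, mul_comm]

end Cfsg.Agent.Blocks.HC
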