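import Cfsg.Agent.Lib.Blocks.HomocyclicLocal
import Cfsg.Agent.Lib.Blocks.HomocyclicFamily
import Cfsg.Agent.Lib.CT.GoodCount

/-!
# A linear character for a homocyclic Sylow 2-subgroup of rank two and exponent at least four
-/

set_option linter.unusedSectionVars false

namespace Cfsg.Agent.Blocks.HC

open scoped ComplexConjugate

universe u

theorem sum_hom {A : Type u} [CommGroup A] [Fintype A] [DecidableEq (A →* ℂˣ)] (f : A →* ℂˣ) :
    ∑ x : A, (f x : ℂ) = if f = 1 then (Fintype.card A : ℂ) else 0 := by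
  split_ifs with h
  · simp [h]
  · obtain ⟨a, ha⟩ : ∃ a, f a ≠ 1 := by
      by_contra hc
      push Not at hc
      exact h (MonoidHom.ext hc)
    have e : (f a : ℂ) * ∑ x : A, (f x : ℂ) = ∑ x : A, (f x : ℂ) := by
      rw [Finset.mul_sum]
      exact Fintype.sum_equiv (Equiv.mulLeft a) _ _ fun x => by simp
    by_contra hne
    exact ha (Units.val_eq_one.mp ((mul_eq_right₀ hne).mp e))

theorem sum_dual {A : Type u} [CommGroup A] [Fintype A] [DecidableEq A] [Fintype (A →* ℂˣ)] (x : A) :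
    ∑ f : A →* ℂˣ, (f x : ℂ) = if x = 1 then (Fintype.card A : ℂ) else 0 := by
  split_ifs with h
  · simp [h, ← Nat.card_eq_fintype_card, CommGroup.card_monoidHom_of_hasEnoughRootsOfUnity A ℂ]
  · obtain ⟨φ, hφ⟩ := CommGroup.exists_apply_ne_one_of_hasEnoughRootsOfUnity A ℂ h
    have e : ((φ x : ℂˣ) : ℂ) * ∑ f : A →* ℂˣ, (f x : ℂ) = ∑ f : A →* ℂˣ, (f x : ℂ) := by
      rw [Finset.mul_sum]
      exact Fintype.sum_equiv (Equiv.mulLeft φ) _ _ fun f => by simp
    by_contra hne
    exact hφ (Units.val_eq_one.mp ((mul_eq_right₀ hne).mp e))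

theorem conj_hom {A : Type u} [CommGroup A] [Finite A] (f : A →* ℂˣ) (x : A) :
    conj (f x : ℂ) = (f x⁻¹ : ℂ) := by
  rw [map_inv, Units.val_inv_eq_inv_val]
  refine (Complex.inv_eq_conj (Complex.norm_eq_one_of_pow_eq_one (n := Nat.card A) ?_
    Nat.card_pos.ne')).symm
  rw [← Units.val_pow_eq_pow_val, ← map_pow, pow_card_eq_one', map_one, Units.val_one]

/-- The arithmetic of the degrees. -/
theorem degrees {q : ℕ} (hq : 16 ≤ q) {x1 x2 y δ1 δ2 ε : ℤ} (h1 : 1 ≤ x1) (h2 : 1 ≤ x2)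
    (hy : 1 ≤ y) (hd1 : δ1 = 1 ∨ δ1 = -1) (hd2 : δ2 = 1 ∨ δ2 = -1) (he : ε = 1 ∨ ε = -1)
    (c1 : (q : ℤ) ∣ x1 - δ1) (c2 : (q : ℤ) ∣ x2 - δ2) (cy : (q : ℤ) ∣ y + 3 * ε)
    (heq : y * (x1 * x2) + δ1 * (y * x2) + δ2 * (y * x1) + 9 * ε * (x1 * x2) = 0) :
    (x1 = 1 ∧ δ1 = 1) ∨ (x2 = 1 ∧ δ2 = 1) := by
  have hq' : (16 : ℤ) ≤ q := by exact_mod_cast hq
  have small : ∀ {x δ : ℤ}, 1 ≤ x → (δ = 1 ∨ δ = -1) → (q : ℤ) ∣ x - δ →
      (x = 1 ∧ δ = 1) ∨ 15 ≤ x := by
    intro x δ hx hd hc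
    rcases hd with rfl | rfl
    · rcases eq_or_lt_of_le hx with h | h
      · exact Or.inl ⟨h.symm, rfl⟩
      · have := Int.le_of_dvd (by omega) hc
        exact Or.inr (by omega)
    · have := Int.le_of_dvd (by omega) hc
      exact Or.inr (by omega)
  rcases small h1 hd1 c1 with h | h15
  · exact Or.inl h
  rcases small h2 hd2 c2 with h | h15'
  · exact Or.inr h
  exfalso
  set P := x1 * x2 with hP
  have hP1 : 15 * x2 ≤ P := by rw [hP]; exact mul_le_mul_of_nonneg_right h15 (by omega)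
  have hP2 : 15 * x1 ≤ P := by
    rw [hP, mul_comm x1 x2]; exact mul_le_mul_of_nonneg_right h15' (by omega)
  have hs : -(x1 + x2) ≤ δ1 * x2 + δ2 * x1 ∧ δ1 * x2 + δ2 * x1 ≤ x1 + x2 := by
    rcases hd1 with rfl | rfl <;> rcases hd2 with rfl | rfl <;> constructor <;> omega
  have heq' : y * (P + (δ1 * x2 + δ2 * x1)) = -(9 * ε * P) := by linear_combination heq
  have hpos : 0 < P + (δ1 * x2 + δ2 * x1) := by omega
  rcases he with rfl | rfl
  · have := mul_pos (show (0 : ℤ) < y by omega) hpos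
    omega
  · have hy10 : y ≤ 10 := by
      by_contra hc
      have := mul_le_mul_of_nonneg_right (show (11 : ℤ) ≤ y by omega) hpos.le
      omega
    have hy3 : y = 3 := by
      rcases lt_trichotomy y 3 with h | h | h
      · have := Int.le_of_dvd (by omega) (Int.dvd_neg.mpr cy); omega
      · exact h
      · have := Int.le_of_dvd (by omega) cy; omega
    subst hy3
    omega

variable {G : Type u} [Group G] [Fintype G]

/-- A nontrivial linear character trivial on the Sylow subgroup. -/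
theorem exists_linear (P : Sylow 2 G) (m : ℕ) (hm : 2 ≤ m)
    (e : (P : Subgroup G) ≃* Multiplicative (ZMod (2 ^ m) × ZMod (2 ^ m)))
    (h3 : (Subgroup.centralizer (P : Set G)).relIndex (Subgroup.normalizer (P : Set G)) = 3)
    {M : Ideal AlgInt} [M.IsPrime] (hM : IsPModular 2 M) :
    ∃ L : G →* ℂˣ, L ≠ 1 ∧ ∀ x ∈ (P : Subgroup G), L x = 1 := by
  classical
  haveI : Fact (Nat.Prime 2) := ⟨Nat.prime_two⟩
  obtain ⟨n, hA⟩ := exists_act P m (by omega) e h3
  letI : CommGroup (P : Subgroup G) :=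
    { (inferInstance : Group (P : Subgroup G)) with
      mul_comm := fun x y => Subtype.ext (hA.comm _ x.2 _ y.2) }
  haveI : Finite ((P : Subgroup G) →* ℂˣ) := Nat.finite_of_card_ne_zero (by
    rw [CommGroup.card_monoidHom_of_hasEnoughRootsOfUnity (P : Subgroup G) ℂ]
    exact Nat.card_pos.ne')
  letI := Fintype.ofFinite ((P : Subgroup G) →* ℂˣ)
  let σ : (P : Subgroup G) →* (P : Subgroup G) := MonoidHom.mk'
    (fun x => ⟨n * (x : G) * n⁻¹, hA.mem _ x.2⟩) fun x y => Subtype.ext (by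
      simp only [Subgroup.coe_mul]; group)
  have hσ : ∀ x, ((σ x : (P : Subgroup G)) : G) = n * (x : G) * n⁻¹ := fun _ => rfl
  have hσ3 : ∀ x, σ (σ (σ x)) = x := fun x => Subtype.ext (by
    rw [hσ, hσ, hσ]; exact hA.cube _ x.2)
  have hσfix : ∀ x, σ x = x → x = 1 := fun x h => Subtype.ext
    (hA.fixed _ x.2 (by rw [← hσ, h]))
  set q : ℂ := (Fintype.card (P : Subgroup G) : ℂ) with hqdef
  have hq0 : q ≠ 0 := Nat.cast_ne_zero.mpr Fintype.card_ne_zero
  have hq16 : 16 ≤ Fintype.card (P : Subgroup G) := by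
    rw [← Nat.card_eq_fintype_card, Nat.card_congr e.toEquiv,
      Nat.card_congr Multiplicative.toAdd, Nat.card_prod, Nat.card_zmod, ← pow_add]
    calc (16 : ℕ) = 2 ^ 4 := rfl
      _ ≤ _ := Nat.pow_le_pow_right two_pos (by omega)
  set B := (Finset.univ : Finset (IrrCharacter G)).filter (· ∈ principalBlock M G) with hB
  have hnc1 : ∀ x : (P : Subgroup G), x ≠ 1 → ¬ IsConj (x : G) 1 := fun x hx h =>
    hx (Subtype.ext (isConj_one_left.mp h))
  -- the columns
  have hcol : ∀ x y : (P : Subgroup G), x ≠ 1 →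
      ∑ χ ∈ B, (χ : G → ℂ) x * conj ((χ : G → ℂ) y) =
        q * ((if y = x then 1 else 0) + (if y = σ x then 1 else 0) +
          (if y = σ (σ x) then 1 else 0)) := by
    intro x y hx
    obtain ⟨h0, hs, -⟩ := column hA hM x.2 fun h => hx (Subtype.ext h)
    have hd1 : σ x ≠ x := fun h => hx (hσfix x h)
    have hd2 : σ (σ x) ≠ x := fun h => hd1 (by
      conv_rhs => rw [← hσ3 x]
      rw [h])
    have hd3 : σ (σ x) ≠ σ x := fun h => hd1 (by
      conv_rhs => rw [← hσ3 x]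
      rw [h, h])
    by_cases hc : IsConj (x : G) (y : G)
    · rw [show ∑ χ ∈ B, (χ : G → ℂ) x * conj ((χ : G → ℂ) y) = q by
        rw [Finset.sum_congr rfl fun χ _ => by
          rw [← CT.isClassFunction_isConj (CT.isClassFunction_of_isIrr χ.2) hc]]
        rw [hqdef, ← Nat.card_eq_fintype_card]
        exact hs]
      rcases hA.fusion _ x.2 _ y.2 hc with h | h | h
      · obtain rfl : y = x := Subtype.ext h
        simp [hd1.symm, hd2.symm]
      · obtain rfl : y = σ x := Subtype.ext h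
        simp [hd1, hd3.symm]
      · obtain rfl : y = σ (σ x) := Subtype.ext h
        simp [hd2, hd3]
    · rw [h0 _ y.2 hc]
      have h1 : y ≠ x := fun h => hc (h ▸ IsConj.refl _)
      have h2 : y ≠ σ x := fun h => hc (h ▸ isConj_iff.mpr ⟨n, (hσ x).symm⟩)
      have h3' : y ≠ σ (σ x) := fun h => hc (h ▸ (isConj_iff.mpr ⟨n * n, by
        rw [hσ, hσ]; group⟩))
      simp [h1, h2, h3']
  -- the vectors
  have hvex : ∀ (f : (P : Subgroup G) →* ℂˣ) (χ : IrrCharacter G), ∃ z : ℤ,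
      (z : ℂ) * q = ∑ x : (P : Subgroup G), (χ : G → ℂ) x * (1 - conj (f x : ℂ)) := by
    intro f χ
    have hr := CT.isCharacter_restrict (P : Subgroup G) (CT.isCharacter_of_isIrr χ.2)
    obtain ⟨a, ha⟩ := CT.classInner_character_nat hr (CT.isCharacter_lin (G := (P : Subgroup G)) 1)
    obtain ⟨c, hc⟩ := CT.classInner_character_nat hr (CT.isCharacter_lin (G := (P : Subgroup G)) f)
    rw [classInner, inv_mul_eq_iff_eq_mul₀ CT.card_ne_zero, Nat.card_eq_fintype_card] at ha hc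
    refine ⟨(a : ℤ) - c, ?_⟩
    push_cast
    rw [sub_mul, mul_comm (a : ℂ), mul_comm (c : ℂ), ← ha, ← hc, ← Finset.sum_sub_distrib]
    refine Finset.sum_congr rfl fun x _ => ?_
    simp
    ring
  choose v hv using hvex
  set sg : ((P : Subgroup G) →* ℂˣ) → ((P : Subgroup G) →* ℂˣ) := fun f => f.comp σ with hsg
  have hsg3 : ∀ f, sg (sg (sg f)) = f := fun f => MonoidHom.ext fun x => by simp [hsg, hσ3]
  have hsgfix : ∀ f, sg f = f → f = 1 := by
    intro f hf
    let ψ : (P : Subgroup G) →* (P : Subgroup G) := MonoidHom.mk' (fun x => σ x / x)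
      fun x y => by rw [map_mul, mul_div_mul_comm]
    have hψ : Function.Injective ψ := (injective_iff_map_eq_one ψ).mpr fun x hx =>
      hσfix x (div_eq_one.mp hx)
    refine MonoidHom.ext fun x => ?_
    obtain ⟨y, rfl⟩ := (Finite.injective_iff_surjective.mp hψ) x
    show f (σ y / y) = 1
    rw [map_div, div_eq_one]
    exact DFunLike.congr_fun hf y
  have hinner : ∀ f g, f ≠ 1 → g ≠ 1 → ∑ χ ∈ B, ((v f χ * v g χ : ℤ) : ℂ) =
      3 + ((if f = g then 1 else 0) + (if f = sg g then 1 else 0) +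
        (if f = sg (sg g) then 1 else 0)) := by
    intro f g hf hg
    have hvg : ∀ χ, (v g χ : ℂ) * q =
        ∑ x : (P : Subgroup G), conj ((χ : G → ℂ) x) * (1 - (g x : ℂ)) := fun χ => by
      have h := congrArg conj (hv g χ)
      rw [map_mul, map_intCast, map_natCast] at h
      rw [h, map_sum]
      exact Finset.sum_congr rfl fun x _ => by
        rw [map_mul, map_sub, map_one, Complex.conj_conj]
    have hpair : ∀ h : (P : Subgroup G) →* ℂˣ, h ≠ 1 →
        ∑ x : (P : Subgroup G), (1 - conj (f x : ℂ)) * (1 - (h x : ℂ)) =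
          q + if f = h then q else 0 := by
      intro h hh
      have hfi : f⁻¹ ≠ 1 := fun hh => hf (by
        refine MonoidHom.ext fun x => ?_
        simpa using DFunLike.congr_fun hh x)
      have e1 : ∀ x, (1 - conj (f x : ℂ)) * (1 - (h x : ℂ)) =
          1 - (f⁻¹ x : ℂ) - (h x : ℂ) + ((f⁻¹ * h) x : ℂ) := fun x => by
        rw [conj_hom, map_inv, MonoidHom.inv_apply, MonoidHom.mul_apply, MonoidHom.inv_apply,
          Units.val_mul]
        ring
      rw [Finset.sum_congr rfl fun x _ => e1 x, Finset.sum_add_distrib, Finset.sum_sub_distrib,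
        Finset.sum_sub_distrib, sum_hom, sum_hom, sum_hom, if_neg hfi, if_neg hh]
      have hiff : f⁻¹ * h = 1 ↔ f = h := inv_mul_eq_one (a := f) (b := h)
      simp [hiff, hqdef]
    refine mul_right_cancel₀ (mul_ne_zero hq0 hq0) ?_
    rw [Finset.sum_mul, Finset.sum_congr rfl fun χ _ => show ((v f χ * v g χ : ℤ) : ℂ) * (q * q) =
        ∑ x : (P : Subgroup G), ∑ y : (P : Subgroup G),
          (1 - conj (f x : ℂ)) * (1 - (g y : ℂ)) * ((χ : G → ℂ) x * conj ((χ : G → ℂ) y)) by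
      push_cast
      rw [mul_mul_mul_comm, hv, hvg, Finset.sum_mul_sum]
      exact Finset.sum_congr rfl fun x _ => Finset.sum_congr rfl fun y _ => by ring,
      Finset.sum_comm]
    rw [Finset.sum_congr rfl (g := fun x => q * ((1 - conj (f x : ℂ)) * (1 - (g x : ℂ)) +
      (1 - conj (f x : ℂ)) * (1 - (sg g x : ℂ)) +
      (1 - conj (f x : ℂ)) * (1 - (sg (sg g) x : ℂ)))) fun x _ => ?_, ← Finset.mul_sum,
      Finset.sum_add_distrib, Finset.sum_add_distrib, hpair g hg,
      hpair (sg g) fun h => hg (by rw [← hsg3 g, h]; simp [hsg]),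
      hpair (sg (sg g)) fun h => hg (by rw [← hsg3 g, h]; simp [hsg])]
    · split_ifs <;> ring
    · rw [Finset.sum_comm]
      simp only [← Finset.mul_sum]
      by_cases hx : x = 1
      · simp [hx]
      rw [Finset.sum_congr rfl fun y _ => by rw [hcol x y hx]]
      simp only [mul_add, Finset.sum_add_distrib, mul_ite, mul_one, mul_zero, Finset.sum_ite_eq',
        Finset.mem_univ, if_true, hsg, MonoidHom.comp_apply]
      ring
  set t := CT.trivIrr G with ht
  have htB : t ∈ B := Finset.mem_filter.mpr ⟨Finset.mem_univ _, self_mem_blockOf t⟩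
  have hvt : ∀ f, f ≠ 1 → v f t = 1 := by
    intro f hf
    have h := hv f t
    simp only [ht, CT.trivIrr_apply, one_mul, conj_hom, Finset.sum_sub_distrib] at h
    rw [Fintype.sum_equiv (Equiv.inv _) (fun x => ((f x⁻¹ : ℂˣ) : ℂ)) (fun x => (f x : ℂ))
      (fun x => rfl), sum_hom, if_neg hf] at h
    have h' : ((v f t : ℤ) : ℂ) * q = ((1 : ℤ) : ℂ) * q := by
      rw [h]; simp [hqdef]
    exact_mod_cast mul_right_cancel₀ hq0 h'
  set w : ((P : Subgroup G) →* ℂˣ) → IrrCharacter G → ℤ :=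
    fun f χ => if χ ∈ B.erase t then v f χ else 0 with hw
  have hww : ∀ f g, f ≠ 1 → g ≠ 1 → ∑ χ, w f χ * w g χ =
      2 + ((if f = g then 1 else 0) + (if f = sg g then 1 else 0) +
        (if f = sg (sg g) then 1 else 0)) := by
    intro f g hf hg
    have h := hinner f g hf hg
    rw [← Finset.add_sum_erase _ _ htB, hvt f hf, hvt g hg] at h
    simp only [hw, ite_mul, zero_mul, mul_ite, mul_zero]
    rw [Finset.sum_congr rfl fun χ _ => ite_eq_left_iff.mpr fun hn => by simp [hn],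
      ← Finset.sum_filter] 
    apply Int.cast_injective (α := ℂ)
    push_cast
    push_cast at h
    rw [Finset.filter_mem_eq_inter, Finset.univ_inter]
    linear_combination h
  have horbit : ∀ f, f ≠ 1 → f ≠ sg f ∧ f ≠ sg (sg f) := fun f hf =>
    ⟨fun h => hf (hsgfix f h.symm), fun h => hf (hsgfix f (by
      conv_lhs => rw [h]
      rw [hsg3]))⟩
  have hne1 : ∀ f, f ≠ 1 → sg f ≠ 1 := fun f hf h => hf (by rw [← hsg3 f, h]; simp [hsg])
  have hnorm : ∀ f, f ≠ 1 → ∑ χ, w f χ * w f χ = 3 := fun f hf => by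
    simp [hww f f hf hf, (horbit f hf).1, (horbit f hf).2]
  have horb : ∀ f g, f ≠ 1 → g ≠ 1 → (w f = w g ↔ f = g ∨ f = sg g ∨ f = sg (sg g)) := by
    intro f g hf hg
    constructor
    · intro h
      by_contra hn
      push Not at hn
      have := hww f g hf hg
      rw [← h, hnorm f hf, if_neg hn.1, if_neg hn.2.1, if_neg hn.2.2] at this
      omega
    · intro h
      have h2 : ∑ χ, w f χ * w g χ = 3 := by
        obtain ⟨o1, o2⟩ := horbit g hg
        have o3 : sg g ≠ sg (sg g) := (horbit _ (hne1 g hg)).1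
        rw [hww f g hf hg]
        rcases h with rfl | rfl | rfl <;>
          simp [o1, o2, o3, o1.symm, o2.symm, o3.symm]
      have h0 : ∑ χ, (w f χ - w g χ) ^ 2 = 0 := by
        rw [Finset.sum_congr rfl fun χ _ => show (w f χ - w g χ) ^ 2 =
          w f χ * w f χ + w g χ * w g χ - 2 * (w f χ * w g χ) by ring, Finset.sum_sub_distrib,
          Finset.sum_add_distrib, ← Finset.mul_sum, h2, hnorm f hf, hnorm g hg]
        ring
      funext χ
      exact sub_eq_zero.mp (pow_eq_zero_iff two_ne_zero |>.mp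
        ((Finset.sum_eq_zero_iff_of_nonneg fun _ _ => sq_nonneg _).mp h0 χ (Finset.mem_univ χ)))
  set L0 := (Finset.univ : Finset ((P : Subgroup G) →* ℂˣ)).erase 1 with hL0
  have hL0mem : ∀ {f}, f ∈ L0 → f ≠ 1 := fun hf => Finset.ne_of_mem_erase hf
  set W := L0.image w with hW
  have hfibre : ∀ g ∈ L0, L0.filter (fun f => w f = w g) = {g, sg g, sg (sg g)} := by
    intro g hg
    ext f
    simp only [Finset.mem_filter, Finset.mem_insert, Finset.mem_singleton]
    constructor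
    · exact fun h => (horb f g (hL0mem h.1) (hL0mem hg)).mp h.2
    · intro h
      have hf : f ≠ 1 := by
        rcases h with rfl | rfl | rfl
        exacts [hL0mem hg, hne1 _ (hL0mem hg), hne1 _ (hne1 _ (hL0mem hg))]
      exact ⟨Finset.mem_erase.mpr ⟨hf, Finset.mem_univ _⟩, (horb f g hf (hL0mem hg)).mpr h⟩
  have hfcard : ∀ g ∈ L0, (L0.filter fun f => w f = w g).card = 3 := fun g hg => by
    rw [hfibre g hg]
    have o := horbit g (hL0mem hg)
    simp [o.1, o.2, (horbit _ (hne1 g (hL0mem hg))).1]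
  have hL0card : L0.card + 1 = Fintype.card (P : Subgroup G) := by
    rw [hL0, Finset.card_erase_of_mem (Finset.mem_univ _), Finset.card_univ,
      ← Nat.card_eq_fintype_card, ← Nat.card_eq_fintype_card,
      CommGroup.card_monoidHom_of_hasEnoughRootsOfUnity]
    have := Nat.card_pos (α := (P : Subgroup G))
    omega
  have hW5 : 5 ≤ W.card := by
    have h := Finset.card_le_mul_card_image (f := w) L0 3 fun a ha => by
      obtain ⟨g, hg, rfl⟩ := Finset.mem_image.mp ha
      exact (hfcard g hg).le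
    rw [← hW] at h
    omega
  obtain ⟨a, b, δa, δb, hab, hδa, hδb, hfam⟩ := sunflower W hW5
    (fun u hu => by
      obtain ⟨f, hf, rfl⟩ := Finset.mem_image.mp hu
      exact hnorm f (hL0mem hf))
    (fun u hu u' hu' hne => by
      obtain ⟨f, hf, rfl⟩ := Finset.mem_image.mp hu
      obtain ⟨g, hg, rfl⟩ := Finset.mem_image.mp hu'
      have hn := mt (horb f g (hL0mem hf) (hL0mem hg)).mpr hne
      push Not at hn
      simp [hww f g (hL0mem hf) (hL0mem hg), hn.1, hn.2.1, hn.2.2])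
  have hfam' : ∀ f ∈ L0, w f a = δa ∧ w f b = δb ∧ ∃ y, y ≠ a ∧ y ≠ b ∧ (w f y = 1 ∨ w f y = -1) ∧
      (∀ x, x ≠ a → x ≠ b → x ≠ y → w f x = 0) ∧ ∀ g ∈ L0, w g ≠ w f → w g y = 0 := fun f hf => by
    obtain ⟨h1, h2, y, h3', h4, h5, h6, h7⟩ := hfam _ (Finset.mem_image_of_mem w hf)
    exact ⟨h1, h2, y, h3', h4, h5, h6, fun g hg hne => h7 _ (Finset.mem_image_of_mem w hg) hne⟩
  have hyex : ∀ f, ∃ y, f ∈ L0 → y ≠ a ∧ y ≠ b ∧ (w f y = 1 ∨ w f y = -1) ∧
      (∀ x, x ≠ a → x ≠ b → x ≠ y → w f x = 0) ∧ ∀ g ∈ L0, w g ≠ w f → w g y = 0 := fun f => by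
    by_cases hf : f ∈ L0
    · obtain ⟨-, -, y, h⟩ := hfam' f hf; exact ⟨y, fun _ => h⟩
    · exact ⟨a, fun h => absurd h hf⟩
  choose Y hY using hyex
  obtain ⟨f₀, hf₀⟩ : L0.Nonempty := Finset.card_pos.mp (by omega)
  have hwmem : ∀ f χ, w f χ ≠ 0 → χ ∈ B ∧ χ ≠ t := fun f χ h => by
    simp only [hw] at h
    split_ifs at h with hχ
    · exact ⟨Finset.mem_of_mem_erase hχ, Finset.ne_of_mem_erase hχ⟩
    · exact absurd rfl h
  have haBt : a ∈ B ∧ a ≠ t := hwmem f₀ a (by
    rw [(hfam' f₀ hf₀).1]; rcases hδa with h | h <;> omega)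
  have hbBt : b ∈ B ∧ b ≠ t := hwmem f₀ b (by
    rw [(hfam' f₀ hf₀).2.1]; rcases hδb with h | h <;> omega)
  have hYBt : ∀ f ∈ L0, Y f ∈ B ∧ Y f ≠ t := fun f hf => hwmem f _ (by
    rcases (hY f hf).2.2.1 with h | h <;> omega)
  have hwv : ∀ f χ, χ ∈ B → χ ≠ t → w f χ = v f χ := fun f χ h1 h2 => by
    simp [hw, h1, h2]
  have hYeq : ∀ f ∈ L0, ∀ g ∈ L0, Y f = Y g → w f = w g := by
    intro f hf g hg h
    by_contra hne
    have h0 := (hY g hg).2.2.2.2 f hf hne
    rw [← h] at h0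
    rcases (hY f hf).2.2.1 with h' | h' <;> omega
  have hYeq' : ∀ f ∈ L0, ∀ g ∈ L0, w f = w g → Y f = Y g := by
    intro f hf g hg h
    by_contra hne
    have h0 := (hY f hf).2.2.2.1 (Y g) (hY g hg).1 (hY g hg).2.1 (Ne.symm hne)
    rw [h] at h0
    rcases (hY g hg).2.2.1 with h' | h' <;> omega
  -- values on the Sylow subgroup
  have hrec : ∀ χ : IrrCharacter G, ∀ x : (P : Subgroup G), x ≠ 1 →
      (χ : G → ℂ) x = -∑ f ∈ L0, (v f χ : ℂ) * (f x : ℂ) := by
    intro χ x hx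
    have hv1 : v 1 χ = 0 := by
      have h := hv 1 χ
      simp at h
      rcases h with h | h
      · exact h
      · exact absurd h hq0
    rw [hL0, Finset.sum_erase _ (by simp [hv1])]
    refine mul_right_cancel₀ hq0 ?_
    rw [neg_mul, Finset.sum_mul, Finset.sum_congr rfl fun f _ => show (v f χ : ℂ) * (f x : ℂ) * q =
        ∑ y : (P : Subgroup G), (χ : G → ℂ) y * ((f x : ℂ) - (f (y⁻¹ * x) : ℂ)) by
      rw [mul_right_comm, hv, Finset.sum_mul]
      refine Finset.sum_congr rfl fun y _ => ?_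
      rw [map_mul, Units.val_mul, conj_hom]
      ring, Finset.sum_comm]
    simp only [← Finset.mul_sum, Finset.sum_sub_distrib, sum_dual, if_neg hx, zero_sub,
      inv_mul_eq_one, mul_neg, mul_ite, mul_zero, Finset.sum_neg_distrib, Finset.sum_ite_eq',
      Finset.mem_univ, if_true, neg_neg]
    rfl
  have hsumL0 : ∀ x : (P : Subgroup G), x ≠ 1 → ∑ f ∈ L0, (f x : ℂ) = -1 := fun x hx => by
    rw [hL0, Finset.sum_erase_eq_sub (Finset.mem_univ _), sum_dual, if_neg hx]; simp
  have hval_a : ∀ x : (P : Subgroup G), x ≠ 1 →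
      (a : G → ℂ) x = (δa : ℂ) ∧ (b : G → ℂ) x = (δb : ℂ) := by
    intro x hx
    constructor
    · rw [hrec a x hx, Finset.sum_congr rfl fun f hf => by
        rw [← hwv f a haBt.1 haBt.2, (hfam' f hf).1], ← Finset.mul_sum, hsumL0 x hx]
      ring
    · rw [hrec b x hx, Finset.sum_congr rfl fun f hf => by
        rw [← hwv f b hbBt.1 hbBt.2, (hfam' f hf).2.1], ← Finset.mul_sum, hsumL0 x hx]
      ring
  set S : ((P : Subgroup G) →* ℂˣ) → ↥(P : Subgroup G) → ℂ :=
    fun f x => (f x : ℂ) + (sg f x : ℂ) + (sg (sg f) x : ℂ) with hSdef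
  have hval_Y : ∀ g ∈ L0, ∀ x : (P : Subgroup G), x ≠ 1 →
      (Y g : G → ℂ) x = -(w g (Y g) : ℂ) * S g x := by
    intro g hg x hx
    have o := horbit g (hL0mem hg)
    rw [hrec (Y g) x hx, ← Finset.sum_filter_add_sum_filter_not L0 (fun f => w f = w g),
      Finset.sum_eq_zero (s := L0.filter fun f => ¬ w f = w g) (fun f hf => by
        obtain ⟨hf, hne⟩ := Finset.mem_filter.mp hf
        rw [← hwv f _ (hYBt g hg).1 (hYBt g hg).2, (hY g hg).2.2.2.2 f hf hne]; simp), add_zero,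
      Finset.sum_congr rfl (g := fun f => (w g (Y g) : ℂ) * (f x : ℂ)) fun f hf => by
        rw [← hwv f _ (hYBt g hg).1 (hYBt g hg).2, (Finset.mem_filter.mp hf).2],
      ← Finset.mul_sum, hfibre g hg,
      Finset.sum_insert (by simp [o.1, o.2]),
      Finset.sum_pair (horbit _ (hne1 g (hL0mem hg))).1]
    simp only [hSdef]
    ring
  have hval_other : ∀ χ ∈ B, χ ∉ ({t, a, b} : Finset (IrrCharacter G)) → χ ∉ L0.image Y →
      ∀ x : (P : Subgroup G), x ≠ 1 → (χ : G → ℂ) x = 0 := by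
    intro χ hχ h1 h2 x hx
    simp only [Finset.mem_insert, Finset.mem_singleton, not_or] at h1
    rw [hrec χ x hx, Finset.sum_eq_zero fun f hf => ?_, neg_zero]
    rw [← hwv f χ hχ h1.1, (hY f hf).2.2.2.1 χ h1.2.1 h1.2.2
      fun h => h2 (h ▸ Finset.mem_image_of_mem Y hf)]
    simp
  -- degrees
  set deg : IrrCharacter G → ℤ := fun χ => (charDegree (χ : G → ℂ) : ℤ) with hdeg
  have hdegC : ∀ χ : IrrCharacter G, (deg χ : ℂ) = (χ : G → ℂ) 1 := fun χ => by
    simp [hdeg, charDegree_cast]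
  have hdpos : ∀ χ, 1 ≤ deg χ := fun χ => by
    have := charDegree_pos χ; simp only [hdeg]; omega
  have hdt : deg t = 1 := by
    have : (deg t : ℂ) = ((1 : ℤ) : ℂ) := by rw [hdegC]; simp [ht]
    exact_mod_cast this
  have hrel : ∀ g ∈ L0, 1 + δa * deg a + δb * deg b + w g (Y g) * deg (Y g) = 0 := by
    intro g hg
    have h : ∑ χ ∈ B, ((v g χ * deg χ : ℤ) : ℂ) = 0 := by
      refine mul_right_cancel₀ hq0 ?_
      rw [zero_mul, Finset.sum_mul, Finset.sum_congr rfl fun χ _ => show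
        ((v g χ * deg χ : ℤ) : ℂ) * q = ∑ x : (P : Subgroup G), (1 - conj (g x : ℂ)) *
          ((χ : G → ℂ) x * conj ((χ : G → ℂ) (1 : G))) by
        have hr : conj ((χ : G → ℂ) 1) = (χ : G → ℂ) 1 := by rw [← hdegC, map_intCast]
        push_cast
        rw [mul_right_comm, hv, Finset.sum_mul, hdegC, hr]
        exact Finset.sum_congr rfl fun x _ => by ring, Finset.sum_comm]
      refine Finset.sum_eq_zero fun x _ => ?_
      rw [← Finset.mul_sum]
      by_cases hx : x = 1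
      · simp [hx]
      · have h := hcol x 1 hx
        rw [if_neg (Ne.symm hx), if_neg fun h => hne1 g (hL0mem hg) (by
            exact absurd (show x = 1 by rw [← hσ3 x, ← h, map_one, map_one]) hx),
          if_neg fun h => absurd (show x = 1 by rw [← hσ3 x, ← h, map_one]) hx] at h
        rw [OneMemClass.coe_one] at h
        rw [h]; ring
    rw [← Finset.add_sum_erase _ _ htB, hvt g (hL0mem hg), hdt] at h
    have h2 : ∑ χ ∈ B.erase t, ((v g χ * deg χ : ℤ) : ℂ) =
        ∑ χ ∈ ({a, b, Y g} : Finset (IrrCharacter G)), ((w g χ * deg χ : ℤ) : ℂ) := by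
      rw [Finset.sum_congr rfl fun χ hχ => by
        rw [← hwv g χ (Finset.mem_of_mem_erase hχ) (Finset.ne_of_mem_erase hχ)]]
      refine (Finset.sum_subset (fun χ hχ => ?_) fun χ _ hχ => ?_).symm
      · simp only [Finset.mem_insert, Finset.mem_singleton] at hχ
        rcases hχ with rfl | rfl | rfl
        exacts [Finset.mem_erase.mpr ⟨haBt.2, haBt.1⟩, Finset.mem_erase.mpr ⟨hbBt.2, hbBt.1⟩,
          Finset.mem_erase.mpr ⟨(hYBt g hg).2, (hYBt g hg).1⟩]
      · simp only [Finset.mem_insert, Finset.mem_singleton, not_or] at hχ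
        simp [(hY g hg).2.2.2.1 χ hχ.1 hχ.2.1 hχ.2.2]
    rw [h2, Finset.sum_insert (by simp [hab, (hY g hg).1.symm]),
      Finset.sum_pair (hY g hg).2.1.symm, (hfam' g hg).1, (hfam' g hg).2.1] at h
    have h' : ((1 + δa * deg a + δb * deg b + w g (Y g) * deg (Y g) : ℤ) : ℂ) = 0 := by
      rw [← h]; push_cast; ring
    exact_mod_cast h'
  set ε := w f₀ (Y f₀) with hεdef
  set y := deg (Y f₀) with hydef
  have huni : ∀ g ∈ L0, w g (Y g) = ε ∧ deg (Y g) = y := by
    intro g hg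
    have h1 := hrel g hg
    have h2 := hrel f₀ hf₀
    have h3' := hdpos (Y g)
    have h4 : 1 ≤ y := hdpos _
    rw [← hεdef, ← hydef] at h2
    rcases (hY g hg).2.2.1 with e1 | e1 <;> rcases (hY f₀ hf₀).2.2.1 with e2 | e2 <;>
      rw [← hεdef] at e2 <;> rw [e1] at h1 ⊢ <;> rw [e2] at h2 ⊢ <;> omega
  have hcong : ∀ (χ : IrrCharacter G) (c : ℂ) (cz : ℤ), c = (cz : ℂ) →
      ∑ x : (P : Subgroup G), (χ : G → ℂ) x = (χ : G → ℂ) 1 + c →
      (Fintype.card (P : Subgroup G) : ℤ) ∣ deg χ + cz := by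
    intro χ c cz hc h
    obtain ⟨k, hk⟩ := CT.classInner_character_nat
      (CT.isCharacter_restrict (P : Subgroup G) (CT.isCharacter_of_isIrr χ.2))
      (CT.isCharacter_lin (G := (P : Subgroup G)) 1)
    rw [classInner, inv_mul_eq_iff_eq_mul₀ CT.card_ne_zero, Nat.card_eq_fintype_card] at hk
    refine ⟨k, ?_⟩
    have : ((deg χ + cz : ℤ) : ℂ) = (((Fintype.card (P : Subgroup G) : ℤ) * k : ℤ) : ℂ) := by
      push_cast
      rw [← hk, hdegC, ← hc, ← h]
      exact Finset.sum_congr rfl fun x _ => by simp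
    exact_mod_cast this
  have hsplit : ∀ F : ↥(P : Subgroup G) → ℂ,
      ∑ x : (P : Subgroup G), F x = F 1 + ∑ x ∈ Finset.univ.erase 1, F x :=
    fun F => (Finset.add_sum_erase _ _ (Finset.mem_univ 1)).symm
  have hconstsum : ∀ c : ℂ, ∑ _x ∈ (Finset.univ : Finset (P : Subgroup G)).erase 1, c =
      (q - 1) * c := fun c => by
    rw [Finset.sum_const, Finset.card_erase_of_mem (Finset.mem_univ _), Finset.card_univ,
      nsmul_eq_mul, Nat.cast_pred Fintype.card_pos]
  have ca : (Fintype.card (P : Subgroup G) : ℤ) ∣ deg a - δa := by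
    have h := hcong a ((q - 1) * (δa : ℂ)) (((Fintype.card (P : Subgroup G) : ℤ) - 1) * δa)
      (by push_cast; rfl) (by
        rw [hsplit, Finset.sum_congr rfl fun x hx => (hval_a x (Finset.ne_of_mem_erase hx)).1,
          hconstsum, OneMemClass.coe_one])
    obtain ⟨k, hk⟩ := h
    exact ⟨k - δa, by linear_combination hk⟩
  have cb : (Fintype.card (P : Subgroup G) : ℤ) ∣ deg b - δb := by
    have h := hcong b ((q - 1) * (δb : ℂ)) (((Fintype.card (P : Subgroup G) : ℤ) - 1) * δb)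
      (by push_cast; rfl) (by
        rw [hsplit, Finset.sum_congr rfl fun x hx => (hval_a x (Finset.ne_of_mem_erase hx)).2,
          hconstsum, OneMemClass.coe_one])
    obtain ⟨k, hk⟩ := h
    exact ⟨k - δb, by linear_combination hk⟩
  have cy : (Fintype.card (P : Subgroup G) : ℤ) ∣ y + 3 * ε := by
    refine hcong (Y f₀) _ (3 * ε) rfl ?_
    have h0 : ∑ x : (P : Subgroup G), S f₀ x = 0 := by
      have hf := hL0mem hf₀
      simp only [hSdef, Finset.sum_add_distrib, sum_hom, if_neg hf, if_neg (hne1 _ hf),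
        if_neg (hne1 _ (hne1 _ hf)), add_zero]
    rw [hsplit] at h0
    rw [hsplit, Finset.sum_congr rfl fun x hx => hval_Y f₀ hf₀ x (Finset.ne_of_mem_erase hx),
      ← Finset.mul_sum, OneMemClass.coe_one, ← hεdef]
    have h3S : S f₀ 1 = 3 := by simp [hSdef]; ring
    rw [h3S] at h0
    push_cast
    linear_combination (-(ε : ℂ)) * h0
  -- an involution and an element of order at least four
  obtain ⟨xu, hxu⟩ : ∃ x : (P : Subgroup G), x ^ 2 ≠ 1 := by
    refine ⟨e.symm (Multiplicative.ofAdd (1, 0)), fun h => ?_⟩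
    have h' := congrArg e h
    rw [map_pow, MulEquiv.apply_symm_apply, map_one, ← ofAdd_nsmul, ofAdd_eq_one] at h'
    simp only [Prod.smul_mk, nsmul_eq_mul, mul_one, smul_zero, Prod.mk_eq_zero] at h'
    have h2 := h'.1
    rw [ZMod.natCast_eq_zero_iff] at h2
    have h4 : 2 ^ 2 ≤ 2 ^ m := Nat.pow_le_pow_right two_pos hm
    have := Nat.le_of_dvd two_pos h2
    omega
  obtain ⟨xt, hxt⟩ := exists_prime_orderOf_dvd_card' (G := (P : Subgroup G)) 2 (by
    rw [Nat.card_congr e.toEquiv, Nat.card_congr Multiplicative.toAdd, Nat.card_prod, Nat.card_zmod]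
    exact dvd_mul_of_dvd_left (dvd_pow_self 2 (by omega)) _)
  have hxu1 : xu ≠ 1 := fun h => hxu (by rw [h, one_pow])
  have hxt1 : xt ≠ 1 := fun h => by rw [h, orderOf_one] at hxt; omega
  have hkey := (column hA hM xu.2 fun h => hxu1 (Subtype.ext h)).2.2 (xt : G)
    (by rw [Subgroup.orderOf_coe]; exact hxt)
    (fun h => hxu (Subtype.ext (by simpa using h)))
  have hsumS : ∑ f ∈ L0, S f xt * S f xt * conj (S f xu) = -27 := by
    have h0 : ∑ f : (P : Subgroup G) →* ℂˣ, S f xt * S f xt * conj (S f xu) = 0 := by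
      have hsq : ∀ A B C : (P : Subgroup G), A ^ 2 = 1 → B ^ 2 = 1 → C ^ 2 ≠ 1 →
          ∑ f : (P : Subgroup G) →* ℂˣ, (f A : ℂ) * (f B : ℂ) * conj (f C : ℂ) = 0 := by
        intro A B C hA' hB' hC'
        rw [Finset.sum_congr rfl fun f _ => show (f A : ℂ) * (f B : ℂ) * conj (f C : ℂ) =
          (f (A * B * C⁻¹) : ℂ) by simp [conj_hom], sum_dual, if_neg]
        intro h
        apply hC'
        rw [← mul_inv_eq_one.mp h, mul_pow, hA', hB', one_mul]
      have t2 : xt ^ 2 = 1 := orderOf_dvd_iff_pow_eq_one.mp (dvd_of_eq hxt)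
      have ht' : (σ xt) ^ 2 = 1 := by rw [← map_pow, t2, map_one]
      have ht'' : (σ (σ xt)) ^ 2 = 1 := by rw [← map_pow, ht', map_one]
      have hu' : (σ xu) ^ 2 ≠ 1 := by
        rw [← map_pow]; intro h; exact hxu (by rw [← hσ3 (xu ^ 2), h, map_one, map_one])
      have hu'' : (σ (σ xu)) ^ 2 ≠ 1 := by
        rw [← map_pow]; intro h
        exact hu' (by rw [← hσ3 ((σ xu) ^ 2), h, map_one, map_one])
      simp only [hSdef, hsg, MonoidHom.comp_apply, map_add, add_mul, mul_add, Finset.sum_add_distrib]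
      simp [hsq, t2, ht', ht'', hxu, hu', hu'']
    rw [hL0, Finset.sum_erase_eq_sub (Finset.mem_univ _), h0]
    simp [hSdef, hsg]
    norm_num
  -- the class equation
  have hTsub : ({t, a, b} : Finset (IrrCharacter G)) ∪ L0.image Y ⊆ B := by
    intro χ hχ
    simp only [Finset.mem_union, Finset.mem_insert, Finset.mem_singleton, Finset.mem_image] at hχ
    rcases hχ with (rfl | rfl | rfl) | ⟨f, hf, rfl⟩
    exacts [htB, haBt.1, hbBt.1, (hYBt f hf).1]
  have hdisj : Disjoint ({t, a, b} : Finset (IrrCharacter G)) (L0.image Y) := by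
    rw [Finset.disjoint_left]
    intro χ hχ hχ'
    obtain ⟨f, hf, rfl⟩ := Finset.mem_image.mp hχ'
    simp only [Finset.mem_insert, Finset.mem_singleton] at hχ
    rcases hχ with h | h | h
    exacts [(hYBt f hf).2 h, (hY f hf).1 h, (hY f hf).2.1 h]
  rw [← Finset.sum_subset hTsub (fun χ hχ hn => by
      simp only [Finset.mem_union, not_or] at hn
      rw [hval_other χ hχ hn.1 hn.2 xu hxu1, map_zero, mul_zero]),
    Finset.sum_union hdisj, Finset.sum_insert (by simp [haBt.2.symm, hbBt.2.symm]),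
    Finset.sum_pair hab, (hval_a xt hxt1).1, (hval_a xt hxt1).2, (hval_a xu hxu1).1,
    (hval_a xu hxu1).2] at hkey
  have hYsum : 3 * ∑ χ ∈ L0.image Y, (χ : IrrCharacter G).1 (xt : G) ^ 2 / χ.1 1 *
      conj (χ.1 (xu : G)) = (ε : ℂ) * 27 / (y : ℂ) := by
    have h1 : ∑ f ∈ L0, (Y f).1 (xt : G) ^ 2 / (Y f).1 1 * conj ((Y f).1 (xu : G)) =
        3 * ∑ χ ∈ L0.image Y, (χ : IrrCharacter G).1 (xt : G) ^ 2 / χ.1 1 *
          conj (χ.1 (xu : G)) := by
      rw [← Finset.sum_fiberwise_of_maps_to (g := Y) (t := L0.image Y)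
        fun f hf => Finset.mem_image_of_mem Y hf, Finset.mul_sum]
      refine Finset.sum_congr rfl fun χ hχ => ?_
      obtain ⟨g, hg, rfl⟩ := Finset.mem_image.mp hχ
      rw [Finset.sum_congr rfl fun f hf => by rw [(Finset.mem_filter.mp hf).2], Finset.sum_const,
        show (L0.filter fun f => Y f = Y g) = L0.filter fun f => w f = w g from
          Finset.filter_congr fun f hf => ⟨hYeq f hf g hg, hYeq' f hf g hg⟩, hfcard g hg]
      simp
    rw [← h1, Finset.sum_congr rfl (g := fun f => (-(ε : ℂ)) ^ 3 / (y : ℂ) *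
      (S f xt * S f xt * conj (S f xu))) fun f hf => by
        rw [hval_Y f hf xt hxt1, hval_Y f hf xu hxu1, (huni f hf).1, ← hdegC, (huni f hf).2,
          map_mul, map_neg, map_intCast]
        ring, ← Finset.mul_sum, hsumS]
    have : (ε : ℂ) * ε = 1 := by
      rcases (hY f₀ hf₀).2.2.1 with h | h <;> rw [← hεdef] at h <;> simp [h]
    linear_combination (27 * (ε : ℂ) / (y : ℂ)) * this
  have hx1 := hdpos a
  have hx2 := hdpos b
  have hy1 : 1 ≤ y := hdpos _
  have heq : y * (deg a * deg b) + δa * (y * deg b) + δb * (y * deg a) +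
      9 * ε * (deg a * deg b) = 0 := by
    have e3 : ∀ δ : ℤ, (δ = 1 ∨ δ = -1) → (δ : ℂ) ^ 2 = 1 := fun δ h => by
      rcases h with h | h <;> simp [h]
    have hy0 : (y : ℂ) ≠ 0 := Int.cast_ne_zero.mpr (by omega)
    have ha0 : (deg a : ℂ) ≠ 0 := Int.cast_ne_zero.mpr (by omega)
    have hb0 : (deg b : ℂ) ≠ 0 := Int.cast_ne_zero.mpr (by omega)
    have hdt' : (deg t : ℂ) = 1 := by rw [hdt, Int.cast_one]
    simp only [← hdegC] at hYsum hkey
    rw [hdt'] at hkey
    simp only [ht, CT.trivIrr_apply, map_intCast, one_pow, div_one, map_one, mul_one,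
      e3 δa hδa, e3 δb hδb] at hkey
    apply Int.cast_injective (α := ℂ)
    push_cast
    field_simp at hYsum hkey ⊢
    linear_combination (deg a : ℂ) * (deg b : ℂ) * (-(1 / 3 : ℂ)) * hYsum + (y : ℂ) * hkey
  have hconcl : ∀ c : IrrCharacter G, c ≠ t → deg c = 1 →
      (∀ x : (P : Subgroup G), x ≠ 1 → (c : G → ℂ) x = ((1 : ℤ) : ℂ)) →
      ∃ L : G →* ℂˣ, L ≠ 1 ∧ ∀ x ∈ (P : Subgroup G), L x = 1 := by
    intro c hct hc1 hcv
    have h1 : (c : G → ℂ) 1 = 1 := by rw [← hdegC, hc1, Int.cast_one]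
    obtain ⟨L, hL⟩ := Cfsg.Agent.GoodCount.exists_lin_of_deg_one c.2 h1
    refine ⟨L, fun h => hct (Subtype.ext (funext fun g => ?_)), fun x hx => Units.val_eq_one.mp ?_⟩
    · rw [← hL g, h]; simp [ht]
    · rw [hL]
      by_cases hx1' : (⟨x, hx⟩ : (P : Subgroup G)) = 1
      · rw [show x = 1 from congrArg Subtype.val hx1', h1]
      · simpa using hcv ⟨x, hx⟩ hx1'
  rcases degrees hq16 hx1 hx2 hy1 hδa hδb (hY f₀ hf₀).2.2.1 ca cb cy heq with ⟨h, hd⟩ | ⟨h, hd⟩
  · exact hconcl a haBt.2 h fun x hx => hd ▸ (hval_a x hx).1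
  · exact hconcl b hbBt.2 h fun x hx => hd ▸ (hval_a x hx).2

end Cfsg.Agent.Blocks.HC
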