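import Cfsg.Agent.Lib.Blocks.HomocyclicMain

/-!
# Brauer's theorem on homocyclic Sylow 2-subgroups of rank two
-/

set_option linter.unusedSectionVars false

namespace Cfsg.Agent.Blocks.HC

universe u

theorem ne_bot_of_normal_odd {G : Type u} [Group G]
    (hO : ∀ N : Subgroup G, N.Normal → Odd (Nat.card N) → N = ⊥) {H : Subgroup G} [H.Normal]
    [Finite G] (N : Subgroup H) (hN : N.Normal) (hodd : Odd (Nat.card N)) : N = ⊥ := by
  haveI : Fact (Nat.Prime 2) := ⟨Nat.prime_two⟩
  have hle : N ≤ pPrimeCore 2 H := Basics.le_pPrimeCore (hN := hN)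
    (Nat.coprime_two_right.mpr hodd)
  have h := hO ((pPrimeCore 2 H).map H.subtype) inferInstance (by
    rw [Subgroup.card_map_of_injective H.subtype_injective, ← Nat.not_even_iff_odd,
      even_iff_two_dvd]
    exact Basics.not_dvd_card_pPrimeCore 2)
  rw [Subgroup.map_eq_bot_iff_of_injective _ H.subtype_injective] at h
  exact eq_bot_iff.mpr (hle.trans h.le)

theorem normal_aux (M : Ideal AlgInt) (hM : IsPModular 2 M) :
    ∀ (k : ℕ) {G : Type u} [Group G] [Finite G] (P : Sylow 2 G) (m : ℕ), 2 ≤ m →
      ((P : Subgroup G) ≃* Multiplicative (ZMod (2 ^ m) × ZMod (2 ^ m))) →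
      (∀ N : Subgroup G, N.Normal → Odd (Nat.card N) → N = ⊥) → Nat.card G ≤ k →
      (P : Subgroup G).Normal := by
  haveI : M.IsPrime := hM.2.1.isPrime
  haveI : Fact (Nat.Prime 2) := ⟨Nat.prime_two⟩
  intro k
  induction k with
  | zero =>
    intro G _ _ P m _ _ _ h
    have := Nat.card_pos (α := G)
    omega
  | succ k ih =>
    intro G _ _ P m hm e hO hk
    haveI := Fintype.ofFinite G
    rcases relIndex_eq_one_or_three P m (by omega) e with h | ⟨h, -⟩
    · -- Burnside
      have hK := MonoidHom.ker_transferSylow_isComplement' P (Subgroup.relIndex_eq_one.mp h)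
      have hK1 := hO _ (MonoidHom.normal_ker _) (by
        rw [← hK.index_eq_card, ← Nat.not_even_iff_odd, even_iff_two_dvd]
        exact P.not_dvd_index)
      rw [hK1, Subgroup.isComplement'_bot_left] at hK
      rw [hK]
      infer_instance
    · obtain ⟨L, hL1, hLP⟩ := exists_linear P m hm e h hM
      have hPH : (P : Subgroup G) ≤ L.ker := fun x hx => hLP x hx
      have hlt : Nat.card L.ker < Nat.card G := by
        refine lt_of_le_of_ne (Subgroup.card_le_card_group _) fun hc => hL1 ?_
        exact MonoidHom.ext fun g => MonoidHom.mem_ker.mp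
          ((Subgroup.eq_top_of_card_eq _ hc).symm ▸ Subgroup.mem_top g)
      set P' : Sylow 2 L.ker := P.subtype hPH
      have e' : (P' : Subgroup L.ker) ≃* Multiplicative (ZMod (2 ^ m) × ZMod (2 ^ m)) :=
        ((MulEquiv.subgroupCongr (Sylow.coe_subtype (P := P) hPH)).trans
          (Subgroup.subgroupOfEquivOfLe hPH)).trans e
      haveI := ih P' m hm e' (fun N hN ho => ne_bot_of_normal_odd hO N hN ho) (by omega)
      haveI : ((P' : Subgroup L.ker)).Characteristic := P'.characteristic_of_normal inferInstance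
      have hmap : (P' : Subgroup L.ker).map L.ker.subtype = (P : Subgroup G) := by
        rw [Sylow.coe_subtype, Subgroup.map_subgroupOf_eq_of_le hPH]
      rw [← hmap]
      infer_instance

theorem normal_sylow {G : Type u} [Group G] [Finite G] (P : Sylow 2 G) (m : ℕ) (hm : 2 ≤ m)
    (e : (P : Subgroup G) ≃* Multiplicative (ZMod (2 ^ m) × ZMod (2 ^ m)))
    (hO : ∀ N : Subgroup G, N.Normal → Odd (Nat.card N) → N = ⊥) (M : Ideal AlgInt)
    (hM : IsPModular 2 M) :
    (P : Subgroup G).Normal ∧ Subgroup.centralizer (P : Set G) = (P : Subgroup G) ∧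
      ((P : Subgroup G).index = 1 ∨ (P : Subgroup G).index = 3) := by
  haveI : M.IsPrime := hM.2.1.isPrime
  haveI : Fact (Nat.Prime 2) := ⟨Nat.prime_two⟩
  haveI hn := normal_aux M hM (Nat.card G) P m hm e hO le_rfl
  have hcomm := sylow_comm P m e
  have hPC : (P : Subgroup G) ≤ Subgroup.centralizer (P : Set G) := fun x hx =>
    Subgroup.mem_centralizer_iff.mpr fun y hy => hcomm y hy x hx
  set C := Subgroup.centralizer (P : Set G) with hC
  haveI : C.Normal := ⟨fun c hc g => Subgroup.mem_centralizer_iff.mpr fun x hx => by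
    have h1 : g⁻¹ * x * g ∈ (P : Subgroup G) := by
      have := hn.conj_mem x hx g⁻¹
      simpa using this
    have h2 := Subgroup.mem_centralizer_iff.mp hc _ h1
    calc x * (g * c * g⁻¹) = g * ((g⁻¹ * x * g) * c) * g⁻¹ := by group
      _ = g * (c * (g⁻¹ * x * g)) * g⁻¹ := by rw [h2]
      _ = g * c * g⁻¹ * x := by group⟩
  set P' : Sylow 2 C := P.subtype hPC
  have hle : Subgroup.normalizer ((P' : Subgroup C) : Set C) ≤
      Subgroup.centralizer ((P' : Subgroup C) : Set C) := fun g _ =>
    Subgroup.mem_centralizer_iff.mpr fun w hw => by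
      have hw' : (w : G) ∈ (P : Subgroup G) := by
        rw [Sylow.coe_subtype] at hw
        exact Subgroup.mem_subgroupOf.mp hw
      exact Subtype.ext (Subgroup.mem_centralizer_iff.mp g.2 _ hw')
  have hK := MonoidHom.ker_transferSylow_isComplement' P' hle
  have hK1 := ne_bot_of_normal_odd hO _ (MonoidHom.normal_ker _) (by
    rw [← hK.index_eq_card, ← Nat.not_even_iff_odd, even_iff_two_dvd]
    exact P'.not_dvd_index)
  rw [hK1, Subgroup.isComplement'_bot_left, Sylow.coe_subtype, Subgroup.subgroupOf_eq_top] at hK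
  have hCP : C = (P : Subgroup G) := le_antisymm hK hPC
  refine ⟨hn, hCP, ?_⟩
  have hidx : C.relIndex (Subgroup.normalizer (P : Set G)) = (P : Subgroup G).index := by
    show C.relIndex (Subgroup.normalizer ((P : Subgroup G) : Set G)) = _
    rw [Subgroup.normalizer_eq_top_iff.mpr hn, Subgroup.relIndex_top_right, hCP]
  rcases relIndex_eq_one_or_three P m (by omega) e with h | ⟨h, -⟩
  · exact Or.inl (hidx ▸ h)
  · exact Or.inr (hidx ▸ h)

end Cfsg.Agent.Blocks.HC
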