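import Cfsg.Agent.Lib.Blocks.Subgroup
import Cfsg.Agent.Lib.Blocks.Height

/-!
# Pairing a class function with an induced central character
-/

set_option autoImplicit false
set_option linter.all false

namespace Cfsg.Agent.Blocks.InducedSums

open scoped ComplexConjugate

universe u

variable {G : Type u} [Group G] [Fintype G] {p : ℕ} {M : Ideal AlgInt} [M.IsPrime]

theorem memLocalIdeal_sum {ι : Type*} (s : Finset ι) {f : ι → ℂ} (h : ∀ i ∈ s, MemLocalIdeal M (f i)) :
    MemLocalIdeal M (∑ i ∈ s, f i) := by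
  classical
  induction s using Finset.induction_on with
  | empty => simpa using memLocalIdeal_zero
  | insert a s ha ih =>
    rw [Finset.sum_insert ha]
    exact memLocalIdeal_add (h a (Finset.mem_insert_self _ _)) (ih fun i hi => h i (Finset.mem_insert_of_mem hi))

theorem isPBlock_nonempty {B : Set (IrrCharacter G)} (hB : IsPBlock M B) : ∃ χ, χ ∈ B := by
  obtain ⟨χ, rfl⟩ := hB
  exact ⟨χ, self_mem_blockOf χ⟩

/-- For a class function with local values the sums against `ξ` and against a member of the induced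
block are congruent. -/
theorem sum_sub_mem {H : Subgroup G} [Fintype H] {b : Set (IrrCharacter H)} {B₀ : Set (IrrCharacter G)}
    (hind : IsInducedBlock M H b B₀) {ξ : IrrCharacter H} (hξ : ξ ∈ b) {χ₀ : IrrCharacter G} (hχ₀ : χ₀ ∈ B₀)
    {a : G → ℂ} (ha : ∀ g, a g ∈ Loc M) (hcl : ∀ x y : G, IsConj x y → a x = a y) :
    MemLocalIdeal M ((∑ h : H, a h * (ξ : H → ℂ) h) / (ξ : H → ℂ) 1 -
      (∑ g : G, a g * (χ₀ : G → ℂ) g) / (χ₀ : G → ℂ) 1) := by
  classical
  haveI := Fintype.ofFinite (ConjClasses G)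
  have hout : ∀ C : ConjClasses G, ∀ g, ConjClasses.mk g = C → IsConj (Quotient.out C) g := fun C g hg =>
    ConjClasses.mk_eq_mk_iff_isConj.mp ((Quotient.out_eq C).trans hg.symm)
  have h1 : (∑ h : H, a h * (ξ : H → ℂ) h) / (ξ : H → ℂ) 1 =
      ∑ C : ConjClasses G, a (Quotient.out C) * inducedCentralChar H (ξ : H → ℂ) (Quotient.out C) := by
    rw [Finset.sum_div, ← Finset.sum_fiberwise (g := fun h : H => ConjClasses.mk (h : G))]
    refine Finset.sum_congr rfl fun C _ => ?_
    rw [inducedCentralChar, finsum_mem_eq_toFinset_sum, Finset.mul_sum]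
    refine Finset.sum_congr ?_ fun h hh => ?_
    · ext h
      simp only [Finset.mem_filter, Finset.mem_univ, true_and, Set.mem_toFinset, Set.mem_ofPred_eq]
      exact ⟨fun e => hout C _ e, fun e => (ConjClasses.mk_eq_mk_iff_isConj.mpr e.symm).trans (Quotient.out_eq C)⟩
    · simp only [Set.mem_toFinset, Set.mem_ofPred_eq] at hh
      rw [hcl _ _ hh, mul_div_assoc]
  have h2 : (∑ g : G, a g * (χ₀ : G → ℂ) g) / (χ₀ : G → ℂ) 1 =
      ∑ C : ConjClasses G, a (Quotient.out C) * centralChar (χ₀ : G → ℂ) (Quotient.out C) := by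
    rw [Finset.sum_div, ← Finset.sum_fiberwise (g := fun g : G => ConjClasses.mk g)]
    refine Finset.sum_congr rfl fun C _ => ?_
    set x : G := Quotient.out C with hx
    have hcard : (Finset.univ.filter fun g : G => ConjClasses.mk g = C).card =
        (Subgroup.centralizer ({x} : Set G)).index := by
      rw [← CT.card_conj_class x, Nat.card_eq_fintype_card, Fintype.card_subtype]
      congr 1
      ext g
      simp only [Finset.mem_filter, Finset.mem_univ, true_and]
      exact ⟨fun e => hout C g e, fun e => (ConjClasses.mk_eq_mk_iff_isConj.mpr e.symm).trans (Quotient.out_eq C)⟩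
    rw [Finset.sum_congr rfl (g := fun _ => a x * (χ₀ : G → ℂ) x / (χ₀ : G → ℂ) 1) fun g hg => by
      have he := hout C g (Finset.mem_filter.mp hg).2
      rw [← hcl _ _ he, ← CT.isClassFunction_isConj (CT.isClassFunction_of_isIrr χ₀.2) he],
      Finset.sum_const, hcard, centralChar, nsmul_eq_mul]
    ring
  rw [h1, h2, ← Finset.sum_sub_distrib]
  refine memLocalIdeal_sum _ fun C _ => ?_
  rw [← mul_sub]
  exact memLocalIdeal_mul_left (ha _) (hind.2.2 ξ hξ χ₀ hχ₀ _)

theorem sum_blockCoeff {B : Set (IrrCharacter G)} [DecidablePred (· ∈ B)] {X : Type*} [Fintype X] (i : X → G) (f : X → ℂ) :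
    ∑ x : X, blockCoeff B (i x) * f x =
      (Nat.card G : ℂ)⁻¹ * ∑ η : IrrCharacter G, if η ∈ B then (η : G → ℂ) 1 *
        ∑ x : X, conj ((η : G → ℂ) (i x)) * f x else 0 := by
  simp only [blockCoeff, finsum_mem_irr, Finset.mul_sum, Finset.sum_mul]
  rw [Finset.sum_comm]
  refine Finset.sum_congr rfl fun η _ => ?_
  split_ifs with h
  · rw [Finset.mul_sum]
    exact Finset.sum_congr rfl fun x _ => by ring
  · simp

end Cfsg.Agent.Blocks.InducedSums
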