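import Cfsg.Agent.Lib.Blocks.AbelianTrace

/-!
# Elements of an abelian defect group fixed by the inertial group

Watanabe's theorem: if `u` in the abelian defect group `P` is fixed by the inertial group, then
the block and the block of `C(u)` below `(P, e)` have the same rank and the same number of
characters.
-/

namespace Cfsg.Agent.Blocks

open MonoidAlgebra BPairs
open scoped ComplexConjugate

universe u

variable {G : Type u} [Group G] [Finite G] {p : ℕ} {M : Ideal AlgInt} [M.IsPrime]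
  {B : Set (IrrCharacter G)} {P : Subgroup G}
  {e : Set (IrrCharacter (Subgroup.centralizer (P : Set G)))}

set_option linter.unusedSectionVars false

open Classical in
theorem sum_dualSub {Q : Type*} [Group Q] [Finite Q] (K : Subgroup Q) (hK : commutator Q ≤ K)
    [Fintype (dualSub K)] (x : Q) :
    ∑ f : dualSub K, ((f.1 x : ℂˣ) : ℂ) = if x ∈ K then (K.index : ℂ) else 0 := by
  split_ifs with hx
  · rw [Finset.sum_congr rfl fun (f : dualSub K) _ => show ((f.1 x : ℂˣ) : ℂ) = 1 by
      rw [f.2 x hx, Units.val_one], Finset.sum_const, Finset.card_univ, ← Nat.card_eq_fintype_card,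
      card_dualSub K hK, nsmul_eq_mul, mul_one]
  · obtain ⟨f₀, hf₀⟩ : ∃ f₀ : dualSub K, f₀.1 x ≠ 1 := by
      by_contra h
      push Not at h
      have heq : dualSub K = dualSub (K ⊔ Subgroup.zpowers x) := by
        refine le_antisymm (fun f hf => ?_) (dualSub_anti le_sup_left)
        exact (sup_le (fun v hv => hf v hv) (Subgroup.zpowers_le.mpr (h ⟨f, hf⟩)) :
          K ⊔ Subgroup.zpowers x ≤ f.ker)
      have h1 : K.index = (K ⊔ Subgroup.zpowers x).index := by
        rw [← card_dualSub K hK, ← card_dualSub _ (hK.trans le_sup_left), heq]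
      have h2 := Subgroup.relIndex_mul_index (le_sup_left : K ≤ K ⊔ Subgroup.zpowers x)
      rw [h1] at h2
      have h3 : K.relIndex (K ⊔ Subgroup.zpowers x) = 1 :=
        mul_right_cancel₀ Subgroup.index_ne_zero_of_finite (h2.trans (one_mul _).symm)
      exact hx (Subgroup.relIndex_eq_one.mp h3 (Subgroup.mem_sup_right (Subgroup.mem_zpowers x)))
    have h : ((f₀.1 x : ℂˣ) : ℂ) * ∑ f : dualSub K, ((f.1 x : ℂˣ) : ℂ) =
        ∑ f : dualSub K, ((f.1 x : ℂˣ) : ℂ) := by
      rw [Finset.mul_sum]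
      exact Fintype.sum_equiv (Equiv.mulLeft f₀) _ _ fun f => rfl
    by_contra hne
    exact hf₀ (Units.ext ((mul_eq_right₀ hne).mp h))

/-- The number of characters of a block with an abelian defect group. -/
theorem card_eq_sum_traceVal (hM : IsPModular p M) [Fact p.Prime] [Fintype P]
    (hmax : IsMaximalBrauerPair p M B P e) (hP : P ≤ Subgroup.centralizer (P : Set G)) :
    (Nat.card B : ℂ) = (Nat.card (stabSub M P e) : ℂ)⁻¹ * ∑ v : P, traceVal hM hmax v := by
  classical
  haveI := Fintype.ofFinite G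
  have hF := blockFusion_isOn hM hmax
  have h := sum_inner_psi hM hmax hP (stable_lin hM hF (one_mem _ : (1 : P →* ℂˣ) ∈ _))
  rw [show weight (M := M) p P e (extendByZero P fun x => ((1 : P →* ℂˣ) x : ℂ)) =
    linW (M := M) P e p (1 : P →* ℂˣ) from rfl,
    finsum_mem_congr rfl (fun χ hχ => show classInner (psi p (linW (M := M) P e p (1 : P →* ℂˣ)) χ)
      (χ : G → ℂ) = 1 by rw [psi_linW_trivial hM hF hχ, CT.irr_inner_self χ.2]),
    finsum_mem_eq_finite_toFinset_sum _ (Set.toFinite B), Finset.sum_const, nsmul_eq_mul,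
    mul_one, ← Set.ncard_eq_toFinset_card _ (Set.toFinite B), ← Nat.card_coe_set_eq] at h
  rw [h]
  refine congrArg _ (Finset.sum_congr rfl fun v _ => ?_)
  rw [CT.extendByZero_coe, MonoidHom.one_apply, Units.val_one, one_mul]

/-- The sums of the trace values over the cosets of the focal subgroup are equal. -/
theorem sum_traceVal_coset (hM : IsPModular p M) [Fact p.Prime] [Fintype P]
    (hmax : IsMaximalBrauerPair p M B P e) (hP : P ≤ Subgroup.centralizer (P : Set G))
    (K : Subgroup P) (hK : (blockFusion hM hmax).focalSubgroup.subgroupOf P = K) [Fintype K]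
    (u : P) : ∑ y : K, traceVal hM hmax (u * (y : P)) = ∑ y : K, traceVal hM hmax (y : P) := by
  classical
  haveI := Fintype.ofFinite G
  have hF := blockFusion_isOn hM hmax
  have hKc : commutator P ≤ K := hK ▸ commutator_le_focal _
  haveI := Fintype.ofFinite (dualSub K)
  have hzero : ∀ f : dualSub K, f ≠ 1 → ∑ v : P, ((f.1 v : ℂˣ) : ℂ) * traceVal hM hmax v = 0 := by
    intro f hf
    have hfm : f.1 ∈ dualSub ((blockFusion hM hmax).focalSubgroup.subgroupOf P) := by
      rw [hK]; exact f.2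
    have h := sum_inner_psi hM hmax hP (stable_lin hM hF hfm)
    rw [show weight (M := M) p P e (extendByZero P fun x => (f.1 x : ℂ)) =
      linW (M := M) P e p f.1 from rfl,
      finsum_mem_eq_finite_toFinset_sum _ (Set.toFinite B),
      Finset.sum_eq_zero fun χ hχ => ?_] at h
    · have hT : (Nat.card (stabSub M P e) : ℂ)⁻¹ ≠ 0 :=
        inv_ne_zero (Nat.cast_ne_zero.mpr Nat.card_pos.ne')
      refine Eq.trans (Finset.sum_congr rfl fun v _ => ?_) ((mul_eq_zero.mp h.symm).resolve_left hT)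
      rw [CT.extendByZero_coe]
    · rw [Set.Finite.mem_toFinset] at hχ
      obtain ⟨η, -, hη, -⟩ := exists_star_lin hM hF hfm hχ
      rw [← hη, CT.irr_inner_subtype, if_neg]
      intro heq
      subst heq
      exact hf (Subtype.ext (MonoidHom.ext fun v =>
        eq_one_of_fixed_central hM hF hfm hχ hη v (hP v.2)))
  have key : ∀ w : P, (K.index : ℂ) * ∑ y : K, traceVal hM hmax (w * (y : P)) =
      ∑ v : P, traceVal hM hmax v := by
    intro w
    have e1 : ∑ f : dualSub K, ((f.1 w⁻¹ : ℂˣ) : ℂ) *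
        ∑ v : P, ((f.1 v : ℂˣ) : ℂ) * traceVal hM hmax v = ∑ v : P, traceVal hM hmax v := by
      rw [Finset.sum_eq_single (1 : dualSub K)]
      · simp
      · intro f _ hf
        rw [hzero f hf, mul_zero]
      · intro h; exact absurd (Finset.mem_univ _) h
    rw [← e1]
    simp only [Finset.mul_sum, ← mul_assoc, ← Units.val_mul, ← map_mul]
    rw [Finset.sum_comm, Finset.sum_congr rfl fun v _ => show
        ∑ f : dualSub K, ((f.1 (w⁻¹ * v) : ℂˣ) : ℂ) * traceVal hM hmax v =
          (if w⁻¹ * v ∈ K then (K.index : ℂ) else 0) * traceVal hM hmax v by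
      rw [← Finset.sum_mul, sum_dualSub K hKc]]
    simp only [ite_mul, zero_mul]
    rw [← Finset.sum_filter]
    refine Finset.sum_bij (fun (y : K) _ => w * (y : P))
      (fun y _ => Finset.mem_filter.mpr ⟨Finset.mem_univ _, by rw [inv_mul_cancel_left]; exact y.2⟩)
      (fun a _ b _ h => Subtype.ext (mul_left_cancel h))
      (fun v hv => ⟨⟨w⁻¹ * v, (Finset.mem_filter.mp hv).2⟩, Finset.mem_univ _,
        mul_inv_cancel_left w v⟩) fun y _ => rfl
  refine mul_left_cancel₀ (Nat.cast_ne_zero.mpr Subgroup.index_ne_zero_of_finite :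
    (K.index : ℂ) ≠ 0) ?_
  have h1 := key 1
  simp only [one_mul] at h1
  rw [key u, h1]

/-- The fixed points of the inertial group meet the focal subgroup trivially. -/
theorem eq_one_of_fixed_focal (hM : IsPModular p M) [hp : Fact p.Prime]
    (hmax : IsMaximalBrauerPair p M B P e) (hP : P ≤ Subgroup.centralizer (P : Set G)) {y : P}
    (hy : y ∈ (blockFusion hM hmax).focalSubgroup.subgroupOf P)
    (hfix : ∀ t ∈ stabSub M P e, t * (y : G) * t⁻¹ = y) : y = 1 := by
  classical
  haveI := Fintype.ofFinite G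
  letI : CommGroup P :=
    { (inferInstance : Group P) with
      mul_comm := fun a b => Subtype.ext (Subgroup.mem_centralizer_iff.mp (hP b.2) a a.2) }
  let ψ : stabSub M P e →* MulAut P :=
    P.normalizerMonoidHom.comp (Subgroup.inclusion fun g hg => hg.1)
  have hker : ψ.ker = (Subgroup.centralizer (P : Set G)).subgroupOf (stabSub M P e) := by
    ext g
    rw [MonoidHom.mem_ker, MonoidHom.comp_apply, ← MonoidHom.mem_ker,
      Subgroup.normalizerMonoidHom_ker, Subgroup.mem_subgroupOf, Subgroup.mem_subgroupOf,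
      Subgroup.coe_inclusion]
  haveI : Fintype ψ.range := Fintype.ofFinite _
  let μ : P →* P :=
    { toFun := fun v => ∏ a : ψ.range, (a.1 : MulAut P) v
      map_one' := by simp
      map_mul' := fun a b => by simp only [map_mul, Finset.prod_mul_distrib] }
  have hcard : ¬ p ∣ Nat.card ψ.range := by
    rw [← Subgroup.index_ker, hker]
    exact not_dvd_relIndex hM hmax.1.2.1 (isDefectGroup_of_maximal hM hmax) hP
      (isInducedBlock_of_brauerPair hM hmax.1)
  have hfocal : ∀ t : stabSub M P e, ∀ v : P, μ (ψ t v) = μ v := by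
    intro t v
    show ∏ a : ψ.range, (a.1 : MulAut P) (ψ t v) = ∏ a : ψ.range, (a.1 : MulAut P) v
    exact Fintype.prod_equiv (Equiv.mulRight (⟨ψ t, t, rfl⟩ : ψ.range)) _ _ fun a => rfl
  have hle : (blockFusion hM hmax).focalSubgroup ≤ μ.ker.map P.subtype := by
    rw [FusionSystem.focalSubgroup, Subgroup.closure_le]
    rintro _ ⟨Q, φ, x, hφ, rfl⟩
    obtain ⟨hQ, g, hφg, hgP, f, hf, hgf⟩ := ((blockFusion_isOn hM hmax).2 Q φ).mp hφ
    obtain ⟨t, ht, c, hc, hgct⟩ := abelian_fusion hM hmax hP hf hgf (h := g) rfl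
    have hxP : (x : G) ∈ P := hQ x.2
    have hφx : φ x = t * (x : G) * t⁻¹ := by
      have h1 : c * (g * (x : G) * g⁻¹) = g * (x : G) * g⁻¹ * c :=
        (Subgroup.mem_centralizer_iff.mp hc _ ⟨(x : G), x.2, rfl⟩).symm
      rw [hφg]
      calc g * (x : G) * g⁻¹ = c⁻¹ * (c * (g * (x : G) * g⁻¹)) := (inv_mul_cancel_left _ _).symm
        _ = c⁻¹ * (g * (x : G) * g⁻¹ * c) := by rw [h1]
        _ = _ := by rw [hgct]; group
    refine ⟨(⟨(x : G), hxP⟩ : P)⁻¹ * ψ ⟨t, ht⟩ ⟨(x : G), hxP⟩, ?_, ?_⟩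
    · rw [SetLike.mem_coe, MonoidHom.mem_ker, map_mul, map_inv, hfocal, inv_mul_cancel]
    · rw [hφx]; rfl
  obtain ⟨z, hz, hzy⟩ := hle (Subgroup.mem_subgroupOf.mp hy)
  have hzy' : z = y := Subtype.ext hzy
  rw [hzy', SetLike.mem_coe, MonoidHom.mem_ker] at hz
  have hall : ∀ a : ψ.range, (a.1 : MulAut P) y = y := by
    rintro ⟨a, t, rfl⟩
    exact Subtype.ext (hfix t t.2)
  have hpow : y ^ Nat.card ψ.range = 1 := by
    rw [← hz]
    show _ = ∏ a : ψ.range, (a.1 : MulAut P) y
    rw [Finset.prod_congr rfl fun a _ => hall a, Finset.prod_const, Finset.card_univ,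
      Nat.card_eq_fintype_card]
  obtain ⟨n, hn⟩ := IsPGroup.iff_card.mp hmax.1.1.1
  refine orderOf_eq_one_iff.mp (Nat.eq_one_of_dvd_coprimes (a := p ^ n) (b := Nat.card ψ.range)
    (Nat.Coprime.pow_left n ((Nat.Prime.coprime_iff_not_dvd hp.out).mpr hcard))
    (hn ▸ orderOf_dvd_natCard y) (orderOf_dvd_of_pow_eq_one hpow))

/-- The rank at a fixed element, from the ranks in the centralizers of noncentral elements. -/
theorem rankAt_fixed_step (hM : IsPModular p M) [Fact p.Prime]
    (hmax : IsMaximalBrauerPair p M B P e) (hP : P ≤ Subgroup.centralizer (P : Set G))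
    (hlocal : ∀ (x : G) (hx : x ∈ P) (y : G) (hy : y ∈ P), x ∉ Subgroup.center G →
      (∀ t ∈ stabSub M P e, t * x * t⁻¹ = x → t * y * t⁻¹ = y) →
      rankAt hM hmax (Subgroup.zpowers_le.mpr hx) =
        rankAt hM hmax (sup_le (Subgroup.zpowers_le.mpr hx) (Subgroup.zpowers_le.mpr hy)))
    {u : G} (hu : u ∈ P) (hfix : ∀ t ∈ stabSub M P e, t * u * t⁻¹ = u) :
    rankAt hM hmax (Subgroup.zpowers_le.mpr hu) = blockRank p B := by
  classical
  haveI := Fintype.ofFinite P
  obtain ⟨K, hK⟩ : ∃ K, (blockFusion hM hmax).focalSubgroup.subgroupOf P = K := ⟨_, rfl⟩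
  haveI := Fintype.ofFinite K
  have hnc : ∀ z : G, z ∈ Subgroup.center G → ∀ t : G, t * z * t⁻¹ = z := fun z hz t => by
    rw [Subgroup.mem_center_iff.mp hz t, mul_inv_cancel_right]
  have hstab : ∀ z : G, (∀ t ∈ stabSub M P e, t * z * t⁻¹ = z) →
      stabSub M P e ⊓ cz z = stabSub M P e := fun z hz => inf_eq_left.mpr fun t ht =>
    mem_cz.mpr (mul_inv_eq_iff_eq_mul.mp (hz t ht))
  have hiff : ∀ (z : G) (t : G), t ∈ stabSub M P e →
      (t * (u * z) * t⁻¹ = u * z ↔ t * z * t⁻¹ = z) := fun z t ht => by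
    rw [show t * (u * z) * t⁻¹ = t * u * t⁻¹ * (t * z * t⁻¹) by group, hfix t ht]
    exact mul_right_inj u
  have hother : ∀ y : K, y ≠ 1 →
      traceVal hM hmax (⟨u, hu⟩ * (y : P)) = traceVal hM hmax (y : P) := by
    intro y hy
    have hy1 : ((y : P) : G) ∉ Subgroup.center G := fun hc => hy (Subtype.ext
      (eq_one_of_fixed_focal hM hmax hP (hK ▸ y.2) fun t _ => hnc _ hc t))
    have huy : u * ((y : P) : G) ∉ Subgroup.center G := fun hc => hy (Subtype.ext
      (eq_one_of_fixed_focal hM hmax hP (hK ▸ y.2) fun t ht =>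
        (hiff _ t ht).mp (hnc _ hc t)))
    have hyP : ((y : P) : G) ∈ P := (y : P).2
    have huyP : u * ((y : P) : G) ∈ P := mul_mem hu hyP
    have h1 := hlocal _ huyP _ hyP huy fun t ht => (hiff _ t ht).mp
    have h2 := hlocal _ hyP _ hu hy1 fun t ht _ => hfix t ht
    have hsup : Subgroup.zpowers (u * ((y : P) : G)) ⊔ Subgroup.zpowers ((y : P) : G) =
        Subgroup.zpowers ((y : P) : G) ⊔ Subgroup.zpowers u := by
      refine le_antisymm (sup_le (Subgroup.zpowers_le.mpr ?_) le_sup_left)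
        (sup_le le_sup_right (Subgroup.zpowers_le.mpr ?_))
      · exact mul_mem (Subgroup.mem_sup_right (Subgroup.mem_zpowers u))
          (Subgroup.mem_sup_left (Subgroup.mem_zpowers _))
      · have := mul_mem (Subgroup.mem_sup_left (T := Subgroup.zpowers ((y : P) : G))
          (Subgroup.mem_zpowers (u * ((y : P) : G))))
          (inv_mem (Subgroup.mem_sup_right (S := Subgroup.zpowers (u * ((y : P) : G)))
            (Subgroup.mem_zpowers ((y : P) : G))))
        rwa [mul_inv_cancel_right] at this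
    rw [rankAt_congr hM hmax hsup _ (sup_le (Subgroup.zpowers_le.mpr hyP)
      (Subgroup.zpowers_le.mpr hu)), ← h2] at h1
    have hcap : stabSub M P e ⊓ cz (u * ((y : P) : G)) = stabSub M P e ⊓ cz ((y : P) : G) := by
      ext t
      simp only [Subgroup.mem_inf]
      refine and_congr_right fun ht => ?_
      rw [mem_cz, mem_cz, commute_iff_eq, commute_iff_eq, ← mul_inv_eq_iff_eq_mul, hiff _ t ht,
        mul_inv_eq_iff_eq_mul]
    show (rankAt hM hmax _ : ℂ) * (Nat.card (stabSub M P e ⊓ cz (u * ((y : P) : G)) : Subgroup G) : ℂ) = _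
    rw [hcap, show rankAt hM hmax (Subgroup.zpowers_le.mpr huyP) = _ from h1]
    rfl
  have hsum := sum_traceVal_coset hM hmax hP K hK ⟨u, hu⟩
  rw [← Finset.sum_erase_add _ _ (Finset.mem_univ (1 : K)),
    ← Finset.sum_erase_add _ _ (Finset.mem_univ (1 : K)),
    Finset.sum_congr rfl (fun y hy => hother y (Finset.mem_erase.mp hy).1),
    OneMemClass.coe_one, mul_one] at hsum
  have h := add_left_cancel hsum
  have hone : ((1 : P) : G) = 1 := rfl
  simp only [traceVal, hone, hstab u hfix, hstab 1 (fun t _ => by simp),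
    rankAt_one hM hmax] at h
  exact_mod_cast mul_right_cancel₀ (Nat.cast_ne_zero.mpr Nat.card_pos.ne' :
    (Nat.card (stabSub M P e) : ℂ) ≠ 0) h

/-- The claim in `cz x` gives the ranks at the pairs of elements. -/
theorem rankAt_local (hM : IsPModular p M) [Fact p.Prime]
    (hmax : IsMaximalBrauerPair p M B P e) (hP : P ≤ Subgroup.centralizer (P : Set G)) {x y : G}
    (hx : x ∈ P) (hy : y ∈ P)
    (hfix : ∀ t ∈ stabSub M P e, t * x * t⁻¹ = x → t * y * t⁻¹ = y)
    (hclaim : ∀ (f : Set (IrrCharacter (cz x))) (P' : Subgroup (cz x))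
      (c' : Set (IrrCharacter (Subgroup.centralizer (P' : Set (cz x)))))
      (hmax' : IsMaximalBrauerPair p M f P' c'),
      P' ≤ Subgroup.centralizer (P' : Set (cz x)) → ∀ (v : cz x) (hv : v ∈ P'),
      (∀ t ∈ stabSub M P' c', t * v * t⁻¹ = v) →
        rankAt hM hmax' (Subgroup.zpowers_le.mpr hv) = blockRank p f) :
    rankAt hM hmax (Subgroup.zpowers_le.mpr hx) =
      rankAt hM hmax (sup_le (Subgroup.zpowers_le.mpr hx) (Subgroup.zpowers_le.mpr hy)) := by
  obtain ⟨f, ⟨hf, hle⟩, -⟩ := existsUnique_below hM hmax.1.1 (Subgroup.zpowers_le.mpr hx)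
  obtain ⟨P', c', hmax', hP', hpush⟩ := exists_local_maximal hM hmax hP hx hf hle
  have hsub : P'.map (cz x).subtype = P := hpush.2.2.1
  have hmem : ∀ v : cz x, (v : G) ∈ P → v ∈ P' := fun v hv => by
    rw [← hsub] at hv
    obtain ⟨w, hw, he⟩ := hv
    exact Subtype.ext he ▸ hw
  have hxy : y ∈ cz x :=
    mem_cz.mpr (Subgroup.mem_centralizer_iff.mp (hP hx) y hy)
  have hv' : (⟨y, hxy⟩ : cz x) ∈ P' := hmem _ hy
  rw [rankAt_eq hM hmax _ hf hle, ← hclaim f P' c' hmax' hP' ⟨y, hxy⟩ hv' fun t ht => ?_]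
  · exact rankAt_push hM hmax hmax' hpush hP' (hmem _ hx) (Subgroup.zpowers_le.mpr hv') _
  · exact Subtype.ext (hfix t ((mem_stabSub_push hpush t).mp ht)
      (by rw [(mem_cz.mp t.2).eq, mul_inv_cancel_right]))

/-- The rank of the block is the rank at every fixed element. -/
theorem rankAt_fixed (hM : IsPModular p M) [Fact p.Prime] : ∀ (n : ℕ) (G : Type u) [Group G]
    [Finite G], Nat.card G = n → ∀ (B : Set (IrrCharacter G)) (P : Subgroup G)
    (e : Set (IrrCharacter (Subgroup.centralizer (P : Set G))))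
    (hmax : IsMaximalBrauerPair p M B P e), P ≤ Subgroup.centralizer (P : Set G) →
    ∀ (u : G) (hu : u ∈ P), (∀ t ∈ stabSub M P e, t * u * t⁻¹ = u) →
      rankAt hM hmax (Subgroup.zpowers_le.mpr hu) = blockRank p B := by
  intro n
  induction n using Nat.strong_induction_on with
  | _ n ih =>
    intro G _ _ hn B P e hmax hP u hu hfix
    refine rankAt_fixed_step hM hmax hP (fun x hx y hy hxc hxy => ?_) hu hfix
    refine rankAt_local hM hmax hP hx hy hxy fun f P' c' hmax' hP' v hv hv' => ?_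
    refine ih (Nat.card (cz x)) ?_ (cz x) rfl f P' c' hmax' hP' v hv hv'
    rw [← hn]
    refine lt_of_le_of_ne (Subgroup.card_le_card_group _) fun h => hxc ?_
    have htop := Subgroup.eq_top_of_card_eq _ h
    exact Subgroup.mem_center_iff.mpr fun v => (mem_cz.mp (htop ▸ Subgroup.mem_top v)).eq

/-- The number of characters does not change on passing to the centralizer of a fixed element. -/
theorem card_eq_of_fixed (hM : IsPModular p M) [Fact p.Prime]
    (hmax : IsMaximalBrauerPair p M B P e) (hP : P ≤ Subgroup.centralizer (P : Set G)) {u : G}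
    (hu : u ∈ P) (hfix : ∀ t ∈ stabSub M P e, t * u * t⁻¹ = u)
    {f : Set (IrrCharacter (cz u))} (hf : IsPBlock M f)
    (hle : SubpairLE p M (Subgroup.zpowers u) f P e) : Nat.card B = Nat.card f := by
  classical
  obtain ⟨P', c', hmax', hP', hpush⟩ := exists_local_maximal hM hmax hP hu hf hle
  haveI := Fintype.ofFinite P
  haveI := Fintype.ofFinite P'
  have hsub : P'.map (cz u).subtype = P := hpush.2.2.1
  have hmem : ∀ v : cz u, (v : G) ∈ P → v ∈ P' := fun v hv => by
    rw [← hsub] at hv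
    obtain ⟨w, hw, he⟩ := hv
    exact Subtype.ext he ▸ hw
  have hTu : stabSub M P e ≤ cz u := fun t ht => mem_cz.mpr (mul_inv_eq_iff_eq_mul.mp (hfix t ht))
  have hPu : P ≤ cz u := fun v hv => mem_cz.mpr (Subgroup.mem_centralizer_iff.mp (hP hu) v hv)
  have hTeq : (stabSub M P' c').map (cz u).subtype = stabSub M P e := by
    ext t
    constructor
    · rintro ⟨w, hw, rfl⟩
      exact (mem_stabSub_push hpush w).mp hw
    · exact fun ht => ⟨⟨t, hTu ht⟩, (mem_stabSub_push hpush ⟨t, hTu ht⟩).mpr ht, rfl⟩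
  apply Nat.cast_injective (R := ℂ)
  rw [card_eq_sum_traceVal hM hmax hP, card_eq_sum_traceVal hM hmax' hP',
    ← hTeq, Subgroup.card_map_of_injective (cz u).subtype_injective]
  congr 1
  obtain ⟨i, hi⟩ : ∃ i : P' ≃ P, ∀ v : P', ((i v : P) : G) = ((v : cz u) : G) :=
    ⟨Equiv.ofBijective (fun v => ⟨((v : cz u) : G), hsub ▸ ⟨v, v.2, rfl⟩⟩)
      ⟨fun a b h => Subtype.ext (Subtype.ext (congrArg (fun z : P => (z : G)) h)),
        fun v => ⟨⟨⟨v, hPu v.2⟩, hmem _ v.2⟩, rfl⟩⟩, fun v => rfl⟩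
  refine (Fintype.sum_equiv i _ _ fun v => ?_).symm
  have hvP : ((v : cz u) : G) ∈ P := hi v ▸ (i v).2
  have hiv : i v = ⟨((v : cz u) : G), hvP⟩ := Subtype.ext (hi v)
  rw [hiv]
  simp only [traceVal]
  congr 1
  · rw [Nat.cast_inj, rankAt_push hM hmax hmax' hpush hP' (hmem _ hu)
      (Subgroup.zpowers_le.mpr v.2) (sup_le (Subgroup.zpowers_le.mpr hu)
        (Subgroup.zpowers_le.mpr hvP))]
    exact (rankAt_congr hM hmax (sup_comm _ _) _ (sup_le (Subgroup.zpowers_le.mpr hvP)
      (Subgroup.zpowers_le.mpr hu))).trans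
      (rankAt_local hM hmax hP hvP hu (fun t ht _ => hfix t ht) fun f' P'' c'' hmax'' hP'' w hw hw' =>
        rankAt_fixed hM _ _ rfl f' P'' c'' hmax'' hP'' w hw hw').symm
  · rw [Nat.cast_inj, ← Subgroup.card_map_of_injective (K := stabSub M P' c' ⊓ cz (v : cz u))
      (cz u).subtype_injective]
    refine Nat.card_congr (Equiv.setCongr ?_)
    ext t
    constructor
    · rintro ⟨w, ⟨hw1, hw2⟩, rfl⟩
      exact ⟨(mem_stabSub_push hpush w).mp hw1,
        mem_cz.mpr (congrArg Subtype.val (mem_cz.mp hw2).eq)⟩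
    · rintro ⟨ht1, ht2⟩
      exact ⟨⟨t, hTu ht1⟩, ⟨(mem_stabSub_push hpush ⟨t, hTu ht1⟩).mpr ht1,
        mem_cz.mpr (Subtype.ext (mem_cz.mp ht2).eq)⟩, rfl⟩

end Cfsg.Agent.Blocks
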