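import Cfsg.Agent.Lib.Blocks.InertialFree
import Cfsg.Agent.Lib.Basics.FpfAbelian
import Mathlib.RingTheory.ZMod.UnitsCyclic
import Mathlib.NumberTheory.Basic

/-!
# The inertial quotient of a cyclic defect group
-/

namespace Cfsg.Agent.Blocks

open BPairs

universe u

variable {G : Type u} [Group G] [Finite G] {p : ℕ} {M : Ideal AlgInt} [M.IsPrime]
  {B : Set (IrrCharacter G)} {P : Subgroup G}
  {c : Set (IrrCharacter (Subgroup.centralizer (P : Set G)))}

set_option linter.unusedSectionVars false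

theorem le_centralizer_of_cyclic (hcyc : IsCyclic P) : P ≤ Subgroup.centralizer (P : Set G) :=
  fun u hu => Subgroup.mem_centralizer_iff.mpr fun v hv => by
    letI : CommGroup P := IsCyclic.commGroup
    exact congrArg Subtype.val (mul_comm (⟨v, hv⟩ : P) ⟨u, hu⟩)

theorem conj_zpow_of_gen {g w : G} {a : ℕ} (h : g * w * g⁻¹ = w ^ a) :
    ∀ i : ℕ, g ^ i * w * (g ^ i)⁻¹ = w ^ a ^ i := by
  intro i
  induction i with
  | zero => simp
  | succ i ih =>
    calc g ^ (i + 1) * w * (g ^ (i + 1))⁻¹ = g * (g ^ i * w * (g ^ i)⁻¹) * g⁻¹ := by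
          rw [pow_succ']; group
      _ = g * w ^ a ^ i * g⁻¹ := by rw [ih]
      _ = (g * w * g⁻¹) ^ a ^ i := (conj_pow (a := g) (b := w)).symm
      _ = _ := by rw [h, ← pow_mul, pow_succ']

/-- A normal subgroup of a cyclic group is normalized by its normalizer. -/
theorem conj_mem_of_cyclic (hcyc : IsCyclic P) {Q : Subgroup G} (hQ : Q ≤ P) {g : G}
    (hg : g ∈ Subgroup.normalizer (P : Set G)) : g ∈ Subgroup.normalizer (Q : Set G) := by
  haveI := hcyc
  refine Subgroup.mem_normalizer_iff_map_conj_eq.mpr ?_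
  have hQ' : Q.map (MulAut.conj g).toMonoidHom ≤ P := by
    rintro _ ⟨q, hq, rfl⟩
    exact (Subgroup.mem_normalizer_iff.mp hg q).mp (hQ hq)
  have h := Basics.cyclic_subgroup_eq_of_card_eq (S := P)
    (A := (Q.map (MulAut.conj g).toMonoidHom).subgroupOf P) (B := Q.subgroupOf P) (by
      rw [Nat.card_congr (Subgroup.subgroupOfEquivOfLe hQ').toEquiv,
        Nat.card_congr (Subgroup.subgroupOfEquivOfLe hQ).toEquiv, card_map_conj])
  have h2 := congrArg (fun S : Subgroup P => S.map P.subtype) h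
  simp only [Subgroup.map_subgroupOf_eq_of_le hQ', Subgroup.map_subgroupOf_eq_of_le hQ] at h2
  exact h2

/-- The element of order `p`. -/
theorem exists_order_p [hp : Fact p.Prime] (hPp : IsPGroup p P) (hP1 : P ≠ ⊥) :
    ∃ z : P, orderOf z = p :=
  exists_prime_orderOf_dvd_card' p (by
    obtain ⟨n, hn⟩ := IsPGroup.iff_card.mp hPp
    rw [hn]
    refine dvd_pow_self p fun h => hP1 ?_
    rw [h, pow_zero] at hn
    exact Subgroup.card_eq_one.mp hn)

/-- An element of the inertial group fixing a nontrivial element of the cyclic defect group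
centralizes it. -/
theorem free_of_cyclic (hM : IsPModular p M) [hp : Fact p.Prime] (hB : IsPBlock M B)
    (hPD : IsDefectGroup p M B P) (hcyc : IsCyclic P)
    (hc : IsInducedBlock M (Subgroup.centralizer (P : Set G)) c B) :
    ∀ g ∈ stabSub M P c, ∀ x ∈ P, x ≠ 1 → g * x * g⁻¹ = x →
      g ∈ Subgroup.centralizer (P : Set G) := by
  intro g hg x hx hx1 hgx
  haveI := hcyc
  have hP := le_centralizer_of_cyclic hcyc
  have hPp := isPGroup_defectGroup hM hB hPD
  obtain ⟨n, hn⟩ := IsPGroup.iff_card.mp hPp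
  obtain ⟨w, hw⟩ := IsCyclic.exists_generator (α := P)
  have hw' : ∀ v ∈ P, ∃ i : ℕ, (w : G) ^ i = v := fun v hv => by
    obtain ⟨i, hi⟩ := (isOfFinOrder_of_finite w).mem_powers_iff_mem_zpowers.mpr (hw ⟨v, hv⟩)
    exact ⟨i, by simpa using congrArg Subtype.val hi⟩
  have hord : orderOf (w : G) = p ^ n := by
    rw [Subgroup.orderOf_coe, orderOf_eq_card_of_forall_mem_zpowers hw, hn]
  obtain ⟨a, ha⟩ := hw' _ ((Subgroup.mem_normalizer_iff.mp hg.1 (w : G)).mp w.2)
  obtain ⟨j, hj⟩ := hw' x hx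
  have h1 : (w : G) ^ (a * j) = (w : G) ^ j := by
    rw [pow_mul, ha, conj_pow, hj, hgx]
  have h2 : ((p ^ n : ℕ) : ℤ) ∣ ((a : ℤ) - 1) * j := by
    have h3 := (pow_eq_pow_iff_modEq.mp h1).symm
    rw [hord] at h3
    have h4 := Nat.modEq_iff_dvd.mp h3
    push_cast at h4 ⊢
    rw [sub_mul, one_mul]
    exact h4
  have hpa : (p : ℤ) ∣ (a : ℤ) - 1 := by
    by_contra hna
    have hcop : IsCoprime ((p ^ n : ℕ) : ℤ) ((a : ℤ) - 1) := by
      push_cast
      exact ((Nat.prime_iff_prime_int.mp hp.out).coprime_iff_not_dvd.mpr hna).pow_left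
    have h5 := hcop.dvd_of_dvd_mul_left h2
    apply hx1
    rw [← hj]
    refine orderOf_dvd_iff_pow_eq_one.mp ?_
    rw [hord]
    exact_mod_cast h5
  have h6 : ((p ^ (n + 1) : ℕ) : ℤ) ∣ ((a ^ p ^ n : ℕ) : ℤ) - ((1 ^ p ^ n : ℕ) : ℤ) := by
    push_cast
    exact dvd_sub_pow_of_dvd_sub (R := ℤ) hpa n
  have h7 : (w : G) ^ a ^ p ^ n = (w : G) ^ 1 := by
    rw [pow_eq_pow_iff_modEq, hord]
    refine (Nat.modEq_iff_dvd.mpr ?_).symm
    refine dvd_trans ?_ (by simpa using h6)
    exact_mod_cast (pow_dvd_pow p (Nat.le_succ n))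
  refine mem_centralizer_of_pow hM hB hPD hP hc hg (k := n) ?_
  rw [Subgroup.mem_centralizer_iff]
  intro v hv
  obtain ⟨i, rfl⟩ := hw' v hv
  have h8 : g ^ p ^ n * (w : G) * (g ^ p ^ n)⁻¹ = (w : G) := by
    rw [conj_zpow_of_gen ha.symm, h7, pow_one]
  exact ((Commute.pow_right (show Commute (g ^ p ^ n) (w : G) from mul_inv_eq_iff_eq_mul.mp h8) i)).eq.symm

/-- The inertial quotient is cyclic of order dividing `p - 1`. -/
theorem inertial_cyclic (hM : IsPModular p M) [hp : Fact p.Prime] (hB : IsPBlock M B)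
    (hPD : IsDefectGroup p M B P) (hP1 : P ≠ ⊥) (hcyc : IsCyclic P)
    (hc : IsInducedBlock M (Subgroup.centralizer (P : Set G)) c B)
    [hn : ((Subgroup.centralizer (P : Set G)).subgroupOf (stabSub M P c)).Normal] :
    IsCyclic (stabSub M P c ⧸ (Subgroup.centralizer (P : Set G)).subgroupOf (stabSub M P c)) ∧
      (Subgroup.centralizer (P : Set G)).relIndex (stabSub M P c) ∣ p - 1 := by
  obtain ⟨z, hz⟩ := exists_order_p (isPGroup_defectGroup hM hB hPD) hP1
  obtain ⟨Z, hZ⟩ : ∃ Z, Z = Subgroup.zpowers (z : G) := ⟨_, rfl⟩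
  have hZP : Z ≤ P := hZ ▸ Subgroup.zpowers_le.mpr z.2
  have hN : stabSub M P c ≤ Subgroup.normalizer (Z : Set G) := fun g hg =>
    conj_mem_of_cyclic hcyc hZP hg.1
  let ψ : stabSub M P c →* MulAut Z := Z.normalizerMonoidHom.comp (Subgroup.inclusion hN)
  have hker : ψ.ker = (Subgroup.centralizer (P : Set G)).subgroupOf (stabSub M P c) := by
    ext g
    rw [MonoidHom.mem_ker, MonoidHom.comp_apply, ← MonoidHom.mem_ker,
      Subgroup.normalizerMonoidHom_ker, Subgroup.mem_subgroupOf, Subgroup.mem_subgroupOf,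
      Subgroup.coe_inclusion]
    constructor
    · intro h
      refine free_of_cyclic hM hB hPD hcyc hc g g.2 (z : G) z.2 (fun h1 => ?_)
        (mul_inv_eq_iff_eq_mul.mpr (Subgroup.mem_centralizer_iff.mp h _
          (hZ ▸ Subgroup.mem_zpowers _)).symm)
      rw [← Subgroup.orderOf_coe, h1, orderOf_one] at hz
      exact hp.out.ne_one hz.symm
    · exact fun h => Subgroup.centralizer_le hZP h
  haveI hZc : IsCyclic Z := by rw [hZ]; infer_instance
  have hcardZ : Nat.card Z = p := by rw [hZ, Nat.card_zpowers, Subgroup.orderOf_coe, hz]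
  haveI : IsCyclic (ZMod (Nat.card Z))ˣ := by rw [hcardZ]; exact ZMod.isCyclic_units_prime hp.out
  haveI : IsCyclic (MulAut Z) :=
    isCyclic_of_surjective (IsCyclic.mulAutMulEquiv Z).symm.toMonoidHom
      (IsCyclic.mulAutMulEquiv Z).symm.surjective
  let ψ' := (QuotientGroup.kerLift ψ).comp (QuotientGroup.quotientMulEquivOfEq hker.symm).toMonoidHom
  have hinj : Function.Injective ψ' :=
    (QuotientGroup.kerLift_injective ψ).comp (QuotientGroup.quotientMulEquivOfEq hker.symm).injective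
  refine ⟨isCyclic_of_injective ψ' hinj, ?_⟩
  have h := Subgroup.card_dvd_of_injective ψ' hinj
  rw [IsCyclic.card_mulAut, hcardZ, Nat.totient_prime hp.out] at h
  exact h

end Cfsg.Agent.Blocks
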