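import Cfsg.Agent.Lib.Blocks.InvariantCover
import Cfsg.Agent.Lib.Blocks.InducedCentralizer
import Cfsg.Agent.Lib.Blocks.NormalPIndex
import Cfsg.Agent.Lib.Components.PTimesQ

/-!
# Brauer pairs of the block over an invariant character of a normal `p'`-subgroup
-/

namespace Cfsg.Agent.Blocks

open MonoidAlgebra

universe u

variable {G : Type u} [Group G] [Finite G] {p : ℕ} {M : Ideal AlgInt} [M.IsPrime]
  {K : Subgroup G} [Fintype K] [hK : K.Normal]

set_option linter.unusedSectionVars false

/-- Fixed elements conjugate in a normal `p'`-subgroup are conjugate under the fixed subgroup. -/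
theorem fusion_fixed [Fact p.Prime] (hp' : ¬ p ∣ Nat.card K) {R : Subgroup G} (hR : IsPGroup p R)
    {a b : K} (ha : (a : G) ∈ Subgroup.centralizer (R : Set G))
    (hb : (b : G) ∈ Subgroup.centralizer (R : Set G)) (h : IsConj a b) :
    ∃ k : K, (k : G) ∈ Subgroup.centralizer (R : Set G) ∧ k * a * k⁻¹ = b := by
  classical
  obtain ⟨k₀, hk₀⟩ := isConj_iff.mp h
  let X := {k : K // k * a * k⁻¹ = b}
  have key : ∀ (r : R) (k : X),
      (MulAut.conjNormal (r : G) : K ≃* K) k.1 * a * ((MulAut.conjNormal (r : G) : K ≃* K) k.1)⁻¹ = b := by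
    intro r k
    have hra : (MulAut.conjNormal (r : G) : K ≃* K) a = a := Subtype.ext (by
      rw [MulAut.conjNormal_apply, Subgroup.mem_centralizer_iff.mp ha (r : G) r.2]; group)
    have hrb : (MulAut.conjNormal (r : G) : K ≃* K) b = b := Subtype.ext (by
      rw [MulAut.conjNormal_apply, Subgroup.mem_centralizer_iff.mp hb (r : G) r.2]; group)
    calc _ = (MulAut.conjNormal (r : G) : K ≃* K) (k.1 * a * k.1⁻¹) := by
          rw [map_mul, map_mul, map_inv, hra]
      _ = b := by rw [k.2, hrb]
  letI : MulAction R X :=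
    { smul := fun r k => ⟨(MulAut.conjNormal (r : G) : K ≃* K) k.1, key r k⟩
      one_smul := fun k => Subtype.ext (by
        show (MulAut.conjNormal ((1 : R) : G) : K ≃* K) k.1 = k.1
        rw [OneMemClass.coe_one, map_one]
        rfl)
      mul_smul := fun r s k => Subtype.ext (by
        show (MulAut.conjNormal ((r * s : R) : G) : K ≃* K) k.1 = _
        rw [Subgroup.coe_mul, map_mul]
        rfl) }
  have hdvd : Nat.card X ∣ Nat.card K := by
    have e : X ≃ Subgroup.centralizer ({a} : Set K) :=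
      { toFun := fun k => ⟨k₀⁻¹ * k.1, Subgroup.mem_centralizer_singleton_iff.mpr (by
          have h1 := mul_inv_eq_iff_eq_mul.mp k.2
          have h2 := mul_inv_eq_iff_eq_mul.mp hk₀
          rw [mul_assoc, h1, ← mul_assoc, show k₀⁻¹ * b = a * k₀⁻¹ by
            rw [← hk₀]; group, mul_assoc])⟩
        invFun := fun c => ⟨k₀ * c.1, by
          have h1 := Subgroup.mem_centralizer_singleton_iff.mp c.2
          rw [mul_assoc k₀, h1, ← hk₀]
          group⟩
        left_inv := fun k => Subtype.ext (mul_inv_cancel_left _ _)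
        right_inv := fun c => Subtype.ext (inv_mul_cancel_left _ _) }
    rw [Nat.card_congr e]
    exact Subgroup.card_subgroup_dvd_card _
  obtain ⟨k, hk⟩ := hR.nonempty_fixed_point_of_prime_not_dvd_card X fun h => hp' (h.trans hdvd)
  refine ⟨k.1, fun r hr => ?_, k.2⟩
  have h1 := congrArg (fun x : X => ((x.1 : K) : G)) (hk ⟨r, hr⟩)
  change (((MulAut.conjNormal (r : G) : K ≃* K) k.1 : K) : G) = _ at h1
  rw [MulAut.conjNormal_apply] at h1
  exact mul_inv_eq_iff_eq_mul.mp h1

/-- The Brauer restriction from a normal subgroup to its fixed points. -/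
noncomputable def fixRes (R : Subgroup G) (z : ZG (Res M) K) :
    ZG (Res M) (K.subgroupOf (Subgroup.centralizer (R : Set G))) :=
  ⟨ofFun fun n => (z : MonoidAlgebra (Res M) K).coeff ⟨((n : Subgroup.centralizer (R : Set G)) : G), n.2⟩, by
    rw [mem_center_iff_isClassFn]
    intro u c
    simp only [coeff_ofFun]
    exact (mem_center_iff_isClassFn _).mp z.2
      (⟨((u : Subgroup.centralizer (R : Set G)) : G), u.2⟩ : K) ⟨_, c.2⟩⟩

theorem embH_fixRes (R : Subgroup G) (z : ZG (Res M) K) :
    embH (Subgroup.centralizer (R : Set G))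
        (embH (K.subgroupOf (Subgroup.centralizer (R : Set G)))
          (fixRes R z : MonoidAlgebra (Res M) _)) =
      trunc (Subgroup.centralizer (R : Set G) : Set G) (embH K (z : MonoidAlgebra (Res M) K)) := by
  refine MonoidAlgebra.ext (Finsupp.ext fun u => ?_)
  by_cases hu : u ∈ Subgroup.centralizer (R : Set G)
  · rw [coeff_trunc_of_mem _ hu, coeff_embH _ _ ⟨u, hu⟩]
    by_cases huK : u ∈ K
    · rw [coeff_embH K _ ⟨u, huK⟩,
        coeff_embH _ _ (⟨⟨u, hu⟩, huK⟩ : K.subgroupOf (Subgroup.centralizer (R : Set G)))]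
      simp [fixRes]
    · rw [coeff_embH_of_notMem K _ huK, coeff_embH_of_notMem]
      exact huK
  · rw [coeff_trunc_of_notMem _ (show u ∉ (Subgroup.centralizer (R : Set G) : Set G) from hu),
      coeff_embH_of_notMem _ _ hu]

theorem fixRes_mul [Fact p.Prime] [CharP (Res M) p] {R : Subgroup G} (hR : IsPGroup p R)
    {z w : ZG (Res M) K} (hz : IsInv R (embH K (z : MonoidAlgebra (Res M) K)))
    (hw : IsInv R (embH K (w : MonoidAlgebra (Res M) K))) :
    fixRes R (z * w) = fixRes R z * fixRes R w := by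
  refine Subtype.ext (embH_injective _ (embH_injective (Subgroup.centralizer (R : Set G)) ?_))
  rw [embH_fixRes, Subring.coe_mul, Subring.coe_mul, map_mul, map_mul, map_mul, embH_fixRes,
    embH_fixRes, trunc_mul hR hz hw]

theorem fixRes_scalarZ (R : Subgroup G) (t : Res M) :
    fixRes (K := K) R (scalarZ t) = scalarZ t := by
  classical
  refine Subtype.ext (MonoidAlgebra.ext (Finsupp.ext fun n => ?_))
  simp only [fixRes, scalarZ, coeff_ofFun, coeff_single, Finsupp.single_apply]
  refine if_congr ⟨fun h => ?_, fun h => ?_⟩ rfl rfl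
  · exact Subtype.ext (Subtype.ext (congrArg (fun x : K => (x : G)) h))
  · subst h; rfl

variable {R : Subgroup G} [Fintype (K.subgroupOf (Subgroup.centralizer (R : Set G)))]

theorem fixRes_classSum [Fact p.Prime] (hp' : ¬ p ∣ Nat.card K) (hR : IsPGroup p R)
    (n : K.subgroupOf (Subgroup.centralizer (R : Set G))) :
    fixRes R (classSumZ (Res M) (⟨((n : Subgroup.centralizer (R : Set G)) : G), n.2⟩ : K)) =
      classSumZ (Res M) n := by
  classical
  refine Subtype.ext (MonoidAlgebra.ext (Finsupp.ext fun v => ?_))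
  simp only [fixRes, coe_classSumZ, classSum, coeff_ofFun]
  by_cases h : IsConj (⟨((n : Subgroup.centralizer (R : Set G)) : G), n.2⟩ : K)
      ⟨((v : Subgroup.centralizer (R : Set G)) : G), v.2⟩
  · obtain ⟨k, hk, hkn⟩ := fusion_fixed hp' hR (n : Subgroup.centralizer (R : Set G)).2
      (v : Subgroup.centralizer (R : Set G)).2 h
    rw [classInd_pos h, classInd_pos]
    exact isConj_iff.mpr ⟨⟨⟨(k : G), hk⟩, k.2⟩,
      Subtype.ext (Subtype.ext (congrArg (fun x : K => (x : G)) hkn))⟩
  · rw [classInd_neg h, classInd_neg]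
    intro h'
    obtain ⟨c, hc⟩ := isConj_iff.mp h'
    exact h (isConj_iff.mpr ⟨⟨_, c.2⟩, Subtype.ext (congrArg (fun x : K.subgroupOf
      (Subgroup.centralizer (R : Set G)) => ((x : Subgroup.centralizer (R : Set G)) : G)) hc)⟩)

theorem classSum_mul_idem (hM : IsPModular p M) (hp' : ¬ p ∣ Nat.card K) (θ : IrrCharacter K)
    (m : K) : classSumZ (Res M) m * bBar M ({θ} : Set (IrrCharacter K)) =
      scalarZ (red M (centralCharL M θ m)) * bBar M ({θ} : Set (IrrCharacter K)) := by
  classical
  have hA := blockCoeff_mem_loc_of_not_dvd hM hp' ({θ} : Set (IrrCharacter K))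
  rw [← redZ_classSumZ, ← redZ_scalarZ, bBar, ← map_mul, ← map_mul]
  congr 1
  refine Subtype.ext (toC_injective (M := M) (central_ext (mem_center_map _ (Subtype.prop _))
    (mem_center_map _ (Subtype.prop _)) fun ψ => ?_))
  show ((omegaL M ψ _ : Loc M) : ℂ) = ((omegaL M ψ _ : Loc M) : ℂ)
  rw [map_mul, map_mul, omegaL_bIdem hA, omegaL_classSumZ, omegaL_scalarZ]
  by_cases h : ψ ∈ ({θ} : Set (IrrCharacter K))
  · rw [if_pos h, Set.mem_singleton_iff.mp h]
  · rw [if_neg h, mul_zero, mul_zero]

set_option maxHeartbeats 1000000 in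
/-- At most one character of the fixed points carries the restricted idempotent. -/
theorem fixRes_unique (hM : IsPModular p M) (hp' : ¬ p ∣ Nat.card K) (hR : IsPGroup p R)
    (θ : IrrCharacter K) (hinv : ∀ g : G, conjIrr g θ = θ)
    {φ φ' : IrrCharacter (K.subgroupOf (Subgroup.centralizer (R : Set G)))}
    (h : omegaBar M φ (fixRes R (bBar M ({θ} : Set (IrrCharacter K)))) = 1)
    (h' : omegaBar M φ' (fixRes R (bBar M ({θ} : Set (IrrCharacter K)))) = 1) : φ = φ' := by
  classical
  haveI : Fact p.Prime := ⟨hM.1⟩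
  haveI := charP_res hM
  have hA := blockCoeff_mem_loc_of_not_dvd hM hp' ({θ} : Set (IrrCharacter K))
  have hFinv : IsInv R (embH K (bBar M ({θ} : Set (IrrCharacter K)) : MonoidAlgebra (Res M) K)) := by
    intro r _ u
    by_cases hu : u ∈ K
    · rw [coeff_embH K _ ⟨u, hu⟩, coeff_embH K _ ⟨r * u * r⁻¹, hK.conj_mem _ hu r⟩]
      simp only [bBar, coe_redZ, coeff_map', coeff_bIdem hA]
      refine congrArg (red M) (Subtype.ext ?_)
      show blockCoeff ({θ} : Set (IrrCharacter K)) _ = blockCoeff ({θ} : Set (IrrCharacter K)) _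
      simp only [blockCoeff, finsum_mem_singleton]
      congr 3
      exact congrFun (congrArg Subtype.val (hinv r)) ⟨u, hu⟩
    · rw [coeff_embH_of_notMem K _ hu, coeff_embH_of_notMem]
      intro hm
      have := hK.conj_mem _ hm r⁻¹
      exact hu (by simpa [mul_assoc] using this)
  have key : ∀ ψ : IrrCharacter (K.subgroupOf (Subgroup.centralizer (R : Set G))),
      omegaBar M ψ (fixRes R (bBar M ({θ} : Set (IrrCharacter K)))) = 1 →
      ∀ n : K.subgroupOf (Subgroup.centralizer (R : Set G)), red M (centralCharL M ψ n) =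
        red M (centralCharL M θ ⟨((n : Subgroup.centralizer (R : Set G)) : G), n.2⟩) := by
    intro ψ hψ n
    set m : K := ⟨((n : Subgroup.centralizer (R : Set G)) : G), n.2⟩ with hm
    have hminv : IsInv R (embH K (classSumZ (Res M) m : MonoidAlgebra (Res M) K)) := by
      intro r hr u
      have hrm : (MulAut.conjNormal r : K ≃* K) m = m := Subtype.ext (by
        rw [MulAut.conjNormal_apply, Subgroup.mem_centralizer_iff.mp
          (n : Subgroup.centralizer (R : Set G)).2 r hr, hm]
        group)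
      by_cases hu : u ∈ K
      · rw [coeff_embH K _ ⟨u, hu⟩, coeff_embH K _ ⟨r * u * r⁻¹, hK.conj_mem _ hu r⟩]
        simp only [coe_classSumZ, classSum, coeff_ofFun]
        have e : IsConj m ⟨r * u * r⁻¹, hK.conj_mem _ hu r⟩ ↔ IsConj m ⟨u, hu⟩ := by
          have e' : (⟨r * u * r⁻¹, hK.conj_mem _ hu r⟩ : K) = (MulAut.conjNormal r : K ≃* K) ⟨u, hu⟩ :=
            Subtype.ext (MulAut.conjNormal_apply r ⟨u, hu⟩).symm
          rw [e']
          constructor
          · intro hc
            have := (MulAut.conjNormal r : K ≃* K).symm.toMonoidHom.map_isConj hc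
            simp only [MulEquiv.coe_toMonoidHom, MulEquiv.symm_apply_apply] at this
            rwa [(MulEquiv.symm_apply_eq _).mpr hrm.symm] at this
          · intro hc
            have := (MulAut.conjNormal r : K ≃* K).toMonoidHom.map_isConj hc
            simp only [MulEquiv.coe_toMonoidHom, hrm] at this
            exact this
        by_cases hc : IsConj m ⟨u, hu⟩
        · rw [classInd_pos hc, classInd_pos (e.mpr hc)]
        · rw [classInd_neg hc, classInd_neg (mt e.mp hc)]
      · rw [coeff_embH_of_notMem K _ hu, coeff_embH_of_notMem]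
        intro hx
        have := hK.conj_mem _ hx r⁻¹
        exact hu (by simpa [mul_assoc] using this)
    have hsinv : IsInv R (embH K ((scalarZ (red M (centralCharL M θ m)) : ZG (Res M) K) :
        MonoidAlgebra (Res M) K)) := by
      rw [show ((scalarZ (red M (centralCharL M θ m)) : ZG (Res M) K) : MonoidAlgebra (Res M) K) =
        single 1 (red M (centralCharL M θ m)) from rfl, embH_single, isInv_iff_commute]
      intro q _
      exact single_one_comm _ _
    have h1 := congrArg (fun z => omegaBar M ψ (fixRes R z)) (classSum_mul_idem hM hp' θ m)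
    simp only [fixRes_mul hR hminv hFinv, fixRes_mul hR hsinv hFinv, map_mul, hψ, mul_one,
      fixRes_scalarZ, omegaBar_scalarZ] at h1
    rw [hm, fixRes_classSum hp' hR n, omegaBar_classSumZ] at h1
    exact h1
  have hN : ¬ p ∣ Nat.card (K.subgroupOf (Subgroup.centralizer (R : Set G))) := fun hd => hp'
    (hd.trans (Subgroup.card_comap_dvd_of_injective K _ Subtype.val_injective))
  have hs : SameBlock M (φ : (K.subgroupOf (Subgroup.centralizer (R : Set G))) → ℂ)
      (φ' : (K.subgroupOf (Subgroup.centralizer (R : Set G))) → ℂ) :=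
    sameBlock_iff_red.mpr fun n => (key φ h n).trans (key φ' h' n).symm
  exact (Set.mem_singleton_iff.mp
    ((mem_block_iff (isPBlock_singleton hM hN φ) (Set.mem_singleton φ)).mpr hs)).symm


omit [Fintype (K.subgroupOf (Subgroup.centralizer (R : Set G)))]

theorem blockCoeff_of_over (hM : IsPModular p M) (hp' : ¬ p ∣ Nat.card K) (θ : IrrCharacter K)
    (hinv : ∀ g : G, conjIrr g θ = θ) {B : Set (IrrCharacter G)}
    (hiff : ∀ χ, χ ∈ B ↔ classInner (fun n : K => (χ : G → ℂ) n) (θ : K → ℂ) ≠ 0) :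
    idemC B = embH K (idemC ({θ} : Set (IrrCharacter K))) := by
  have hb := isPBlock_singleton hM hp' θ
  rw [show B = {χ : IrrCharacter G | HasConstituent ({θ} : Set (IrrCharacter K)) (χ : G → ℂ)} from
    Set.ext fun χ => (hiff χ).trans ⟨fun h => ⟨θ, rfl, (mult_ne_zero_iff χ θ).mpr h⟩,
      fun ⟨φ, hφ, h⟩ => (Set.mem_singleton_iff.mp hφ) ▸ (mult_ne_zero_iff χ φ).mp h⟩]
  exact idemC_eq_embH_of_stable hM hb fun x => (stabilizesBlock_iff hb x).mpr
    fun ψ hψ => by rw [Set.mem_singleton_iff.mp hψ, hinv]; rfl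

theorem omegaBar_resZ_of_over (hM : IsPModular p M) (hp' : ¬ p ∣ Nat.card K) (θ : IrrCharacter K)
    (hinv : ∀ g : G, conjIrr g θ = θ) {B : Set (IrrCharacter G)} (hB : IsPBlock M B)
    (hiff : ∀ χ, χ ∈ B ↔ classInner (fun n : K => (χ : G → ℂ) n) (θ : K → ℂ) ≠ 0)
    [Fintype (K.subgroupOf (Subgroup.centralizer (R : Set G)))]
    (ξ : IrrCharacter (Subgroup.centralizer (R : Set G)))
    {φ : IrrCharacter (K.subgroupOf (Subgroup.centralizer (R : Set G)))}
    (hφ : classInner (fun n : K.subgroupOf (Subgroup.centralizer (R : Set G)) =>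
      (ξ : Subgroup.centralizer (R : Set G) → ℂ) n) (φ : _ → ℂ) ≠ 0) :
    omegaBar M ξ (resZ (Subgroup.centralizer (R : Set G)) (bBar M B)) =
      omegaBar M φ (fixRes R (bBar M ({θ} : Set (IrrCharacter K)))) := by
  haveI : (K.subgroupOf (Subgroup.centralizer (R : Set G))).Normal := Subgroup.normal_subgroupOf
  have hA := blockCoeff_mem_loc hB
  have hA' := blockCoeff_mem_loc_of_not_dvd hM hp' ({θ} : Set (IrrCharacter K))
  have hco : ∀ u : G, blockCoeff B u =
      (embH K (idemC ({θ} : Set (IrrCharacter K)))).coeff u := fun u => by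
    rw [← blockCoeff_of_over hM hp' θ hinv hiff]
    simp [idemC]
  rw [omegaBar_eq_of_cover ξ hφ (fun u hu => ?_)]
  · refine congrArg _ (Subtype.ext (MonoidAlgebra.ext (Finsupp.ext fun n => ?_)))
    simp only [coe_resZ, coeff_resH, fixRes, coeff_ofFun, bBar, coe_redZ, coeff_map',
      coeff_bIdem hA, coeff_bIdem hA']
    refine congrArg (red M) (Subtype.ext ?_)
    show blockCoeff B _ = blockCoeff _ _
    rw [hco]
    refine (coeff_embH K _ (⟨_, n.2⟩ : K)).trans ?_
    simp [idemC]
  · simp only [coe_resZ, coeff_resH, bBar, coe_redZ, coeff_map', coeff_bIdem hA]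
    have h0 : blockCoeff B (u : G) = 0 := by
      rw [hco, coeff_embH_of_notMem]
      exact hu
    rw [show (⟨blockCoeff B (u : G), hA _⟩ : Loc M) = 0 from Subtype.ext h0, map_zero]

set_option maxHeartbeats 2000000 in
/-- If `R` lies in a defect group and the fixed points of `R` are constrained, exactly one block of
`C(R)` induces the block over `θ`. -/
theorem existsUnique_pair_of_over (hM : IsPModular p M) (hp' : ¬ p ∣ Nat.card K)
    (θ : IrrCharacter K) (hinv : ∀ g : G, conjIrr g θ = θ) {B : Set (IrrCharacter G)}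
    (hB : IsPBlock M B)
    (hiff : ∀ χ, χ ∈ B ↔ classInner (fun n : K => (χ : G → ℂ) n) (θ : K → ℂ) ≠ 0)
    (hR : IsPGroup p R) {P : Subgroup G} (hP : IsDefectGroup p M B P) (hRP : R ≤ P)
    {L : Subgroup (Subgroup.centralizer (R : Set G))} (hLn : L.Normal)
    (hKL : K.subgroupOf (Subgroup.centralizer (R : Set G)) ≤ L)
    (hrel : ∃ m : ℕ, (K.subgroupOf (Subgroup.centralizer (R : Set G))).relIndex L = p ^ m)
    (hcent : ∀ S : Subgroup (Subgroup.centralizer (R : Set G)), S ≤ L → IsPGroup p S →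
      Nat.card S = p ^ (Nat.card L).factorization p →
      ∀ c ∈ Subgroup.centralizer (S : Set (Subgroup.centralizer (R : Set G))),
        ¬ p ∣ orderOf c → c ∈ L) :
    ∃! f : Set (IrrCharacter (Subgroup.centralizer (R : Set G))),
      IsInducedBlock M (Subgroup.centralizer (R : Set G)) f B := by
  classical
  haveI : Fact p.Prime := ⟨hM.1⟩
  haveI := charP_res hM
  letI := Fintype.ofFinite (Subgroup.centralizer (R : Set G))
  letI := Fintype.ofFinite (K.subgroupOf (Subgroup.centralizer (R : Set G)))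
  haveI : (K.subgroupOf (Subgroup.centralizer (R : Set G))).Normal := Subgroup.normal_subgroupOf
  haveI := hLn
  have hA := blockCoeff_mem_loc hB
  set e := resZ (Subgroup.centralizer (R : Set G)) (bBar M B) with he
  have hee : e * e = e := by
    have hbr : brH R (Subgroup.centralizer (R : Set G)) hR le_rfl
        (Subgroup.centralizer_le_normalizer _) (bBar M B) = e :=
      Subtype.ext (MonoidAlgebra.ext (Finsupp.ext fun u => by
        rw [he, coe_resZ, coe_brH, coeff_resH, coeff_resH, coeff_trunc_of_mem _ u.2]))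
    rw [← hbr, ← map_mul, bBar_mul_self hA]
  obtain ⟨ξ₀, hξ₀⟩ : ∃ ξ₀, omegaBar M ξ₀ e = 1 := by
    obtain ⟨g, hg, hPg, -, -⟩ := defectGroup_spec hP
    have hgC : g ∈ Subgroup.centralizer (R : Set G) := fun r hr =>
      Subgroup.mem_centralizer_singleton_iff.mp (hPg (hRP hr))
    have hne : e ≠ 0 := fun h0 => by
      have h1 := congrArg (fun a : ZG (Res M) (Subgroup.centralizer (R : Set G)) =>
        (a : MonoidAlgebra (Res M) (Subgroup.centralizer (R : Set G))).coeff
          ⟨g, hgC⟩) h0
      simp only [he, coe_resZ, coeff_resH, ZeroMemClass.coe_zero] at h1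
      exact (coeff_bBar_ne_zero_iff hA g).mpr hg.2.1 (by simpa using h1)
    by_contra h
    push Not at h
    refine hne (eq_zero_of_omegaBar hM e hee fun ξ => ?_)
    have h2 : omegaBar M ξ e * omegaBar M ξ e = omegaBar M ξ e := by rw [← map_mul, hee]
    by_contra h3
    exact h ξ (mul_left_cancel₀ h3 (h2.trans (mul_one _).symm))
  refine ⟨_, (isInducedBlock_centralizer_iff hM hR (isPBlock_blockOf ξ₀) hB
    (self_mem_blockOf ξ₀)).mpr hξ₀, fun f hf => ?_⟩
  obtain ⟨ξ, hξ⟩ := block_nonempty hf.1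
  have hξ1 : omegaBar M ξ e = 1 :=
    (isInducedBlock_centralizer_iff hM hR hf.1 hB hξ).mp hf
  obtain ⟨φ₀, hφ₀⟩ := CT.exists_constituent_restrict
    (K.subgroupOf (Subgroup.centralizer (R : Set G))) ξ₀.2
  obtain ⟨φ, hφ⟩ := CT.exists_constituent_restrict
    (K.subgroupOf (Subgroup.centralizer (R : Set G))) ξ.2
  have hval : ∀ (ψ : IrrCharacter (Subgroup.centralizer (R : Set G)))
      (ζ : IrrCharacter (K.subgroupOf (Subgroup.centralizer (R : Set G)))),
      omegaBar M ψ e = 1 →
      classInner (fun n : K.subgroupOf (Subgroup.centralizer (R : Set G)) =>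
        (ψ : Subgroup.centralizer (R : Set G) → ℂ) n)
        (ζ : (K.subgroupOf (Subgroup.centralizer (R : Set G))) → ℂ) ≠ 0 →
      omegaBar M ζ (fixRes R (bBar M ({θ} : Set (IrrCharacter K)))) = 1 := fun ψ ζ h hc => by
    rw [← omegaBar_resZ_of_over hM hp' θ hinv hB hiff ψ hc]
    exact h
  have hinvφ : ∀ c : Subgroup.centralizer (R : Set G), conjIrr c φ₀ = φ₀ := fun c =>
    fixRes_unique hM hp' hR θ hinv (hval ξ₀ _ hξ₀ (by
      rw [classInner_conjIrr (CT.isClassFunction_of_isIrr ξ₀.2) c φ₀]; exact hφ₀))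
      (hval ξ₀ _ hξ₀ hφ₀)
  rw [fixRes_unique hM hp' hR θ hinv (hval ξ _ hξ1 hφ) (hval ξ₀ _ hξ₀ hφ₀)] at hφ
  have hN : ¬ p ∣ Nat.card (K.subgroupOf (Subgroup.centralizer (R : Set G))) := fun hd => hp'
    (hd.trans (Subgroup.card_comap_dvd_of_injective K _ Subtype.val_injective))
  exact block_eq_blockOf hf.1
    (mem_block_of_over hM hN φ₀ hinvφ hKL hrel hcent hf.1 hξ hφ hφ₀)

theorem map_eq_of_not_dvd [Fact p.Prime] {H H' : Type*} [Group H] [Finite H] [Group H'] [Finite H']
    (f : H →* H') {S L : Subgroup H} (hSL : S ≤ L) (hp : IsPGroup p (L.map f))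
    (h : ¬ p ∣ S.relIndex L) : S.map f = L.map f := by
  refine le_antisymm (Subgroup.map_mono hSL) (Subgroup.relIndex_eq_one.mp ?_)
  obtain ⟨m, hm⟩ := IsPGroup.iff_card.mp hp
  obtain ⟨j, -, hj⟩ := (Nat.dvd_prime_pow (Fact.out : p.Prime)).mp
    (hm ▸ (Subgroup.index_dvd_card ((S.map f).subgroupOf (L.map f))) :
      (S.map f).relIndex (L.map f) ∣ p ^ m)
  have hd : (S.map f).relIndex (L.map f) ∣ S.relIndex L := by
    have h1 := Subgroup.index_map_dvd (S.subgroupOf L) (f := f.subgroupMap L)
      (f.subgroupMap_surjective L)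
    have h2 : (S.subgroupOf L).map (f.subgroupMap L) = (S.map f).subgroupOf (L.map f) := by
      ext y
      constructor
      · rintro ⟨x, hx, rfl⟩; exact ⟨x, hx, rfl⟩
      · rintro ⟨x, hx, he⟩; exact ⟨⟨x, hSL hx⟩, hx, Subtype.ext he⟩
    rw [h2] at h1
    exact h1
  rw [hj] at hd ⊢
  rcases j with _ | j
  · rfl
  · exact absurd ((dvd_pow_self p j.succ_ne_zero).trans hd) h

theorem not_dvd_relIndex_of_card [Fact p.Prime] {H : Type*} [Group H] [Finite H] {S L : Subgroup H}
    (hSL : S ≤ L) (hcard : Nat.card S = p ^ (Nat.card L).factorization p) :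
    ¬ p ∣ S.relIndex L := by
  intro hd
  have h := (S.subgroupOf L).index_mul_card
  rw [Nat.card_congr (Subgroup.subgroupOfEquivOfLe hSL).toEquiv, hcard] at h
  refine Nat.pow_succ_factorization_not_dvd (Nat.card_pos (α := L)).ne' (Fact.out : p.Prime) ?_
  rw [pow_succ']
  exact (mul_dvd_mul_right hd _).trans h.dvd

/-- In a constrained group, the centralizer of a `p`-subgroup is constrained. -/
theorem mem_of_centralizes_fixed [Fact p.Prime] (hp' : ¬ p ∣ Nat.card K) {R L : Subgroup G}
    [L.Normal] (hR : IsPGroup p R) (hKL : K ≤ L)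
    (hLp : IsPGroup p (L.map (QuotientGroup.mk' K)))
    (hC : Subgroup.centralizer (L.map (QuotientGroup.mk' K) : Set (G ⧸ K)) ≤
      L.map (QuotientGroup.mk' K))
    {S : Subgroup (Subgroup.centralizer (R : Set G))}
    (hSL : S ≤ L.subgroupOf (Subgroup.centralizer (R : Set G)))
    (hcard : Nat.card S = p ^
      (Nat.card (L.subgroupOf (Subgroup.centralizer (R : Set G)))).factorization p)
    {c : Subgroup.centralizer (R : Set G)}
    (hc : c ∈ Subgroup.centralizer (S : Set (Subgroup.centralizer (R : Set G))))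
    (hreg : ¬ p ∣ orderOf c) : (c : G) ∈ L := by
  set π := QuotientGroup.mk' K with hπ
  set f := π.comp (Subgroup.centralizer (R : Set G)).subtype with hf
  have hmem : ∀ g : G, π g ∈ L.map π → g ∈ L := by
    rintro g ⟨l, hl, he⟩
    have := hKL (QuotientGroup.eq.mp he)
    simpa using L.mul_mem hl this
  have hSmap : S.map f = (L.subgroupOf (Subgroup.centralizer (R : Set G))).map f :=
    map_eq_of_not_dvd f hSL (hLp.to_le (by rintro _ ⟨x, hx, rfl⟩; exact ⟨x, hx, rfl⟩))
      (not_dvd_relIndex_of_card hSL hcard)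
  haveI : (L.map π).Normal := Subgroup.Normal.map inferInstance π (QuotientGroup.mk'_surjective K)
  have hN : (Nat.card K).Coprime p :=
    ((Fact.out : p.Prime).coprime_iff_not_dvd.mpr hp').symm
  refine hmem _ (hC (Subgroup.mem_centralizer_iff.mpr fun y hy =>
    (Components.pq_lemma (hR.map π) (x := π (c : G)) ?_ ?_ hLp ?_ ?_ ?_ y hy).symm.eq))
  · refine Nat.Coprime.coprime_dvd_left (orderOf_map_dvd π (c : G)) ?_
    rw [Subgroup.orderOf_coe]
    exact ((Fact.out : p.Prime).coprime_iff_not_dvd.mpr hreg).symm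
  · rintro _ ⟨r, hr, rfl⟩
    exact (Commute.map (Subgroup.mem_centralizer_iff.mp c.2 r hr).symm π)
  · rw [Subgroup.normalizer_eq_top]; exact le_top
  · rw [Subgroup.normalizer_eq_top]; trivial
  · intro r hr hrR
    have h1 : r ∈ Subgroup.centralizer ((R.map π : Subgroup (G ⧸ K)) : Set (G ⧸ K)) :=
      Subgroup.mem_centralizer_iff.mpr fun y hy => (hrR y hy).symm.eq
    rw [← Components.map_centralizer_of_coprime hN hR] at h1
    obtain ⟨g, hg, rfl⟩ := h1
    have h2 : π g ∈ S.map f := hSmap ▸ ⟨⟨g, hg⟩, hmem g hr, rfl⟩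
    obtain ⟨s, hs, he⟩ := h2
    rw [← he]
    exact (Commute.map (show Commute c s from (Subgroup.mem_centralizer_iff.mp hc s hs).symm) f)

end Cfsg.Agent.Blocks
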