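import Cfsg.Agent.Lib.Blocks.Height
import Cfsg.Agent.Lib.Blocks.DefectCount
import Cfsg.Agent.Lib.Blocks.NormalPSupport
import Cfsg.Agent.Lib.Blocks.CentralProduct
import Cfsg.Agent.Lib.Blocks.StabilizerDefect
import Cfsg.Agent.Lib.Blocks.FirstMain
import Cfsg.Agent.Lib.CT.Tables
import Cfsg.Agent.S0957
import Cfsg.Agent.S0971
import Mathlib.LinearAlgebra.Matrix.Rank

/-!
# Robinson's count of the blocks with a given normal defect group
-/

set_option autoImplicit false
set_option linter.unusedSectionVars false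

namespace Cfsg.Agent.Blocks.Robinson

open scoped ComplexConjugate Classical Pointwise

universe u v

/-- The rank of a square matrix is unchanged by a field extension. -/
theorem rank_map {K : Type*} {L : Type*} [Field K] [Field L] (φ : K →+* L) {ι : Type*} [Fintype ι]
    [DecidableEq ι] (A : Matrix ι ι K) : (A.map φ).rank = A.rank := by
  obtain ⟨V, U, e, hV, hU, h⟩ := A.exists_rank_normal_form
  have h' := congrArg (fun N : Matrix ι ι K => N.map φ) h
  simp only [Matrix.map_mul, ← Matrix.submatrix_map, Matrix.fromBlocks_map, Matrix.map_one _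
    φ.map_zero φ.map_one, Matrix.map_zero _ φ.map_zero] at h'
  have hV' : IsUnit (V.map φ).det :=
    (Matrix.isUnit_iff_isUnit_det _).mp (hV.map φ.mapMatrix)
  have hU' : IsUnit (U.map φ).det :=
    (Matrix.isUnit_iff_isUnit_det _).mp (hU.map φ.mapMatrix)
  rw [← Matrix.rank_mul_eq_right_of_isUnit_det _ (A.map φ) hV',
    ← Matrix.rank_mul_eq_left_of_isUnit_det _ (V.map φ * A.map φ) hU', h',
    Matrix.rank_submatrix, ← Matrix.diagonal_one, ← Matrix.diagonal_zero,
    Matrix.fromBlocks_diagonal, Matrix.rank_diagonal]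
  refine Eq.trans (Fintype.card_congr
    (Equiv.subtypeEquivRight (q := fun x => x ∈ Set.range Sum.inl) fun x => ?_)) ?_
  · cases x <;> simp
  · rw [Set.card_range_of_injective Sum.inl_injective, Fintype.card_fin]

variable {G : Type u} [Group G] [Fintype G] {p : ℕ} [hp : Fact p.Prime]
variable {M : Ideal AlgInt} [M.IsPrime] (hM : IsPModular p M)

include hM in
/-- The multiplicities of the trivial character on a `p`-subgroup, summed over a block. -/
theorem sum_deg_mult {B : Set (IrrCharacter G)} (hB : IsPBlock M B) (Q : Subgroup G) [Fintype Q]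
    (hQ : IsPGroup p Q) :
    Nat.card Q * ∑ χ : IrrCharacter G, (if χ ∈ B then CT.deg (χ : G → ℂ) *
      CT.mult (fun x : Q => (χ : G → ℂ) x) (fun _ => 1) else 0) =
    ∑ χ : IrrCharacter G, (if χ ∈ B then CT.deg (χ : G → ℂ) * CT.deg (χ : G → ℂ) else 0) := by
  have hs : ∑ s : Q, blockCoeff B (s : G) = blockCoeff B 1 := by
    rw [Finset.sum_eq_single (1 : Q) (fun s _ hs => ?_) (by simp), OneMemClass.coe_one]
    refine blockCoeff_block_eq_zero hM hB ?_
    obtain ⟨k, hk⟩ := (IsPGroup.iff_orderOf.mp hQ) s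
    rw [Subgroup.orderOf_coe, hk]
    refine dvd_pow_self p fun h0 => hs (orderOf_eq_one_iff.mp ?_)
    rw [hk, h0, pow_zero]
  simp only [blockCoeff, finsum_mem_irr, ← Finset.mul_sum] at hs
  have h := mul_left_cancel₀ (inv_ne_zero (CT.card_ne_zero (G := G))) hs
  rw [Finset.sum_comm] at h
  have h1 : ∀ χ : IrrCharacter G, ∑ s : Q, conj ((χ : G → ℂ) s) =
      (Nat.card Q : ℂ) * (CT.mult (fun x : Q => (χ : G → ℂ) x) (fun _ => 1) : ℂ) := by
    intro χ
    have e := CT.mult_spec (CT.isCharacter_restrict Q (CT.isCharacter_of_isIrr χ.2))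
      (CT.isCharacter_one (G := Q))
    rw [classInner, inv_mul_eq_iff_eq_mul₀ (Nat.cast_ne_zero.mpr Nat.card_pos.ne')] at e
    simp only [map_one, mul_one] at e
    rw [← map_sum, e, map_mul, map_natCast, map_natCast]
  have key : ((Nat.card Q * ∑ χ : IrrCharacter G, (if χ ∈ B then CT.deg (χ : G → ℂ) *
        CT.mult (fun x : Q => (χ : G → ℂ) x) (fun _ => 1) else 0) : ℕ) : ℂ) =
      ((∑ χ : IrrCharacter G,
        (if χ ∈ B then CT.deg (χ : G → ℂ) * CT.deg (χ : G → ℂ) else 0) : ℕ) : ℂ) := by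
    push_cast
    refine Eq.trans ?_ (h.trans (Finset.sum_congr rfl fun χ _ => ?_))
    · rw [Finset.mul_sum]
      refine Finset.sum_congr rfl fun χ _ => ?_
      by_cases hχ : χ ∈ B
      · simp only [if_pos hχ]
        rw [← Finset.mul_sum, h1, CT.deg_eq (CT.isCharacter_of_isIrr χ.2)]
        ring
      · simp [hχ]
    · by_cases hχ : χ ∈ B
      · simp only [if_pos hχ]
        rw [CT.deg_eq (CT.isCharacter_of_isIrr χ.2), map_natCast]
      · simp [hχ]
  exact_mod_cast key

/-- A block member is in the block of itself. -/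
theorem mem_blockOf_self_aux {H : Type u} [Group H] [Finite H] (η : IrrCharacter H) :
    SameBlock M (η : H → ℂ) (η : H → ℂ) :=
  self_mem_blockOf η

/-- Constituents of a character inherit its kernel. -/
theorem constituent_ker {H : Type u} [Group H] [Fintype H] {f : H → ℂ} (hf : IsCharacter H f)
    (ξ : IrrCharacter H) (hξ : classInner f (ξ : H → ℂ) ≠ 0) (x : H) (hx : f x = f 1) :
    (ξ : H → ℂ) x = (ξ : H → ℂ) 1 := by
  classical
  have e := congrFun (CT.character_eq_sum hf) x
  have e1 := congrFun (CT.character_eq_sum hf) 1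
  simp only [Finset.sum_apply, Pi.smul_apply, smul_eq_mul] at e e1
  have hb : ∀ ζ : IrrCharacter H, ‖(ζ : H → ℂ) x‖ ≤ (CT.deg (ζ : H → ℂ) : ℝ) := by
    intro ζ
    have h1 := CT.deg_eq (CT.isCharacter_of_isIrr ζ.2)
    obtain ⟨n, ρ, hρ⟩ := CT.isCharacter_of_isIrr ζ.2
    rw [← hρ] at h1 ⊢
    have h2 := CT.norm_char_le ρ x
    rw [Representation.char_one] at h1
    have h3 : Module.finrank ℂ (Fin n → ℂ) = CT.deg ρ.character := by exact_mod_cast h1
    exact h2.trans (le_of_eq (by rw [h3]))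
  have hle : ∀ ζ : IrrCharacter H, 0 ≤ (CT.mult f (ζ : H → ℂ) : ℝ) *
      ((CT.deg (ζ : H → ℂ) : ℝ) - ((ζ : H → ℂ) x).re) := fun ζ =>
    mul_nonneg (Nat.cast_nonneg _)
      (sub_nonneg.mpr ((Complex.re_le_norm _).trans (hb ζ)))
  have hzero : ∑ ζ : IrrCharacter H, (CT.mult f (ζ : H → ℂ) : ℝ) *
      ((CT.deg (ζ : H → ℂ) : ℝ) - ((ζ : H → ℂ) x).re) = 0 := by
    have h := congrArg Complex.re (hx.symm.trans e)
    rw [e1] at h
    simp only [Complex.re_sum, CT.deg_eq (CT.isCharacter_of_isIrr (Subtype.prop _))] at h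
    simp only [mul_sub, Finset.sum_sub_distrib, sub_eq_zero]
    simpa using h
  have h0 := (Finset.sum_eq_zero_iff_of_nonneg fun ζ _ => hle ζ).mp hzero ξ (Finset.mem_univ _)
  have hm : (CT.mult f (ξ : H → ℂ) : ℝ) ≠ 0 := by
    rw [Nat.cast_ne_zero]
    intro h
    exact hξ (by rw [CT.mult_spec hf (CT.isCharacter_of_isIrr ξ.2), h, Nat.cast_zero])
  have hre : ((ξ : H → ℂ) x).re = (CT.deg (ξ : H → ℂ) : ℝ) :=
    (sub_eq_zero.mp ((mul_eq_zero.mp h0).resolve_left hm)).symm
  have him : ((ξ : H → ℂ) x).im = 0 := by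
    have h1 := hb ξ
    have h2 := Complex.sq_norm ((ξ : H → ℂ) x)
    rw [Complex.normSq_apply, hre] at h2
    have h3 : ‖(ξ : H → ℂ) x‖ ^ 2 ≤ (CT.deg (ξ : H → ℂ) : ℝ) ^ 2 :=
      pow_le_pow_left₀ (norm_nonneg _) h1 2
    nlinarith [sq_nonneg ((ξ : H → ℂ) x).im]
  rw [CT.deg_eq (CT.isCharacter_of_isIrr ξ.2)]
  exact Complex.ext (by simpa using hre) (by simpa using him)

variable {D : Subgroup G} [hDn : D.Normal] (hD : IsPGroup p D)

/-- A normal subgroup lies in the kernel or has no fixed vector. -/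
theorem mult_normal [Fintype D] (χ : IrrCharacter G) :
    CT.mult (fun x : D => (χ : G → ℂ) x) (fun _ => 1) =
      if ∀ x ∈ D, (χ : G → ℂ) x = (χ : G → ℂ) 1 then CT.deg (χ : G → ℂ) else 0 := by
  have hres := CT.isCharacter_restrict D (CT.isCharacter_of_isIrr χ.2)
  have hsp := CT.mult_spec hres (CT.isCharacter_one (G := D))
  split_ifs with h
  · refine Nat.cast_injective (R := ℂ) ?_
    rw [← hsp, classInner, ← CT.deg_eq (CT.isCharacter_of_isIrr χ.2)]
    simp only [map_one, mul_one]
    rw [Finset.sum_congr rfl fun (x : D) _ => h x x.2, Finset.sum_const, Finset.card_univ,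
      nsmul_eq_mul, ← Nat.card_eq_fintype_card, inv_mul_cancel_left₀]
    exact Nat.cast_ne_zero.mpr Nat.card_pos.ne'
  · by_contra hne
    have hne' : classInner (fun x : D => (χ : G → ℂ) x) (fun _ => 1) ≠ 0 := by
      rw [hsp]; exact Nat.cast_ne_zero.mpr hne
    have e := CT.restrict_eq_smul_of_invariant D χ.2 CT.isIrrCharacter_one hne' fun g => rfl
    refine h fun x hx => ?_
    have e1 := congrFun e ⟨x, hx⟩
    have e2 := congrFun e 1
    simp only [Pi.smul_apply, smul_eq_mul, mul_one, OneMemClass.coe_one] at e1 e2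
    rw [e1, e2]

include hM hD in
/-- The squares of the degrees in a block with a normal defect group. -/
theorem exists_deg_sq {B : Set (IrrCharacter G)} (hB : IsPBlock M B)
    (hBD : IsDefectGroup p M B D) :
    ∃ a r t : ℕ, a ≠ 0 ∧ r ≠ 0 ∧ t ≠ 0 ∧
      ∑ χ : IrrCharacter G, (if χ ∈ B then CT.deg (χ : G → ℂ) * CT.deg (χ : G → ℂ) else 0) =
        Nat.card D * (a * r * (t * t)) ∧
      a.factorization p = r.factorization p ∧
      a.factorization p + t.factorization p + (Nat.card D).factorization p =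
        (Nat.card G).factorization p := by
  set H := D ⊔ Subgroup.centralizer (D : Set G) with hHdef
  haveI hHn : H.Normal := inferInstance
  letI : Fintype H := Fintype.ofFinite _
  letI : Fintype D := Fintype.ofFinite _
  have hDH : D ≤ H := le_sup_left
  have hCH : Subgroup.centralizer (D : Set G) ≤ H := le_sup_right
  have hHN : H ≤ Subgroup.normalizer (D : Set G) :=
    sup_le Subgroup.le_normalizer (Subgroup.centralizer_le_normalizer _)
  have hsupp : ∀ u ∉ H, blockCoeff B u = 0 := fun u hu =>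
    blockCoeff_eq_zero_of_notMem hM hD hB fun h => hu (hCH h)
  have h0 := sum_deg_mult hM hB D hD
  -- a constituent with `D` in the kernel
  obtain ⟨χ₀, hχ₀, hker₀⟩ : ∃ χ₀ ∈ B, ∀ x ∈ D, (χ₀ : G → ℂ) x = (χ₀ : G → ℂ) 1 := by
    by_contra hne
    push Not at hne
    obtain ⟨χ, hχ⟩ := block_nonempty hB
    rw [Finset.sum_eq_zero (s := Finset.univ) (f := fun χ : IrrCharacter G => if χ ∈ B then _ else 0)
      fun ψ _ => ?_, mul_zero] at h0
    · have := Finset.sum_eq_zero_iff.mp h0.symm χ (Finset.mem_univ _)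
      rw [if_pos hχ] at this
      exact (Nat.mul_pos (CT.deg_pos χ.2) (CT.deg_pos χ.2)).ne' this
    · by_cases hψ : ψ ∈ B
      · obtain ⟨x, hx, hx'⟩ := hne ψ hψ
        rw [if_pos hψ, mult_normal ψ, if_neg fun hall => hx' (hall x hx), mul_zero]
      · rw [if_neg hψ]
  obtain ⟨η, hη, hηD⟩ : ∃ η : IrrCharacter H,
      classInner (fun n : H => (χ₀ : G → ℂ) n) (η : H → ℂ) ≠ 0 ∧
      ∀ x : H, (x : G) ∈ D → (η : H → ℂ) x = (η : H → ℂ) 1 := by
    obtain ⟨η, hη⟩ := CT.exists_constituent_restrict H χ₀.2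
    exact ⟨η, hη, fun x hx => constituent_ker
      (CT.isCharacter_restrict H (CT.isCharacter_of_isIrr χ₀.2)) η hη x (hker₀ x hx)⟩
  set b := blockOf M (η : H → ℂ)
  have hb : IsPBlock M b := isPBlock_blockOf η
  have hηb : η ∈ b := self_mem_blockOf η
  -- `b` induces `B`
  have hind : IsInducedBlock M H b B :=
    (Cfsg.Agent.S0971.result p M hM D hD b hb).2 B hB ⟨χ₀, hχ₀, η, hηb, hη⟩
  have hbD : IsDefectGroup p M b (D.subgroupOf H) := defect_of_induced hM hDH hCH hHN hind hBD
  have htop : D.subgroupOf H ⊔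
      Subgroup.centralizer ((D.subgroupOf H : Subgroup H) : Set H) = ⊤ := by
    rw [eq_top_iff]
    rintro ⟨x, hx⟩ -
    obtain ⟨d, hd, c, hc, rfl⟩ : x ∈ (D : Set G) * (Subgroup.centralizer (D : Set G) : Set G) := by
      rw [← Subgroup.normal_mul]; exact hx
    rw [show (⟨d * c, hx⟩ : H) = ⟨d, hDH hd⟩ * ⟨c, hCH hc⟩ from rfl]
    refine Subgroup.mul_mem_sup (Subgroup.mem_subgroupOf.mpr hd) ?_
    rw [mem_centralizer_subgroupOf hDH]
    exact hc
  obtain ⟨⟨θ', hθ', huniq⟩, hdeg, -⟩ :=
    central_product_block hM (hD.of_equiv (Subgroup.subgroupOfEquivOfLe hDH).symm) htop hb hbD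
  have hηuniq : ∀ ξ ∈ b, (∀ x : H, (x : G) ∈ D → (ξ : H → ℂ) x = (ξ : H → ℂ) 1) → ξ = η :=
    fun ξ hξ h => (huniq ξ ⟨hξ, h⟩).trans (huniq η ⟨hηb, hηD⟩).symm
  have hconjD : ∀ (g : G) (ξ : IrrCharacter H),
      (∀ x : H, (x : G) ∈ D → (ξ : H → ℂ) x = (ξ : H → ℂ) 1) →
      ∀ x : H, (x : G) ∈ D → (conjIrr g ξ : H → ℂ) x = (conjIrr g ξ : H → ℂ) 1 := by
    intro g ξ h x hx
    rw [coe_conjIrr, CT.conjFun_eq_comp]
    simp only [map_one]
    exact h _ (by rw [MulAut.conjNormal_apply]; exact hDn.conj_mem _ hx g)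
  -- the stabilizer
  set T := CT.inertia H (η : H → ℂ)
  have hT : ¬ p ∣ H.relIndex T := by
    refine (stabilizer_defect hM hD rfl hb hbD hind T fun g => ?_).mp hBD
    constructor
    · intro hg
      refine ⟨by rw [Subgroup.normalizer_eq_top_iff.mpr hDn]; trivial, fun ξ hξ ξ' hξ' => ?_⟩
      have e : ξ = conjIrr g ξ' := Subtype.ext (funext fun n => by
        rw [coe_conjIrr, CT.conjFun_eq_comp]
        exact (hξ' n _ (MulAut.conjNormal_apply g n)).symm)
      have eη : conjIrr g η = η := Subtype.ext hg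
      have h1 : SameBlock M (η : H → ℂ) (conjIrr g ξ' : H → ℂ) := by rw [← e]; exact hξ
      refine (show SameBlock M (η : H → ℂ) (ξ' : H → ℂ) from ?_)
      have eη' : conjIrr g⁻¹ η = η := Subtype.ext (inv_mem hg)
      have h2 := sameBlock_compIrr (MulAut.conjNormal g⁻¹ : H ≃* H) h1
      have e3 : ∀ ζ : IrrCharacter H,
          compIrr (MulAut.conjNormal g⁻¹ : H ≃* H) ζ = conjIrr g⁻¹ ζ := fun ζ =>
        Subtype.ext (by rw [coe_conjIrr, CT.conjFun_eq_comp]; rfl)
      rw [e3, e3, eη', ← conjIrr_mul, mul_inv_cancel, conjIrr_one] at h2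
      exact h2
    · rintro ⟨-, hg⟩
      have hmem : conjIrr g⁻¹ η ∈ b := hg η hηb _ fun h h' hh' => by
        rw [coe_conjIrr, CT.conjFun_eq_comp]
        refine congrArg _ (Subtype.ext ?_)
        rw [MulAut.conjNormal_apply, hh']
        group
      have e := hηuniq _ hmem (hconjD _ η hηD)
      have : g⁻¹ ∈ T := congrArg Subtype.val e
      exact inv_inv g ▸ inv_mem this
  have hHT : H ≤ T := CT.le_inertia H (CT.isClassFunction_of_isIrr η.2)
  -- members of `B` with `D` in the kernel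
  have hover : ∀ χ : IrrCharacter G, (χ ∈ B ∧ ∀ x ∈ D, (χ : G → ℂ) x = (χ : G → ℂ) 1) ↔
      classInner (fun n : H => (χ : G → ℂ) n) (η : H → ℂ) ≠ 0 := by
    intro χ
    constructor
    · rintro ⟨hχ, hker⟩
      obtain ⟨ψ, hψ⟩ := CT.exists_constituent_restrict H χ.2
      obtain ⟨g, hg⟩ := covered_conj hB hb hχ₀ hηb hη hχ hψ
      have hcl := CT.clifford H χ.2 ψ.2 hψ
      have hcg : classInner (fun n : H => (χ : G → ℂ) n) (conjIrr g ψ : H → ℂ) ≠ 0 := by
        rw [coe_conjIrr, CT.classInner_restrict_conjFun H (CT.isClassFunction_of_isIrr χ.2)]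
        exact hψ
      suffices h : conjIrr g ψ = η by rwa [h] at hcg
      refine hηuniq _ hg fun x hx => ?_
      by_contra hne
      -- all constituents of a character with `D` in the kernel have `D` in the kernel
      have hres := CT.isCharacter_restrict H (CT.isCharacter_of_isIrr χ.2)
      exact hne (constituent_ker hres (conjIrr g ψ) hcg x (hker _ hx))
    · intro h
      refine ⟨mem_of_supported hB hsupp hχ₀ hη h (fun x => ?_), fun x hx => ?_⟩
      · exact mem_blockOf_self_aux η x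
      · have hcl := CT.clifford H χ.2 η.2 h
        have e1 := congrFun hcl ⟨x, hDH hx⟩
        have e2 := congrFun hcl 1
        simp only [Pi.smul_apply, Finset.sum_apply, OneMemClass.coe_one] at e1 e2
        rw [e1, e2]
        refine congrArg _ (Finset.sum_congr rfl fun ψ hψ => ?_)
        obtain ⟨g, rfl⟩ := (CT.mem_conjOrbit H).mp hψ
        exact hconjD g η hηD ⟨x, hDH hx⟩ hx
  -- Frobenius reciprocity
  have hfrob : ∑ χ : IrrCharacter G, CT.mult (fun n : H => (χ : G → ℂ) n) (η : H → ℂ) *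
      CT.deg (χ : G → ℂ) = H.index * CT.deg (η : H → ℂ) := by
    have e := congrFun (CT.classFunction_eq_sum
      (CT.isClassFunction_indFun (H := H) (η : H → ℂ))) 1
    rw [CT.indFun_one_eval, CT.deg_eq (CT.isCharacter_of_isIrr η.2)] at e
    simp only [Finset.sum_apply, Pi.smul_apply, smul_eq_mul] at e
    refine Nat.cast_injective (R := ℂ) ?_
    push_cast
    refine Eq.trans (Finset.sum_congr rfl fun χ _ => ?_) e.symm
    rw [CT.frobenius_reciprocity H _ (CT.isClassFunction_of_isIrr χ.2),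
      CT.classInner_comm_of_char (CT.isCharacter_of_isIrr η.2)
        (CT.isCharacter_restrict H (CT.isCharacter_of_isIrr χ.2)),
      CT.mult_spec (CT.isCharacter_restrict H (CT.isCharacter_of_isIrr χ.2))
        (CT.isCharacter_of_isIrr η.2), ← CT.deg_eq (CT.isCharacter_of_isIrr χ.2)]
  refine ⟨H.index, T.index, CT.deg (η : H → ℂ), Subgroup.index_ne_zero_of_finite,
    Subgroup.index_ne_zero_of_finite, (CT.deg_pos η.2).ne', ?_, ?_, ?_⟩
  · rw [← h0]
    congr 1
    calc ∑ χ : IrrCharacter G, (if χ ∈ B then CT.deg (χ : G → ℂ) *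
          CT.mult (fun x : D => (χ : G → ℂ) x) (fun _ => 1) else 0)
        = ∑ χ : IrrCharacter G, (T.index * CT.deg (η : H → ℂ)) *
          (CT.mult (fun n : H => (χ : G → ℂ) n) (η : H → ℂ) * CT.deg (χ : G → ℂ)) := by
          refine Finset.sum_congr rfl fun χ _ => ?_
          by_cases h : classInner (fun n : H => (χ : G → ℂ) n) (η : H → ℂ) ≠ 0
          · obtain ⟨h1, h2⟩ := (hover χ).mpr h
            rw [if_pos h1, mult_normal χ, if_pos h2]
            conv_lhs => arg 1; rw [CT.clifford_mult H χ.2 η.2 h]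
            ring
          · push Not at h
            have hm : CT.mult (fun n : H => (χ : G → ℂ) n) (η : H → ℂ) = 0 := by
              simp [CT.mult, h]
            rw [hm, zero_mul, mul_zero]
            split_ifs with h1
            · rw [mult_normal χ, if_neg fun h2 => (hover χ).mp ⟨h1, h2⟩ h, mul_zero]
            · rfl
      _ = H.index * T.index * (CT.deg (η : H → ℂ) * CT.deg (η : H → ℂ)) := by
          rw [← Finset.mul_sum, hfrob]; ring
  · rw [← Subgroup.relIndex_mul_index hHT, Nat.factorization_mul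
      (fun h => hT (by rw [Subgroup.relIndex] at h ⊢; rw [h]; exact dvd_zero p)) Subgroup.index_ne_zero_of_finite, Finsupp.add_apply,
      Nat.factorization_eq_zero_of_not_dvd hT, zero_add]
  · have e := hdeg η hηb hηD
    rw [show charDegree (η : H → ℂ) = CT.deg (η : H → ℂ) from rfl] at e
    have hc : Nat.card G = H.index * ((D.subgroupOf H).index * Nat.card D) := by
      rw [← card_subgroupOf hDH, Subgroup.index_mul_card, Subgroup.index_mul_card]
    rw [e, hc, Nat.factorization_mul Subgroup.index_ne_zero_of_finite (Nat.mul_ne_zero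
      Subgroup.index_ne_zero_of_finite Nat.card_pos.ne'), Nat.factorization_mul
      Subgroup.index_ne_zero_of_finite Nat.card_pos.ne', Finsupp.add_apply, Finsupp.add_apply]
    ring

end Cfsg.Agent.Blocks.Robinson
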