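import Cfsg.Agent.Lib.Blocks.PrincipalHeight
import Cfsg.Agent.Lib.Blocks.Robinson
import Cfsg.Agent.Lib.Blocks.CoverLies
import Cfsg.Agent.Lib.OddLocal.PLen
import Cfsg.Agent.Lib.CT.Clifford
import Cfsg.Agent.Lib.CT.Kernel

/-!
# `p`-length one and irreducibility of the principal block on the Sylow normalizer

If every character of the principal block restricts irreducibly to `N_G(P)`, then a member with
a nonzero `P`-fixed vector has `P`, hence its normal closure `N₀`, in its kernel.  So the trivial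
character is the only member of the principal block of `N₀` with a `P`-fixed vector; the weighted
sum of these multiplicities is `(∑ χ(1)²) / |P|`, and twisting gives that every height zero member
is linear, so that `N₀` has a normal `p`-complement.
-/

set_option linter.all false

namespace Cfsg.Agent.Blocks.IrrNormalizer

open Cfsg Cfsg.Agent
open scoped ComplexConjugate Pointwise

universe u

variable {G : Type u} [Group G] [Fintype G] {p : ℕ} [hp : Fact p.Prime]
variable {M : Ideal AlgInt} [M.IsPrime]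

/-- In an irreducible character of a group, a fixed vector of a normal subgroup means that the
subgroup is in the kernel. -/
theorem apply_eq_of_fixed (N : Subgroup G) [N.Normal] [Fintype N] {χ : G → ℂ}
    (hχ : IsIrrCharacter G χ)
    (h : classInner (fun n : N => χ n) (CT.trivIrr N : N → ℂ) ≠ 0) (n : N) :
    χ (n : G) = χ 1 := by
  have hinv : ∀ g, CT.conjFun N g (CT.trivIrr N : N → ℂ) = (CT.trivIrr N : N → ℂ) := fun g => by
    funext m; simp [CT.conjFun]
  have hs := CT.restrict_eq_smul_of_invariant N hχ (CT.trivIrr N).2 h hinv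
  have e1 := congrFun hs n
  have e2 := congrFun hs 1
  simp only [Pi.smul_apply, CT.trivIrr_apply, smul_eq_mul, OneMemClass.coe_one] at e1 e2
  exact e1.trans e2.symm

theorem normalClosure_le_ker {χ : G → ℂ} (hχ : IsIrrCharacter G χ) (P : Subgroup G)
    (h : ∀ x ∈ P, χ x = χ 1) {g : G} (hg : g ∈ Subgroup.normalClosure (P : Set G)) : χ g = χ 1 := by
  have hc := CT.isCharacter_of_isIrr hχ
  haveI : (CT.kerChar χ).Normal := ⟨fun a ha g => by
    rw [CT.mem_kerChar_iff hc] at ha ⊢
    rw [CT.isClassFunction_of_isIrr hχ a g, ha]⟩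
  refine (CT.mem_kerChar_iff hc).mp (Subgroup.normalClosure_le_normal ?_ hg)
  exact fun x hx => (CT.mem_kerChar_iff hc).mpr (h x hx)

omit hp in
/-- The hypothesis on the Sylow subgroup: its fixed vectors only occur in the trivial character
of the normal closure. -/
theorem eq_triv_of_fixed (hM : IsPModular p M) (P : Sylow p G)
    [Fintype ↥(Subgroup.normalizer ((P : Subgroup G) : Set G))]
    (H : ∀ χ ∈ principalBlock M G, IsIrrCharacter ↥(Subgroup.normalizer ((P : Subgroup G) : Set G))
      (fun n : ↥(Subgroup.normalizer ((P : Subgroup G) : Set G)) => (χ : G → ℂ) n))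
    (N₀ : Subgroup G) [N₀.Normal] [Fintype N₀] (hN₀ : N₀ = Subgroup.normalClosure (P : Set G))
    (Q : Subgroup N₀) [Fintype Q] (hQ : Q = (P : Subgroup G).subgroupOf N₀)
    {θ : IrrCharacter N₀} (hθ : θ ∈ principalBlock M N₀)
    (hne : classInner (fun q : Q => (θ : N₀ → ℂ) q) (CT.trivIrr Q : Q → ℂ) ≠ 0) :
    θ = CT.trivIrr N₀ := by
  classical
  have hle : (P : Subgroup G) ≤ N₀ := by
    rw [hN₀]; exact Subgroup.subset_normalClosure
  obtain ⟨χ, hχ, hover⟩ := exists_over_of_cover hM (isPBlock_principalBlock (M := M) (G := N₀))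
    (isPBlock_principalBlock (M := M) (G := G)) ⟨CT.trivIrr G, trivIrr_mem_principalBlock,
      CT.trivIrr N₀, trivIrr_mem_principalBlock, by
        have h1 : classInner (fun _ : N₀ => (1 : ℂ)) (fun _ : N₀ => (1 : ℂ)) = 1 :=
          CT.irr_inner_self (CT.trivIrr N₀).2
        show classInner (fun _ : N₀ => (1 : ℂ)) (fun _ : N₀ => (1 : ℂ)) ≠ 0
        rw [h1]; exact one_ne_zero⟩ hθ
  set N := Subgroup.normalizer ((P : Subgroup G) : Set G) with hN
  have hψ := H χ hχ
  let P' : Subgroup N := (P : Subgroup G).subgroupOf N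
  haveI : P'.Normal := Subgroup.normal_in_normalizer
  haveI := Fintype.ofFinite P'
  have hres : IsCharacter N₀ (fun n : N₀ => (χ : G → ℂ) n) :=
    CT.isCharacter_restrict N₀ (CT.isCharacter_of_isIrr χ.2)
  -- a fixed vector of `P` in `χ`
  have hfix : classInner (fun x : P' => (χ : G → ℂ) ((x : N) : G)) (CT.trivIrr P' : P' → ℂ) ≠ 0 := by
    have hresQ : IsCharacter Q (fun q : Q => (χ : G → ℂ) ((q : N₀) : G)) :=
      CT.isCharacter_restrict Q hres
    have key : classInner (fun q : Q => (χ : G → ℂ) ((q : N₀) : G)) (CT.trivIrr Q : Q → ℂ) =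
        classInner (fun x : P' => (χ : G → ℂ) ((x : N) : G)) (CT.trivIrr P' : P' → ℂ) := by
      subst hQ
      let e : ↥((P : Subgroup G).subgroupOf N₀) ≃* ↥P' :=
        (Subgroup.subgroupOfEquivOfLe hle).trans
          (Subgroup.subgroupOfEquivOfLe (Subgroup.le_normalizer)).symm
      simp only [classInner, CT.trivIrr_apply]
      rw [Nat.card_congr e.toEquiv]
      congr 1
      exact Fintype.sum_equiv e.toEquiv _ _ fun q => rfl
    rw [← key]
    intro h0
    have hdec : (fun q : Q => (χ : G → ℂ) ((q : N₀) : G)) =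
        ∑ φ : IrrCharacter N₀, (CT.mult (fun n : N₀ => (χ : G → ℂ) n) φ : ℂ) •
          (fun q : Q => (φ : N₀ → ℂ) q) := by
      funext q
      rw [Finset.sum_apply]
      have := congrFun (CT.character_eq_sum hres) (q : N₀)
      simpa [Finset.sum_apply] using this
    rw [hdec, CT.classInner_sum_left] at h0
    simp only [CT.classInner_smul_left] at h0
    have hterm : ∀ φ : IrrCharacter N₀, ∃ m : ℕ,
        (CT.mult (fun n : N₀ => (χ : G → ℂ) n) φ : ℂ) *
          classInner (fun q : Q => (φ : N₀ → ℂ) q) (CT.trivIrr Q : Q → ℂ) = (m : ℂ) := fun φ => by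
      refine ⟨CT.mult (fun n : N₀ => (χ : G → ℂ) n) φ *
        CT.mult (fun q : Q => (φ : N₀ → ℂ) q) (CT.trivIrr Q : Q → ℂ), ?_⟩
      rw [Nat.cast_mul, ← CT.mult_spec (CT.isCharacter_restrict Q (CT.isCharacter_of_isIrr φ.2))
        (CT.isCharacter_of_isIrr (CT.trivIrr Q).2)]
    choose m hm using hterm
    rw [Finset.sum_congr rfl fun φ _ => hm φ, ← Nat.cast_sum, Nat.cast_eq_zero,
      Finset.sum_eq_zero_iff] at h0
    have := hm θ
    rw [h0 θ (Finset.mem_univ _), Nat.cast_zero, mul_eq_zero] at this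
    rcases this with h1 | h1
    · refine hover ?_
      rw [CT.mult_spec hres (CT.isCharacter_of_isIrr θ.2)]
      exact h1
    · exact hne h1
  have hker : ∀ n : N₀, (χ : G → ℂ) (n : G) = (χ : G → ℂ) 1 := fun n => by
    refine normalClosure_le_ker χ.2 (P : Subgroup G) (fun x hx => ?_) (hN₀ ▸ n.2)
    exact apply_eq_of_fixed P' hψ hfix ⟨⟨x, Subgroup.le_normalizer hx⟩, hx⟩
  by_contra hne1
  refine hover ?_
  have h0 : classInner (CT.trivIrr N₀ : N₀ → ℂ) (θ : N₀ → ℂ) = 0 :=
    CT.irr_inner_of_ne (CT.trivIrr N₀).2 θ.2 fun e => hne1 (Subtype.ext e.symm)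
  have e : (fun n : N₀ => (χ : G → ℂ) n) = (χ : G → ℂ) 1 • (CT.trivIrr N₀ : N₀ → ℂ) := by
    funext n; simp [hker n]
  rw [e, CT.classInner_smul_left, h0, mul_zero]

/-- If the trivial character is the only member of the principal block with a fixed vector on a
Sylow subgroup, then every height zero member is linear. -/
theorem degree_one_of_fixed (hM : IsPModular p M) (Q : Sylow p G) [Fintype (Q : Subgroup G)]
    (h : ∀ θ ∈ principalBlock M G,
      classInner (fun q : (Q : Subgroup G) => (θ : G → ℂ) q) (CT.trivIrr (Q : Subgroup G) : _ → ℂ)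
        ≠ 0 → θ = CT.trivIrr G)
    {χ : IrrCharacter G} (hχ : χ ∈ principalBlock M G) (hd : ¬ p ∣ charDegree (χ : G → ℂ)) :
    charDegree (χ : G → ℂ) = 1 := by
  classical
  set S : Subgroup G := (Q : Subgroup G) with hS
  -- the weighted restriction to the Sylow subgroup is supported at the identity
  let W : S → ℂ := fun s => ∑ θ : IrrCharacter G,
    if θ ∈ principalBlock M G then (θ : G → ℂ) 1 * (θ : G → ℂ) s else 0
  have hW : ∀ s : S, s ≠ 1 → W s = 0 := by
    intro s hs
    have hz : p ∣ orderOf ((s : G)⁻¹) := by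
      obtain ⟨k, hk⟩ := (IsPGroup.iff_orderOf.mp Q.2) s
      rw [orderOf_inv, Subgroup.orderOf_coe, hk]
      refine dvd_pow_self p fun h0 => hs (orderOf_eq_one_iff.mp ?_)
      rw [hk, h0, pow_zero]
    have h0 := blockCoeff_block_eq_zero hM (isPBlock_principalBlock (M := M) (G := G)) hz
    simp only [blockCoeff, finsum_mem_irr] at h0
    have h1 := (mul_eq_zero.mp h0).resolve_left (inv_ne_zero (CT.card_ne_zero (G := G)))
    refine Eq.trans (Finset.sum_congr rfl fun θ _ => ?_) h1
    split_ifs with hθ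
    · rw [CT.char_inv_eq_conj (CT.isCharacter_of_isIrr θ.2), Complex.conj_conj]
    · rfl
  have hlin : ∀ μ : S → ℂ, IsIrrCharacter S μ → μ 1 = 1 →
      classInner W μ = classInner W (CT.trivIrr S : S → ℂ) := by
    intro μ hμ h1
    have key : ∀ f : S → ℂ, f 1 = 1 → classInner W f = (Nat.card S : ℂ)⁻¹ * W 1 := fun f hf => by
      rw [classInner, Finset.sum_eq_single (1 : S) (fun s _ hs => by rw [hW s hs, zero_mul])
        (by simp), hf, map_one, mul_one]
    rw [key μ h1, key _ (by simp)]
  have hexp : ∀ f : S → ℂ, IsCharacter S f → classInner W f =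
      ((∑ θ : IrrCharacter G, if θ ∈ principalBlock M G then CT.deg (θ : G → ℂ) *
        CT.mult (fun s : S => (θ : G → ℂ) s) f else 0 : ℕ) : ℂ) := by
    intro f hf
    have e : W = ∑ θ : IrrCharacter G, (if θ ∈ principalBlock M G then (θ : G → ℂ) 1 else 0) •
        (fun s : S => (θ : G → ℂ) s) := by
      funext s
      simp only [W, Finset.sum_apply, Pi.smul_apply, smul_eq_mul]
      refine Finset.sum_congr rfl fun θ _ => ?_
      split_ifs <;> simp
    rw [e, CT.classInner_sum_left, Nat.cast_sum]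
    refine Finset.sum_congr rfl fun θ _ => ?_
    rw [CT.classInner_smul_left]
    split_ifs with hθ
    · rw [Nat.cast_mul, ← CT.deg_eq (CT.isCharacter_of_isIrr θ.2),
        ← CT.mult_spec (CT.isCharacter_restrict S (CT.isCharacter_of_isIrr θ.2)) hf]
    · simp
  have htriv : classInner W (CT.trivIrr S : S → ℂ) = ((1 : ℕ) : ℂ) := by
    rw [hexp _ (CT.isCharacter_of_isIrr (CT.trivIrr S).2), Finset.sum_eq_single (CT.trivIrr G)]
    · rw [if_pos trivIrr_mem_principalBlock]
      have h1 : CT.deg ((CT.trivIrr G : IrrCharacter G) : G → ℂ) = 1 := by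
        have := CT.deg_eq (CT.isCharacter_of_isIrr (CT.trivIrr G).2)
        simp only [CT.trivIrr_apply] at this ⊢
        exact_mod_cast this.symm
      have h2 := CT.mult_spec (CT.isCharacter_restrict S (CT.isCharacter_of_isIrr (CT.trivIrr G).2))
        (CT.isCharacter_of_isIrr (CT.trivIrr S).2)
      have h3 : classInner (fun s : S => ((CT.trivIrr G : IrrCharacter G) : G → ℂ) s)
          (CT.trivIrr S : S → ℂ) = 1 := CT.irr_inner_self (CT.trivIrr S).2
      rw [h3] at h2
      rw [h1, one_mul]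
      exact_mod_cast h2.symm
    · intro θ _ hne
      split_ifs with hθ
      · have : classInner (fun s : S => (θ : G → ℂ) s) (CT.trivIrr S : S → ℂ) = 0 := by
          by_contra h0
          exact hne (h θ hθ (by convert h0 using 2))
        have h2 := CT.mult_spec (CT.isCharacter_restrict S (CT.isCharacter_of_isIrr θ.2))
          (CT.isCharacter_of_isIrr (CT.trivIrr S).2)
        rw [this] at h2
        have h3 : CT.mult (fun s : S => (θ : G → ℂ) s) (CT.trivIrr S : S → ℂ) = 0 := by
          exact_mod_cast h2.symm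
        rw [h3, mul_zero]
      · rfl
    · simp
  -- a linear constituent of the restriction
  have hres := CT.isCharacter_restrict S (CT.isCharacter_of_isIrr χ.2)
  obtain ⟨μ, hμ1, hμ⟩ : ∃ μ : IrrCharacter S, CT.deg (μ : S → ℂ) = 1 ∧
      CT.mult (fun s : S => (χ : G → ℂ) s) (μ : S → ℂ) ≠ 0 := by
    by_contra hcon
    push Not at hcon
    refine hd ?_
    have e := congrFun (CT.character_eq_sum hres) 1
    rw [Finset.sum_apply] at e
    have e' : (CT.deg (χ : G → ℂ) : ℂ) = ((∑ μ : IrrCharacter S,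
        CT.mult (fun s : S => (χ : G → ℂ) s) (μ : S → ℂ) * CT.deg (μ : S → ℂ) : ℕ) : ℂ) := by
      rw [← CT.deg_eq (CT.isCharacter_of_isIrr χ.2), Nat.cast_sum]
      refine e.trans (Finset.sum_congr rfl fun μ _ => ?_)
      rw [Pi.smul_apply, smul_eq_mul, Nat.cast_mul, CT.deg_eq (CT.isCharacter_of_isIrr μ.2)]
    have e'' := Nat.cast_injective e'
    rw [show charDegree (χ : G → ℂ) = CT.deg (χ : G → ℂ) from by
      have a := charDegree_cast (G := G) χ
      rw [CT.deg_eq (CT.isCharacter_of_isIrr χ.2)] at a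
      exact_mod_cast a, e'']
    refine Finset.dvd_sum fun μ _ => ?_
    rcases eq_or_ne (CT.mult (fun s : S => (χ : G → ℂ) s) (μ : S → ℂ)) 0 with h0 | h0
    · simp [h0]
    · refine dvd_mul_of_dvd_right ?_ _
      obtain ⟨a, ha⟩ := IsPGroup.iff_card.mp Q.2
      have hdvd := Glauberman.deg_dvd_card (G := S) μ
      rw [ha] at hdvd
      obtain ⟨j, -, hj⟩ := (Nat.dvd_prime_pow hp.out).mp hdvd
      rw [hj]
      refine dvd_pow_self p fun hj0 => ?_
      exact h0 (hcon μ (by rw [hj, hj0, pow_zero]))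
  have hμone : (μ : S → ℂ) 1 = 1 := by
    rw [CT.deg_eq (CT.isCharacter_of_isIrr μ.2), hμ1, Nat.cast_one]
  have h1 := hlin (μ : S → ℂ) μ.2 hμone
  rw [hexp _ (CT.isCharacter_of_isIrr μ.2), htriv, Nat.cast_inj] at h1
  have h2 : CT.deg (χ : G → ℂ) * CT.mult (fun s : S => (χ : G → ℂ) s) (μ : S → ℂ) ≤ 1 := by
    refine le_trans ?_ h1.le
    refine le_trans ?_ (Finset.single_le_sum (fun _ _ => Nat.zero_le _) (Finset.mem_univ χ))
    rw [if_pos hχ]
  have h3 : 0 < CT.deg (χ : G → ℂ) := by
    rcases Nat.eq_zero_or_pos (CT.deg (χ : G → ℂ)) with h0 | h0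
    · exfalso
      refine CT.irr_one_ne_zero χ.2 ?_
      rw [CT.deg_eq (CT.isCharacter_of_isIrr χ.2), h0, Nat.cast_zero]
    · exact h0
  have h4 : CT.deg (χ : G → ℂ) ≤ 1 :=
    le_trans (Nat.le_mul_of_pos_right _ (Nat.pos_of_ne_zero hμ)) h2
  have h5 := charDegree_cast (G := G) χ
  rw [CT.deg_eq (CT.isCharacter_of_isIrr χ.2), show CT.deg (χ : G → ℂ) = 1 by omega] at h5
  exact_mod_cast h5.symm

omit [M.IsPrime] in
theorem pLengthLE_one (hM : IsPModular p M) (P : Sylow p G)
    (H : ∀ χ ∈ principalBlock M G, IsIrrCharacter ↥(Subgroup.normalizer ((P : Subgroup G) : Set G))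
      (fun n : ↥(Subgroup.normalizer ((P : Subgroup G) : Set G)) => (χ : G → ℂ) n)) :
    PLengthLE p 1 G := by
  classical
  haveI := hM.2.1.isPrime
  set N₀ := Subgroup.normalClosure ((P : Subgroup G) : Set G) with hN₀
  haveI := Fintype.ofFinite N₀
  haveI := Fintype.ofFinite ↥(Subgroup.normalizer ((P : Subgroup G) : Set G))
  have hle : (P : Subgroup G) ≤ N₀ := Subgroup.subset_normalClosure
  let Q : Sylow p N₀ := P.subtype hle
  haveI := Fintype.ofFinite (Q : Subgroup N₀)
  have hdeg : ∀ χ ∈ principalBlock M N₀, ¬ p ∣ charDegree (χ : N₀ → ℂ) →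
      charDegree (χ : N₀ → ℂ) = 1 := fun χ hχ hd =>
    degree_one_of_fixed hM Q (fun θ hθ h0 => eq_triv_of_fixed hM P H N₀ hN₀ (Q : Subgroup N₀)
      rfl hθ h0) hχ hd
  have hnd := not_dvd_card_residual hM (G := N₀) hdeg
  obtain ⟨k, hk⟩ := Transfer.exists_index_pResidual_eq_pow (G := N₀) (p := p)
  haveI : (pResidual p N₀).Characteristic := Transfer.pResidual_characteristic N₀ p
  have hA : ((pResidual p N₀).map N₀.subtype).Normal := inferInstance
  refine Coprime23.pLengthLE_one_of_series ((pResidual p N₀).map N₀.subtype) N₀ ?_ ⟨k, ?_⟩ ?_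
  · rw [Subgroup.card_map_of_injective N₀.subtype_injective]
    exact (hM.1.coprime_iff_not_dvd.mpr hnd).symm
  · rw [← hk]
    show (((pResidual p N₀).map N₀.subtype).subgroupOf N₀).index = (pResidual p N₀).index
    rw [Subgroup.subgroupOf, Subgroup.comap_map_eq_self_of_injective N₀.subtype_injective]
  · refine (Nat.Coprime.coprime_dvd_left (Subgroup.index_dvd_of_le hle) ?_)
    exact (hM.1.coprime_iff_not_dvd.mpr P.not_dvd_index).symm

omit hp in
/-- For `p`-length one every member of the principal block is irreducible on the normalizer. -/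
theorem isIrr_restrict [Fact p.Prime] (hM : IsPModular p M) (hpl : PLengthLE p 1 G) (P : Sylow p G)
    {χ : IrrCharacter G} (hχ : χ ∈ principalBlock M G)
    [Fintype ↥(Subgroup.normalizer ((P : Subgroup G) : Set G))] :
    IsIrrCharacter ↥(Subgroup.normalizer ((P : Subgroup G) : Set G))
      (fun n : ↥(Subgroup.normalizer ((P : Subgroup G) : Set G)) => (χ : G → ℂ) n) := by
  classical
  obtain ⟨A, B, hA, hB, hc, -, -, -, hS⟩ := OddLocal.exists_series_of_pLengthLE_one hpl
  haveI := Fintype.ofFinite A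
  set N := Subgroup.normalizer ((P : Subgroup G) : Set G) with hN
  have hle : (P : Subgroup G) ≤ B := by rw [hS P]; exact le_sup_right
  have hsup : N ⊔ B = ⊤ := Sylow.normalizer_sup_eq_top' P hle
  have htop : A ⊔ N = ⊤ := by
    refine top_le_iff.mp (hsup ▸ sup_le le_sup_right ?_)
    rw [hS P]
    exact sup_le le_sup_left (le_sup_of_le_right Subgroup.le_normalizer)
  have hnA : ¬ p ∣ Nat.card A := hM.1.coprime_iff_not_dvd.mp hc.symm
  have hker : ∀ a ∈ A, ∀ x, (χ : G → ℂ) (a * x) = (χ : G → ℂ) x := by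
    intro a ha x
    have h1 : a ∈ CT.kerChar (χ : G → ℂ) := (CT.mem_kerChar_iff (CT.isCharacter_of_isIrr χ.2)).mpr
      (apply_eq_one_of_mem_principalBlock hM hnA hχ ha)
    have h2 := CT.isClassFunction_of_isIrr χ.2 (a * x) a⁻¹
    rw [inv_inv, inv_mul_cancel_left] at h2
    exact h2.symm.trans (h1 x)
  refine CT.isIrr_of_inner_self (CT.isCharacter_restrict N (CT.isCharacter_of_isIrr χ.2)) ?_
  have hG := CT.irr_inner_self χ.2
  rw [classInner, inv_mul_eq_iff_eq_mul₀ (Nat.cast_ne_zero.mpr Nat.card_pos.ne'), mul_one] at hG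
  rw [classInner, inv_mul_eq_iff_eq_mul₀ (Nat.cast_ne_zero.mpr Nat.card_pos.ne'), mul_one]
  let f : A × N → G := fun q => (q.1 : G) * q.2
  have hfib : ∀ g : G, (Finset.univ.filter fun q => f q = g).card = Nat.card ↥(A ⊓ N) := by
    intro g
    obtain ⟨a, ha, n, hn, rfl⟩ : ∃ a ∈ A, ∃ n ∈ N, a * n = g := by
      have : g ∈ ((A : Set G) * (N : Set G)) := by
        rw [← Subgroup.normal_mul, htop]; exact Set.mem_univ g
      exact Set.mem_mul.mp this
    rw [Nat.card_eq_fintype_card, ← Fintype.card_subtype]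
    refine Fintype.card_congr
      { toFun := fun q => ⟨a⁻¹ * (q.1.1 : G), Subgroup.mem_inf.mpr ⟨A.mul_mem (A.inv_mem ha) q.1.1.2, ?_⟩⟩
        invFun := fun c => ⟨(⟨a * c, mul_mem ha (Subgroup.mem_inf.mp c.2).1⟩, ⟨(c : G)⁻¹ * n, mul_mem (inv_mem (Subgroup.mem_inf.mp c.2).2) hn⟩),
          ?_⟩
        left_inv := fun q => ?_
        right_inv := fun c => ?_ }
    · have hq : (q.1.1 : G) * q.1.2 = a * n := q.2
      have : a⁻¹ * (q.1.1 : G) = n * (q.1.2 : G)⁻¹ := by
        rw [eq_mul_inv_iff_mul_eq, mul_assoc, hq, inv_mul_cancel_left]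
      rw [this]
      exact N.mul_mem hn (N.inv_mem q.1.2.2)
    · show a * (c : G) * ((c : G)⁻¹ * n) = a * n
      group
    · have hq : (q.1.1 : G) * q.1.2 = a * n := q.2
      refine Subtype.ext (Prod.ext (Subtype.ext (by simp)) (Subtype.ext ?_))
      show (a⁻¹ * (q.1.1 : G))⁻¹ * n = q.1.2
      rw [mul_inv_rev, inv_inv, mul_assoc, inv_mul_eq_iff_eq_mul]
      exact hq.symm
    · exact Subtype.ext (by simp)
  set T : N → ℂ := fun n => (χ : G → ℂ) n * conj ((χ : G → ℂ) n) with hT
  have hsum : (Nat.card A : ℂ) * ∑ n : N, T n = (Nat.card ↥(A ⊓ N) : ℂ) * (Nat.card G : ℂ) := by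
    rw [← hG, Finset.mul_sum, Finset.mul_sum]
    have e1 : ∑ q : A × N, (χ : G → ℂ) (f q) * conj ((χ : G → ℂ) (f q)) =
        ∑ n : N, (Nat.card A : ℂ) * T n := by
      rw [Fintype.sum_prod_type_right]
      refine Finset.sum_congr rfl fun n _ => ?_
      rw [Finset.sum_congr rfl fun a _ => by rw [show f (a, n) = (a : G) * n from rfl,
        hker _ a.2], Finset.sum_const, Finset.card_univ, nsmul_eq_mul, Nat.card_eq_fintype_card]
    rw [← e1, ← Finset.sum_fiberwise Finset.univ f]
    refine Finset.sum_congr rfl fun g _ => ?_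
    rw [Finset.sum_congr rfl fun q hq => by rw [(Finset.mem_filter.mp hq).2], Finset.sum_const,
      hfib, nsmul_eq_mul]
  have hcard : Nat.card A * Nat.card N = Nat.card ↥(A ⊓ N) * Nat.card G := by
    have := Finset.card_eq_sum_card_fiberwise (s := (Finset.univ : Finset (A × N)))
      (t := Finset.univ) (f := f) (fun x _ => Finset.mem_univ _)
    rw [Finset.sum_congr rfl fun g _ => hfib g, Finset.sum_const, smul_eq_mul, Finset.card_univ,
      Finset.card_univ, Fintype.card_prod] at this
    simp only [Nat.card_eq_fintype_card] at this ⊢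
    rw [this, mul_comm]
  refine mul_left_cancel₀ (Nat.cast_ne_zero.mpr (Nat.card_pos (α := A)).ne') ?_
  rw [hsum, ← Nat.cast_mul, ← Nat.cast_mul, hcard]

end Cfsg.Agent.Blocks.IrrNormalizer
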