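import Cfsg.Agent.Lib.Blocks.IsoBlocks
import Cfsg.Agent.Lib.Blocks.Knorr

/-!
# The restriction bijection between principal blocks

The scaled orbit sums give a representation of `G/N` commuting with `N`; a character of the
principal block makes it trivial, so the restriction is irreducible and determines the character.
-/

namespace Cfsg.Agent.Blocks.IsoBlocks

open MonoidAlgebra BPairs
open scoped ComplexConjugate

universe u

variable {G : Type u} [Group G] [Finite G] {p : ℕ} {M : Ideal AlgInt} [M.IsPrime]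
  {N : Subgroup G} [N.Normal] {D : ℕ} {ρ : Representation ℂ G (Fin D → ℂ)} [hρ : ρ.IsIrreducible]

set_option linter.unusedSectionVars false

variable (P : Sylow p G) (hM : IsPModular p M) (hidx : ¬ p ∣ N.index)
  (hsup : N ⊔ Subgroup.centralizer ((P : Subgroup G) : Set G) = ⊤)
  (hψ : (⟨ρ.character, CT.isIrrCharacter_character ρ⟩ : IrrCharacter G) ∈ principalBlock M G)

include hM hidx hsup hψ in
/-- The scaled orbit sums as a representation of the quotient commuting with `N`. -/
theorem exists_quotient_rep [Fintype N] (sec : G ⧸ N → G)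
    (hsec : ∀ σ, sec σ ∈ Subgroup.centralizer ((P : Subgroup G) : Set G))
    (hsecσ : ∀ σ, (sec σ : G ⧸ N) = σ) :
    ∃ (π : Representation ℂ (G ⧸ N) (Fin D → ℂ)) (r : G ⧸ N → Loc M),
      (∀ σ, red M (r σ) = 1 ∧ opL M ρ (zN M N (sec σ)) =
        (((orbit N (sec σ)).card : ℂ) * (r σ : ℂ)) • π σ) := by
  classical
  haveI := Fintype.ofFinite G
  haveI := Fintype.ofFinite (G ⧸ N)
  haveI := Fact.mk hM.1
  have hD : 0 < D := by simpa using CT.finrank_pos_of_irreducible ρ
  haveI : Nonempty (Fin D) := ⟨⟨0, hD⟩⟩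
  obtain ⟨U, hU⟩ : ∃ U : G ⧸ N → Module.End ℂ (Fin D → ℂ), U = fun σ =>
      (((orbit N (sec σ)).card : ℂ))⁻¹ • opL M ρ (zN M N (sec σ)) := ⟨_, rfl⟩
  have hk : ∀ σ, ((orbit N (sec σ)).card : ℂ) ≠ 0 := fun σ =>
    Nat.cast_ne_zero.mpr fun h => isUnit_card_orbit (N := N) hM P hidx (hsec σ) (by
      rw [h, Nat.cast_zero, map_zero])
  have hUu : ∀ σ, IsUnit (U σ) := fun σ => by
    obtain ⟨w, hw⟩ := isUnit_opL_zN P hM hidx hψ (hsec σ)
    refine isUnit_iff_exists.mpr ⟨((orbit N (sec σ)).card : ℂ) • ((w⁻¹ :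
      (Module.End ℂ (Fin D → ℂ))ˣ) : Module.End ℂ (Fin D → ℂ)), ?_, ?_⟩
    · simp only [hU]
      rw [smul_mul_smul_comm, inv_mul_cancel₀ (hk σ), ← hw, Units.mul_inv, one_smul]
    · simp only [hU]
      rw [smul_mul_smul_comm, mul_inv_cancel₀ (hk σ), ← hw, Units.inv_mul, one_smul]
  have hmul : ∀ σ τ, ∃ α : Loc M, U σ * U τ = (α : ℂ) • U (σ * τ) ∧ red M α = 1 := by
    intro σ τ
    have hc : InCoset N (zN M N (sec σ) * zN M N (sec τ)) (sec (σ * τ) : G ⧸ N) := by
      have h := (inCoset_zN (M := M) (N := N) (sec σ)).mul (inCoset_zN (M := M) (N := N) (sec τ))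
      rwa [hsecσ, hsecσ, ← hsecσ (σ * τ)] at h
    obtain ⟨l, hl, hlr⟩ := exists_scalar_coset P hM hidx hsup hψ
      (isInv_mul (isInv_zN _) (isInv_zN _)) (hsec (σ * τ)) hc
    rw [map_mul, map_mul, aug_zN, aug_zN] at hlr
    obtain ⟨v, hv⟩ := (IsLocalRing.residue_ne_zero_iff_isUnit
      (((orbit N (sec σ)).card : Loc M) * ((orbit N (sec τ)).card : Loc M))).mp (by
        show red M _ ≠ 0
        rw [map_mul]
        exact mul_ne_zero (isUnit_card_orbit (N := N) hM P hidx (hsec σ))
          (isUnit_card_orbit (N := N) hM P hidx (hsec τ)))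
    refine ⟨l * ((v⁻¹ : (Loc M)ˣ) : Loc M), ?_, ?_⟩
    · have hvi : ((orbit N (sec σ)).card : ℂ) * ((orbit N (sec τ)).card : ℂ) *
          (((v⁻¹ : (Loc M)ˣ) : Loc M) : ℂ) = 1 := by
        have h1 := congrArg Subtype.val (Units.mul_inv v)
        rw [MulMemClass.coe_mul, hv] at h1
        simpa using h1
      simp only [hU]
      rw [smul_mul_smul_comm, ← map_mul, hl, MulMemClass.coe_mul, smul_smul, smul_smul, smul_smul]
      congr 1
      rw [show (((v⁻¹ : (Loc M)ˣ) : Loc M) : ℂ) =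
        (((orbit N (sec σ)).card : ℂ))⁻¹ * (((orbit N (sec τ)).card : ℂ))⁻¹ by
          rw [← mul_inv, eq_inv_of_mul_eq_one_right hvi]]
      ring
    · have h1 := congrArg (red M) (Units.mul_inv v)
      rw [map_mul, hv, map_mul, map_one] at h1
      rw [map_mul, hlr]
      exact h1
  choose α hα hαr using hmul
  have hcoc : ∀ a b c, α a b * α (a * b) c = α b c * α a (b * c) := by
    intro a b c
    have h1 : U a * U b * U c = ((α a b * α (a * b) c : Loc M) : ℂ) • U (a * b * c) := by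
      rw [hα, smul_mul_assoc, hα, smul_smul, MulMemClass.coe_mul]
    have h2 : U a * U b * U c = ((α b c * α a (b * c) : Loc M) : ℂ) • U (a * b * c) := by
      rw [mul_assoc, hα, mul_smul_comm, hα, smul_smul, MulMemClass.coe_mul, mul_assoc a b c]
    exact Subtype.ext (smul_left_injective ℂ (hUu (a * b * c)).ne_zero (h1.symm.trans h2))
  obtain ⟨μ, hμ⟩ : ∃ μ : G ⧸ N → Loc M, μ = fun σ => ∏ τ, α σ τ := ⟨_, rfl⟩
  have hbk : ∀ a b, α a b ^ Fintype.card (G ⧸ N) * μ (a * b) = μ b * μ a := by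
    intro a b
    simp only [hμ]
    rw [← Finset.card_univ, ← Finset.prod_const, ← Finset.prod_mul_distrib,
      Finset.prod_congr rfl fun c _ => hcoc a b c, Finset.prod_mul_distrib]
    congr 1
    exact Fintype.prod_equiv (Equiv.mulLeft b) _ _ fun c => rfl
  have hn : ¬ p ∣ Fintype.card (G ⧸ N) := by
    rw [← Nat.card_eq_fintype_card]; exact hidx
  have hμr : ∀ σ, red M (μ σ) = 1 := fun σ => by
    simp only [hμ, map_prod, hαr, Finset.prod_const_one]
  choose r hr hrr using fun σ => exists_root_one hM hn (hμr σ)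
  have hkey : ∀ a b, α a b * r (a * b) = r a * r b := by
    intro a b
    obtain ⟨v, hv⟩ := (IsLocalRing.residue_ne_zero_iff_isUnit (r a * r b)).mp (by
      show red M _ ≠ 0; rw [map_mul, hrr, hrr, one_mul]; exact one_ne_zero)
    have h1 : α a b * r (a * b) * ((v⁻¹ : (Loc M)ˣ) : Loc M) = 1 := by
      refine eq_one_of_pow_eq_one hM hn ?_ ?_
      · rw [mul_pow, mul_pow, hr, hbk, ← hr b, ← hr a, ← mul_pow, mul_comm (r b), ← hv, ← mul_pow,
          Units.mul_inv, one_pow]
      · have h2 := congrArg (red M) (Units.mul_inv v)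
        rw [map_mul, hv, map_mul, hrr, hrr, one_mul, one_mul, map_one] at h2
        rw [map_mul, map_mul, hαr, hrr, h2, one_mul, one_mul]
    calc α a b * r (a * b) = α a b * r (a * b) * ((v⁻¹ : (Loc M)ˣ) : Loc M) * (v : Loc M) := by
          rw [mul_assoc, Units.inv_mul, mul_one]
      _ = _ := by rw [h1, one_mul, hv]
  have hr0 : ∀ σ, (r σ : ℂ) ≠ 0 := fun σ h => by
    have h' : r σ = 0 := Subtype.ext h
    have := hrr σ
    rw [h', map_zero] at this
    exact zero_ne_one this
  obtain ⟨π₀, hπ₀⟩ : ∃ π₀ : G ⧸ N → Module.End ℂ (Fin D → ℂ),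
      π₀ = fun σ => ((r σ : ℂ))⁻¹ • U σ := ⟨_, rfl⟩
  have hπmul : ∀ a b, π₀ (a * b) = π₀ a * π₀ b := by
    intro a b
    simp only [hπ₀]
    rw [smul_mul_smul_comm, hα, smul_smul]
    congr 1
    have h := congrArg Subtype.val (hkey a b)
    simp only [MulMemClass.coe_mul] at h
    have h1 := hr0 a
    have h2 := hr0 b
    have h3 := hr0 (a * b)
    field_simp
    linear_combination -h
  have hπu : IsUnit (π₀ 1) := by
    simp only [hπ₀]
    exact IsUnit.smul (Units.mk0 _ (inv_ne_zero (hr0 1))) (hUu 1)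
  have hπ1 : π₀ 1 = 1 := by
    refine hπu.mul_left_cancel ?_
    rw [← hπmul, mul_one, mul_one]
  refine ⟨{ toFun := π₀, map_one' := hπ1, map_mul' := hπmul }, r, fun σ => ⟨hrr σ, ?_⟩⟩
  show _ = _ • π₀ σ
  simp only [hπ₀, hU, smul_smul]
  rw [show ((orbit N (sec σ)).card : ℂ) * (r σ : ℂ) * ((r σ : ℂ)⁻¹ *
    ((orbit N (sec σ)).card : ℂ)⁻¹) = 1 by
      have h1 := hk σ
      have h2 := hr0 σ
      field_simp, one_smul]

include hM hidx hsup hψ in
/-- In the principal block the orbit sums act as scalars. -/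
theorem exists_scalar_zN [Fintype N] {c : G}
    (hc : c ∈ Subgroup.centralizer ((P : Subgroup G) : Set G)) :
    ∃ l : Loc M, opL M ρ (zN M N c) = (l : ℂ) • 1 ∧ red M l = ((orbit N c).card : Res M) := by
  classical
  haveI := Fintype.ofFinite G
  haveI := Fintype.ofFinite (G ⧸ N)
  haveI := Fact.mk hM.1
  haveI := charP_res hM
  choose sec hsec hsecσ using exists_section (N := N) P hsup
  obtain ⟨π, r, hπ⟩ := exists_quotient_rep P hM hidx hsup hψ sec hsec hsecσ
  have hk : ∀ σ, ((orbit N (sec σ)).card : ℂ) ≠ 0 := fun σ =>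
    Nat.cast_ne_zero.mpr fun h => isUnit_card_orbit (N := N) hM P hidx (hsec σ) (by
      rw [h, Nat.cast_zero, map_zero])
  have hr0 : ∀ σ, (r σ : ℂ) ≠ 0 := fun σ h => by
    have h' : r σ = 0 := Subtype.ext h
    have := (hπ σ).1
    rw [h', map_zero] at this
    exact zero_ne_one this
  have hπeq : ∀ σ, π σ = (((orbit N (sec σ)).card : ℂ) * (r σ : ℂ))⁻¹ •
      opL M ρ (zN M N (sec σ)) := fun σ => by
    rw [(hπ σ).2, smul_smul, inv_mul_cancel₀ (mul_ne_zero (hk σ) (hr0 σ)), one_smul]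
  -- invariant elements of a coset
  have hcoset : ∀ (τ : G ⧸ N) (a : MonoidAlgebra (Loc M) G), IsInv N a → InCoset N a τ →
      ∃ μ : Loc M, opL M ρ a = (μ : ℂ) • π τ ∧ red M μ = red M (aug M G a) := by
    intro τ a ha haτ
    obtain ⟨l, hl, hlr⟩ := exists_scalar_coset P hM hidx hsup hψ ha (hsec τ) (by rw [hsecσ]; exact haτ)
    refine ⟨l * r τ, ?_, by rw [map_mul, (hπ τ).1, mul_one, hlr]⟩
    rw [hl, (hπ τ).2, smul_smul, smul_smul, MulMemClass.coe_mul]
    congr 1
    have h1 := hk τ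
    field_simp
  obtain ⟨n, hn⟩ : ∃ n, n = Fintype.card (G ⧸ N) := ⟨_, rfl⟩
  have hnp : ¬ p ∣ n := by rw [hn, ← Nat.card_eq_fintype_card]; exact hidx
  obtain ⟨E, hE⟩ : ∃ E : Module.End ℂ (Fin D → ℂ), E = (n : ℂ)⁻¹ • ∑ σ, π σ := ⟨_, rfl⟩
  have hEπ : ∀ τ, π τ * E = E ∧ E * π τ = E := by
    intro τ
    rw [hE, mul_smul_comm, smul_mul_assoc, Finset.mul_sum, Finset.sum_mul]
    constructor <;> congr 1
    · exact Fintype.sum_equiv (Equiv.mulLeft τ) _ _ fun σ => (map_mul π τ σ).symm
    · exact Fintype.sum_equiv (Equiv.mulRight τ) _ _ fun σ => (map_mul π σ τ).symm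
  have hn0 : (n : ℂ) ≠ 0 := Nat.cast_ne_zero.mpr (hn ▸ Fintype.card_ne_zero)
  have hEE : E * E = E := by
    conv_lhs => arg 1; rw [hE]
    rw [smul_mul_assoc, Finset.sum_mul, Finset.sum_congr rfl fun σ _ => (hEπ σ).1,
      Finset.sum_const, Finset.card_univ, ← hn, ← Nat.cast_smul_eq_nsmul ℂ, smul_smul,
      inv_mul_cancel₀ hn0, one_smul]
  have hπN : ∀ σ (x : MonoidAlgebra (Loc M) G), InCoset N x 1 → Commute (π σ) (opL M ρ x) := by
    intro σ x hx
    rw [hπeq σ]
    exact ((commute_of_supp (isInv_zN _) hx.supp).map (opL M ρ)).smul_left _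
  have hπz : ∀ c' ∈ Subgroup.centralizer ((P : Subgroup G) : Set G),
      ∃ μ : ℂ, opL M ρ (zN M N c') = μ • π (c' : G ⧸ N) := fun c' _ => by
    obtain ⟨μ, hμ, -⟩ := hcoset (c' : G ⧸ N) _ (isInv_zN c') (inCoset_zN c')
    exact ⟨_, hμ⟩
  obtain ⟨e, he⟩ := scalar_of_commute P hM hidx hsup hψ E
    (fun x hx => hE ▸ (Commute.sum_left _ _ _ fun σ _ => hπN σ x hx).smul_left _)
    (fun c' hc' => by
      obtain ⟨μ, hμ⟩ := hπz c' hc'
      rw [hμ]
      exact (show Commute E (π (c' : G ⧸ N)) from (hEπ _).2.trans (hEπ _).1.symm).smul_right _)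
  -- the average is not zero
  have hE0 : E ≠ 0 := by
    intro h0
    have hsum : ∑ σ, π σ = 0 := by
      rw [hE] at h0
      exact (smul_eq_zero.mp h0).resolve_left (inv_ne_zero hn0)
    obtain ⟨Z, hZ⟩ : ∃ Z : MonoidAlgebra (Loc M) G, ∀ v, Z.coeff v = (∑ σ : G ⧸ N,
        algebraMap (Loc M) (MonoidAlgebra (Loc M) G) 1 * zN M N (sec σ)).coeff v :=
      ⟨_, fun v => rfl⟩
    have hvne : ∀ σ, red M ((orbit N (sec σ)).card : Loc M) ≠ 0 :=
      fun σ => isUnit_card_orbit hM P hidx (hsec σ)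
    choose w hw using fun σ => (IsLocalRing.residue_ne_zero_iff_isUnit
      ((orbit N (sec σ)).card : Loc M)).mp (hvne σ)
    obtain ⟨y, hy⟩ : ∃ y : G ⧸ N → MonoidAlgebra (Loc M) G, y = fun σ =>
        (((w σ)⁻¹ : (Loc M)ˣ) : Loc M) • zN M N (sec σ) := ⟨_, rfl⟩
    have hyI : ∀ σ, IsInv N (y σ) := fun σ => by
      simp only [hy]
      exact isInv_iff_commute.mpr fun q hq =>
        (isInv_iff_commute.mp (isInv_zN (sec σ)) q hq).smul_left _
    have hyC : ∀ σ, InCoset N (y σ) σ := fun σ g hg => by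
      simp only [hy, coeff_smul, Finsupp.smul_apply, smul_eq_mul]
      rw [inCoset_zN (sec σ) g (by rwa [hsecσ]), mul_zero]
    have hyA : ∀ σ, red M (aug M G (y σ)) = 1 := fun σ => by
      simp only [hy, map_smul, smul_eq_mul, aug_zN]
      rw [← hw σ, Units.inv_mul, map_one]
    have hfix : ∀ σ, ∀ m ∈ N, conjA m (y σ) = y σ := fun σ => isInv_iff_conjA.mp (hyI σ)
    have hcq : ∀ (g g' : G) σ, (g : G ⧸ N) = g' → conjA g (y σ) = conjA g' (y σ) := by
      intro g g' σ h
      conv_lhs => rw [← hfix σ (g⁻¹ * g') (QuotientGroup.eq.mp h)]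
      rw [conjA_conjA, mul_inv_cancel_left]
    obtain ⟨a, ha⟩ : ∃ a : G ⧸ N → MonoidAlgebra (Loc M) G, a = fun τ =>
        ∑ q : G ⧸ N, conjA q.out (y (q⁻¹ * τ * q)) := ⟨_, rfl⟩
    have haI : ∀ τ, IsInv N (a τ) := fun τ => isInv_iff_conjA.mpr fun m hm => by
      simp only [ha, conjA_sum, conjA_conjA]
      refine Finset.sum_congr rfl fun q _ => hcq _ _ _ ?_
      rw [QuotientGroup.mk_mul, (QuotientGroup.eq_one_iff m).mpr hm, one_mul]
    have haC : ∀ τ, InCoset N (a τ) τ := fun τ g hg => by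
      simp only [ha, coeff_sum, Finsupp.finsetSum_apply]
      refine Finset.sum_eq_zero fun q _ => ?_
      refine inCoset_conjA (hyC _) q.out g ?_
      rw [QuotientGroup.out_eq']
      exact fun h => hg (h.trans (by group))
    have haA : ∀ τ, red M (aug M G (a τ)) = (n : Res M) := fun τ => by
      simp only [ha, map_sum]
      rw [Finset.sum_congr rfl fun q _ => show red M (aug M G (conjA q.out (y (q⁻¹ * τ * q)))) = 1 by
        simp only [conjA, map_mul, aug_single, one_mul, mul_one, hyA]]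
      simp [hn]
    have hcen : (∑ τ, a τ) ∈ Subring.center (MonoidAlgebra (Loc M) G) := by
      rw [mem_center_iff_isClassFn]
      intro v g
      have h : conjA g⁻¹ (∑ τ, a τ) = ∑ τ, a τ := by
        simp only [ha, conjA_sum, conjA_conjA]
        rw [Finset.sum_comm]
        conv_rhs => rw [Finset.sum_comm]
        refine Fintype.sum_equiv (Equiv.mulLeft ((g⁻¹ : G) : G ⧸ N)) _ _ fun q => ?_
        refine Fintype.sum_equiv (MulAut.conj ((g⁻¹ : G) : G ⧸ N)).toEquiv _ _ fun τ => ?_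
        simp only [Equiv.coe_mulLeft, MulEquiv.toEquiv_eq_coe, EquivLike.coe_coe, MulAut.conj_apply]
        rw [show (((g⁻¹ : G) : G ⧸ N) * q)⁻¹ * (((g⁻¹ : G) : G ⧸ N) * τ *
          ((g⁻¹ : G) : G ⧸ N)⁻¹) * (((g⁻¹ : G) : G ⧸ N) * q) = q⁻¹ * τ * q by group]
        refine hcq _ _ _ ?_
        rw [QuotientGroup.mk_mul, QuotientGroup.out_eq', QuotientGroup.out_eq']
      conv_rhs => rw [← h]
      simp only [coeff_conjA, inv_inv]
    obtain ⟨ω, hω⟩ : ∃ ω : Loc M, ω = omegaL M
        (⟨ρ.character, CT.isIrrCharacter_character ρ⟩ : IrrCharacter G) ⟨_, hcen⟩ := ⟨_, rfl⟩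
    have hωr : red M ω = (n : Res M) * n := by
      rw [hω, ← red_omegaL_eq_of_sameBlock
        ((mem_block_iff isPBlock_principalBlock trivIrr_mem_principalBlock).mp hψ),
        show omegaL M (CT.trivIrr G) ⟨_, hcen⟩ = aug M G (∑ τ, a τ) from Subtype.ext (omega_triv _),
        map_sum, map_sum, Finset.sum_congr rfl fun τ _ => haA τ, Finset.sum_const, Finset.card_univ,
        ← hn, nsmul_eq_mul]
    choose μ hμ hμr using fun τ => hcoset τ (a τ) (haI τ) (haC τ)
    have hscal : opL M ρ (∑ τ, a τ) = (ω : ℂ) • 1 := by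
      have h := CT.eq_scalar_of_commute ρ (opL M ρ (∑ τ, a τ)) fun g => by
        rw [← opL_single (M := M) (ρ := ρ) g, ← map_mul, ← map_mul,
          Subring.mem_center_iff.mp hcen]
      rw [h]
      congr 1
      rw [hω, coe_omegaL, omega, ← Representation.char_one ρ]
      exact congrArg (· / ρ.character 1) (trace_op ρ _)
    obtain ⟨f, hf⟩ : ∃ f : MonoidAlgebra ℂ (G ⧸ N),
        f = ∑ τ, single τ ((μ τ : ℂ) - n) - (ω : ℂ) • 1 := ⟨_, rfl⟩
    have hf0 : π.asAlgebraHom f = 0 := by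
      rw [hf, map_sub, map_sum, map_smul, map_one, ← hscal, map_sum,
        Finset.sum_congr rfl fun τ _ => hμ τ, ← Finset.sum_sub_distrib]
      simp only [Representation.asAlgebraHom_single]
      rw [Finset.sum_congr rfl fun τ _ => show ((μ τ : ℂ) - (n : ℂ)) • π τ - (μ τ : ℂ) • π τ =
        -((n : ℂ) • π τ) by
          refine LinearMap.ext fun v => ?_
          simp only [LinearMap.sub_apply, LinearMap.neg_apply, LinearMap.smul_apply]
          rw [_root_.sub_smul]; abel, Finset.sum_neg_distrib, ← Finset.smul_sum, hsum,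
        smul_zero, neg_zero]
    have hχ : IsCharacter (G ⧸ N) π.character := CT.isCharacter_character π
    obtain ⟨χ, hχne⟩ := CT.exists_constituent hχ fun h => by
      have h1 := congrFun h 1
      rw [Representation.char_one, Pi.zero_apply, Nat.cast_eq_zero] at h1
      exact (CT.finrank_pos_of_irreducible ρ).ne' h1
    have hev : ev π.character (idemC {χ} * f) =
        (CT.mult π.character (χ : G ⧸ N → ℂ) : ℂ) * ev (χ : G ⧸ N → ℂ) f := by
      conv_lhs => rw [CT.character_eq_sum hχ, ev_sum_smul_fun]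
      rw [Finset.sum_eq_single χ]
      · rw [ev_idemC_mul, if_pos (Set.mem_singleton χ)]
      · intro φ _ hne
        rw [ev_idemC_mul, if_neg (fun h => hne (Set.mem_singleton_iff.mp h)), mul_zero]
      · exact fun h => absurd (Finset.mem_univ _) h
    have htr : ev π.character (idemC {χ} * f) = 0 := by
      have hgen : ∀ x : MonoidAlgebra ℂ (G ⧸ N),
          LinearMap.trace ℂ _ (π.asAlgebraHom x) = ev π.character x := by
        intro x
        induction x using MonoidAlgebra.induction_linear with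
        | zero => simp
        | add x y hx hy => rw [map_add, map_add, hx, hy, ev_add]
        | single m r => simp [Representation.character]
      rw [← hgen, map_mul, hf0, mul_zero, map_zero]
    rw [hev] at htr
    have hmne : (CT.mult π.character (χ : G ⧸ N → ℂ) : ℂ) ≠ 0 := by
      rwa [← CT.mult_spec hχ (CT.isCharacter_of_isIrr χ.2)]
    have hzero := (mul_eq_zero.mp htr).resolve_left hmne
    obtain ⟨V, hV⟩ : ∃ V : G ⧸ N → Loc M, ∀ τ, (V τ : ℂ) = (χ : G ⧸ N → ℂ) τ :=
      ⟨fun τ => ⟨_, integral_mem_loc (isIntegral_irr χ.2 τ)⟩, fun τ => rfl⟩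
    have hL : ∑ τ, (μ τ - (n : Loc M)) * V τ - ω * V 1 = 0 := by
      apply Subtype.ext
      rw [hf, ev_sub, ev_sum, ev_smul, ev_one] at hzero
      simp only [ev_single] at hzero
      simpa [hV] using hzero
    have hred := congrArg (red M) hL
    simp only [map_sub, map_sum, map_mul, map_natCast, hμr, haA, sub_self, zero_mul,
      Finset.sum_const_zero, hωr, map_zero, zero_sub, neg_eq_zero] at hred
    have hnne : (n : Res M) ≠ 0 := mt (CharP.cast_eq_zero_iff (Res M) p n).mp hnp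
    refine mul_ne_zero (mul_ne_zero hnne hnne) ?_ hred
    rw [show V 1 = (charDegree (χ : G ⧸ N → ℂ) : Loc M) from Subtype.ext (by
      rw [hV, charDegree_cast]; simp), map_natCast, Ne, CharP.cast_eq_zero_iff (Res M) p]
    intro hd
    exact hidx (hd.trans (charDegree_dvd_card χ))
  have he1 : e = 1 := by
    have h := hEE
    rw [he, smul_mul_smul_comm, mul_one] at h
    have hee : e * e = e := smul_left_injective ℂ
      (show (1 : Module.End ℂ (Fin D → ℂ)) ≠ 0 from fun h1 => hE0 (by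
        rw [he, h1, smul_zero])) h
    rcases mul_eq_zero.mp (show e * (e - 1) = 0 by rw [mul_sub, hee, mul_one, sub_self]) with h1 | h1
    · exact absurd (by rw [he, h1, zero_smul]) hE0
    · exact sub_eq_zero.mp h1
  have hπ1 : ∀ σ, π σ = 1 := fun σ => by
    have h := (hEπ σ).1
    rwa [he, he1, one_smul, mul_one] at h
  obtain ⟨μ, hμ, hμr⟩ := hcoset (c : G ⧸ N) _ (isInv_zN c) (inCoset_zN c)
  refine ⟨μ, by rw [hμ, hπ1], ?_⟩
  rw [hμr, aug_zN, map_natCast]

include hM hidx hsup hψ in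
/-- The restriction to `N` is irreducible. -/
theorem isIrr_restrict [Fintype N] : IsIrrCharacter N fun n : N => ρ.character n := by
  classical
  haveI := Fintype.ofFinite G
  obtain ⟨σ, hσ⟩ : ∃ σ : Representation ℂ N (Fin D → ℂ), σ = ρ.comp N.subtype := ⟨_, rfl⟩
  have hchar : σ.character = fun n : N => ρ.character n := by subst hσ; rfl
  rw [← hchar]
  refine CT.isIrr_of_inner_self (CT.isCharacter_character σ) ?_
  rw [CT.classInner_char_char σ σ]
  have hD : 0 < D := by simpa using CT.finrank_pos_of_irreducible ρ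
  haveI : Nonempty (Fin D) := ⟨⟨0, hD⟩⟩
  rw [Nat.cast_eq_one]
  refine (finrank_eq_one_iff_of_nonzero' (Representation.IntertwiningMap.id σ) ?_).mpr fun f => ?_
  · intro h
    obtain ⟨v, hv⟩ := exists_ne (0 : Fin D → ℂ)
    exact hv (by simpa using congrArg (fun g : Representation.IntertwiningMap σ σ => g.toLinearMap v) h)
  · obtain ⟨l, hl⟩ := scalar_of_commute P hM hidx hsup hψ f.toLinearMap
      (fun x hx => by
        rw [← embH_resH hx.supp]
        generalize resH N x = y
        induction y using MonoidAlgebra.induction_linear with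
        | zero => rw [map_zero, map_zero]; exact Commute.zero_right _
        | add a b ha hb => rw [map_add, map_add]; exact ha.add_right hb
        | single m r =>
          have hcomm : Commute f.toLinearMap (ρ (m : G)) := by
            refine LinearMap.ext fun v => ?_
            have h2 := LinearMap.congr_fun (f.isIntertwining' m) v
            subst hσ
            exact h2
          rw [embH_single, show (single (m : G) r : MonoidAlgebra (Loc M) G) =
            r • single (m : G) 1 by simp]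
          simp only [opL, RingHom.comp_apply, AlgHom.toRingHom_eq_coe, RingHom.coe_coe,
            Algebra.smul_def, map_mul]
          refine Commute.mul_right ?_ ?_
          · simp only [MonoidAlgebra.coe_algebraMap, Function.comp_apply, toC, mapRingHom_single,
              Representation.asAlgebraHom_single, map_one]
            exact (Commute.one_right _).smul_right _
          · simpa [toC] using hcomm)
      (fun c hc => by
        obtain ⟨l, hl, -⟩ := exists_scalar_zN P hM hidx hsup hψ hc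
        rw [hl]
        exact (Commute.one_right _).smul_right _)
    exact ⟨l, Representation.IntertwiningMap.ext (hl.symm ▸ rfl)⟩

include hM hidx hsup hψ in
/-- The value of the character on the coset of `c`. -/
theorem value_eq_scalar [Fintype N] {c g : G}
    (hg : (g : G ⧸ N) = (c : G ⧸ N)) {l : ℂ} (hl : opL M ρ (zN M N c) = l • 1)
    {θ : IrrCharacter N} (hθ : ∀ n : N, ρ.character (n : G) = (θ : N → ℂ) n)
    {a : Loc M} (ha : (a : ℂ) = omega (θ : N → ℂ) (toC M N (resH N (zN M N c * zN M N c⁻¹)))) :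
    (a : ℂ) * ρ.character g =
      l * ev (θ : N → ℂ) (toC M N (resH N (zN M N c⁻¹ * single g 1))) := by
  haveI := Fintype.ofFinite G
  have hy : InCoset N (zN M N c⁻¹ * single g 1) 1 := by
    have h := (inCoset_zN (M := M) (N := N) c⁻¹).mul (InCoset.single (g := g) (r := 1))
    rwa [hg, QuotientGroup.mk_inv, inv_mul_cancel] at h
  have hz : InCoset N (zN M N c * zN M N c⁻¹) 1 := by
    simpa using (inCoset_zN (M := M) (N := N) c).mul (inCoset_zN (M := M) (N := N) c⁻¹)
  have hzi := isInv_mul (isInv_zN (M := M) (N := N) c) (isInv_zN (M := M) (N := N) c⁻¹)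
  have hθne : classInner (fun n : N => ρ.character n) (θ : N → ℂ) ≠ 0 := by
    rw [funext hθ, CT.irr_inner_self θ.2]; exact one_ne_zero
  have e1 := opL_eq_omega P hM hidx hsup hψ hzi hz hθne
  rw [coe_omegaL] at e1
  have e2 : opL M ρ (zN M N c * zN M N c⁻¹) * opL M ρ (single g 1) =
      l • opL M ρ (zN M N c⁻¹ * single g 1) := by
    rw [map_mul, hl, smul_mul_assoc, one_mul, smul_mul_assoc, ← map_mul]
  rw [e1, ← ha, smul_mul_assoc, one_mul] at e2
  have h3 := congrArg (LinearMap.trace ℂ (Fin D → ℂ)) e2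
  rw [map_smul, map_smul, opL_single, smul_eq_mul, smul_eq_mul] at h3
  rw [show ρ.character g = LinearMap.trace ℂ _ (ρ g) from rfl, h3]
  congr 1
  have h4 : ∀ x : MonoidAlgebra (Loc M) G, LinearMap.trace ℂ _ (opL M ρ x) =
      ev ρ.character (toC M G x) := fun x => trace_op ρ _
  rw [h4, ← embH_resH hy.supp, show toC M G (embH N (resH N (zN M N c⁻¹ * single g 1))) =
    embH N (toC M N (resH N (zN M N c⁻¹ * single g 1))) from map_embH (Loc M).subtype N _, ev_embH]
  rw [funext hθ, resH_embH]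

end Cfsg.Agent.Blocks.IsoBlocks

namespace Cfsg.Agent.Blocks

open MonoidAlgebra BPairs IsoBlocks

universe u

variable {G : Type u} [Group G] [Finite G] {p : ℕ} {M : Ideal AlgInt} [M.IsPrime]
  {N : Subgroup G} [N.Normal]

/-- The theorem on isomorphic principal blocks. -/
theorem principal_restrict_bijection (hM : IsPModular p M) (hidx : ¬ p ∣ N.index) (P : Sylow p G)
    (hsup : N ⊔ Subgroup.centralizer ((P : Subgroup G) : Set G) = ⊤) :
    (∀ χ ∈ principalBlock M G, ∃ θ ∈ principalBlock M ↥N, ∀ n : N, (χ : G → ℂ) n = (θ : N → ℂ) n) ∧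
      ∀ θ ∈ principalBlock M ↥N, ∃! χ : IrrCharacter G,
        χ ∈ principalBlock M G ∧ ∀ n : N, (χ : G → ℂ) n = (θ : N → ℂ) n := by
  classical
  haveI := Fintype.ofFinite G
  haveI := Fintype.ofFinite N
  haveI := Fintype.ofFinite (G ⧸ N)
  haveI := Fact.mk hM.1
  haveI := charP_res hM
  have hres : ∀ χ ∈ principalBlock M G,
      ∃ θ ∈ principalBlock M ↥N, ∀ n : N, (χ : G → ℂ) n = (θ : N → ℂ) n := by
    rintro ⟨χ, D, ρ, hρ, rfl⟩ hχ
    haveI := hρ
    have hirr := isIrr_restrict P hM hidx hsup hχ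
    refine ⟨⟨_, hirr⟩, constituent_principal hχ _ ?_, fun n => rfl⟩
    show classInner (fun n : N => ρ.character n) (fun n : N => ρ.character n) ≠ 0
    rw [CT.irr_inner_self hirr]
    exact one_ne_zero
  refine ⟨hres, fun θ hθ => ?_⟩
  have htriv : classInner (fun n : N => ((CT.trivIrr G : IrrCharacter G) : G → ℂ) n)
      ((CT.trivIrr N : IrrCharacter N) : N → ℂ) ≠ 0 := by
    have h : classInner (fun n : N => (1 : ℂ)) (fun n : N => (1 : ℂ)) = 1 :=
      CT.irr_inner_self (CT.trivIrr N).2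
    show classInner (fun n : N => (1 : ℂ)) (fun n : N => (1 : ℂ)) ≠ 0
    rw [h]
    exact one_ne_zero
  obtain ⟨χ, hχ, hχθ⟩ := exists_over_of_cover hM isPBlock_principalBlock isPBlock_principalBlock
    ⟨_, trivIrr_mem_principalBlock, _, trivIrr_mem_principalBlock, htriv⟩ hθ
  obtain ⟨θ', hθ', hval⟩ := hres χ hχ
  have heq : θ' = θ := by
    by_contra hne
    apply hχθ
    rw [funext hval, CT.irr_inner_subtype, if_neg hne]
  subst heq
  refine ⟨χ, ⟨hχ, hval⟩, ?_⟩
  obtain ⟨χ, D, ρ, hρ, rfl⟩ := χ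
  rintro ⟨χ', D', ρ', hρ', rfl⟩ ⟨hχ', hval'⟩
  haveI := hρ
  haveI := hρ'
  refine Subtype.ext (funext fun g => ?_)
  obtain ⟨c, hc, hcg⟩ := exists_section P hsup (g : G ⧸ N)
  obtain ⟨l, hl, hlr⟩ := exists_scalar_zN P hM hidx hsup hχ hc
  obtain ⟨l', hl', hlr'⟩ := exists_scalar_zN P hM hidx hsup hχ' hc
  have hne : classInner (fun n : N => ρ.character n) (θ' : N → ℂ) ≠ 0 := hχθ
  have hne' : classInner (fun n : N => ρ'.character n) (θ' : N → ℂ) ≠ 0 := by
    rw [funext hval', CT.irr_inner_self θ'.2]; exact one_ne_zero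
  obtain ⟨k, hk⟩ : ∃ k, k = Fintype.card (G ⧸ N) := ⟨_, rfl⟩
  have hkp : ¬ p ∣ k := by rw [hk, ← Nat.card_eq_fintype_card]; exact hidx
  have hz : IsoBlocks.InCoset N (zN M N c ^ k) 1 := by
    have h := (inCoset_zN (M := M) (N := N) c).pow k
    rwa [hk, pow_card_eq_one, ← hk] at h
  have e := opL_eq_omega P hM hidx hsup hχ (isInv_pow (isInv_zN c) k) hz hne
  have e' := opL_eq_omega P hM hidx hsup hχ' (isInv_pow (isInv_zN c) k) hz hne'
  rw [map_pow, hl, smul_pow, one_pow] at e
  rw [map_pow, hl', smul_pow, one_pow] at e'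
  haveI : Nonempty (Fin D) := ⟨⟨0, by simpa using CT.finrank_pos_of_irreducible ρ⟩⟩
  haveI : Nonempty (Fin D') := ⟨⟨0, by simpa using CT.finrank_pos_of_irreducible ρ'⟩⟩
  have h1 := (smul_left_injective ℂ (one_ne_zero (α := Module.End ℂ (Fin D → ℂ))) e).trans
    (smul_left_injective ℂ (one_ne_zero (α := Module.End ℂ (Fin D' → ℂ))) e').symm
  have hu := isUnit_card_orbit (N := N) hM P hidx hc
  rw [map_natCast] at hu
  obtain ⟨v, hv⟩ := (IsLocalRing.residue_ne_zero_iff_isUnit l').mp (by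
    show red M l' ≠ 0; rw [hlr']; exact hu)
  have hll : l * ((v⁻¹ : (Loc M)ˣ) : Loc M) = 1 := by
    have h2 : l ^ k = l' ^ k := Subtype.ext (by simpa using h1)
    refine eq_one_of_pow_eq_one hM hkp ?_ ?_
    · rw [mul_pow, h2, ← hv, ← mul_pow, Units.mul_inv, one_pow]
    · have h3 := congrArg (red M) (Units.mul_inv v)
      rw [map_mul, hv, hlr', map_one] at h3
      rw [map_mul, hlr, h3]
  have hlleq : l = l' := by
    calc l = l * ((v⁻¹ : (Loc M)ˣ) : Loc M) * (v : Loc M) := by
          rw [mul_assoc, Units.inv_mul, mul_one]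
      _ = l' := by rw [hll, one_mul, hv]
  subst hlleq
  have hzz : IsoBlocks.InCoset N (zN M N c * zN M N c⁻¹) 1 := by
    simpa using (inCoset_zN (M := M) (N := N) c).mul (inCoset_zN (M := M) (N := N) c⁻¹)
  have hzi := isInv_mul (isInv_zN (M := M) (N := N) c) (isInv_zN (M := M) (N := N) c⁻¹)
  obtain ⟨a, ha⟩ : ∃ a : Loc M, a = omegaL M θ' ⟨resH N _, resH_mem_center' hzi⟩ := ⟨_, rfl⟩
  have har : red M a ≠ 0 := by
    rw [ha, red_omega_aug hθ hzi hzz, map_mul, map_mul, aug_zN, aug_zN]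
    exact mul_ne_zero (isUnit_card_orbit (N := N) hM P hidx hc)
      (isUnit_card_orbit (N := N) hM P hidx (inv_mem hc))
  have hac : (a : ℂ) = omega (θ' : N → ℂ)
      (toC M N (resH N (zN M N c * zN M N c⁻¹))) := by rw [ha]; rfl
  refine mul_left_cancel₀ (a := (a : ℂ)) (fun h => har ?_) ((value_eq_scalar P hM hidx hsup hχ'
    hcg.symm hl' hval' hac).trans (value_eq_scalar P hM hidx hsup hχ hcg.symm hl hval hac).symm)
  rw [show a = 0 from Subtype.ext h, map_zero]

end Cfsg.Agent.Blocks
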