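import Cfsg.Agent.Lib.Blocks.Section
import Cfsg.Agent.Lib.Basics.Cores
import Cfsg.Agent.S0914
import Cfsg.Agent.Lib.Blocks.Knorr
import Mathlib.GroupTheory.SpecificGroups.KleinFour

/-!
# The principal 2-block with Klein four Sylow subgroups
-/

namespace Cfsg.Agent.Blocks

open scoped ComplexConjugate

variable {G : Type*} [Group G] [Finite G] {M : Ideal AlgInt} [M.IsPrime]

set_option linter.unusedSectionVars false

theorem klein_centralizer_core (P : Sylow 2 G) (hP : IsKleinFour (P : Subgroup G)) {z : G}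
    (hz : z ∈ P) (hz1 : z ≠ 1) :
    ∃ k : ℕ, (pPrimeCore 2 (Subgroup.centralizer ({z} : Set G))).index = 2 ^ k := by
  classical
  haveI : Fact (Nat.Prime 2) := ⟨Nat.prime_two⟩
  haveI := hP
  set C := Subgroup.centralizer ({z} : Set G) with hC
  have hcomm : ∀ a ∈ P, ∀ b ∈ P, a * b = b * a := fun a ha b hb =>
    congrArg Subtype.val (mul_comm_of_exponent_two hP.exponent_two (⟨a, ha⟩ : (P : Subgroup G)) ⟨b, hb⟩)
  have hPC : (P : Subgroup G) ≤ C := fun a ha =>
    Subgroup.mem_centralizer_singleton_iff.mpr (hcomm a ha z hz)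
  set P' : Sylow 2 C := P.subtype hPC with hP'
  have hmem : ∀ c : C, c ∈ P' ↔ (c : G) ∈ P := fun c => by
    show c ∈ (P.subtype hPC : Subgroup C) ↔ _
    rw [Sylow.coe_subtype]; exact Subgroup.mem_subgroupOf
  have hsq : ∀ a : G, a ∈ P → a * a = 1 := fun a ha =>
    congrArg Subtype.val (IsKleinFour.mul_self (⟨a, ha⟩ : (P : Subgroup G)))
  have hle : Subgroup.normalizer ((P' : Subgroup C) : Set C) ≤
      Subgroup.centralizer ((P' : Subgroup C) : Set C) := by
    intro n hn
    rw [Subgroup.mem_centralizer_iff]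
    intro a ha
    have haP : (a : G) ∈ P := (hmem a).mp ha
    by_cases haz : (a : G) = z ∨ (a : G) = 1
    · rcases haz with h | h
      · refine Subtype.ext ?_
        simp only [Subgroup.coe_mul, h]
        exact (Subgroup.mem_centralizer_singleton_iff.mp n.2).symm
      · rw [show a = 1 from Subtype.ext h]; simp
    push Not at haz
    have hconj : ∀ b : C, b ∈ P' → n * b * n⁻¹ ∈ P' := fun b hb =>
      (Subgroup.mem_normalizer_iff.mp hn b).mp hb
    have hn2 : Commute (n ^ 2) a := by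
      set w : C := n * a * n⁻¹ with hw
      have hwP : (w : G) ∈ P := (hmem w).mp (hconj a ha)
      have hnz : (n : G) * z = z * n := Subgroup.mem_centralizer_singleton_iff.mp n.2
      have hw1 : (w : G) ≠ 1 := fun h => haz.2 (by
        simp only [hw, Subgroup.coe_mul, Subgroup.coe_inv, conj_eq_one_iff] at h
        exact h)
      have hwz : (w : G) ≠ z := fun h => haz.1 (by
        simp only [hw, Subgroup.coe_mul, Subgroup.coe_inv, mul_inv_eq_iff_eq_mul, ← hnz] at h
        exact mul_left_cancel h)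
      have key : (n : G) * w * (n : G)⁻¹ = a := by
        by_cases hwa : (w : G) = a
        · rw [hwa]
          calc (n : G) * a * (n : G)⁻¹ = w := by simp [hw]
            _ = a := hwa
        · have e : (w : G) = z * a := congrArg Subtype.val (IsKleinFour.eq_mul_of_ne_all
            (x := (⟨z, hz⟩ : (P : Subgroup G))) (y := ⟨a, haP⟩) (z := ⟨w, hwP⟩)
            (fun h => hz1 (congrArg Subtype.val h)) (fun h => haz.2 (congrArg Subtype.val h))
            (fun h => haz.1 (congrArg Subtype.val h).symm) (fun h => hw1 (congrArg Subtype.val h))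
            (fun h => hwz (congrArg Subtype.val h)) (fun h => hwa (by simpa using h)))
          calc (n : G) * w * (n : G)⁻¹ = z * ((n : G) * a * (n : G)⁻¹) := by
                rw [e, ← mul_assoc (n : G), hnz]; group
            _ = z * w := by simp [hw]
            _ = a := by rw [e, ← mul_assoc, hsq z hz, one_mul]
      refine Subtype.ext ?_
      have key' : (n : G) * ((n : G) * a * (n : G)⁻¹) * (n : G)⁻¹ = a := by
        simpa [hw] using key
      rw [Subgroup.coe_mul, Subgroup.coe_mul, Subgroup.coe_pow]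
      calc (n : G) ^ 2 * a = ((n : G) * ((n : G) * a * (n : G)⁻¹) * (n : G)⁻¹) * (n : G) ^ 2 := by rw [sq]; group
        _ = a * (n : G) ^ 2 := by rw [key']
    set m := ordCompl[2] (orderOf n) with hm
    have hodd : ¬ 2 ∣ m := Nat.not_dvd_ordCompl Nat.prime_two (orderOf_pos n).ne'
    have hnm : n ^ m ∈ P' := by
      have hpow : (n ^ m) ^ 2 ^ (orderOf n).factorization 2 = 1 := by
        rw [← pow_mul, hm, mul_comm, Nat.ordProj_mul_ordCompl_eq_self, pow_orderOf_eq_one]
      have hQ : IsPGroup 2 (Subgroup.zpowers (n ^ m)) := isPGroup_zpowers ⟨_, hpow⟩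
      have h1 : Subgroup.zpowers (n ^ m) ≤ Subgroup.zpowers (n ^ m) ⊓
          Subgroup.normalizer ((P' : Subgroup C) : Set C) :=
        le_inf le_rfl (Subgroup.zpowers_le.mpr (pow_mem hn m))
      exact (((hQ.inf_normalizer_sylow P').le).trans le_rfl (h1 (Subgroup.mem_zpowers _))).2
    have hc1 : Commute (n ^ m) a := Subtype.ext (hcomm _ ((hmem _).mp hnm) _ haP)
    obtain ⟨j, hj⟩ : Odd m := Nat.odd_iff.mpr (by omega)
    have hn1 : n = n ^ m * ((n ^ 2) ^ j)⁻¹ := by
      rw [hj, pow_succ', pow_mul, mul_inv_cancel_right]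
    rw [hn1]
    exact (hc1.mul_left (hn2.pow_left j).inv_left).eq.symm
  have hK := MonoidHom.ker_transferSylow_isComplement' P' hle
  set K := (MonoidHom.transferSylow P' hle).ker
  have hKi : K.index = Nat.card P' := hK.symm.index_eq_card
  have hKodd : ¬ 2 ∣ Nat.card K := by
    rw [← hK.index_eq_card]
    exact P'.not_dvd_index
  have hKle : K ≤ pPrimeCore 2 C :=
    Basics.le_pPrimeCore ((Nat.prime_two.coprime_iff_not_dvd.mpr hKodd).symm)
  obtain ⟨e, he⟩ := IsPGroup.iff_card.mp P'.isPGroup'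
  obtain ⟨k, -, hk⟩ := (Nat.dvd_prime_pow Nat.prime_two).mp
    (he ▸ hKi ▸ Subgroup.index_dvd_of_le hKle)
  exact ⟨k, hk⟩

theorem klein_char_value (P : Sylow 2 G) (hP : IsKleinFour (P : Subgroup G))
    (hone : ∀ s t : G, orderOf s = 2 → orderOf t = 2 → IsConj s t) {z : G} (hz : orderOf z = 2)
    (χ : IrrCharacter G) :
    ∃ s : ℤ, (χ : G → ℂ) z = s ∧ (4 : ℤ) ∣ (charDegree (χ : G → ℂ) : ℤ) - s := by
  classical
  haveI := hP
  haveI : Fact (Nat.Prime 2) := ⟨Nat.prime_two⟩
  haveI := Fintype.ofFinite G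
  have nat : ∀ (Q : Subgroup G), (∀ q ∈ Q, q ≠ 1 → orderOf q = 2) → ∃ m : ℕ,
      (charDegree (χ : G → ℂ) : ℂ) + ((Nat.card Q : ℂ) - 1) * (χ : G → ℂ) z =
        (Nat.card Q : ℂ) * m := by
    intro Q hQ
    haveI := Fintype.ofFinite Q
    obtain ⟨m, hm⟩ := CT.classInner_character_nat
      (CT.isCharacter_restrict Q (CT.isCharacter_of_isIrr χ.2)) (CT.isCharacter_one (G := Q))
    refine ⟨m, ?_⟩
    rw [classInner, inv_mul_eq_iff_eq_mul₀ (CT.card_ne_zero (G := Q))] at hm
    rw [← hm]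
    have e : ∀ q : Q, q ≠ 1 → (χ : G → ℂ) q = (χ : G → ℂ) z := fun q hq =>
      CT.isClassFunction_isConj (CT.isClassFunction_of_isIrr χ.2)
        (hone _ _ (hQ q q.2 fun h => hq (Subtype.ext h)) hz)
    rw [← Finset.add_sum_erase _ _ (Finset.mem_univ (1 : Q)),
      Finset.sum_congr rfl (g := fun _ => (χ : G → ℂ) z)
        (fun q hq => by simp [e q (Finset.ne_of_mem_erase hq)]),
      Finset.sum_const, Finset.card_erase_of_mem (Finset.mem_univ _), Finset.card_univ,
      Nat.card_eq_fintype_card, nsmul_eq_mul, Nat.cast_pred Fintype.card_pos]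
    simp [charDegree_cast]
  obtain ⟨m₂, h2⟩ := nat (Subgroup.zpowers z) fun q hq hq1 => by
    have hd : orderOf q ∣ 2 := hz ▸ orderOf_dvd_of_mem_zpowers hq
    rcases (Nat.dvd_prime Nat.prime_two).mp hd with h | h
    · exact absurd (orderOf_eq_one_iff.mp h) hq1
    · exact h
  rw [Nat.card_zpowers, hz] at h2
  obtain ⟨m₄, h4⟩ := nat (P : Subgroup G) fun q hq hq1 =>
    orderOf_eq_prime (by
      rw [sq]
      exact congrArg Subtype.val (IsKleinFour.mul_self (⟨q, hq⟩ : (P : Subgroup G)))) hq1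
  rw [hP.card_four] at h4
  push_cast at h2 h4
  have hs : (χ : G → ℂ) z = ((2 * (m₂ : ℤ) - charDegree (χ : G → ℂ) : ℤ) : ℂ) := by
    push_cast; linear_combination h2
  refine ⟨_, hs, ?_⟩
  rw [hs] at h4
  have h4' : (charDegree (χ : G → ℂ) : ℤ) + 3 * (2 * (m₂ : ℤ) - charDegree (χ : G → ℂ)) =
      4 * (m₄ : ℤ) := by
    push_cast at h4
    have h5 : (charDegree (χ : G → ℂ) : ℂ) + 3 * (2 * (m₂ : ℂ) - charDegree (χ : G → ℂ)) =
        4 * (m₄ : ℂ) := by linear_combination h4
    exact_mod_cast h5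
  exact ⟨(m₂ : ℤ) - m₄, by omega⟩

theorem principalBlock_ne_zero (hM : IsPModular 2 M) (P : Sylow 2 G)
    (hP : IsKleinFour (P : Subgroup G))
    (hone : ∀ s t : G, orderOf s = 2 → orderOf t = 2 → IsConj s t) {z : G} (hz : orderOf z = 2)
    {χ : IrrCharacter G} (hχ : χ ∈ principalBlock M G) : (χ : G → ℂ) z ≠ 0 := by
  classical
  haveI : Fact (Nat.Prime 2) := ⟨Nat.prime_two⟩
  haveI := hP
  intro h0
  obtain ⟨s, hs, hd⟩ := klein_char_value P hP hone hz χ
  rw [h0] at hs
  rw [show s = 0 by exact_mod_cast hs.symm, sub_zero] at hd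
  have hd' : 4 ∣ charDegree (χ : G → ℂ) := by exact_mod_cast hd
  have hv : ¬ 2 ∣ Nat.card G / charDegree (χ : G → ℂ) := by
    obtain ⟨a, ha⟩ := hd'
    obtain ⟨b, hb⟩ := charDegree_dvd_card χ
    have hi : Nat.card G = 4 * (P : Subgroup G).index := by
      rw [← hP.card_four]; exact (Subgroup.card_mul_index _).symm
    have hodd := P.not_dvd_index
    rw [hb, Nat.mul_div_cancel_left _ (charDegree_pos χ)]
    intro h2
    refine hodd ?_
    have : (P : Subgroup G).index = a * b := by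
      have : 4 * (P : Subgroup G).index = 4 * (a * b) := by rw [← hi, hb, ha, mul_assoc]
      omega
    rw [this]
    exact dvd_mul_of_dvd_right h2 a
  have hsing := (Cfsg.Agent.S0914.result 2 M hM χ).mp hv
  have htriv : CT.trivIrr G ∈ blockOf M (χ : G → ℂ) := by
    rw [← block_eq_blockOf (isPBlock_blockOf (CT.trivIrr G)) hχ]
    exact self_mem_blockOf (CT.trivIrr G)
  rw [hsing, Set.mem_singleton_iff] at htriv
  rw [← htriv] at h0
  exact one_ne_zero h0

theorem klein_four_block (hM : IsPModular 2 M) (P : Sylow 2 G)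
    (hP : IsKleinFour (P : Subgroup G))
    (hone : ∀ s t : G, orderOf s = 2 → orderOf t = 2 → IsConj s t) :
    ∃ ζ₂ ζ₃ ζ₄ : IrrCharacter G, ∃ ε : ℤ, (ε = 1 ∨ ε = -1) ∧ (ζ₂ : G → ℂ) ≠ (fun _ => 1) ∧
      (ζ₃ : G → ℂ) ≠ (fun _ => 1) ∧ ζ₂ ≠ ζ₃ ∧ ζ₂ ≠ ζ₄ ∧ ζ₃ ≠ ζ₄ ∧
      principalBlock M G = {χ : IrrCharacter G |
        (χ : G → ℂ) = (fun _ => 1) ∨ χ = ζ₂ ∨ χ = ζ₃ ∨ χ = ζ₄} ∧
      (∀ z : G, orderOf z = 2 →
        (ζ₂ : G → ℂ) z = 1 ∧ (ζ₃ : G → ℂ) z = (ε : ℂ) ∧ (ζ₄ : G → ℂ) z = -1) ∧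
      (4 : ℤ) ∣ (charDegree (ζ₂ : G → ℂ) : ℤ) - 1 ∧ (4 : ℤ) ∣ (charDegree (ζ₃ : G → ℂ) : ℤ) - ε ∧
      (4 : ℤ) ∣ (charDegree (ζ₄ : G → ℂ) : ℤ) + 1 ∧
      ∀ y : G, Odd (orderOf y) →
        1 + (ζ₂ : G → ℂ) y + (ε : ℂ) * (ζ₃ : G → ℂ) y - (ζ₄ : G → ℂ) y = 0 := by
  classical
  haveI : Fact (Nat.Prime 2) := ⟨Nat.prime_two⟩
  haveI := hP
  haveI := Fintype.ofFinite G
  obtain ⟨z₀, hz₀⟩ := exists_prime_orderOf_dvd_card' (G := (P : Subgroup G)) 2
    (by rw [hP.card_four]; norm_num)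
  set z : G := (z₀ : G)
  have hzP : z ∈ P := z₀.2
  have hz : orderOf z = 2 := by rw [← hz₀, Subgroup.orderOf_coe]
  have hz1 : z ≠ 1 := fun h => by rw [h, orderOf_one] at hz; norm_num at hz
  choose s hs hd using klein_char_value P hP hone hz
  have hB0 : IsPBlock M (principalBlock M G) := isPBlock_blockOf (CT.trivIrr G)
  have hA := blockCoeff_mem_loc hB0
  have hclass : ∀ (χ : IrrCharacter G) (w : G), orderOf w = 2 → (χ : G → ℂ) w = (s χ : ℂ) :=
    fun χ w hw => by
      rw [← hs χ]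
      exact CT.isClassFunction_isConj (CT.isClassFunction_of_isIrr χ.2) (hone _ _ hw hz)
  set T := (principalBlock M G).toFinset with hT
  have hmT : ∀ χ, χ ∈ T ↔ χ ∈ principalBlock M G := fun χ => Set.mem_toFinset
  have hne : ∀ χ ∈ T, s χ ≠ 0 := fun χ hχ h0 =>
    principalBlock_ne_zero hM P hP hone hz ((hmT χ).mp hχ) (by rw [hs χ, h0, Int.cast_zero])
  -- the square sum is the order of `P`
  have hsum : ∑ χ ∈ T, (s χ) ^ 2 = 4 := by
    have hcore := klein_centralizer_core P hP hzP hz1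
    have h1 : ∑ᶠ ζ ∈ principalBlock M G,
        ‖(ζ : G → ℂ) (z * ((1 : Subgroup.centralizer ({z} : Set G)) : G))‖ ^ 2 = _ :=
      section_sums hM ⟨1, by rw [pow_one, ← hz]; exact pow_orderOf_eq_one z⟩
        (y := 1) (by rw [orderOf_one]; norm_num)
    rw [sum_sq_of_normal_complement hM hcore (by rw [orderOf_one]; norm_num)] at h1
    have hc4 : 2 ^ (Nat.card (Subgroup.centralizer ({z} : Set G))).factorization 2 = 4 := by
      have hPC : (P : Subgroup G) ≤ Subgroup.centralizer ({z} : Set G) := fun a ha =>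
        Subgroup.mem_centralizer_singleton_iff.mpr (congrArg Subtype.val
          (mul_comm_of_exponent_two hP.exponent_two (⟨a, ha⟩ : (P : Subgroup G)) ⟨z, hzP⟩))
      rw [← (P.subtype hPC).card_eq_multiplicity, ← hP.card_four, Sylow.coe_subtype]
      exact Nat.card_congr (Subgroup.subgroupOfEquivOfLe hPC).toEquiv
    rw [hc4, finsum_mem_eq_toFinset_sum] at h1
    have h2 : ∑ χ ∈ T, ((s χ : ℝ)) ^ 2 = 4 := by
      rw [← (show ((4 : ℕ) : ℝ) = 4 by norm_num), ← h1]
      refine Finset.sum_congr rfl fun χ _ => ?_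
      rw [OneMemClass.coe_one, mul_one, hs χ, Complex.norm_intCast, sq_abs]
    exact_mod_cast h2
  set t := CT.trivIrr G
  have ht : t ∈ T := (hmT t).mpr (self_mem_blockOf t)
  have hst : s t = 1 := by
    have := hs t
    rw [CT.trivIrr_apply] at this
    exact_mod_cast this.symm
  have hpm : ∀ χ ∈ T, s χ = 1 ∨ s χ = -1 := by
    intro χ hχ
    rcases eq_or_ne χ t with rfl | hne'
    · exact Or.inl hst
    · have h2 : ∑ η ∈ ({t, χ} : Finset (IrrCharacter G)), (s η) ^ 2 ≤ 4 := hsum ▸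
        Finset.sum_le_sum_of_subset_of_nonneg (by simp [Finset.insert_subset_iff, ht, hχ])
          fun η _ _ => sq_nonneg _
      rw [Finset.sum_pair hne'.symm, hst] at h2
      have : -1 ≤ s χ ∧ s χ ≤ 1 := ⟨by nlinarith, by nlinarith⟩
      have := hne χ hχ
      omega
  have hcard : (T.erase t).card = 3 := by
    have h2 : ∑ χ ∈ T, (s χ) ^ 2 = ∑ χ ∈ T, (1 : ℤ) :=
      Finset.sum_congr rfl fun χ hχ => by rcases hpm χ hχ with h | h <;> simp [h]
    rw [h2, Finset.sum_const, nsmul_eq_mul, mul_one] at hsum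
    rw [Finset.card_erase_of_mem ht, show T.card = 4 by exact_mod_cast hsum]
  -- weak orthogonality
  have horth : ∀ y : G, ¬ 2 ∣ orderOf y →
      1 + ∑ χ ∈ T.erase t, (s χ : ℂ) * (χ : G → ℂ) y = 0 := by
    intro y hy
    have h := weak_orthogonality hM hA hy (h := z) (by rw [hz])
    rw [finsum_mem_eq_toFinset_sum, ← Finset.add_sum_erase _ _ ht] at h
    rw [← h]
    refine congrArg₂ (· + ·) ?_ (Finset.sum_congr rfl fun χ _ => ?_)
    · simp [t]
    · rw [hs χ]; simp [mul_comm]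
  have hdeg := horth 1 (by rw [orderOf_one]; norm_num)
  have hdegZ : 1 + ∑ χ ∈ T.erase t, s χ * (charDegree (χ : G → ℂ) : ℤ) = 0 := by
    have : ((1 + ∑ χ ∈ T.erase t, s χ * (charDegree (χ : G → ℂ) : ℤ) : ℤ) : ℂ) = 0 := by
      push_cast
      simpa [charDegree_cast] using hdeg
    exact_mod_cast this
  have hneg : ∃ b ∈ T.erase t, s b = -1 := by
    by_contra hc
    push Not at hc
    have : 0 ≤ ∑ χ ∈ T.erase t, s χ * (charDegree (χ : G → ℂ) : ℤ) :=
      Finset.sum_nonneg fun χ hχ => by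
        rw [(hpm χ (Finset.mem_of_mem_erase hχ)).resolve_right (hc χ hχ), one_mul]
        exact Int.natCast_nonneg _
    omega
  obtain ⟨b, hbT, hb⟩ := hneg
  have hpos : ∃ a ∈ T.erase t, s a = 1 := by
    by_contra hc
    push Not at hc
    have h3 : ∀ χ ∈ T.erase t, s χ * (charDegree (χ : G → ℂ) : ℤ) ≤ -3 := fun χ hχ => by
      have e := (hpm χ (Finset.mem_of_mem_erase hχ)).resolve_left (hc χ hχ)
      have hp := charDegree_pos χ
      have hd' := hd χ
      rw [e] at hd' ⊢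
      omega
    have := Finset.sum_le_card_nsmul _ _ _ h3
    rw [hcard] at this
    simp at this
    omega
  obtain ⟨a, haT, ha⟩ := hpos
  have hab : a ≠ b := fun h => by rw [h, hb] at ha; norm_num at ha
  obtain ⟨c, hc⟩ : ∃ c, ((T.erase t).erase a).erase b = {c} := by
    rw [← Finset.card_eq_one, Finset.card_erase_of_mem (Finset.mem_erase.mpr ⟨hab.symm, hbT⟩),
      Finset.card_erase_of_mem haT, hcard]
  have hcm : c ∈ ((T.erase t).erase a).erase b := hc ▸ Finset.mem_singleton_self c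
  simp only [Finset.mem_erase] at hcm haT hbT
  obtain ⟨hcb, hca, hct, hcT⟩ := hcm
  have htne : ∀ χ : IrrCharacter G, χ ≠ t → (χ : G → ℂ) ≠ fun _ => 1 := fun χ h e => h (Subtype.ext e)
  refine ⟨a, c, b, s c, hpm c hcT, htne a haT.1, htne c hct, fun h => hca h.symm, hab, hcb, ?_,
    fun w hw => ⟨by rw [hclass a w hw, ha, Int.cast_one], hclass c w hw,
      by rw [hclass b w hw, hb, Int.cast_neg, Int.cast_one]⟩, ha ▸ hd a, hd c,
    by have := hd b; rwa [hb, sub_neg_eq_add] at this, fun y hy => ?_⟩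
  · ext χ
    rw [← hmT, Set.mem_ofPred_eq]
    constructor
    · intro hχ
      by_contra h
      push Not at h
      have : χ ∈ ((T.erase t).erase a).erase b := by
        simp only [Finset.mem_erase]
        exact ⟨h.2.2.2, h.2.1, fun e => h.1 (e ▸ rfl), hχ⟩
      rw [hc, Finset.mem_singleton] at this
      exact h.2.2.1 this
    · rintro (h | rfl | rfl | rfl)
      · rwa [show χ = t from Subtype.ext h]
      exacts [haT.2, hcT, hbT.2]
  · have h := horth y (by rw [Nat.odd_iff] at hy; omega)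
    rw [← Finset.add_sum_erase _ _ (Finset.mem_erase.mpr haT),
      ← Finset.add_sum_erase _ _ (Finset.mem_erase.mpr ⟨hab.symm, Finset.mem_erase.mpr hbT⟩), hc,
      Finset.sum_singleton, ha, hb] at h
    rw [← h]; push_cast; ring

end Cfsg.Agent.Blocks
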