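import Cfsg.Agent.Lib.Blocks.KleinRank
import Cfsg.Agent.Lib.CT.RealOdd
import Cfsg.Agent.Lib.ClassSum.Basic
import Mathlib.GroupTheory.Transfer

/-!
# Brauer's order formula for groups with a Klein four Sylow 2-subgroup
-/

namespace Cfsg.Agent.Blocks

open scoped ComplexConjugate

variable {G : Type*} [Group G] [Finite G] {M : Ideal AlgInt} [M.IsPrime]

set_option linter.unusedSectionVars false
set_option linter.style.haveILetI false

/-! ### No normal 2-complement -/

/-- An element normalizing an abelian Sylow 2-subgroup centralizes it if its square does. -/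
theorem centralizes_of_sq (P : Sylow 2 G) (hcomm : ∀ a ∈ P, ∀ b ∈ P, a * b = b * a) {n : G}
    (hn : n ∈ Subgroup.normalizer ((P : Subgroup G) : Set G))
    (h2 : ∀ a ∈ P, Commute (n ^ 2) a) : n ∈ Subgroup.centralizer ((P : Subgroup G) : Set G) := by
  haveI : Fact (Nat.Prime 2) := ⟨Nat.prime_two⟩
  rw [Subgroup.mem_centralizer_iff]
  intro a ha
  set m := ordCompl[2] (orderOf n) with hm
  have hodd : ¬ 2 ∣ m := Nat.not_dvd_ordCompl Nat.prime_two (orderOf_pos n).ne'
  have hnm : n ^ m ∈ P := by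
    have hpow : (n ^ m) ^ 2 ^ (orderOf n).factorization 2 = 1 := by
      rw [← pow_mul, hm, mul_comm, Nat.ordProj_mul_ordCompl_eq_self, pow_orderOf_eq_one]
    have hQ : IsPGroup 2 (Subgroup.zpowers (n ^ m)) := isPGroup_zpowers ⟨_, hpow⟩
    have h1 : Subgroup.zpowers (n ^ m) ≤ Subgroup.zpowers (n ^ m) ⊓
        Subgroup.normalizer ((P : Subgroup G) : Set G) :=
      le_inf le_rfl (Subgroup.zpowers_le.mpr (pow_mem hn m))
    exact (((hQ.inf_normalizer_sylow P).le).trans le_rfl (h1 (Subgroup.mem_zpowers _))).2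
  have hc1 : Commute (n ^ m) a := hcomm _ hnm _ ha
  obtain ⟨j, hj⟩ : Odd m := Nat.odd_iff.mpr (by omega)
  have hn1 : n = n ^ m * ((n ^ 2) ^ j)⁻¹ := by
    rw [hj, pow_succ', pow_mul, mul_inv_cancel_right]
  have := (hc1.mul_left ((h2 a ha).pow_left j).inv_left).eq
  rw [← hn1] at this
  exact this.symm

theorem klein_of_no_complement {g₀ : ℕ} (hg₀ : Odd g₀) (hG : Nat.card G = 4 * g₀)
    (hnc : ¬ ∃ N : Subgroup G, N.Normal ∧ Nat.card N = g₀) (P : Sylow 2 G) :
    IsKleinFour (P : Subgroup G) ∧ ∀ s t : G, orderOf s = 2 → orderOf t = 2 → IsConj s t := by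
  classical
  haveI : Fact (Nat.Prime 2) := ⟨Nat.prime_two⟩
  haveI := Fintype.ofFinite G
  have hg0 : g₀ ≠ 0 := fun h => by rw [h] at hg₀; exact absurd hg₀ (by decide)
  have hcard : Nat.card (P : Subgroup G) = 4 := by
    rw [P.card_eq_multiplicity, hG, Nat.factorization_mul (by norm_num) hg0, Finsupp.coe_add,
      Pi.add_apply, Nat.factorization_eq_zero_of_not_dvd
        (show ¬ 2 ∣ g₀ by rw [Nat.odd_iff] at hg₀; omega), add_zero,
      show (4 : ℕ) = 2 ^ 2 from rfl, Nat.prime_two.factorization_pow, Finsupp.single_eq_same]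
  haveI := IsPGroup.isMulCommutative_of_card_eq_prime_sq (p := 2) (G := (P : Subgroup G))
    (by rw [hcard]; norm_num)
  have hcomm : ∀ a ∈ P, ∀ b ∈ P, a * b = b * a := fun a ha b hb =>
    congrArg Subtype.val (IsMulCommutative.is_comm.comm (⟨a, ha⟩ : (P : Subgroup G)) ⟨b, hb⟩)
  obtain ⟨n, hn, hnC⟩ : ∃ n, n ∈ Subgroup.normalizer ((P : Subgroup G) : Set G) ∧
      n ∉ Subgroup.centralizer ((P : Subgroup G) : Set G) := by
    by_contra hc
    push Not at hc
    have hK := MonoidHom.ker_transferSylow_isComplement' P hc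
    refine hnc ⟨(MonoidHom.transferSylow P hc).ker, inferInstance, ?_⟩
    have := hK.card_mul_card
    rw [hcard, hG, mul_comm] at this
    omega
  obtain ⟨a, ha, hna⟩ : ∃ a ∈ P, ¬ Commute (n ^ 2) a := by
    by_contra hc
    push Not at hc
    exact hnC (centralizes_of_sq P hcomm hn hc)
  set b := n * a * n⁻¹ with hb
  set c := n * b * n⁻¹ with hc
  have hbP : b ∈ P := (hn a).mp ha
  have hcP : c ∈ P := (hn b).mp hbP
  have ha1 : a ≠ 1 := fun h => hna (h ▸ Commute.one_right _)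
  have hca : c ≠ a := fun h => hna (by
    have : n ^ 2 * a * (n ^ 2)⁻¹ = a := by
      conv_rhs => rw [← h, hc, hb]
      simp only [sq, mul_inv_rev, mul_assoc]
    exact mul_inv_eq_iff_eq_mul.mp this)
  have hba : b ≠ a := fun h => hca (by
    rw [hc, h]
    exact h)
  have hcb : c ≠ b := fun h => hba (mul_left_cancel (mul_right_cancel (show n * b * n⁻¹ = n * a * n⁻¹ from h)))
  have hb1 : b ≠ 1 := fun h => ha1 (conj_eq_one_iff.mp h)
  have hc1 : c ≠ 1 := fun h => hb1 (conj_eq_one_iff.mp h)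
  have hall : ∀ x ∈ P, x ≠ 1 → x = a ∨ x = b ∨ x = c := by
    intro x hx hx1
    by_contra hne
    push Not at hne
    let S : Finset G := {1, a, b, c, x}
    have hS : S.card = 5 := by
      simp [S, ha1.symm, hb1.symm, hc1.symm, hx1.symm, hba.symm, hca.symm, hcb.symm, hne.1.symm,
        hne.2.1.symm, hne.2.2.symm]
    have hle : S.card ≤ (Finset.univ.filter fun g : G => g ∈ P).card := Finset.card_le_card (by
      intro g hg
      simp only [S, Finset.mem_insert, Finset.mem_singleton] at hg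
      refine Finset.mem_filter.mpr ⟨Finset.mem_univ _, ?_⟩
      rcases hg with rfl | rfl | rfl | rfl | rfl
      exacts [one_mem _, ha, hbP, hcP, hx])
    rw [hS, ← Fintype.card_subtype, ← Nat.card_eq_fintype_card] at hle
    have : Nat.card { g : G // g ∈ P } = 4 := hcard
    omega
  have hconj : ∀ x ∈ P, x ≠ 1 → IsConj a x := by
    intro x hx hx1
    rcases hall x hx hx1 with rfl | rfl | rfl
    · exact IsConj.refl _
    · exact isConj_iff.mpr ⟨n, rfl⟩
    · exact (isConj_iff.mpr ⟨n, rfl⟩ : IsConj a b).trans (isConj_iff.mpr ⟨n, rfl⟩)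
  have hord : ∀ {x y : G}, IsConj x y → orderOf x = orderOf y := fun h => by
    obtain ⟨g, rfl⟩ := isConj_iff.mp h
    exact (orderOf_injective (MulAut.conj g).toMonoidHom (MulAut.conj g).injective _).symm
  obtain ⟨z₀, hz₀⟩ := exists_prime_orderOf_dvd_card' (G := (P : Subgroup G)) 2
    (by rw [hcard]; norm_num)
  have hz : orderOf (z₀ : G) = 2 := (Subgroup.orderOf_coe z₀).trans hz₀
  have hz1 : (z₀ : G) ≠ 1 := fun h => by rw [h, orderOf_one] at hz; norm_num at hz
  have h2 : ∀ x ∈ P, x ≠ 1 → orderOf x = 2 := fun x hx hx1 => by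
    rw [← hord (hconj x hx hx1), hord (hconj _ z₀.2 hz1), hz]
  have hexp : ∀ x : (P : Subgroup G), x ^ 2 = 1 := fun x => by
    by_cases h : (x : G) = 1
    · rw [show x = 1 from Subtype.ext h, one_pow]
    · exact Subtype.ext (orderOf_dvd_iff_pow_eq_one.mp (h2 x x.2 h).dvd)
  refine ⟨⟨hcard, ?_⟩, ?_⟩
  · rcases (Nat.dvd_prime Nat.prime_two).mp
      (Monoid.exponent_dvd_of_forall_pow_eq_one hexp) with h | h
    · have := Monoid.exp_eq_one_iff.mp h
      rw [Nat.card_unique] at hcard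
      norm_num at hcard
    · exact h
  · have key : ∀ s, orderOf s = 2 → IsConj a s := by
      intro s hs
      obtain ⟨Q, hQ⟩ := (isPGroup_zpowers (p := 2) (z := s)
        ⟨1, by rw [pow_one, ← hs]; exact pow_orderOf_eq_one s⟩).exists_le_sylow
      obtain ⟨g, hg⟩ := MulAction.exists_smul_eq G Q P
      have hmem : g * s * g⁻¹ ∈ P := by
        rw [← hg]
        exact ⟨s, hQ (Subgroup.mem_zpowers s), rfl⟩
      refine (hconj _ hmem fun h => ?_).trans (isConj_iff.mpr ⟨g⁻¹, by group⟩)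
      rw [conj_eq_one_iff] at h
      rw [h, orderOf_one] at hs
      norm_num at hs
    exact fun s t hs ht => (key s hs).symm.trans (key t ht)

/-! ### Counting pairs of involutions -/

/-- Pairs of involutions whose product has 2-part `z`. -/
abbrev InvPairs (z : G) : Type _ :=
  {w : G × G // orderOf w.1 = 2 ∧ orderOf w.2 = 2 ∧ IsPPart 2 (w.1 * w.2) z}

theorem card_invPairs_conj {z z' : G} (h : IsConj z z') :
    Nat.card (InvPairs z') = Nat.card (InvPairs z) := by
  haveI : Fact (Nat.Prime 2) := ⟨Nat.prime_two⟩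
  obtain ⟨c, rfl⟩ := isConj_iff.mp h
  refine (Nat.card_congr
    (Equiv.subtypeEquiv ((MulAut.conj c).toEquiv.prodCongr (MulAut.conj c).toEquiv) fun w => ?_)).symm
  have ho : ∀ x, orderOf (MulAut.conj c x) = orderOf x := fun x =>
    orderOf_injective (MulAut.conj c).toMonoidHom (MulAut.conj c).injective x
  simp only [Equiv.prodCongr_apply, Prod.map, MulEquiv.toEquiv_eq_coe, MulEquiv.coe_toEquiv, ho,
    ← map_mul]
  refine and_congr_right fun _ => and_congr_right fun _ => ⟨fun hp => ppart_conj hp c, fun hp => ?_⟩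
  have := ppart_conj hp c⁻¹
  simpa [mul_assoc] using this

theorem card_invPairs (P : Sylow 2 G) (hP : IsKleinFour (P : Subgroup G)) {J : G} (hJ : J ∈ P)
    (hJ2 : orderOf J = 2) :
    ∃ N₁ : ℕ, N₁ * Nat.card (Subgroup.centralizer ((P : Subgroup G) : Set G)) =
      Nat.card (Subgroup.centralizer ({J} : Set G)) ∧ Nat.card (InvPairs J) = 2 * N₁ ^ 2 := by
  classical
  haveI : Fact (Nat.Prime 2) := ⟨Nat.prime_two⟩
  haveI := hP
  have hJ1 : J ≠ 1 := fun h => by rw [h, orderOf_one] at hJ2; norm_num at hJ2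
  obtain ⟨k, hk⟩ := klein_centralizer_core P hP hJ hJ1
  set C := Subgroup.centralizer ({J} : Set G) with hCdef
  haveI := Fintype.ofFinite C
  haveI : (pPrimeCore 2 C).Normal := Basics.pPrimeCore_normal 2
  set O := pPrimeCore 2 C
  have hO : ¬ 2 ∣ Nat.card O := Basics.not_dvd_card_pPrimeCore 2
  have hsq : ∀ a ∈ P, a * a = 1 := fun a ha =>
    congrArg Subtype.val (IsKleinFour.mul_self (⟨a, ha⟩ : (P : Subgroup G)))
  have hcomm : ∀ a ∈ P, ∀ b ∈ P, a * b = b * a := fun a ha b hb =>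
    congrArg Subtype.val (mul_comm_of_exponent_two hP.exponent_two (⟨a, ha⟩ : (P : Subgroup G)) ⟨b, hb⟩)
  have hPC : (P : Subgroup G) ≤ C := fun a ha =>
    Subgroup.mem_centralizer_singleton_iff.mpr (hcomm a ha J hJ)
  set P' : Sylow 2 C := P.subtype hPC with hP'
  have hmem : ∀ c : C, c ∈ P' ↔ (c : G) ∈ P := fun c => by
    show c ∈ (P.subtype hPC : Subgroup C) ↔ _
    rw [Sylow.coe_subtype]; exact Subgroup.mem_subgroupOf
  have hdisj : ∀ c : C, c ∈ P' → c ∈ O → c = 1 := by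
    intro c hc hcO
    have h2 : orderOf c ∣ 2 := orderOf_dvd_of_pow_eq_one
      (Subtype.ext (by rw [sq]; exact hsq _ ((hmem c).mp hc)))
    have hO' : orderOf c ∣ Nat.card O := Subgroup.orderOf_dvd_natCard O hcO
    rcases (Nat.dvd_prime Nat.prime_two).mp h2 with h | h
    · exact orderOf_eq_one_iff.mp h
    · exact absurd (h ▸ hO') hO
  have hinj : Function.Injective (fun c : (P' : Subgroup C) => (QuotientGroup.mk (c : C) : C ⧸ O)) := by
    intro a b hab
    have := hdisj _ ((P' : Subgroup C).mul_mem ((P' : Subgroup C).inv_mem a.2) b.2) (QuotientGroup.eq.mp hab)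
    exact Subtype.ext (inv_mul_eq_one.mp this)
  have hP'card : Nat.card (P' : Subgroup C) = 4 := by
    rw [← hP.card_four, hP', Sylow.coe_subtype]
    exact Nat.card_congr (Subgroup.subgroupOfEquivOfLe hPC).toEquiv
  have hbij : Function.Bijective (fun c : (P' : Subgroup C) => (QuotientGroup.mk (c : C) : C ⧸ O)) := by
    refine (Nat.bijective_iff_injective_and_card _).mpr ⟨hinj, ?_⟩
    rw [← Subgroup.index_eq_card, hk, P'.card_eq_multiplicity, ← O.index_mul_card,
      Nat.factorization_mul Subgroup.index_ne_zero_of_finite Nat.card_pos.ne', Finsupp.coe_add,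
      Pi.add_apply, Nat.factorization_eq_zero_of_not_dvd hO, add_zero, hk,
      Nat.prime_two.factorization_pow, Finsupp.single_eq_same]
  have hqc : ∀ x y : C ⧸ O, x * y = y * x := by
    intro x y
    obtain ⟨⟨a, ha⟩, rfl⟩ := hbij.2 x
    obtain ⟨⟨b, hb⟩, rfl⟩ := hbij.2 y
    rw [← QuotientGroup.mk_mul, ← QuotientGroup.mk_mul]
    exact congrArg _ (Subtype.ext (hcomm _ ((hmem a).mp ha) _ ((hmem b).mp hb)))
  set JC : C := ⟨J, hPC hJ⟩
  have hJP : JC ∈ P' := (hmem JC).mpr hJ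
  obtain ⟨τ₀, hτP, hτ1, hτJ⟩ : ∃ t : C, t ∈ P' ∧ t ≠ 1 ∧ t ≠ JC := by
    by_contra hc
    push Not at hc
    have : Nat.card (P' : Subgroup C) ≤ 2 := by
      refine (Nat.card_le_card_of_surjective (fun b : Bool => if b then (⟨JC, hJP⟩ : (P' : Subgroup C)) else 1)
        fun x => ?_).trans (by simp)
      by_cases hx : (x : C) = 1
      · exact ⟨false, Subtype.ext hx.symm⟩
      · exact ⟨true, Subtype.ext (hc x x.2 hx).symm⟩
    omega
  set σ₀ : C := JC * τ₀ with hσ
  have hσP : σ₀ ∈ P' := (P' : Subgroup C).mul_mem hJP hτP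
  have hJC1 : JC ≠ 1 := fun h => hJ1 (congrArg Subtype.val h)
  have hJJ : JC * JC = 1 := Subtype.ext (hsq J hJ)
  have hσ1 : σ₀ ≠ 1 := fun h => hτJ (by
    have := congrArg (JC * ·) h
    simpa [hσ, ← mul_assoc, hJJ] using this)
  have hσJ : σ₀ ≠ JC := fun h => hτ1 (mul_left_cancel (h.trans (mul_one JC).symm))
  have hστ : σ₀ ≠ τ₀ := fun h => hJC1 (mul_right_cancel (h.trans (one_mul τ₀).symm))
  have hfour : ∀ x : C, x ∈ P' → x = 1 ∨ x = JC ∨ x = τ₀ ∨ x = σ₀ := by
    intro x hx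
    by_contra hne
    push Not at hne
    let S : Finset C := {1, JC, τ₀, σ₀, x}
    have hS : S.card = 5 := by
      simp [S, hJC1.symm, hτ1.symm, hσ1.symm, hne.1.symm, hτJ.symm, hσJ.symm, hne.2.1.symm,
        hστ.symm, hne.2.2.1.symm, hne.2.2.2.symm]
    have hle : S.card ≤ (Finset.univ.filter fun g : C => g ∈ P').card := Finset.card_le_card (by
      intro g hg
      simp only [S, Finset.mem_insert, Finset.mem_singleton] at hg
      refine Finset.mem_filter.mpr ⟨Finset.mem_univ _, ?_⟩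
      rcases hg with rfl | rfl | rfl | rfl | rfl
      exacts [one_mem _, hJP, hτP, hσP, hx])
    rw [hS, ← Fintype.card_subtype, ← Nat.card_eq_fintype_card] at hle
    have : Nat.card { g : C // g ∈ P' } = 4 := hP'card
    omega
  have hJcomm : ∀ c : C, JC * c = c * JC := fun c =>
    Subtype.ext (Subgroup.mem_centralizer_singleton_iff.mp c.2).symm
  -- involutions of the centralizer
  have hinv : ∀ u : C, orderOf u = 2 →
      ∃ x : C, x ∈ P' ∧ x ≠ 1 ∧ IsConj x u ∧ (QuotientGroup.mk x : C ⧸ O) = QuotientGroup.mk u := by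
    intro u hu
    obtain ⟨Q, hQ⟩ := (isPGroup_zpowers (p := 2) (z := u)
      ⟨1, by rw [pow_one, ← hu]; exact pow_orderOf_eq_one u⟩).exists_le_sylow
    obtain ⟨g, hg⟩ := MulAction.exists_smul_eq C Q P'
    refine ⟨g * u * g⁻¹, ?_, ?_, isConj_iff.mpr ⟨g⁻¹, by group⟩, ?_⟩
    · rw [← hg]
      exact ⟨u, hQ (Subgroup.mem_zpowers u), rfl⟩
    · intro h
      rw [conj_eq_one_iff] at h
      rw [h, orderOf_one] at hu
      norm_num at hu
    · rw [QuotientGroup.mk_mul, QuotientGroup.mk_mul, hqc (QuotientGroup.mk g), mul_assoc,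
        QuotientGroup.mk_inv, mul_inv_cancel, mul_one]
  have hclass : ∀ {x u : C}, IsConj x u → (QuotientGroup.mk x : C ⧸ O) = QuotientGroup.mk u := by
    intro x u h
    obtain ⟨g, rfl⟩ := isConj_iff.mp h
    rw [QuotientGroup.mk_mul, QuotientGroup.mk_mul, hqc (QuotientGroup.mk g), mul_assoc,
      QuotientGroup.mk_inv, mul_inv_cancel, mul_one]
  have hord : ∀ {x u : C}, x ∈ P' → x ≠ 1 → IsConj x u → orderOf u = 2 := by
    intro x u hx hx1 h
    obtain ⟨g, rfl⟩ := isConj_iff.mp h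
    rw [show g * x * g⁻¹ = (MulAut.conj g).toMonoidHom x from rfl,
      orderOf_injective _ (MulAut.conj g).injective]
    exact orderOf_eq_prime (Subtype.ext (by rw [sq]; exact hsq _ ((hmem x).mp hx))) hx1
  -- class sizes
  have hsize : ∀ x : C, x ∈ P' → x ≠ 1 → x ≠ JC →
      Nat.card {u : C // IsConj x u} * Nat.card (Subgroup.centralizer ((P : Subgroup G) : Set G)) =
        Nat.card C := by
    intro x hx hx1 hxJ
    rw [← CT.card_conj_class_mul_centralizer x]
    congr 1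
    refine Nat.card_congr
      { toFun := fun g => ⟨⟨g.1, Subgroup.mem_centralizer_singleton_iff.mpr (g.2 J hJ).symm⟩,
          Subgroup.mem_centralizer_singleton_iff.mpr (Subtype.ext (g.2 _ ((hmem x).mp hx)).symm)⟩
        invFun := fun c => ⟨(c.1 : G), fun a ha => ?_⟩
        left_inv := fun g => rfl
        right_inv := fun c => rfl }
    have hcx : (c.1 : G) * x = x * c.1 :=
      congrArg Subtype.val (Subgroup.mem_centralizer_singleton_iff.mp c.2)
    have hcJ : (c.1 : G) * J = J * c.1 := Subgroup.mem_centralizer_singleton_iff.mp c.1.2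
    have hprod : ∀ y : C, y ∈ P' → y = 1 ∨ y = JC ∨ y = x ∨ y = JC * x := by
      intro y hy
      rcases hfour x hx with e | e | e | e
      · exact absurd e hx1
      · exact absurd e hxJ
      · rw [e]; exact hfour y hy
      · rw [e, hσ, ← mul_assoc, hJJ, one_mul, ← hσ]
        rcases hfour y hy with h | h | h | h
        exacts [Or.inl h, Or.inr (Or.inl h), Or.inr (Or.inr (Or.inr h)), Or.inr (Or.inr (Or.inl h))]
    rcases hprod ⟨a, hPC ha⟩ ((hmem _).mpr ha) with e | e | e | e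
    all_goals rw [show a = ((⟨a, hPC ha⟩ : C) : G) from rfl, e]
    · simp
    · exact hcJ.symm
    · exact hcx.symm
    · exact ((Commute.mul_right (hcJ : Commute (c.1 : G) J) (hcx : Commute (c.1 : G) x)).eq).symm
  set N₁ := Nat.card {u : C // IsConj τ₀ u} with hN₁
  have hτsize := hsize τ₀ hτP hτ1 hτJ
  refine ⟨N₁, hτsize, ?_⟩
  have hσsize : Nat.card {u : C // IsConj σ₀ u} = N₁ :=
    Nat.eq_of_mul_eq_mul_right Nat.card_pos ((hsize σ₀ hσP hσ1 hσJ).trans hτsize.symm)
  -- the pairs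
  have hτσ : τ₀ * σ₀ = JC := by
    rw [hσ, ← mul_assoc, ← hJcomm τ₀, mul_assoc, show τ₀ * τ₀ = 1 from
      Subtype.ext (hsq _ ((hmem _).mp hτP)), mul_one]
  have hστ' : σ₀ * τ₀ = JC := by
    rw [hσ, mul_assoc, show τ₀ * τ₀ = 1 from Subtype.ext (hsq _ ((hmem _).mp hτP)), mul_one]
  have hmk : ∀ {x y : C} (u : {u : C // IsConj x u}) (v : {v : C // IsConj y v}),
      x * y = JC → IsPPart 2 (((u : C) : G) * ((v : C) : G)) J := by
    intro x y u v hxy
    have hO' : JC⁻¹ * ((u : C) * (v : C)) ∈ O := by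
      refine QuotientGroup.eq.mp ?_
      rw [← hxy, QuotientGroup.mk_mul, QuotientGroup.mk_mul, hclass u.2, hclass v.2]
    have hodd : ¬ 2 ∣ orderOf ((JC⁻¹ * ((u : C) * (v : C)) : C) : G) := by
      rw [Subgroup.orderOf_coe]
      exact fun h => hO (h.trans (Subgroup.orderOf_dvd_natCard O hO'))
    have := isPPart_mk (p := 2)
      (show Commute J ((JC⁻¹ * ((u : C) * (v : C)) : C) : G) from
        (Subgroup.mem_centralizer_singleton_iff.mp (JC⁻¹ * ((u : C) * (v : C))).2).symm)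
      ⟨1, by rw [pow_one, ← hJ2]; exact pow_orderOf_eq_one J⟩ hodd
    simpa [JC] using this
  let Φ : ({u : C // IsConj τ₀ u} × {u : C // IsConj σ₀ u}) ⊕
      ({u : C // IsConj σ₀ u} × {u : C // IsConj τ₀ u}) → InvPairs J := fun s =>
    match s with
    | .inl (u, v) => ⟨(((u : C) : G), ((v : C) : G)),
        by rw [Subgroup.orderOf_coe]; exact hord hτP hτ1 u.2,
        by rw [Subgroup.orderOf_coe]; exact hord hσP hσ1 v.2, hmk u v hτσ⟩
    | .inr (u, v) => ⟨(((u : C) : G), ((v : C) : G)),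
        by rw [Subgroup.orderOf_coe]; exact hord hσP hσ1 u.2,
        by rw [Subgroup.orderOf_coe]; exact hord hτP hτ1 v.2, hmk u v hστ'⟩
  have hΦ : Function.Bijective Φ := by
    constructor
    · intro s t hst
      have h1 := congrArg (fun w : InvPairs J => w.1.1) hst
      have h2 := congrArg (fun w : InvPairs J => w.1.2) hst
      have hne : ∀ (u : {u : C // IsConj τ₀ u}) (v : {v : C // IsConj σ₀ v}),
          ((u : C) : G) ≠ ((v : C) : G) := fun u v e => hστ (congrArg Subtype.val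
        (@hinj ⟨σ₀, hσP⟩ ⟨τ₀, hτP⟩
          ((hclass v.2).trans (((congrArg _ (Subtype.ext e)).symm).trans (hclass u.2).symm))))
      rcases s with ⟨u, v⟩ | ⟨u, v⟩ <;> rcases t with ⟨u', v'⟩ | ⟨u', v'⟩ <;> simp only [Φ] at h1 h2
      · rw [Subtype.ext (Subtype.ext h1) (a1 := u) (a2 := u'), Subtype.ext (Subtype.ext h2) (a1 := v) (a2 := v')]
      · exact absurd h1 (hne u u')
      · exact absurd h1.symm (hne u' u)
      · rw [Subtype.ext (Subtype.ext h1) (a1 := u) (a2 := u'), Subtype.ext (Subtype.ext h2) (a1 := v) (a2 := v')]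
    · rintro ⟨⟨u, v⟩, hu, hv, hp⟩
      have hu2 : u * u = 1 := by rw [← sq, ← hu]; exact pow_orderOf_eq_one u
      have hv2 : v * v = 1 := by rw [← sq, ← hv]; exact pow_orderOf_eq_one v
      obtain ⟨i, hi⟩ := Subgroup.mem_zpowers_iff.mp (ppart_mem_zpowers hp)
      have hJi : J⁻¹ = J := inv_eq_of_mul_eq_one_left (hsq J hJ)
      have huJ : u * J * u⁻¹ = J := by
        have e1 : u * (u * v) * u⁻¹ = (u * v)⁻¹ := by
          rw [mul_inv_rev, ← mul_assoc, hu2, one_mul, inv_eq_of_mul_eq_one_left hv2]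
        have e2 := congrArg (MulAut.conj u) hi
        rw [map_zpow, MulAut.conj_apply, MulAut.conj_apply, e1, inv_zpow, hi, hJi] at e2
        exact e2.symm
      have huC : u ∈ C := Subgroup.mem_centralizer_singleton_iff.mpr (mul_inv_eq_iff_eq_mul.mp huJ)
      have huvC : u * v ∈ C := by
        obtain ⟨y, hy, hc, -, -⟩ := hp
        refine Subgroup.mem_centralizer_singleton_iff.mpr ?_
        rw [← hy]
        exact ((Commute.refl J).mul_left hc.symm).eq
      have hvC : v ∈ C := by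
        have := C.mul_mem (C.inv_mem huC) huvC
        simpa using this
      set u' : C := ⟨u, huC⟩
      set v' : C := ⟨v, hvC⟩
      obtain ⟨x, hx, hx1, hxu, hxu'⟩ := hinv u' (by rw [← Subgroup.orderOf_coe]; exact hu)
      obtain ⟨y, hy, hy1, hyv, hyv'⟩ := hinv v' (by rw [← Subgroup.orderOf_coe]; exact hv)
      have hxy : x * y = JC := by
        refine congrArg Subtype.val (@hinj ⟨x * y, (P' : Subgroup C).mul_mem hx hy⟩ ⟨JC, hJP⟩ ?_)
        show (QuotientGroup.mk (x * y) : C ⧸ O) = QuotientGroup.mk JC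
        rw [QuotientGroup.mk_mul, hxu', hyv', ← QuotientGroup.mk_mul, eq_comm, QuotientGroup.eq]
        obtain ⟨w, hw, hcom, -, hreg⟩ := hp
        refine mem_of_pow_index ⟨k, hk⟩ ?_
        rw [← Subgroup.orderOf_coe]
        simp only [Subgroup.coe_mul, Subgroup.coe_inv, u', v', JC]
        rwa [← hw, inv_mul_cancel_left]
      have hxJ : x ≠ JC := fun h => hy1 (mul_left_cancel ((h ▸ hxy : JC * y = JC).trans (mul_one JC).symm))
      rcases hfour x hx with rfl | rfl | rfl | rfl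
      · exact absurd rfl hx1
      · exact absurd rfl hxJ
      · obtain rfl : y = σ₀ := mul_left_cancel (hxy.trans hτσ.symm)
        exact ⟨.inl (⟨u', hxu⟩, ⟨v', hyv⟩), rfl⟩
      · obtain rfl : y = τ₀ := mul_left_cancel (hxy.trans hστ'.symm)
        exact ⟨.inr (⟨u', hxu⟩, ⟨v', hyv⟩), rfl⟩
  rw [← Nat.card_eq_of_bijective Φ hΦ, Nat.card_sum, Nat.card_prod, Nat.card_prod, hσsize, ← hN₁]
  ring

/-! ### The order formula -/

/-- Brauer's identity for the degrees in the principal block. -/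
theorem klein_order_key (hM : IsPModular 2 M) (P : Sylow 2 G) (hP : IsKleinFour (P : Subgroup G))
    (hone : ∀ s t : G, orderOf s = 2 → orderOf t = 2 → IsConj s t) {J : G} (hJ : J ∈ P)
    (hJ2 : orderOf J = 2) (χ₁ χ₂ χ₃ : IrrCharacter G) (ε₁ ε₂ ε₃ : ℤ)
    (hB : principalBlock M G =
      {χ : IrrCharacter G | (χ : G → ℂ) = (fun _ => 1) ∨ χ = χ₁ ∨ χ = χ₂ ∨ χ = χ₃})
    (hdist : (χ₁ : G → ℂ) ≠ (fun _ => 1) ∧ (χ₂ : G → ℂ) ≠ (fun _ => 1) ∧
      (χ₃ : G → ℂ) ≠ (fun _ => 1) ∧ χ₁ ≠ χ₂ ∧ χ₁ ≠ χ₃ ∧ χ₂ ≠ χ₃)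
    (hε : (ε₁ = 1 ∨ ε₁ = -1) ∧ (ε₂ = 1 ∨ ε₂ = -1) ∧ (ε₃ = 1 ∨ ε₃ = -1))
    (hval : (χ₁ : G → ℂ) J = ε₁ ∧ (χ₂ : G → ℂ) J = ε₂ ∧ (χ₃ : G → ℂ) J = ε₃) :
    ∃ N₁ k : ℕ, N₁ * Nat.card (Subgroup.centralizer ((P : Subgroup G) : Set G)) =
        Nat.card (Subgroup.centralizer ({J} : Set G)) ∧
      k * Nat.card (Subgroup.centralizer ({J} : Set G)) = Nat.card G ∧
      1 + ε₁ * (charDegree (χ₁ : G → ℂ) : ℤ) + ε₂ * (charDegree (χ₂ : G → ℂ) : ℤ) +
        ε₃ * (charDegree (χ₃ : G → ℂ) : ℤ) = 0 ∧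
      (k : ℚ) * (1 + (ε₁ : ℚ) / charDegree (χ₁ : G → ℂ) + (ε₂ : ℚ) / charDegree (χ₂ : G → ℂ) +
        (ε₃ : ℚ) / charDegree (χ₃ : G → ℂ)) = 8 * (N₁ : ℚ) ^ 2 ∧
      ((∀ g, conj ((χ₁ : G → ℂ) g) = (χ₁ : G → ℂ) g) →
        (∀ g, conj ((χ₂ : G → ℂ) g) = (χ₂ : G → ℂ) g) →
        (∀ g, conj ((χ₃ : G → ℂ) g) = (χ₃ : G → ℂ) g) → 1 + ε₁ + ε₂ + ε₃ = 0) ∧
      ∀ i : Fin 3, ∃ j : Fin 3,
        (fun g => conj ((![χ₁, χ₂, χ₃] i : IrrCharacter G).1 g)) = (![χ₁, χ₂, χ₃] j).1 := by
  classical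
  haveI : Fact (Nat.Prime 2) := ⟨Nat.prime_two⟩
  haveI := Fintype.ofFinite G
  haveI := hP
  obtain ⟨h1t, h2t, h3t, h12, h13, h23⟩ := hdist
  obtain ⟨hε₁, hε₂, hε₃⟩ := hε
  obtain ⟨hv1, hv2, hv3⟩ := hval
  set t := CT.trivIrr G
  set T : Finset (IrrCharacter G) := {t, χ₁, χ₂, χ₃} with hT
  have hBT : principalBlock M G = (T : Set (IrrCharacter G)) := by
    rw [hB]
    ext χ
    simp only [Set.mem_ofPred_eq, hT, Finset.coe_insert, Finset.coe_singleton, Set.mem_insert_iff,
      Set.mem_singleton_iff]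
    exact or_congr ⟨fun h => Subtype.ext h, fun h => congrArg Subtype.val h⟩ Iff.rfl
  have hne : ∀ χ : IrrCharacter G, (χ : G → ℂ) ≠ (fun _ => 1) → t ≠ χ := fun χ h e =>
    h (e ▸ rfl)
  have hsum : ∀ f : IrrCharacter G → ℂ, ∑ χ ∈ T, f χ = f t + f χ₁ + f χ₂ + f χ₃ := fun f => by
    rw [hT, Finset.sum_insert (by simp [hne _ h1t, hne _ h2t, hne _ h3t]),
      Finset.sum_insert (by simp [h12, h13]), Finset.sum_insert (by simp [h23]), Finset.sum_singleton]
    ring
  have hmem : ∀ χ, χ = χ₁ ∨ χ = χ₂ ∨ χ = χ₃ → χ ∈ principalBlock M G := fun χ h => by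
    rw [hB]; exact Or.inr h
  -- the singular indicator
  let F : G → ℂ := fun g => 1 + (ε₁ : ℂ) * (χ₁ : G → ℂ) g + (ε₂ : ℂ) * (χ₂ : G → ℂ) g +
    (ε₃ : ℂ) * (χ₃ : G → ℂ) g
  have hreg : ∀ g, ¬ 2 ∣ orderOf g → F g = 0 := by
    intro g hg
    have h := weak_orthogonality hM (blockCoeff_mem_loc (isPBlock_blockOf t)) hg (h := J)
      (by rw [hJ2])
    rw [show blockOf M (t : G → ℂ) = (T : Set (IrrCharacter G)) from hBT, finsum_mem_coe_finset,
      hsum] at h
    simp only [hv1, hv2, hv3, t, CT.trivIrr_apply, map_one, mul_one, map_intCast] at h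
    rw [← h]
    simp only [F]
    ring
  have hklein : ∀ Q : Sylow 2 G, IsKleinFour (Q : Subgroup G) := fun Q =>
    ⟨(Nat.card_congr (Sylow.equiv P Q).symm.toEquiv).trans hP.card_four,
      (Monoid.exponent_eq_of_mulEquiv (Sylow.equiv P Q)).symm.trans hP.exponent_two⟩
  have hppart : ∀ g : G, 2 ∣ orderOf g → ∃ z, IsPPart 2 g z ∧ orderOf z = 2 := by
    intro g hg
    obtain ⟨x, hx, -⟩ := exists_isPPart (p := 2) g
    have hx1 : x ≠ 1 := fun h => (isPPart_one_iff.mp (h ▸ hx)) hg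
    obtain ⟨Q, hQ⟩ := (isPGroup_zpowers (p := 2) (z := x) (ppart_pow_eq_one hx)).exists_le_sylow
    haveI := hklein Q
    exact ⟨x, hx, orderOf_eq_prime (by
      rw [sq]
      exact congrArg Subtype.val
        (IsKleinFour.mul_self (⟨x, hQ (Subgroup.mem_zpowers x)⟩ : (Q : Subgroup G)))) hx1⟩
  have hsing : ∀ g, 2 ∣ orderOf g → F g = 4 := by
    intro g hg
    obtain ⟨z, hz, hz2⟩ := hppart g hg
    obtain ⟨Q, hQ⟩ := (isPGroup_zpowers (p := 2) (z := z) (ppart_pow_eq_one hz)).exists_le_sylow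
    have hz1 : z ≠ 1 := fun h => by rw [h, orderOf_one] at hz2; norm_num at hz2
    obtain ⟨y, hzy, hcom, -, hy⟩ := hz
    have hχ : ∀ χ ∈ principalBlock M G, (χ : G → ℂ) g = (χ : G → ℂ) J := fun χ hχ => by
      rw [← hzy, section_const hM ⟨1, by rw [pow_one, ← hz2]; exact pow_orderOf_eq_one z⟩
        (klein_centralizer_core Q (hklein Q) (hQ (Subgroup.mem_zpowers z)) hz1) hχ hcom.symm hy]
      exact CT.isClassFunction_isConj (CT.isClassFunction_of_isIrr χ.2) (hone _ _ hz2 hJ2)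
    simp only [F, hχ _ (hmem _ (Or.inl rfl)), hχ _ (hmem _ (Or.inr (Or.inl rfl))),
      hχ _ (hmem _ (Or.inr (Or.inr rfl))), hv1, hv2, hv3]
    rcases hε₁ with rfl | rfl <;> rcases hε₂ with rfl | rfl <;> rcases hε₃ with rfl | rfl <;>
      norm_num
  -- the relation of degrees
  have hrel : 1 + ε₁ * (charDegree (χ₁ : G → ℂ) : ℤ) + ε₂ * (charDegree (χ₂ : G → ℂ) : ℤ) +
      ε₃ * (charDegree (χ₃ : G → ℂ) : ℤ) = 0 := by
    have h := hreg 1 (by rw [orderOf_one]; norm_num)
    simp only [F, charDegree_cast] at h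
    exact_mod_cast h
  -- the double sum
  set K := Finset.univ.filter fun u : G => orderOf u = 2 with hK
  have hKcard : K.card * Nat.card (Subgroup.centralizer ({J} : Set G)) = Nat.card G := by
    rw [← CT.card_conj_class_mul_centralizer J, hK, ← Fintype.card_subtype,
      ← Nat.card_eq_fintype_card]
    congr 1
    refine Nat.card_congr (Equiv.subtypeEquivRight fun u => ⟨fun h => hone _ _ hJ2 h, fun h => ?_⟩)
    obtain ⟨c, rfl⟩ := isConj_iff.mp h
    exact (orderOf_injective (MulAut.conj c).toMonoidHom (MulAut.conj c).injective J).trans hJ2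
  have homega : ∀ χ : IrrCharacter G, ∑ w ∈ K ×ˢ K, (χ : G → ℂ) (w.1 * w.2) =
      (K.card : ℂ) ^ 2 * (χ : G → ℂ) J ^ 2 / (χ : G → ℂ) 1 := by
    intro χ
    have hind : ∀ v : G, (ClassSum.classInd J v : ℂ) = if v ∈ K then 1 else 0 := by
      intro v
      by_cases hv : IsConj J v
      · rw [ClassSum.classInd_pos hv, if_pos]
        · simp
        · obtain ⟨c, rfl⟩ := isConj_iff.mp hv
          exact Finset.mem_filter.mpr ⟨Finset.mem_univ _,
            (orderOf_injective (MulAut.conj c).toMonoidHom (MulAut.conj c).injective J).trans hJ2⟩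
      · rw [ClassSum.classInd_neg hv, if_neg]
        · simp
        · exact fun h => hv (hone _ _ hJ2 (Finset.mem_filter.mp h).2)
    have hv' : ∀ u ∈ K, ∑ v ∈ K, (χ : G → ℂ) (u * v) =
        (χ : G → ℂ) J * ((K.card : ℂ) * (χ : G → ℂ) J / (χ : G → ℂ) 1) := by
      intro u hu
      have e := ClassSum.char_mul_omega χ.2 (ClassSum.classInd_isClassWeight J) u
      simp only [hind, ite_mul, one_mul, zero_mul] at e
      rw [Finset.sum_ite_mem, Finset.univ_inter, ClassSum.omega_classInd _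
        (CT.isClassFunction_of_isIrr χ.2)] at e
      rw [← e, ← CT.isClassFunction_isConj (CT.isClassFunction_of_isIrr χ.2)
        (hone _ _ hJ2 (Finset.mem_filter.mp hu).2)]
      congr 3
      rw [hK, ← Fintype.card_subtype, ← Nat.card_eq_fintype_card]
      exact_mod_cast Nat.card_congr (Equiv.subtypeEquivRight fun v => by
        constructor
        · intro h
          obtain ⟨c, rfl⟩ := isConj_iff.mp h
          exact (orderOf_injective (MulAut.conj c).toMonoidHom (MulAut.conj c).injective J).trans hJ2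
        · exact fun h => hone _ _ hJ2 h)
    rw [Finset.sum_product, Finset.sum_congr rfl hv', Finset.sum_const, nsmul_eq_mul]
    ring
  obtain ⟨N₁, hN₁, hpairs⟩ := card_invPairs P hP hJ hJ2
  have hcount : ((K ×ˢ K).filter fun w => 2 ∣ orderOf (w.1 * w.2)).card = K.card * (2 * N₁ ^ 2) := by
    choose z hz hz2 using hppart
    let f : G × G → G := fun w => if h : 2 ∣ orderOf (w.1 * w.2) then z _ h else 1
    rw [Finset.card_eq_sum_card_fiberwise (f := f) (t := K) fun w hw => by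
      simp only [Finset.mem_coe, Finset.mem_filter] at hw
      simp [f, hw.2, hK, hz2]]
    refine Finset.sum_const_nat fun x hx => ?_
    have hx2 : orderOf x = 2 := (Finset.mem_filter.mp hx).2
    rw [← hpairs, card_invPairs_conj (hone _ _ hx2 hJ2), ← Fintype.card_coe,
      ← Nat.card_eq_fintype_card]
    refine Nat.card_congr (Equiv.subtypeEquivRight fun w => ?_)
    simp only [Finset.mem_filter, Finset.mem_product, hK, Finset.mem_univ, true_and]
    constructor
    · rintro ⟨⟨⟨a1, a2⟩, hs⟩, he⟩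
      simp only [f, hs, dite_true] at he
      exact ⟨a1, a2, he ▸ hz _ hs⟩
    · rintro ⟨a1, a2, hp⟩
      have hs : 2 ∣ orderOf (w.1 * w.2) := by
        by_contra hs
        rw [ppart_unique hp (isPPart_one hs), orderOf_one] at hx2
        norm_num at hx2
      refine ⟨⟨⟨a1, a2⟩, hs⟩, ?_⟩
      simp only [f, hs, dite_true]
      exact ppart_unique (hz _ hs) hp
  have hmain : (4 : ℂ) * ((K.card : ℂ) * (2 * (N₁ : ℂ) ^ 2)) = (K.card : ℂ) ^ 2 *
      (1 + (ε₁ : ℂ) / (χ₁ : G → ℂ) 1 + (ε₂ : ℂ) / (χ₂ : G → ℂ) 1 + (ε₃ : ℂ) / (χ₃ : G → ℂ) 1) := by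
    have h1 : ∑ w ∈ K ×ˢ K, F (w.1 * w.2) = (4 : ℂ) * ((K.card : ℂ) * (2 * (N₁ : ℂ) ^ 2)) := by
      rw [← Finset.sum_filter_of_ne (p := fun w : G × G => 2 ∣ orderOf (w.1 * w.2))
          (fun w _ h => by by_contra hw; exact h (hreg _ hw)),
        Finset.sum_congr rfl (g := fun _ => (4 : ℂ)) (fun w hw => hsing _ (Finset.mem_filter.mp hw).2),
        Finset.sum_const, nsmul_eq_mul, hcount]
      push_cast
      ring
    have ht : ∑ w ∈ K ×ˢ K, (1 : ℂ) = (K.card : ℂ) ^ 2 := by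
      rw [Finset.sum_const, Finset.card_product, nsmul_eq_mul, mul_one]
      push_cast
      ring
    rw [← h1]
    simp only [F, Finset.sum_add_distrib, ← Finset.mul_sum, homega, hv1, hv2, hv3, ht]
    rcases hε₁ with rfl | rfl <;> rcases hε₂ with rfl | rfl <;> rcases hε₃ with rfl | rfl <;>
      push_cast <;> ring
  have hKpos : (K.card : ℂ) ≠ 0 := Nat.cast_ne_zero.mpr fun h => by
    rw [h, zero_mul] at hKcard
    exact Nat.card_pos.ne hKcard
  refine ⟨N₁, K.card, hN₁, hKcard, hrel, ?_, ?_, ?_⟩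
  · have hC : (K.card : ℂ) * (1 + (ε₁ : ℂ) / (χ₁ : G → ℂ) 1 + (ε₂ : ℂ) / (χ₂ : G → ℂ) 1 +
        (ε₃ : ℂ) / (χ₃ : G → ℂ) 1) = 8 * (N₁ : ℂ) ^ 2 :=
      mul_left_cancel₀ hKpos (by linear_combination -hmain)
    simp only [charDegree_cast] at hC
    refine Rat.cast_injective (α := ℂ) ?_
    push_cast
    exact hC
  · intro r1 r2 r3
    -- no element of order 4
    have hF0 : ∀ s : G, F (s * s) = 0 := by
      intro s
      refine hreg _ fun h => ?_
      rw [← sq] at h
      have h2 : 2 ∣ orderOf s := h.trans (orderOf_pow_dvd 2)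
      obtain ⟨x, hx, hx2⟩ := hppart s h2
      obtain ⟨y, hxy, hcom, -, hy⟩ := hx
      apply hy
      have e : s ^ 2 = y ^ 2 := by
        rw [← hxy, hcom.mul_pow, show x ^ 2 = 1 by rw [← hx2]; exact pow_orderOf_eq_one x, one_mul]
      rw [e] at h
      exact h.trans (orderOf_pow_dvd 2)
    have hodd : ∀ χ : IrrCharacter G, ∀ ε : ℤ, (ε = 1 ∨ ε = -1) → (χ : G → ℂ) J = ε →
        Odd (CT.deg (χ : G → ℂ)) := by
      intro χ ε hε hv
      obtain ⟨s, hs, hd⟩ := klein_char_value P hP hone hJ2 χ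
      rw [hv] at hs
      obtain rfl : ε = s := by exact_mod_cast hs
      show Odd (charDegree (χ : G → ℂ))
      rw [Nat.odd_iff]
      omega
    have hsum0 : ∑ s : G, F (s * s) = 0 := Finset.sum_eq_zero fun s _ => hF0 s
    have e : ∀ χ : IrrCharacter G, (∀ g, conj ((χ : G → ℂ) g) = (χ : G → ℂ) g) →
        Odd (CT.deg (χ : G → ℂ)) → ∑ s : G, (χ : G → ℂ) (s * s) = (Nat.card G : ℂ) := fun χ hr ho => by
      have := CT.ind_eq_one_of_odd χ.2 hr ho
      rw [CharFS.ind, inv_mul_eq_iff_eq_mul₀ (CT.card_ne_zero (G := G)), mul_one] at this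
      exact this
    simp only [F, Finset.sum_add_distrib, ← Finset.mul_sum, e _ r1 (hodd _ _ hε₁ hv1),
      e _ r2 (hodd _ _ hε₂ hv2), e _ r3 (hodd _ _ hε₃ hv3), Finset.sum_const, Finset.card_univ,
      ← Nat.card_eq_fintype_card, nsmul_eq_mul, mul_one] at hsum0
    have : ((Nat.card G : ℂ)) * (1 + (ε₁ : ℂ) + ε₂ + ε₃) = 0 := by linear_combination hsum0
    have h0 := (mul_eq_zero.mp this).resolve_left (CT.card_ne_zero (G := G))
    exact_mod_cast h0
  · -- the block is closed under complex conjugation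
    have hFr : ∀ g, conj (F g) = F g := fun g => by
      by_cases hg : 2 ∣ orderOf g
      · rw [hsing g hg]; exact map_ofNat _ 4
      · rw [hreg g hg]; simp
    have hFeq : F = (fun _ => (1 : ℂ)) + (ε₁ : ℂ) • (χ₁ : G → ℂ) + (ε₂ : ℂ) • (χ₂ : G → ℂ) +
        (ε₃ : ℂ) • (χ₃ : G → ℂ) := by
      funext g; simp [F]
    have hinner : ∀ χ : IrrCharacter G, classInner F (χ : G → ℂ) =
        (if t = χ then 1 else 0) + (ε₁ : ℂ) * (if χ₁ = χ then 1 else 0) +
          (ε₂ : ℂ) * (if χ₂ = χ then 1 else 0) + (ε₃ : ℂ) * (if χ₃ = χ then 1 else 0) := fun χ => by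
      rw [hFeq, CT.classInner_add_left, CT.classInner_add_left, CT.classInner_add_left,
        CT.classInner_smul_left, CT.classInner_smul_left, CT.classInner_smul_left]
      simp only [CT.irr_inner_subtype]
      rw [show (fun _ : G => (1 : ℂ)) = (t : G → ℂ) from rfl, CT.irr_inner_subtype]
    intro i
    set χ := (![χ₁, χ₂, χ₃] i : IrrCharacter G) with hχdef
    set ψ : IrrCharacter G := ⟨_, CT.isIrr_of_inner_self
      (CT.isCharacter_conj (CT.isCharacter_of_isIrr χ.2))
      (show classInner (fun g => conj (χ.1 g)) (fun g => conj (χ.1 g)) = 1 by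
        rw [← CT.classInner_conj_symm, show classInner (fun g => conj (χ.1 g)) (fun g => conj (χ.1 g)) =
          conj (classInner χ.1 χ.1) by simp [classInner], CT.irr_inner_self χ.2]
        simp)⟩ with hψ
    have hconj : classInner F (ψ : G → ℂ) = conj (classInner F (χ : G → ℂ)) := by
      simp [classInner, hψ, hFr]
    have hneχ : t ≠ χ := by
      fin_cases i
      exacts [hne _ h1t, hne _ h2t, hne _ h3t]
    have hψt : t ≠ ψ := fun h => hneχ (Subtype.ext (funext fun g => by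
      have := congrFun (congrArg Subtype.val h) g
      simp only [hψ, t, CT.trivIrr_apply] at this
      have := congrArg (starRingEnd ℂ) this
      simpa [t] using this))
    have h0 : classInner F (χ : G → ℂ) ≠ 0 := by
      rw [hinner, if_neg hneχ]
      fin_cases i
      · simp [hχdef, h12.symm, h13.symm]
        rcases hε₁ with rfl | rfl <;> norm_num
      · simp [hχdef, h12, h23.symm]
        rcases hε₂ with rfl | rfl <;> norm_num
      · simp [hχdef, h13, h23]
        rcases hε₃ with rfl | rfl <;> norm_num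
    have h1 : classInner F (ψ : G → ℂ) ≠ 0 := by
      rw [hconj]
      exact (map_ne_zero_iff _ (RingHom.injective _)).mpr h0
    rw [hinner, if_neg hψt] at h1
    by_cases e1 : χ₁ = ψ
    · exact ⟨0, (congrArg Subtype.val e1).symm⟩
    by_cases e2 : χ₂ = ψ
    · exact ⟨1, (congrArg Subtype.val e2).symm⟩
    by_cases e3 : χ₃ = ψ
    · exact ⟨2, (congrArg Subtype.val e3).symm⟩
    exact absurd (by simp [e1, e2, e3]) h1

end Cfsg.Agent.Blocks
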