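import Cfsg.Agent.Lib.Blocks.LatticeTate
import Mathlib.RingTheory.Polynomial.Basic
import Mathlib.Algebra.Polynomial.Expand
import Mathlib.Algebra.Field.ZMod
import Mathlib.LinearAlgebra.Dimension.Localization

/-!
# The Herbrand quotient of a lattice over a group of prime order
-/

set_option linter.unusedSectionVars false

namespace Cfsg.Agent.Blocks.Tate

open Module

universe u v w z

variable {R : Type u} [CommRing R] [IsDomain R] {k : Type z} [Field k] {p : ℕ}
variable {L : Type w} [AddCommGroup L] [Module R L]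

/-- The length of `A / B`. -/
noncomputable def qlen (A B : Submodule R L) : ℕ∞ :=
  Module.length R (A ⧸ B.comap A.subtype)

theorem qlen_add {A B C : Submodule R L} (h1 : C ≤ B) (h2 : B ≤ A) :
    qlen A C = qlen B C + qlen A B := by
  let f : (B ⧸ C.comap B.subtype) →ₗ[R] (A ⧸ C.comap A.subtype) :=
    Submodule.mapQ _ _ (Submodule.inclusion h2) fun y hy => hy
  let g : (A ⧸ C.comap A.subtype) →ₗ[R] (A ⧸ B.comap A.subtype) :=
    Submodule.mapQ _ _ LinearMap.id fun y hy => h1 hy
  refine Module.length_eq_add_of_exact f g ?_ ?_ ?_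
  · rw [← LinearMap.ker_eq_bot, eq_bot_iff]
    intro y hy
    induction y using Submodule.Quotient.induction_on with
    | _ y =>
      exact (Submodule.Quotient.mk_eq_zero _).mpr ((Submodule.Quotient.mk_eq_zero _).mp
        (show Submodule.Quotient.mk (Submodule.inclusion h2 y) = 0 from hy) :)
  · intro y
    induction y using Submodule.Quotient.induction_on with
    | _ y => exact ⟨Submodule.Quotient.mk y, rfl⟩
  · intro y
    induction y using Submodule.Quotient.induction_on with
    | _ y =>
      constructor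
      · intro hy
        simp only [g, Submodule.mapQ_apply, Submodule.Quotient.mk_eq_zero] at hy
        exact ⟨Submodule.Quotient.mk ⟨y, hy⟩, rfl⟩
      · rintro ⟨z, hz⟩
        induction z using Submodule.Quotient.induction_on with
        | _ z =>
          simp only [g, Submodule.mapQ_apply, Submodule.Quotient.mk_eq_zero]
          have h3 : ((z : L) - (y : L)) ∈ B := h1 (show ((Submodule.inclusion h2 z - y : A) : L) ∈ C from
            (Submodule.Quotient.eq (C.comap A.subtype)).mp hz)
          have h4 := sub_mem z.2 h3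
          rwa [sub_sub_cancel] at h4

theorem qlen_self (A : Submodule R L) : qlen A A = 0 := by
  rw [qlen, Module.length_eq_zero_iff, Submodule.Quotient.subsingleton_iff,
    Submodule.comap_subtype_self]

theorem qlen_eq_of_range {W : Type*} [AddCommGroup W] [Module R W] (g : W →ₗ[R] L)
    {A B : Submodule R L} (hg : LinearMap.range g = A) :
    qlen A B = Module.length R (W ⧸ B.comap g) := by
  subst hg
  let φ : W →ₗ[R] _ := (B.comap (LinearMap.range g).subtype).mkQ.comp g.rangeRestrict
  have hker : B.comap g = LinearMap.ker φ := by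
    ext y
    simp [φ]
  rw [hker]
  exact (φ.quotKerEquivOfSurjective
    ((Submodule.mkQ_surjective _).comp g.surjective_rangeRestrict)).length_eq.symm

theorem qlen_eq_finrank (red : R →+* k) (hred : Function.Surjective red) {V : Type*}
    [AddCommGroup V] [Module k V] [FiniteDimensional k V] {A B : Submodule R L}
    (f : A → V) (hadd : ∀ a b, f (a + b) = f a + f b) (hsmul : ∀ (r : R) a, f (r • a) = red r • f a)
    (hf : Function.Surjective f) (hB : ∀ a, f a = 0 ↔ (a : L) ∈ B) :
    qlen A B = finrank k V := by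
  letI : Algebra R k := red.toAlgebra
  letI : Module R V := Module.compHom V red
  haveI : IsScalarTower R k V := ⟨fun r c v => by
    show (red r * c) • v = red r • c • v
    rw [mul_smul]⟩
  let φ : A →ₗ[R] V := { toFun := f, map_add' := hadd, map_smul' := hsmul }
  have hker : B.comap A.subtype = LinearMap.ker φ := by
    ext a
    exact (hB a).symm
  rw [qlen, hker, (φ.quotKerEquivOfSurjective hf).length_eq,
    Module.length_eq_of_surjective (S := R) (R := k) hred, Module.length_eq_finrank]

theorem qlen_smul_self (red : R →+* k) (h : IsRed p red) {A : Submodule R L}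
    [Module.Free R A] [Module.Finite R A] :
    qlen A (A.map ((p : R) • (LinearMap.id : L →ₗ[R] L))) = finrank R A := by
  let b := Module.finBasis R A
  rw [qlen_eq_finrank red h.surj (fun a i => red (b.repr a i))
    (fun a c => funext fun i => by simp) (fun r a => funext fun i => by simp) ?_ ?_,
    Module.finrank_pi, Fintype.card_fin]
  · intro c
    choose r hr using fun i => h.surj (c i)
    exact ⟨b.equivFun.symm r, funext fun i => by
      show red (b.repr (b.equivFun.symm r) i) = c i
      rw [← Basis.equivFun_apply, LinearEquiv.apply_symm_apply, hr]⟩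
  · intro a
    constructor
    · intro ha
      choose c hc using fun i => (h.ker _).mp (congrFun ha i)
      refine ⟨((∑ i, c i • b i : A) : L), Submodule.coe_mem _, ?_⟩
      conv_rhs => rw [← b.sum_repr a]
      simp only [LinearMap.smul_apply, LinearMap.id_apply, Submodule.coe_sum, Finset.smul_sum,
        Submodule.coe_smul, smul_smul, ← hc]
    · rintro ⟨y, hy, e⟩
      have e' : a = (p : R) • ⟨y, hy⟩ := Subtype.ext (by simpa using e.symm)
      funext i
      simp only [e', map_smul, Finsupp.smul_apply, smul_eq_mul, Pi.zero_apply]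
      exact (h.ker _).mpr (dvd_mul_right _ _)

theorem qlen_tateSpace [Module.IsTorsionFree R L] (red : R →+* k) (h : IsRed p red)
    (K I : Submodule R L) (hpK : ∀ u ∈ K, (p : R) • u ∈ I)
    {ι : Type v} [Fintype ι] (bI : Basis ι R I) :
    qlen K I = finrank k (tateSpace red K I hpK bI) :=
  qlen_eq_finrank red h.surj (clsT red K I hpK bI)
    (fun a b => Subtype.ext (cls_add red K I hpK bI a b))
    (fun r a => Subtype.ext (cls_smul red K I hpK bI r a))
    (clsT_surjective red K I hpK bI h)
    (fun a => by rw [← cls_eq_zero_iff red K I hpK bI h a, ← coe_clsT, Submodule.coe_eq_zero])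

open Polynomial in
theorem exists_pow_sub_one (hp : p.Prime) :
    ∃ W : ℤ[X], (X - 1) ^ (p - 1) = (∑ i ∈ Finset.range p, X ^ i) + C (p : ℤ) * W := by
  haveI : Fact p.Prime := ⟨hp⟩
  suffices C (p : ℤ) ∣ ((X - 1) ^ (p - 1) - ∑ i ∈ Finset.range p, X ^ i : ℤ[X]) by
    obtain ⟨W, hW⟩ := this
    exact ⟨W, by rw [← hW]; ring⟩
  rw [C_dvd_iff_dvd_coeff]
  intro n
  rw [← ZMod.intCast_zmod_eq_zero_iff_dvd, ← eq_intCast (Int.castRingHom (ZMod p)),
    ← coeff_map, Polynomial.map_sub, Polynomial.map_pow, Polynomial.map_sub, map_X,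
    Polynomial.map_one, Polynomial.map_sum]
  simp only [Polynomial.map_pow, map_X]
  have key : ((X - 1) ^ (p - 1) - ∑ i ∈ Finset.range p, X ^ i : (ZMod p)[X]) * (X - 1) = 0 := by
    rw [sub_mul, geom_sum_mul, ← pow_succ, Nat.sub_add_cancel hp.pos, sub_pow_char, one_pow,
      sub_self]
  rw [(mul_eq_zero.mp key).resolve_right (X_sub_C_ne_zero 1), coeff_zero]

variable {G : Type*} [Group G] [Finite G] (ρ : Representation R G L) (x : G)

theorem eq_zero_of_fix_norm [Module.IsTorsionFree R L] (hp0 : (p : R) ≠ 0) {u : L}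
    (h1 : u ∈ fixK ρ x) (h2 : u ∈ normK p ρ x) : u = 0 := by
  have : (p : R) • u = 0 := by
    rw [← LinearMap.mem_ker.mp h2]
    simp only [normSum, LinearMap.sum_apply, rho_pow_fix ρ x h1, Finset.sum_const,
      Finset.card_range, Nat.cast_smul_eq_nsmul]
  exact (smul_eq_zero.mp this).resolve_left hp0

/-- The multiplication by `x - 1` on the kernel of the norm. -/
theorem qlen_normK [IsPrincipalIdealRing R] [Module.Free R L] [Module.Finite R L]
    (red : R →+* k) (h : IsRed p red) (hp : p.Prime) (hxp : x ^ p = 1) :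
    ((p - 1 : ℕ) : ℕ∞) * qlen (normK p ρ x) ((normK p ρ x).map (ρ x - 1)) =
      finrank R (normK p ρ x) := by
  set K' := normK p ρ x
  set Δ : L →ₗ[R] L := ρ x - 1 with hΔ
  set pI : L →ₗ[R] L := (p : R) • LinearMap.id with hpI
  have hΔK : ∀ (i : ℕ), ∀ u ∈ K', (Δ ^ i) u ∈ K' := by
    intro i
    induction i with
    | zero => simp
    | succ i ih =>
      intro u hu
      rw [pow_succ', Module.End.mul_apply]
      exact augI_le_normK ρ x hxp ⟨_, rfl⟩
  have hinj : ∀ (i : ℕ), ∀ u ∈ K', (Δ ^ i) u = 0 → u = 0 := by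
    intro i
    induction i with
    | zero => simp
    | succ i ih =>
      intro u hu h0
      rw [pow_succ', Module.End.mul_apply] at h0
      exact ih u hu (eq_zero_of_fix_norm ρ x h.ne (LinearMap.mem_ker.mpr h0) (hΔK i u hu))
  have hmono : ∀ i, K'.map (Δ ^ (i + 1)) ≤ K'.map (Δ ^ i) := by
    rintro i _ ⟨u, hu, rfl⟩
    exact ⟨Δ u, by simpa using hΔK 1 u hu, by rw [pow_succ, Module.End.mul_apply]⟩
  have hle : ∀ i, K'.map (Δ ^ i) ≤ K' := by
    rintro i _ ⟨u, hu, rfl⟩
    exact hΔK i u hu
  have hstep : ∀ i, qlen (K'.map (Δ ^ i)) (K'.map (Δ ^ (i + 1))) = qlen K' (K'.map Δ) := by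
    intro i
    have e : (K'.map (Δ ^ (i + 1))).comap ((Δ ^ i).comp K'.subtype) =
        (K'.map Δ).comap K'.subtype := by
      ext ⟨u, hu⟩
      simp only [Submodule.mem_comap, LinearMap.comp_apply, Submodule.subtype_apply,
        Submodule.mem_map]
      constructor
      · rintro ⟨w, hw, e⟩
        refine ⟨w, hw, ?_⟩
        rw [← sub_eq_zero]
        refine hinj i _ (sub_mem (by simpa using hΔK 1 w hw) hu) ?_
        rw [map_sub, ← Module.End.mul_apply, ← pow_succ, e, sub_self]
      · rintro ⟨w, hw, rfl⟩
        exact ⟨w, hw, by rw [pow_succ, Module.End.mul_apply]⟩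
    rw [qlen_eq_of_range ((Δ ^ i).comp K'.subtype)
      (by rw [LinearMap.range_comp, Submodule.range_subtype]), e, qlen]
  have hpow : ∀ j : ℕ, qlen K' (K'.map (Δ ^ j)) = (j : ℕ∞) * qlen K' (K'.map Δ) := by
    intro j
    induction j with
    | zero => rw [pow_zero, Nat.cast_zero, zero_mul, Module.End.one_eq_id, Submodule.map_id,
        qlen_self]
    | succ j ih => rw [qlen_add (hmono j) (hle j), ih, hstep, Nat.cast_succ, add_mul, one_mul,
        add_comm]
  rw [← hpow, ← qlen_smul_self red h (A := K')]
  congr 1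
  -- `(x - 1) ^ (p - 1)` and `p` have the same image
  obtain ⟨W, hW⟩ := exists_pow_sub_one hp
  set WA := Polynomial.aeval (ρ x) W
  have hmain : ∀ u ∈ K', (Δ ^ (p - 1)) u = (p : R) • WA u := by
    intro u hu
    have e := congrArg (fun P => Polynomial.aeval (ρ x) P u) hW
    simp only [map_pow, map_sub, Polynomial.aeval_X, map_one, map_add, map_sum, map_mul,
      Polynomial.aeval_C, LinearMap.add_apply, Module.End.mul_apply] at e
    rw [e, show (∑ i ∈ Finset.range p, ρ x ^ i) u = 0 by
      have := LinearMap.mem_ker.mp hu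
      simpa [normSum] using this, zero_add]
    simp [WA, Nat.cast_smul_eq_nsmul, Algebra.algebraMap_eq_smul_one, natCast_zsmul]
  have hcomm : ∀ u, WA (Δ u) = Δ (WA u) := by
    intro u
    have : Polynomial.aeval (ρ x) (W * (Polynomial.X - 1)) u =
        Polynomial.aeval (ρ x) ((Polynomial.X - 1) * W) u := by rw [mul_comm]
    simpa [WA, hΔ] using this
  obtain ⟨W', hW'⟩ : ∃ W', W = Polynomial.C (-1) + (Polynomial.X - 1) * W' := by
    have h1 : W.eval 1 = -1 := by
      have e := congrArg (Polynomial.eval 1) hW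
      simp [zero_pow (show p - 1 ≠ 0 by have := hp.two_le; omega), Polynomial.eval_finsetSum] at e
      have : (p : ℤ) * (W.eval 1 + 1) = 0 := by linarith
      have := (mul_eq_zero.mp this).resolve_left (by exact_mod_cast hp.ne_zero)
      linarith
    obtain ⟨W', hW'⟩ : Polynomial.X - Polynomial.C (1 : ℤ) ∣ W - Polynomial.C (-1) :=
      Polynomial.dvd_iff_isRoot.mpr (by simp [h1])
    exact ⟨W', by rw [show (1 : Polynomial ℤ) = Polynomial.C 1 from Polynomial.C_1.symm, ← hW']; ring⟩
  set WA' := Polynomial.aeval (ρ x) W'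
  have hWA : ∀ u, WA u = -u + Δ (WA' u) := by
    intro u
    simp [WA, WA', hW', hΔ]
  have hWK : ∀ (Q : Polynomial ℤ), ∀ u ∈ K', Polynomial.aeval (ρ x) Q u ∈ K' := by
    intro Q u hu
    have hc : Polynomial.aeval (ρ x) Q * normSum ρ x p = normSum ρ x p * Polynomial.aeval (ρ x) Q := by
      refine Commute.eq ?_
      have : Commute (ρ x) (normSum ρ x p) := by
        show _ = _
        rw [normSum_comm ρ x hxp, normSum_mul ρ x hxp]
      induction Q using Polynomial.induction_on with
      | C a => simp only [Polynomial.aeval_C]; exact Algebra.commute_algebraMap_left _ _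
      | add P Q hP hQ => rw [map_add]; exact hP.add_left hQ
      | monomial n a _ =>
        rw [map_mul, map_pow, Polynomial.aeval_C, Polynomial.aeval_X]
        exact (Algebra.commute_algebraMap_left _ _).mul_left (this.pow_left _)
    show normSum ρ x p (Polynomial.aeval (ρ x) Q u) = 0
    rw [← Module.End.mul_apply, ← hc, Module.End.mul_apply,
      show normSum ρ x p u = 0 from hu, map_zero]
  refine le_antisymm ?_ ?_
  · rintro _ ⟨u, hu, rfl⟩
    exact ⟨WA u, hWK W u hu, by rw [hmain u hu]; rfl⟩
  · rintro _ ⟨u, hu, rfl⟩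
    -- `p K' ⊆ (x - 1) ^ (p - 1) K' + (x - 1) ^ j (p K')`
    have hit : ∀ j, ∀ u ∈ K', ∃ w ∈ K', ∃ u' ∈ K',
        (p : R) • u = (Δ ^ (p - 1)) w + (Δ ^ j) ((p : R) • u') := by
      intro j
      induction j with
      | zero => exact fun u hu => ⟨0, zero_mem _, u, hu, by simp⟩
      | succ j ih =>
        intro u hu
        obtain ⟨w, hw, u', hu', e⟩ := ih u hu
        refine ⟨w - (Δ ^ j) u', sub_mem hw (hΔK j u' hu'), WA' u', hWK W' u' hu', ?_⟩
        have h3 : (p : R) • u' = -(Δ ^ (p - 1)) u' + Δ ((p : R) • WA' u') := by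
          rw [hmain u' hu', hWA, smul_add, smul_neg, map_smul]
          abel
        rw [e, h3, map_add, map_neg, map_sub, pow_succ, Module.End.mul_apply]
        rw [← Module.End.mul_apply (Δ ^ j), ← Module.End.mul_apply (Δ ^ (p - 1)), ← pow_add,
          ← pow_add, add_comm j]
        abel
    obtain ⟨w, hw, u', hu', e⟩ := hit (p - 1) u hu
    refine ⟨w + (p : R) • u', add_mem hw (Submodule.smul_mem _ _ hu'), ?_⟩
    rw [map_add, ← e]
    rfl

/-- The difference of the dimensions of the two Tate groups. -/
theorem euler [IsPrincipalIdealRing R] [Module.Free R L] [Module.Finite R L]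
    (red : R →+* k) (h : IsRed p red) (hp : p.Prime) (hxp : x ^ p = 1)
    {ι₁ : Type v} [Fintype ι₁] (b₁ : Basis ι₁ R (normI p ρ x))
    {ι₂ : Type v} [Fintype ι₂] (b₂ : Basis ι₂ R (augI ρ x)) :
    ((p : R) - 1) *
        ((finrank k (tateSpace red (fixK ρ x) (normI p ρ x) (p_fix_mem ρ x) b₁) : R) -
          (finrank k (tateSpace red (normK p ρ x) (augI ρ x) (p_ker_mem ρ x) b₂) : R)) +
        (finrank R L : R) =
      LinearMap.trace R L (normSum ρ x p) := by
  set K := fixK ρ x
  set K' := normK p ρ x
  set Δ : L →ₗ[R] L := ρ x - 1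
  set pI : L →ₗ[R] L := (p : R) • LinearMap.id
  have hI : normI p ρ x ≤ K := normI_le_fixK ρ x hxp
  have hA : augI ρ x ≤ K' := augI_le_normK ρ x hxp
  have hpKI : K.map pI ≤ normI p ρ x := by
    rintro _ ⟨u, hu, rfl⟩
    exact p_fix_mem ρ x u hu
  have hΔKI : K'.map Δ ≤ augI ρ x := LinearMap.map_le_range
  have e1 : qlen (normI p ρ x) (K.map pI) = qlen (augI ρ x) (K'.map Δ) := by
    rw [qlen_eq_of_range (normSum ρ x p) rfl, qlen_eq_of_range Δ rfl]
    have e : (K.map pI).comap (normSum ρ x p) = (K'.map Δ).comap Δ := by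
      have hK : ∀ u ∈ K, normSum ρ x p u = (p : R) • u := fun u hu => by
        simp only [normSum, LinearMap.sum_apply, rho_pow_fix ρ x hu, Finset.sum_const,
          Finset.card_range, Nat.cast_smul_eq_nsmul]
      have hΔ0 : ∀ u ∈ K, Δ u = 0 := fun u hu => LinearMap.mem_ker.mp hu
      ext y
      simp only [Submodule.mem_comap, Submodule.mem_map]
      constructor
      · rintro ⟨u, hu, e⟩
        refine ⟨y - u, ?_, by rw [map_sub, hΔ0 u hu, sub_zero]⟩
        show normSum ρ x p (y - u) = 0
        rw [map_sub, hK u hu, ← e]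
        exact sub_self _
      · rintro ⟨w, hw, e⟩
        have hu : y - w ∈ K := LinearMap.mem_ker.mpr (show Δ (y - w) = 0 by
          rw [map_sub, e, sub_self])
        refine ⟨y - w, hu, (hK _ hu).symm.trans ?_⟩
        rw [map_sub, show normSum ρ x p w = 0 from hw, sub_zero]
    rw [e]
  have a1 : (finrank R K : ℕ∞) = qlen (normI p ρ x) (K.map pI) +
      finrank k (tateSpace red K (normI p ρ x) (p_fix_mem ρ x) b₁) := by
    rw [← qlen_smul_self red h, qlen_add hpKI hI,
      qlen_tateSpace red h K _ (p_fix_mem ρ x) b₁]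
  have a2 : qlen K' (K'.map Δ) = qlen (augI ρ x) (K'.map Δ) +
      finrank k (tateSpace red K' (augI ρ x) (p_ker_mem ρ x) b₂) := by
    rw [qlen_add hΔKI hA, qlen_tateSpace red h K' _ (p_ker_mem ρ x) b₂]
  have a3 := qlen_normK ρ x red h hp hxp
  -- pass to natural numbers
  obtain ⟨D, hD⟩ : ∃ D : ℕ, qlen (normI p ρ x) (K.map pI) = D := by
    rcases hq : qlen (normI p ρ x) (K.map pI) with _ | D
    · exfalso
      rw [hq] at a1
      exact ENat.natCast_ne_top _ (a1.trans (top_add _))
    · exact ⟨D, rfl⟩
  rw [← e1, hD] at a2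
  rw [hD] at a1
  rw [a2] at a3
  norm_cast at a1 a3
  -- ranks
  have hrk : finrank R L = finrank R K + finrank R K' := by
    have h1 := (normSum ρ x p).quotKerEquivRange.finrank_eq
    have h2 := Submodule.finrank_quotient_add_finrank (LinearMap.ker (normSum ρ x p))
    have h3 : finrank R (LinearMap.range (normSum ρ x p)) = finrank R K := by
      refine le_antisymm (Submodule.finrank_mono hI) ?_
      refine LinearMap.finrank_le_finrank_of_injective
        (f := (LinearMap.codRestrict (LinearMap.range (normSum ρ x p)) ((p : R) • K.subtype)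
          fun u => p_fix_mem ρ x u u.2)) fun u w e => ?_
      have e' : (p : R) • (u : L) = (p : R) • (w : L) := congrArg Subtype.val e
      exact Subtype.ext (smul_right_injective L h.ne e')
    change finrank R L = finrank R K + finrank R (LinearMap.ker (normSum ρ x p))
    omega
  have htr : LinearMap.trace R L (normSum ρ x p) = (p : R) * finrank R K := by
    let s : L →ₗ[R] K := LinearMap.codRestrict K (normSum ρ x p) fun y => hI ⟨y, rfl⟩
    calc LinearMap.trace R L (normSum ρ x p) = LinearMap.trace R L (K.subtype ∘ₗ s) := by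
          congr 1
      _ = LinearMap.trace R K (s ∘ₗ K.subtype) := LinearMap.trace_comp_comm' _ _
      _ = LinearMap.trace R K ((p : R) • LinearMap.id) := by
          congr 1
          refine LinearMap.ext fun u => Subtype.ext ?_
          simp only [s, LinearMap.comp_apply, Submodule.subtype_apply,
            LinearMap.codRestrict_apply, normSum, LinearMap.sum_apply, rho_pow_fix ρ x u.2,
            Finset.sum_const, Finset.card_range, LinearMap.smul_apply, LinearMap.id_apply,
            Nat.cast_smul_eq_nsmul]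
          rfl
      _ = _ := by rw [map_smul, LinearMap.trace_id, smul_eq_mul]
  rw [htr, hrk, a1, ← a3]
  have : ((p - 1 : ℕ) : R) = (p : R) - 1 := by rw [Nat.cast_sub hp.one_le, Nat.cast_one]
  push_cast [this]
  ring

end Cfsg.Agent.Blocks.Tate
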