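import Cfsg.Agent.Lib.Blocks.OneBlock
import Cfsg.Agent.Lib.Blocks.FirstMain
import Cfsg.Agent.Lib.Blocks.PrincipalHeight

/-!
# A criterion for having a single 2-block

If no character has full 2-part degree and the centralizer of every involution has a normal 2-subgroup
containing its centralizer there, all characters lie in the principal block.
-/

set_option autoImplicit false
set_option linter.style.haveILetI false

namespace Cfsg.Agent.Blocks

open MonoidAlgebra

universe u

variable {G : Type u} [Group G] [Finite G] {M : Ideal AlgInt}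

/-- All irreducible characters lie in one 2-block. -/
theorem sameBlock_of_involution_local (hM : IsPModular 2 M)
    (hloc : ∀ x : G, orderOf x = 2 → ∃ P : Subgroup G, IsPGroup 2 P ∧
      P ≤ Subgroup.centralizer ({x} : Set G) ∧
      (∀ g ∈ Subgroup.centralizer ({x} : Set G), ∀ q ∈ P, g * q * g⁻¹ ∈ P) ∧
      Subgroup.centralizer ({x} : Set G) ⊓ Subgroup.centralizer (P : Set G) ≤ P)
    (hdeg : ∀ χ : IrrCharacter G,
      (charDegree (χ : G → ℂ)).factorization 2 < (Nat.card G).factorization 2)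
    (χ ψ : IrrCharacter G) : SameBlock M (χ : G → ℂ) (ψ : G → ℂ) := by
  classical
  haveI : M.IsPrime := hM.2.1.isPrime
  haveI : Fact (Nat.Prime 2) := ⟨Nat.prime_two⟩
  haveI := charP_res hM
  suffices key : ∀ φ : IrrCharacter G, φ ∈ principalBlock M G from
    (mem_block_iff isPBlock_principalBlock (key χ)).mp (key ψ)
  intro φ
  by_contra hne
  set B := blockOf M (φ : G → ℂ)
  set B₀ := principalBlock M G
  have hB : IsPBlock M B := isPBlock_blockOf φ
  have hB₀ : IsPBlock M B₀ := isPBlock_principalBlock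
  have hA := blockCoeff_mem_loc hB
  have hA₀ := blockCoeff_mem_loc hB₀
  have hzero : bBar M B * bBar M B₀ = 0 :=
    eq_zero_of_omegaBar hM _ (by rw [mul_mul_mul_comm, bBar_mul_self hA, bBar_mul_self hA₀]) fun η => by
      rw [map_mul, omegaBar_bBar hA, omegaBar_bBar hA₀]
      by_cases h1 : η ∈ B
      · by_cases h2 : η ∈ B₀
        · exact absurd (block_eq_of_mem hB hB₀ h1 h2 ▸ self_mem_blockOf φ) hne
        · rw [if_neg h2, mul_zero]
      · rw [if_neg h1, zero_mul]
  -- an involution in a defect group of the block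
  obtain ⟨D, hD⟩ := exists_defectGroup (p := 2) hB
  obtain ⟨x, hxD, hx2⟩ : ∃ x ∈ D, orderOf x = 2 := by
    have hd : 0 < blockDefect 2 B := by
      have h1 : sInf ((fun χ : IrrCharacter G => (charDegree (χ : G → ℂ)).factorization 2) '' B) ≤
          (charDegree (φ : G → ℂ)).factorization 2 :=
        Nat.sInf_le ⟨φ, self_mem_blockOf φ, rfl⟩
      have h2 := hdeg φ
      rw [blockDefect]
      omega
    obtain ⟨x, hx⟩ := exists_prime_orderOf_dvd_card' (G := D) 2
      (by rw [card_defectGroup hM hB hD]; exact dvd_pow_self 2 hd.ne')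
    exact ⟨x, x.2, (Subgroup.orderOf_coe x).trans hx⟩
  set Q := Subgroup.zpowers x with hQdef
  have hQ : IsPGroup 2 Q := IsPGroup.of_card (n := 1) (by rw [Nat.card_zpowers, hx2, pow_one])
  have hCQ : Subgroup.centralizer (Q : Set G) = Subgroup.centralizer ({x} : Set G) := by
    rw [hQdef, Subgroup.zpowers_eq_closure, Subgroup.centralizer_closure]
  have hbr : br Q hQ (bBar M B) ≠ 0 :=
    (br_bBar_ne_zero_iff hM hB hD hQ).mpr ⟨1, by rw [map_conj_one]; exact Subgroup.zpowers_le.2 hxD⟩
  have hbr₀ : br Q hQ (bBar M B₀) ≠ 0 := by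
    obtain ⟨D₀, hD₀⟩ := exists_defectGroup (p := 2) hB₀
    have hcard : Nat.card D₀ = 2 ^ (Nat.card G).factorization 2 := by
      rw [card_defectGroup hM hB₀ hD₀, blockDefect]
      have h1 : sInf ((fun χ : IrrCharacter G => (charDegree (χ : G → ℂ)).factorization 2) '' B₀) = 0 :=
        Nat.eq_zero_of_le_zero (Nat.sInf_le ⟨CT.trivIrr G, trivIrr_mem_principalBlock, by
          show (charDegree (fun _ : G => (1 : ℂ))).factorization 2 = 0
          simp [charDegree]⟩)
      rw [h1, Nat.sub_zero]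
    obtain ⟨S, hS⟩ := hQ.exists_le_sylow
    obtain ⟨g, hg⟩ := MulAction.exists_smul_eq G S (Sylow.ofCard D₀ hcard)
    refine (br_bBar_ne_zero_iff hM hB₀ hD₀ hQ).mpr ⟨g, ?_⟩
    have h2 : (g • S : Sylow 2 G).toSubgroup = D₀ := by rw [hg]; rfl
    rw [← h2]
    exact Subgroup.map_mono hS
  set H := Subgroup.centralizer (Q : Set G)
  set f := brH (R := Res M) Q H hQ le_rfl (Subgroup.centralizer_le_normalizer _)
  have hne0 : ∀ a : ZG (Res M) G, br Q hQ a ≠ 0 → f a ≠ 0 := fun a ha h => ha (by
    rw [br_apply, ← embH_resH_trunc (H := H) le_rfl, ← coe_brH Q H hQ le_rfl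
      (Subgroup.centralizer_le_normalizer _)]
    show embH H ((f a : ZG (Res M) H) : MonoidAlgebra (Res M) H) = 0
    rw [h]; simp)
  -- the centralizer has one block
  obtain ⟨P, hP, hPle, hPn, hPC⟩ := hloc x hx2
  rw [← hCQ] at hPle hPn hPC
  haveI : (P.subgroupOf H).Normal := ⟨fun q hq g => by
    rw [Subgroup.mem_subgroupOf] at hq ⊢
    exact hPn g g.2 q hq⟩
  have hone : ∀ ξ η : IrrCharacter H, SameBlock M (ξ : H → ℂ) (η : H → ℂ) :=
    sameBlock_of_centralizer_le hM (P.subgroupOf H) (hP.comap_subtype) fun c hc => by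
      rw [Subgroup.mem_subgroupOf]
      refine hPC ⟨c.2, Subgroup.mem_centralizer_iff.2 fun q hq => ?_⟩
      exact congrArg Subtype.val (Subgroup.mem_centralizer_iff.1 hc ⟨q, hPle hq⟩ hq)
  have hval : ∀ e : ZG (Res M) H, e * e = e → e ≠ 0 → ∀ ξ : IrrCharacter H, omegaBar M ξ e = 1 := by
    intro e he hne ξ
    have hid : omegaBar M ξ e * omegaBar M ξ e = omegaBar M ξ e := by rw [← map_mul, he]
    rcases IsIdempotentElem.iff_eq_zero_or_one.1 hid with h | h
    · exact absurd (eq_zero_of_omegaBar hM e he fun η => by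
        rw [omegaBar_eq_of_sameBlock (hone η ξ), h]) hne
    · exact h
  have h1 := hval (f (bBar M B)) (by rw [← map_mul, bBar_mul_self hA]) (hne0 _ hbr) (CT.trivIrr H)
  have h2 := hval (f (bBar M B₀)) (by rw [← map_mul, bBar_mul_self hA₀]) (hne0 _ hbr₀) (CT.trivIrr H)
  have h3 : omegaBar M (CT.trivIrr H) (f (bBar M B * bBar M B₀)) = 1 := by
    rw [map_mul, map_mul, h1, h2, one_mul]
  rw [hzero, map_zero, map_zero] at h3
  exact zero_ne_one h3

end Cfsg.Agent.Blocks
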