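import Cfsg.Prelude.Def_Blocks
import Mathlib.RingTheory.Ideal.GoingUp
import Mathlib.RingTheory.LocalRing.ResidueField.Basic
import Mathlib.RingTheory.Nilpotent.Lemmas
import Mathlib.RingTheory.Int.Basic
import Mathlib.RingTheory.Polynomial.RationalRoot
import Mathlib.RingTheory.PrincipalIdealDomain
import Mathlib.FieldTheory.Minpoly.IsIntegrallyClosed
import Mathlib.Algebra.CharP.Lemmas

/-!
# The local ring of the algebraic integers at a maximal ideal over `p`
-/

namespace Cfsg.Agent.Blocks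

/-- A number that lies in the algebraic integers, as an element of `AlgInt`. -/
def aint {z : ℂ} (h : IsIntegral ℤ z) : AlgInt := ⟨z, h⟩

@[simp] theorem coe_aint {z : ℂ} (h : IsIntegral ℤ z) : ((aint h : AlgInt) : ℂ) = z := rfl

theorem aint_isIntegral (a : AlgInt) : IsIntegral ℤ (a : ℂ) := a.2

/-- The subring of `ℂ` of local integers at `M`. -/
def Loc (M : Ideal AlgInt) [hP : M.IsPrime] : Subring ℂ where
  carrier := {z | MemLocalRing M z}
  one_mem' := ⟨1, 1, fun h => hP.ne_top ((Ideal.eq_top_iff_one M).mpr h), by simp⟩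
  zero_mem' := ⟨0, 1, fun h => hP.ne_top ((Ideal.eq_top_iff_one M).mpr h), by simp⟩
  mul_mem' := by
    rintro x y ⟨a, b, hb, rfl⟩ ⟨c, d, hd, rfl⟩
    exact ⟨a * c, b * d, fun h => (hP.mem_or_mem h).elim hb hd, by
      push_cast; rw [div_mul_div_comm]⟩
  add_mem' := by
    rintro x y ⟨a, b, hb, rfl⟩ ⟨c, d, hd, rfl⟩
    have hb0 : (b : ℂ) ≠ 0 := fun e => hb (by rw [show b = 0 from Subtype.ext e]; exact M.zero_mem)
    have hd0 : (d : ℂ) ≠ 0 := fun e => hd (by rw [show d = 0 from Subtype.ext e]; exact M.zero_mem)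
    exact ⟨a * d + b * c, b * d, fun h => (hP.mem_or_mem h).elim hb hd, by
      push_cast; rw [div_add_div _ _ hb0 hd0]⟩
  neg_mem' := by
    rintro x ⟨a, b, hb, rfl⟩
    exact ⟨-a, b, hb, by simp [neg_div]⟩

variable {p : ℕ} {M : Ideal AlgInt}

set_option linter.unusedSectionVars false

section Prime

variable [hP : M.IsPrime]

theorem mem_loc_iff {z : ℂ} : z ∈ Loc M ↔ MemLocalRing M z := Iff.rfl

theorem coe_ne_zero_of_notMem {b : AlgInt} (hb : b ∉ M) : (b : ℂ) ≠ 0 := fun e =>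
  hb (by rw [show b = 0 from Subtype.ext e]; exact M.zero_mem)

theorem one_notMem : (1 : AlgInt) ∉ M := fun h => hP.ne_top ((Ideal.eq_top_iff_one M).mpr h)

theorem integral_mem_loc {z : ℂ} (h : IsIntegral ℤ z) : z ∈ Loc M :=
  ⟨aint h, 1, one_notMem, by simp⟩

/-- An algebraic integer as a local integer. -/
def locInt {z : ℂ} (h : IsIntegral ℤ z) : Loc M := ⟨z, integral_mem_loc h⟩

@[simp] theorem coe_locInt {z : ℂ} (h : IsIntegral ℤ z) : ((locInt h : Loc M) : ℂ) = z := rfl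

/-- The inclusion of the algebraic integers into the local ring. -/
def toLoc (M : Ideal AlgInt) [M.IsPrime] : AlgInt →+* Loc M where
  toFun a := ⟨a, integral_mem_loc a.2⟩
  map_one' := Subtype.ext (by simp)
  map_mul' a b := Subtype.ext (by simp)
  map_zero' := Subtype.ext (by simp)
  map_add' a b := Subtype.ext (by simp)

@[simp] theorem coe_toLoc (a : AlgInt) : ((toLoc M a : Loc M) : ℂ) = (a : ℂ) := rfl

theorem memLocalRing_of_mem_ideal {z : ℂ} (h : MemLocalIdeal M z) : z ∈ Loc M := by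
  obtain ⟨a, b, _, hb, rfl⟩ := h
  exact ⟨a, b, hb, rfl⟩

theorem memLocalIdeal_coe_iff {a : AlgInt} : MemLocalIdeal M (a : ℂ) ↔ a ∈ M := by
  refine ⟨?_, fun h => ⟨a, 1, h, one_notMem, by simp⟩⟩
  rintro ⟨c, d, hc, hd, h⟩
  rw [div_eq_iff (coe_ne_zero_of_notMem hd)] at h
  have h' : c = a * d := Subtype.ext (by simpa using h)
  exact (hP.mem_or_mem (h' ▸ hc)).resolve_right hd

theorem memLocalIdeal_iff {z : ℂ} {a b : AlgInt} (hb : b ∉ M) (hz : (a : ℂ) / (b : ℂ) = z) :
    MemLocalIdeal M z ↔ a ∈ M := by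
  refine ⟨?_, fun h => ⟨a, b, h, hb, hz⟩⟩
  rintro ⟨c, d, hc, hd, h⟩
  rw [← hz, div_eq_div_iff (coe_ne_zero_of_notMem hd) (coe_ne_zero_of_notMem hb)] at h
  have h' : c * b = a * d := Subtype.ext (by simpa using h)
  exact (hP.mem_or_mem (h' ▸ M.mul_mem_right b hc)).resolve_right hd

theorem isUnit_loc_iff {z : Loc M} : IsUnit z ↔ ¬ MemLocalIdeal M (z : ℂ) := by
  constructor
  · rintro hu hI
    obtain ⟨w, hw⟩ := isUnit_iff_exists_inv.mp hu
    obtain ⟨a, b, ha, hb, hab⟩ := hI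
    obtain ⟨c, d, hd, hcd⟩ := w.2
    have h1 : (z : ℂ) * (w : ℂ) = 1 := by exact_mod_cast congrArg Subtype.val hw
    rw [← hab, ← hcd, div_mul_div_comm,
      div_eq_one_iff_eq (mul_ne_zero (coe_ne_zero_of_notMem hb) (coe_ne_zero_of_notMem hd))] at h1
    have h2 : a * c = b * d := Subtype.ext (by simpa using h1)
    exact (hP.mem_or_mem (h2 ▸ M.mul_mem_right c ha)).elim hb hd
  · intro hI
    obtain ⟨a, b, hb, hab⟩ := z.2
    have ha : a ∉ M := fun h => hI ((memLocalIdeal_iff hb hab).mpr h)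
    refine isUnit_iff_exists_inv.mpr ⟨⟨(b : ℂ) / a, b, a, ha, rfl⟩, Subtype.ext ?_⟩
    have := coe_ne_zero_of_notMem ha
    have := coe_ne_zero_of_notMem hb
    simp only [Subring.coe_mul, ← hab, Subring.coe_one]
    field_simp

instance locNontrivial : Nontrivial (Loc M) := inferInstance

instance locIsLocalRing : IsLocalRing (Loc M) :=
  IsLocalRing.of_nonunits_add fun a b ha hb => by
    simp only [mem_nonunits_iff, isUnit_loc_iff, not_not] at *
    obtain ⟨a1, a2, h1, h2, ea⟩ := ha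
    obtain ⟨b1, b2, h3, h4, eb⟩ := hb
    refine ⟨a1 * b2 + a2 * b1, a2 * b2, M.add_mem (M.mul_mem_right _ h1) (M.mul_mem_left _ h3),
      fun h => (hP.mem_or_mem h).elim h2 h4, ?_⟩
    push_cast
    rw [← div_add_div _ _ (coe_ne_zero_of_notMem h2) (coe_ne_zero_of_notMem h4), ea, eb]

theorem mem_maximal_iff {z : Loc M} :
    z ∈ IsLocalRing.maximalIdeal (Loc M) ↔ MemLocalIdeal M (z : ℂ) := by
  rw [IsLocalRing.mem_maximalIdeal, mem_nonunits_iff, isUnit_loc_iff, not_not]

/-- The residue field of the local ring at `M`. -/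
abbrev Res (M : Ideal AlgInt) [M.IsPrime] := IsLocalRing.ResidueField (Loc M)

/-- Reduction modulo the local ideal. -/
noncomputable abbrev red (M : Ideal AlgInt) [M.IsPrime] : Loc M →+* Res M :=
  IsLocalRing.residue (Loc M)

theorem red_eq_zero_iff {z : Loc M} : red M z = 0 ↔ MemLocalIdeal M (z : ℂ) := by
  rw [IsLocalRing.residue_eq_zero_iff, mem_maximal_iff]

theorem red_eq_iff {x y : Loc M} : red M x = red M y ↔ MemLocalIdeal M ((x : ℂ) - y) := by
  rw [← sub_eq_zero, ← map_sub, red_eq_zero_iff]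
  simp

theorem red_surjective : Function.Surjective (red M) := IsLocalRing.residue_surjective

theorem memLocalIdeal_zero : MemLocalIdeal M 0 := ⟨0, 1, M.zero_mem, one_notMem, by simp⟩

theorem not_memLocalIdeal_one : ¬ MemLocalIdeal M 1 := fun h =>
  one_notMem (memLocalIdeal_coe_iff.mp (by simpa using h))

theorem memLocalIdeal_neg {z : ℂ} (h : MemLocalIdeal M z) : MemLocalIdeal M (-z) := by
  obtain ⟨a, b, ha, hb, rfl⟩ := h
  exact ⟨-a, b, M.neg_mem ha, hb, by simp [neg_div]⟩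

theorem memLocalIdeal_add {x y : ℂ} (hx : MemLocalIdeal M x) (hy : MemLocalIdeal M y) :
    MemLocalIdeal M (x + y) := by
  have h1 : red M ⟨x, memLocalRing_of_mem_ideal hx⟩ = 0 := red_eq_zero_iff.mpr hx
  have h2 : red M ⟨y, memLocalRing_of_mem_ideal hy⟩ = 0 := red_eq_zero_iff.mpr hy
  have h3 : red M (⟨x, memLocalRing_of_mem_ideal hx⟩ + ⟨y, memLocalRing_of_mem_ideal hy⟩) = 0 := by
    rw [map_add, h1, h2, add_zero]
  simpa using red_eq_zero_iff.mp h3

theorem memLocalIdeal_sub {x y : ℂ} (hx : MemLocalIdeal M x) (hy : MemLocalIdeal M y) :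
    MemLocalIdeal M (x - y) := by
  simpa [sub_eq_add_neg] using memLocalIdeal_add hx (memLocalIdeal_neg hy)

theorem memLocalIdeal_mul_left {x y : ℂ} (hx : x ∈ Loc M) (hy : MemLocalIdeal M y) :
    MemLocalIdeal M (x * y) := by
  have h2 : red M ⟨y, memLocalRing_of_mem_ideal hy⟩ = 0 := red_eq_zero_iff.mpr hy
  have h3 : red M (⟨x, hx⟩ * ⟨y, memLocalRing_of_mem_ideal hy⟩) = 0 := by
    rw [map_mul, h2, mul_zero]
  simpa using red_eq_zero_iff.mp h3

theorem inv_mem_loc {z : ℂ} (hz : z ∈ Loc M) (hI : ¬ MemLocalIdeal M z) : z⁻¹ ∈ Loc M := by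
  obtain ⟨a, b, hb, rfl⟩ := hz
  exact ⟨b, a, fun h => hI ⟨a, b, h, hb, rfl⟩, by rw [inv_div]⟩

end Prime

/-- An algebraic integer has a nonzero integer multiple inside the algebraic integers. -/
theorem exists_int_multiple {a : ℂ} (ha : IsIntegral ℤ a) (h0 : a ≠ 0) :
    ∃ N : ℤ, N ≠ 0 ∧ ∃ e : ℂ, IsIntegral ℤ e ∧ a * e = N := by
  have hne : (minpoly ℤ a).coeff 0 ≠ 0 := by
    intro e
    have h1 : IsIntegral ℚ a := ha.tower_top
    apply minpoly.coeff_zero_ne_zero h1 h0
    rw [minpoly.isIntegrallyClosed_eq_field_fractions' ℚ ha, Polynomial.coeff_map, e, map_zero]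
  refine ⟨(minpoly ℤ a).coeff 0, hne, -(Polynomial.aeval a (minpoly ℤ a).divX), ?_, ?_⟩
  · refine IsIntegral.neg ?_
    show IsIntegral ℤ (Polynomial.aeval a (minpoly ℤ a).divX)
    induction (minpoly ℤ a).divX using Polynomial.induction_on' with
    | add f g hf hg => rw [map_add]; exact hf.add hg
    | monomial n c =>
      rw [Polynomial.aeval_monomial]
      exact isIntegral_algebraMap.mul (ha.pow n)
  · have h := congrArg (Polynomial.aeval a) (Polynomial.X_mul_divX_add (minpoly ℤ a))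
    rw [map_add, map_mul, Polynomial.aeval_X, Polynomial.aeval_C, minpoly.aeval] at h
    simp only [algebraMap_int_eq, eq_intCast] at h
    linear_combination (-1 : ℂ) * h

section Modular

theorem isPrime_of_modular (hM : IsPModular p M) : M.IsPrime := hM.2.1.isPrime

theorem natCast_mem_iff (hM : IsPModular p M) (n : ℕ) : (n : AlgInt) ∈ M ↔ p ∣ n := by
  refine ⟨fun h => ?_, fun h => ?_⟩
  · by_contra hn
    have hcop : Nat.Coprime p n := hM.1.coprime_iff_not_dvd.mpr hn
    have hb := Nat.gcd_eq_gcd_ab p n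
    rw [hcop] at hb
    have : (1 : AlgInt) ∈ M := by
      have e : (1 : AlgInt) = (p : AlgInt) * (p.gcdA n : ℤ) + (n : AlgInt) * (p.gcdB n : ℤ) := by
        have := congrArg (fun t : ℤ => (t : AlgInt)) hb
        push_cast at this
        exact this
      rw [e]
      exact M.add_mem (M.mul_mem_right _ hM.2.2) (M.mul_mem_right _ h)
    exact hM.2.1.ne_top ((Ideal.eq_top_iff_one M).mpr this)
  · obtain ⟨c, rfl⟩ := h
    rw [Nat.cast_mul]
    exact M.mul_mem_right _ hM.2.2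

theorem memLocalIdeal_natCast (hM : IsPModular p M) (n : ℕ) :
    MemLocalIdeal M (n : ℂ) ↔ p ∣ n := by
  haveI := isPrime_of_modular hM
  rw [← natCast_mem_iff hM n, ← memLocalIdeal_coe_iff]
  rfl

theorem charP_res (hM : IsPModular p M) [M.IsPrime] : CharP (Res M) p := by
  refine ⟨fun n => ?_⟩
  rw [← map_natCast (red M) n, red_eq_zero_iff]
  exact_mod_cast memLocalIdeal_natCast hM n

/-- The `p`-adic valuation is separated on the local ring. -/
theorem eq_zero_of_forall_pow_dvd (hM : IsPModular p M) [M.IsPrime] {z : Loc M}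
    (h : ∀ k : ℕ, ∃ n ≥ k, (p : Loc M) ^ n ∣ z) : z = 0 := by
  obtain ⟨a, b, hb, hab⟩ := z.2
  by_contra hz
  have ha0 : (a : ℂ) ≠ 0 := fun e => hz (Subtype.ext (by rw [← hab, e, zero_div]; rfl))
  obtain ⟨N, hN0, e, he, hae⟩ := exists_int_multiple a.2 ha0
  obtain ⟨k, u, hu, hNu⟩ : ∃ k u : ℕ, ¬ p ∣ u ∧ N.natAbs = p ^ k * u :=
    Nat.exists_eq_pow_mul_and_not_dvd (Int.natAbs_ne_zero.mpr hN0) p hM.1.ne_one
  obtain ⟨n, hn, w, hw⟩ := h (k + 1)
  obtain ⟨c, d, hd, hcd⟩ := w.2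
  have hz' : (a : ℂ) / b = (p : ℂ) ^ n * ((c : ℂ) / d) := by
    rw [hab, hcd, hw]; push_cast; rfl
  have hb0 := coe_ne_zero_of_notMem hb
  have hd0 := coe_ne_zero_of_notMem hd
  field_simp at hz'
  obtain ⟨s, hs⟩ : ∃ s : ℤ, N * s = (p : ℤ) ^ k * u := by
    rcases Int.natAbs_eq N with h' | h'
    · exact ⟨1, by rw [h', hNu]; push_cast; ring⟩
    · exact ⟨-1, by rw [h', hNu]; push_cast; ring⟩
  have hp0 : (p : ℂ) ≠ 0 := Nat.cast_ne_zero.mpr hM.1.ne_zero
  obtain ⟨m, rfl⟩ : ∃ m, n = k + 1 + m := ⟨n - (k + 1), by omega⟩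
  have key : (u : ℂ) * d = (p : ℂ) * ((p : ℂ) ^ m * c * b * e * s) := by
    apply mul_left_cancel₀ (pow_ne_zero k hp0)
    have hs' : (N : ℂ) * s = (p : ℂ) ^ k * u := by exact_mod_cast congrArg (fun t : ℤ => (t : ℂ)) hs
    calc (p : ℂ) ^ k * ((u : ℂ) * d) = (N : ℂ) * s * d := by rw [hs']; ring
      _ = (a : ℂ) * d * e * s := by rw [← hae]; ring
      _ = _ := by
        rw [show (a : ℂ) * d = (p : ℂ) ^ (k + 1 + m) * c * b by linear_combination hz']
        ring
  have key' : (u : AlgInt) * d = (p : AlgInt) * ((p : AlgInt) ^ m * c * b * aint he * (s : AlgInt)) :=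
    Subtype.ext (by simpa using key)
  have hmem : (u : AlgInt) * d ∈ M := by
    rw [key']
    exact M.mul_mem_right _ hM.2.2
  rcases (show M.IsPrime from inferInstance).mem_or_mem hmem with h1 | h1
  · exact hu ((natCast_mem_iff hM u).mp h1)
  · exact hd h1

/-- Every non-unit of the local ring is nilpotent modulo `p`. -/
theorem exists_pow_dvd_of_mem (hM : IsPModular p M) [M.IsPrime] {z : Loc M}
    (hz : MemLocalIdeal M (z : ℂ)) : ∃ n : ℕ, (p : Loc M) ∣ z ^ n := by
  by_contra hne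
  push Not at hne
  have hrad : z ∉ (Ideal.span {(p : Loc M)}).radical := by
    rintro ⟨n, hn⟩
    exact hne n (Ideal.mem_span_singleton.mp hn)
  rw [Ideal.radical_eq_sInf, Submodule.mem_sInf] at hrad
  push Not at hrad
  obtain ⟨P, ⟨hpP, hPprime⟩, hzP⟩ := hrad
  haveI := hPprime
  haveI : (Ideal.comap (toLoc M) P).IsPrime := Ideal.IsPrime.comap _
  have hmem : (p : AlgInt) ∈ Ideal.comap (toLoc M) P := by
    rw [Ideal.mem_comap, map_natCast]
    exact hpP (Ideal.mem_span_singleton_self _)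
  have hmax : (Ideal.comap (toLoc M) P).IsMaximal := by
    haveI : Algebra.IsIntegral ℤ AlgInt := integralClosure.AlgebraIsIntegral
    refine Ideal.isMaximal_of_isIntegral_of_isMaximal_comap (R := ℤ) _ ?_
    have hpr : ((Ideal.comap (toLoc M) P).comap (algebraMap ℤ AlgInt)).IsPrime := Ideal.IsPrime.comap _
    refine IsPrime.to_maximal_ideal (hpi := hpr) ?_
    intro e
    have : (p : ℤ) ∈ (Ideal.comap (toLoc M) P).comap (algebraMap ℤ AlgInt) := by
      rw [Ideal.mem_comap, map_natCast]; exact hmem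
    rw [e, Ideal.mem_bot] at this
    exact hM.1.ne_zero (by exact_mod_cast this)
  have hle : Ideal.comap (toLoc M) P ≤ M := by
    intro x hx
    by_contra hxM
    refine hPprime.ne_top (Ideal.eq_top_of_isUnit_mem P hx (isUnit_loc_iff.mpr fun h => ?_))
    exact hxM (memLocalIdeal_coe_iff.mp h)
  have heq : Ideal.comap (toLoc M) P = M := hmax.eq_of_le hM.2.1.ne_top hle
  obtain ⟨a, b, ha, hb, hab⟩ := hz
  have haP : toLoc M a ∈ P := by
    have : a ∈ Ideal.comap (toLoc M) P := by rw [heq]; exact ha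
    exact this
  apply hzP
  have hz' : z = toLoc M a * ⟨(1 : ℂ) / b, 1, b, hb, by simp⟩ := Subtype.ext (by
    simp [← hab, div_eq_mul_inv])
  rw [hz']
  exact Ideal.mul_mem_right _ P haP

/-- High powers of a non-unit are highly divisible by `p`. -/
theorem exists_pow_dvd_pow (hM : IsPModular p M) [M.IsPrime] {z : Loc M}
    (hz : MemLocalIdeal M (z : ℂ)) (k : ℕ) :
    ∃ N : ℕ, ∀ n ≥ N, (p : Loc M) ^ k ∣ z ^ n := by
  obtain ⟨n₀, hn⟩ := exists_pow_dvd_of_mem hM hz
  refine ⟨n₀ * k, fun n hn' => ?_⟩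
  exact dvd_trans (by rw [pow_mul]; exact pow_dvd_pow_of_dvd hn k) (pow_dvd_pow z hn')

/-- A uniform version over a finite family. -/
theorem exists_pow_dvd_pow_family (hM : IsPModular p M) [M.IsPrime] {ι : Type*} [Finite ι]
    (z : ι → Loc M) (hz : ∀ i, MemLocalIdeal M (z i : ℂ)) (k : ℕ) :
    ∃ N : ℕ, ∀ i, ∀ n ≥ N, (p : Loc M) ^ k ∣ z i ^ n := by
  haveI := Fintype.ofFinite ι
  choose N hN using fun i => exists_pow_dvd_pow hM (hz i) k
  exact ⟨Finset.univ.sup N, fun i n hn => hN i n (le_trans (Finset.le_sup (Finset.mem_univ i)) hn)⟩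

theorem memLocalIdeal_of_dvd (hM : IsPModular p M) [M.IsPrime] {z : Loc M}
    (h : (p : Loc M) ∣ z) : MemLocalIdeal M (z : ℂ) := by
  obtain ⟨w, rfl⟩ := h
  haveI := charP_res hM
  rw [← red_eq_zero_iff, map_mul, map_natCast, CharP.cast_eq_zero, zero_mul]

/-- A root of unity of `p`-power order reduces to `1`. -/
theorem red_root_eq_one (hM : IsPModular p M) [M.IsPrime] {z : Loc M} {k : ℕ}
    (h : z ^ p ^ k = 1) : red M z = 1 := by
  haveI := charP_res hM
  haveI : Fact p.Prime := ⟨hM.1⟩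
  have h1 : (red M z - 1) ^ p ^ k = 0 := by
    rw [sub_pow_char_pow, ← map_pow, h, map_one, one_pow, sub_self]
  exact sub_eq_zero.mp (eq_zero_of_pow_eq_zero h1)

end Modular

end Cfsg.Agent.Blocks
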