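import Cfsg.Agent.Lib.Blocks.DegreeExcess
import Cfsg.Agent.Lib.Golay.NormWitness
import Cfsg.Agent.Lib.Golay.NormCheck22
import Cfsg.Agent.Lib.Golay.Mathieu

/-!
No character of M22 has degree divisible by 128.
-/

set_option autoImplicit false
set_option linter.style.haveILetI false

namespace Cfsg.Agent.DegSq

open Cfsg Cfsg.Agent.Golay24 Representation Module

noncomputable section

theorem exists_witness22 {y l : ℕ} {st : List (List ℕ)} {lv : List ℕ × List ℕ}
    {L : List (List ℕ × List ℕ)} {ws : List ℕ} {P : ℕ}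
    (hok : (normOk y st lv L ws 8388609 P && isIdP (powP y l) && !isIdP y) = true)
    (hl : l.Prime) (hodd : l ≠ 2) {T : ℕ} (hT : normTotal y (l - 1) lv L ws 8388609 P = T) :
    ∃ w : Witness ↥Spor.M22, w.l = l ∧ w.N = lv.1.length * T ∧ w.c = 1 := by
  obtain ⟨-, hM, hfix⟩ := orderOf_of_cert hok hl
  have hmem : toPerm y ∈ Spor.M22 :=
    ⟨⟨hM, hfix none (by decide +kernel)⟩, hfix (some 0) (by decide +kernel)⟩
  obtain ⟨ho, hN⟩ := card_normalizer_zpowers_le (H := Spor.M22) (fun g hg => hg.1.1) m22_fixes hok hl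
    ⟨toPerm y, hmem⟩ rfl hT
  exact ⟨⟨_, l, lv.1.length * T, 1, ho, hl, hodd, hN, Or.inl rfl, one_dvd _⟩, rfl, rfl, rfl⟩

/-- The degrees of M22 are not divisible by the full power of two. -/
theorem m22_deg (χ : IrrCharacter ↥Spor.M22) :
    (charDegree (χ : ↥Spor.M22 → ℂ)).factorization 2 < (Nat.card ↥Spor.M22).factorization 2 := by
  classical
  letI := Fintype.ofFinite ↥Spor.M22
  have hG : Nat.card ↥Spor.M22 = 2 ^ 7 * 3465 := by rw [card_M22]; norm_num
  have hm : Odd 3465 := by decide
  obtain ⟨w5, l5, N5, c5⟩ := exists_witness22 m22N5_ok (by norm_num) (by norm_num) m22N5_total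
  obtain ⟨w7, l7, N7, c7⟩ := exists_witness22 m22N7_ok (by norm_num) (by norm_num) m22N7_total
  obtain ⟨w11, l11, N11, c11⟩ := exists_witness22 m22N11_ok (by norm_num) (by norm_num) m22N11_total
  refine factorization_deg_lt hG hm (fun k ρ hρ hk hsq => ?_) χ
  haveI := hρ
  have hk5 : k ≤ 5 := by nlinarith
  have hdeg : 2 ^ 7 ∣ 2 ^ 7 * k := dvd_mul_right _ _
  have hnodup : ([w5, w7, w11].map fun w => w.l).Nodup := by simp [l5, l7, l11]
  have hca : ∀ w ∈ [w5, w7, w11], w.c ∣ 2 ^ 7 := by simp [c5, c7, c11]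
  obtain ⟨hle, heq⟩ := total_le ρ hG hm hdeg _ hnodup hca
  have hcard : (Fintype.card ↥Spor.M22 : ℕ) = 443520 := by
    rw [← Nat.card_eq_fintype_card, card_M22]
  simp only [List.map_cons, List.map_nil, List.sum_cons, List.sum_nil, weight, l5, l7, l11, N5, N7, N11,
    c5, c7, c11, m22N5Top, m22N7Top, m22N11Top, List.length_cons, List.length_nil, hcard] at hle heq
  rcases (by omega : k = 0 ∨ k = 1 ∨ k = 2 ∨ k = 3 ∨ k = 4 ∨ k = 5) with rfl | rfl | rfl | rfl | rfl | rfl
  · norm_num at hk
  · norm_num at hle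
  · norm_num at hk
  · obtain ⟨hzero, hW⟩ := heq (by norm_num)
    have h5 := (weight_le ρ hG hm hdeg w5 (hca w5 (by simp))).2
      (by simpa [weight, l5, N5, c5, hcard, m22N5Top] using hW w5 (by simp))
    have h7 := (weight_le ρ hG hm hdeg w7 (hca w7 (by simp))).2
      (by simpa [weight, l7, N7, c7, hcard, m22N7Top] using hW w7 (by simp))
    have h11 := (weight_le ρ hG hm hdeg w11 (hca w11 (by simp))).2
      (by simpa [weight, l11, N11, c11, hcard, m22N11Top] using hW w11 (by simp))
    simp only [l5, l7, l11, N5, N7, N11, c5, c7, c11, m22N5Top, m22N7Top, m22N11Top, List.length_cons,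
      List.length_nil, hcard] at h5 h7 h11
    obtain ⟨a, ha, e5⟩ := h5
    obtain ⟨b, hb, e7⟩ := h7
    obtain ⟨c, hc, e11⟩ := h11
    have hpoint : ∀ g : ↥Spor.M22, ρ.character g = (if g = 1 then ρ.character g else 0) +
        (if orderOf g = 5 then ρ.character g else 0) + (if orderOf g = 7 then ρ.character g else 0) +
        (if orderOf g = 11 then ρ.character g else 0) := fun g => by
      by_cases h1 : g = 1
      · subst h1; simp
      · by_cases g5 : orderOf g = 5
        · simp [h1, g5]
        · by_cases g7 : orderOf g = 7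
          · simp [h1, g7]
          · by_cases g11 : orderOf g = 11
            · simp [h1, g11]
            · simp [h1, g5, g7, g11, hzero g h1 (by simp [g5, g7, g11])]
    have h0 := sum_char_eq_zero ρ (by norm_num)
    rw [Finset.sum_congr rfl (fun g _ => hpoint g), Finset.sum_add_distrib, Finset.sum_add_distrib,
      Finset.sum_add_distrib, ← Finset.sum_filter, ← Finset.sum_filter, ← Finset.sum_filter,
      ← Finset.sum_filter, Finset.filter_eq', if_pos (Finset.mem_univ _), Finset.sum_singleton,
      Representation.char_one] at h0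
    rcases ha with rfl | rfl <;> rcases hb with rfl | rfl <;> rcases hc with rfl | rfl <;>
      norm_num at e5 e7 e11 h0 <;>
      (revert h0; generalize (∑ g with orderOf g = 5, ρ.character g) = A at e5 ⊢
       generalize (∑ g with orderOf g = 7, ρ.character g) = B at e7 ⊢
       generalize (∑ g with orderOf g = 11, ρ.character g) = C at e11 ⊢
       intro h0
       apply_fun Complex.re at e5 e7 e11 h0
       simp at e5 e7 e11 h0
       linarith)
  · norm_num at hk
  · norm_num at hle

end

end Cfsg.Agent.DegSq
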