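import Cfsg.Agent.Lib.Blocks.DegreeExcess
import Cfsg.Agent.Lib.Golay.NormWitness
import Cfsg.Agent.Lib.Golay.NormCheck24
import Cfsg.Agent.Lib.Golay.M24

/-!
No character of M24 has degree divisible by 1024.
-/

set_option autoImplicit false
set_option linter.style.haveILetI false

namespace Cfsg.Agent.DegSq

open Cfsg Cfsg.Agent.Golay24 Representation Module

noncomputable section

theorem exists_witness24 {y l : ℕ} {st : List (List ℕ)} {lv : List ℕ × List ℕ}
    {L : List (List ℕ × List ℕ)} {ws : List ℕ} {c : ℕ}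
    (hok : (normOk y st lv L ws 0 0 && isIdP (powP y l) && !isIdP y) = true)
    (hl : l.Prime) (hodd : l ≠ 2) {T : ℕ} (hT : normTotal y (l - 1) lv L ws 0 0 = T)
    (hc : c = 1 ∨ c = 2 ∨ c = 4)
    (hdvd : ∀ (h : toPerm y ∈ M24),
      c ∣ Nat.card (Subgroup.centralizer ({(⟨toPerm y, h⟩ : ↥M24)} : Set ↥M24))) :
    ∃ w : Witness ↥M24, w.l = l ∧ w.N = lv.1.length * T ∧ w.c = c := by
  obtain ⟨-, hM, -⟩ := orderOf_of_cert hok hl
  obtain ⟨ho, hN⟩ := card_normalizer_zpowers_le (H := M24) le_rfl
    (fun g _ x hx => absurd (mem_setOf.1 hx) (by simp)) hok hl ⟨toPerm y, hM⟩ rfl hT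
  exact ⟨⟨_, l, lv.1.length * T, c, ho, hl, hodd, hN, hc, hdvd hM⟩, rfl, rfl, rfl⟩

/-- The checks on a commuting involution. -/
def commInv (s y : ℕ) : Bool := inM24 s && isIdP (compP s s) && !isIdP s && (compP s y == compP y s)

theorem commInv_spec {s y : ℕ} (h : commInv s y = true) (hy : toPerm y ∈ M24) (hyv : validP y = true) :
    ∃ t : ↥M24, (t : Equiv.Perm GolayPt) = toPerm s ∧ t * t = 1 ∧ t ≠ 1 ∧
      t ∈ Subgroup.centralizer ({(⟨toPerm y, hy⟩ : ↥M24)} : Set ↥M24) := by
  simp only [commInv, Bool.and_eq_true, Bool.not_eq_true', beq_iff_eq] at h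
  obtain ⟨⟨⟨hM, hss⟩, hne⟩, hcomm⟩ := h
  have hv := valid_of_inM24 hM
  refine ⟨⟨toPerm s, toPerm_mem_M24 hM⟩, rfl, Subtype.ext ?_, fun e => ?_,
    Subgroup.mem_centralizer_singleton_iff.2 (Subtype.ext ?_)⟩
  · show toPerm s * toPerm s = 1
    rw [← toPerm_compP hv hv]
    exact toPerm_eq_one_of_isIdP (validP_compP hv hv) hss
  · exact not_one_of_not_isIdP hv hne (congrArg Subtype.val e)
  · show toPerm s * toPerm y = toPerm y * toPerm s
    rw [← toPerm_compP hv hyv, ← toPerm_compP hyv hv, hcomm]

/-- A subgroup with two commuting involutions has order divisible by four. -/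
theorem four_dvd_card {G : Type*} [Group G] (C : Subgroup G) {s t : G} (hs : s ∈ C)
    (ht : t ∈ C) (s2 : s * s = 1) (t2 : t * t = 1) (hst : s * t = t * s) (s1 : s ≠ 1) (t1 : t ≠ 1)
    (ne : s ≠ t) : 4 ∣ Nat.card C := by
  classical
  have e1 : s * (s * t) = t := by rw [← mul_assoc, s2, one_mul]
  have e2 : t * (s * t) = s := by rw [← mul_assoc, ← hst, mul_assoc, t2, mul_one]
  have e3 : s * t * s = t := by rw [hst, mul_assoc, s2, mul_one]
  have e4 : s * t * t = s := by rw [mul_assoc, t2, mul_one]
  have e5 : s * t * (s * t) = 1 := by rw [mul_assoc, e2, s2]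
  let V : Subgroup G :=
    { carrier := {1, s, t, s * t}
      one_mem' := Set.mem_insert _ _
      mul_mem' := by
        intro a b ha hb
        simp only [Set.mem_insert_iff, Set.mem_singleton_iff] at ha hb ⊢
        rcases ha with rfl | rfl | rfl | rfl <;> rcases hb with rfl | rfl | rfl | rfl <;>
          simp [s2, t2, e1, e2, e3, e4, e5, hst.symm]
      inv_mem' := by
        intro a ha
        simp only [Set.mem_insert_iff, Set.mem_singleton_iff] at ha ⊢
        rcases ha with rfl | rfl | rfl | rfl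
        · simp
        · exact Or.inr (Or.inl (inv_eq_of_mul_eq_one_right s2))
        · exact Or.inr (Or.inr (Or.inl (inv_eq_of_mul_eq_one_right t2)))
        · exact Or.inr (Or.inr (Or.inr (inv_eq_of_mul_eq_one_right e5))) }
  have hst1 : s * t ≠ 1 := fun e => ne (by rw [← e4, e, one_mul])
  have hcard : Nat.card V = 4 := by
    show Nat.card ↥({1, s, t, s * t} : Set G) = 4
    rw [Nat.card_coe_set_eq, Set.ncard_eq_four]
    exact ⟨1, s, t, s * t, fun e => s1 e.symm, fun e => t1 e.symm, fun e => hst1 e.symm, ne,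
      fun e => t1 (by rw [← e1, ← e, s2]), fun e => s1 (by rw [← e2, ← e, t2]), rfl⟩
  rw [← hcard]
  refine Subgroup.card_dvd_of_le fun x hx => ?_
  change x ∈ ({1, s, t, s * t} : Set G) at hx
  simp only [Set.mem_insert_iff, Set.mem_singleton_iff] at hx
  rcases hx with rfl | rfl | rfl | rfl
  exacts [C.one_mem, hs, ht, C.mul_mem hs ht]

theorem m24N7_comm : commInv 602355381947668305038388104622554784 m24N7Y = true := by decide +kernel

theorem m24N5_comm : (commInv 140822133631901650001500518411389953 m24N5Y &&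
    commInv 873263753185211122413549258737698198 m24N5Y &&
    (compP 140822133631901650001500518411389953 873263753185211122413549258737698198 ==
      compP 873263753185211122413549258737698198 140822133631901650001500518411389953) &&
    !(app 140822133631901650001500518411389953 0 == app 873263753185211122413549258737698198 0)) = true := by
  decide +kernel

theorem m24_deg (χ : IrrCharacter ↥M24) :
    (charDegree (χ : ↥M24 → ℂ)).factorization 2 < (Nat.card ↥M24).factorization 2 := by
  classical
  letI := Fintype.ofFinite ↥M24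
  have hG : Nat.card ↥M24 = 2 ^ 10 * 239085 := by rw [card_M24]; norm_num
  have hm : Odd 239085 := by decide
  obtain ⟨w23, l23, N23, c23⟩ := exists_witness24 m24N23_ok (by norm_num) (by norm_num) m24N23_total
    (Or.inl rfl) fun _ => one_dvd _
  obtain ⟨w11, l11, N11, c11⟩ := exists_witness24 m24N11_ok (by norm_num) (by norm_num) m24N11_total
    (Or.inl rfl) fun _ => one_dvd _
  obtain ⟨w7, l7, N7, c7⟩ := exists_witness24 m24N7_ok (by norm_num) (by norm_num) m24N7_total
    (c := 2) (by norm_num) fun hy => by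
      have hv : validP m24N7Y = true := by decide +kernel
      obtain ⟨t, -, t2, t1, ht⟩ := commInv_spec m24N7_comm hy hv
      have h := orderOf_dvd_natCard (G := Subgroup.centralizer ({(⟨_, hy⟩ : ↥M24)} : Set ↥M24))
        ⟨t, ht⟩
      rwa [orderOf_eq_prime (p := 2) (Subtype.ext (by simpa [pow_two] using t2))
        fun e => t1 (congrArg Subtype.val e)] at h
  obtain ⟨w5, l5, N5, c5⟩ := exists_witness24 m24N5_ok (by norm_num) (by norm_num) m24N5_total
    (c := 4) (by norm_num) fun hy => by
      have hv : validP m24N5Y = true := by decide +kernel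
      have h := m24N5_comm
      simp only [Bool.and_eq_true, Bool.not_eq_true', beq_iff_eq, beq_eq_false_iff_ne] at h
      obtain ⟨⟨⟨hs, ht⟩, hc⟩, hne⟩ := h
      obtain ⟨s, es, s2, s1, hsC⟩ := commInv_spec hs hy hv
      obtain ⟨t, et, t2, t1, htC⟩ := commInv_spec ht hy hv
      simp only [commInv, Bool.and_eq_true] at hs ht
      have hsv := valid_of_inM24 hs.1.1.1
      have htv := valid_of_inM24 ht.1.1.1
      refine four_dvd_card _ hsC htC s2 t2 (Subtype.ext ?_) s1 t1 fun e => hne ?_
      · show (s : Equiv.Perm GolayPt) * t = t * s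
        rw [es, et, ← toPerm_compP hsv htv, ← toPerm_compP htv hsv, hc]
      · have := congrArg (fun u : ↥M24 => (idx ((u : Equiv.Perm GolayPt) (pt 0)) : ℕ)) e
        simpa [es, et, idx_toPerm hsv, idx_toPerm htv, idx_pt] using this
  refine factorization_deg_lt hG hm (fun k ρ hρ hk hsq => ?_) χ
  haveI := hρ
  have hk15 : k ≤ 15 := by nlinarith
  have hdeg : 2 ^ 10 ∣ 2 ^ 10 * k := dvd_mul_right _ _
  have hnodup : ([w23, w11, w7, w5].map fun w => w.l).Nodup := by simp [l23, l11, l7, l5]
  have hca : ∀ w ∈ [w23, w11, w7, w5], w.c ∣ 2 ^ 10 := by simp [c23, c11, c7, c5]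
  obtain ⟨hle, -⟩ := total_le ρ hG hm hdeg _ hnodup hca
  have hcard : (Fintype.card ↥M24 : ℕ) = 244823040 := by
    rw [← Nat.card_eq_fintype_card, card_M24]
  simp only [List.map_cons, List.map_nil, List.sum_cons, List.sum_nil, weight, l23, l11, l7, l5, N23, N11, N7,
    N5, c23, c11, c7, c5, m24N23Top, m24N11Top, m24N7Top, m24N5Top, List.length_cons, List.length_nil,
    hcard] at hle
  interval_cases k
  all_goals first
    | (norm_num at hk; done)
    | (norm_num at hle; done)

end

end Cfsg.Agent.DegSq
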