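import Cfsg.Agent.Lib.Blocks.SubsectionGalois
import Cfsg.Agent.Lib.Blocks.BlockCount

/-!
# Contributions of subsections of full defect

At a subsection of full defect the contribution of `χ` and a character of height zero is `p ^ h`
times a nonzero algebraic integer, `h` being the height of `χ`.
-/

namespace Cfsg.Agent.Blocks

open MonoidAlgebra
open scoped ComplexConjugate

universe u

variable {G : Type u} [Group G] [Fintype G] {p : ℕ} {M : Ideal AlgInt} [M.IsPrime]

set_option linter.unusedSectionVars false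

/-- A class function with integral values has an integral, blockwise congruent, central character. -/
theorem exists_omega_classFun (f : G → ℂ) (hint : ∀ g, IsIntegral ℤ (f g))
    (hcl : ∀ g c : G, f (c * g * c⁻¹) = f g) :
    ∃ W : IrrCharacter G → Loc M,
      (∀ χ, (W χ : ℂ) * (χ : G → ℂ) 1 = ∑ g, f g * (χ : G → ℂ) g) ∧
      (∀ χ, IsIntegral ℤ (W χ : ℂ)) ∧
      ∀ χ ψ : IrrCharacter G, SameBlock M (χ : G → ℂ) (ψ : G → ℂ) →
        red M (W χ) = red M (W ψ) := by
  classical
  let z : MonoidAlgebra (Loc M) G := ofFun fun g => ⟨f g, integral_mem_loc (hint g)⟩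
  have hz : z ∈ Subring.center (MonoidAlgebra (Loc M) G) := by
    rw [mem_center_iff_isClassFn]
    intro g c
    simp only [z, coeff_ofFun]
    exact Subtype.ext (hcl g c)
  refine ⟨fun χ => omegaL M χ ⟨z, hz⟩, fun χ => ?_, fun χ => ?_, fun χ ψ h =>
    red_omegaL_eq_of_sameBlock h _⟩
  · rw [coe_omegaL, omega, div_mul_cancel₀ _ (CT.irr_one_ne_zero χ.2), ev_eq_sum]
    exact Finset.sum_congr rfl fun g _ => by simp [toC, z]
  · have h := congrArg Subtype.val (omegaL_eq_sum (M := M) χ ⟨z, hz⟩)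
    dsimp only at h ⊢
    rw [h, AddSubmonoidClass.coe_finsetSum]
    refine IsIntegral.sum _ fun K _ => ?_
    simp only [z, coeff_ofFun, Subring.coe_mul]
    exact (hint _).mul (isIntegral_centralChar χ.2 _)

variable {y : G} [Fintype (Subgroup.centralizer ({y} : Set G))]

/-- The scaled coefficient of a translate as a value of a central character. -/
theorem exists_omega_gB (hM : IsPModular p M)
    {b : Set (IrrCharacter (Subgroup.centralizer ({y} : Set G)))} (hb : IsPBlock M b)
    {η : IrrCharacter (Subgroup.centralizer ({y} : Set G))} (hη : η ∈ b) :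
    ∃ W : IrrCharacter G → Loc M,
      (∀ χ, (W χ : ℂ) * (χ : G → ℂ) 1 = (Nat.card G : ℂ) * gB p b χ η) ∧
      (∀ χ, IsIntegral ℤ (W χ : ℂ)) ∧
      ∀ χ ψ : IrrCharacter G, SameBlock M (χ : G → ℂ) (ψ : G → ℂ) →
        red M (W χ) = red M (W ψ) := by
  classical
  let F : G → ℂ := fun g => if h : y⁻¹ * g ∈ Subgroup.centralizer ({y} : Set G) then
    (if p ∣ orderOf (⟨_, h⟩ : Subgroup.centralizer ({y} : Set G)) then 0 else conj ((η : Subgroup.centralizer ({y} : Set G) → ℂ) ⟨_, h⟩))
    else 0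
  have hFC : ∀ c ∈ Subgroup.centralizer ({y} : Set G), ∀ g, F (c * g * c⁻¹) = F g := by
    intro c hc g
    have hcy := Subgroup.mem_centralizer_singleton_iff.mp hc
    have e : y⁻¹ * (c * g * c⁻¹) = c * (y⁻¹ * g) * c⁻¹ := by
      have h1 : y⁻¹ * c = c * y⁻¹ := (Commute.inv_left (show Commute y c from hcy.symm)).eq
      rw [← mul_assoc, ← mul_assoc, h1, ← mul_assoc]
    simp only [F]
    by_cases h : y⁻¹ * g ∈ Subgroup.centralizer ({y} : Set G)
    · have h' : y⁻¹ * (c * g * c⁻¹) ∈ Subgroup.centralizer ({y} : Set G) := by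
        rw [e]; exact mul_mem (mul_mem hc h) (inv_mem hc)
      have e' : (⟨_, h'⟩ : Subgroup.centralizer ({y} : Set G)) = ⟨c, hc⟩ * ⟨_, h⟩ * ⟨c, hc⟩⁻¹ :=
        Subtype.ext (by simpa using e)
      rw [dif_pos h, dif_pos h', e']
      have hcl := CT.isClassFunction_of_isIrr η.2 ⟨_, h⟩ ⟨c, hc⟩
      have ho : orderOf (⟨c, hc⟩ * ⟨_, h⟩ * ⟨c, hc⟩⁻¹ : Subgroup.centralizer ({y} : Set G)) =
          orderOf (⟨_, h⟩ : Subgroup.centralizer ({y} : Set G)) := by
        rw [← MulAut.conj_apply, MulEquiv.orderOf_eq]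
      rw [ho, hcl]
    · rw [dif_neg h, dif_neg]
      rw [e]
      intro h'
      apply h
      have := mul_mem (mul_mem (inv_mem hc) h') hc
      simpa [mul_assoc] using this
  have hcoset : ∀ x x' g : G, x⁻¹ * x' ∈ Subgroup.centralizer ({y} : Set G) →
      F (x'⁻¹ * g * x') = F (x⁻¹ * g * x) := fun x x' g h => by
    have := hFC _ (inv_mem h) (x⁻¹ * g * x)
    rw [← this]
    congr 1
    group
  let f : G → ℂ := fun g => ∑ q : G ⧸ Subgroup.centralizer ({y} : Set G), F (q.out⁻¹ * g * q.out)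
  have hFi : ∀ g, IsIntegral ℤ (F g) := fun g => by
    simp only [F]
    split_ifs with h h'
    · exact isIntegral_zero
    · exact CT.isIntegral_conj (isIntegral_irr η.2 _)
    · exact isIntegral_zero
  have hcl : ∀ g c : G, f (c * g * c⁻¹) = f g := by
    intro g c
    refine Fintype.sum_equiv (MulAction.toPerm c⁻¹) _ _ fun q => ?_
    rw [show q.out⁻¹ * (c * g * c⁻¹) * q.out = (c⁻¹ * q.out)⁻¹ * g * (c⁻¹ * q.out) by group]
    refine hcoset _ _ g ?_
    rw [← QuotientGroup.eq, MulAction.toPerm_apply, QuotientGroup.out_eq']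
    conv_lhs => rw [← QuotientGroup.out_eq' q]
    rfl
  obtain ⟨W, hW, hWi, hWr⟩ := exists_omega_classFun (M := M) f
    (fun g => IsIntegral.sum _ fun q _ => hFi _) hcl
  refine ⟨W, fun χ => (hW χ).trans ?_, hWi, hWr⟩
  have h1 : ∀ x : G, ∑ g, F (x⁻¹ * g * x) * (χ : G → ℂ) g = ∑ g, F g * (χ : G → ℂ) g := by
    intro x
    refine (Fintype.sum_equiv (MulAut.conj x).toEquiv _ _ fun g => ?_).symm
    rw [MulEquiv.toEquiv_eq_coe, EquivLike.coe_coe, MulAut.conj_apply,
      show x⁻¹ * (x * g * x⁻¹) * x = g by group, isClassFn_irr χ g x]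
  have h2 : ∑ g, f g * (χ : G → ℂ) g =
      ((Subgroup.centralizer ({y} : Set G)).index : ℂ) * ∑ g, F g * (χ : G → ℂ) g := by
    simp only [f, Finset.sum_mul]
    rw [Finset.sum_comm, Finset.sum_congr rfl fun q _ => h1 q.out, Finset.sum_const, Finset.card_univ,
      ← Nat.card_eq_fintype_card, ← Subgroup.index, nsmul_eq_mul]
  have h3 : ∑ g, F g * (χ : G → ℂ) g =
      (Nat.card (Subgroup.centralizer ({y} : Set G)) : ℂ) * gB p b χ η := by
    rw [gB_eq hM hb χ η, if_pos hη, classInner, mul_inv_cancel_left₀ CT.card_ne_zero]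
    have h0 : ∑ g, F g * (χ : G → ℂ) g =
        ∑ g ∈ Finset.univ.image (fun c : Subgroup.centralizer ({y} : Set G) => y * (c : G)),
          F g * (χ : G → ℂ) g := by
      refine (Finset.sum_subset (Finset.subset_univ _) fun g _ hg => ?_).symm
      simp only [F]
      rw [dif_neg, zero_mul]
      exact fun h => hg (Finset.mem_image.mpr ⟨⟨_, h⟩, Finset.mem_univ _, by simp⟩)
    rw [h0, Finset.sum_image fun a _ c _ h => Subtype.ext (mul_left_cancel h)]
    refine Finset.sum_congr rfl fun c _ => ?_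
    simp only [F]
    have hc : y⁻¹ * (y * (c : G)) ∈ Subgroup.centralizer ({y} : Set G) := by simp
    rw [dif_pos hc, show (⟨_, hc⟩ : Subgroup.centralizer ({y} : Set G)) = c from Subtype.ext (by simp)]
    split_ifs <;> simp [mul_comm]
  rw [h2, h3, ← mul_assoc, ← Nat.cast_mul, Subgroup.index_mul_card]

theorem gB_mul_bfPair_right (b : Set (IrrCharacter (Subgroup.centralizer ({y} : Set G))))
    (χ : IrrCharacter G) (η' : IrrCharacter (Subgroup.centralizer ({y} : Set G))) :
    ∑ η, gB p b χ η * bfPair p η η' = gB p b χ η' := by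
  classical
  simp only [gB, Finset.sum_mul]
  rw [Finset.sum_comm]
  exact Finset.sum_congr rfl fun e _ => by
    rw [← bfPair_idem e η', Finset.mul_sum]; exact Finset.sum_congr rfl fun η _ => by ring

theorem subMat_eq_sum_secC (b : Set (IrrCharacter (Subgroup.centralizer ({y} : Set G)))) (d : ℕ)
    (χ ψ : IrrCharacter G) :
    subMat p d b χ ψ = ∑ η', (p : ℂ) ^ d * gB p b χ η' * conj (secC b ψ η') := by
  classical
  rw [subMat, Finset.mul_sum]
  conv_lhs => arg 2; ext η; rw [show conj (gB p b ψ η) = ∑ e, conj (secC b ψ e) * bfPair p e η by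
    simp only [gB, map_sum, map_mul, conj_bfPair]]
  simp only [Finset.mul_sum]
  rw [Finset.sum_comm]
  refine Finset.sum_congr rfl fun e _ => ?_
  rw [← gB_mul_bfPair_right b χ e, Finset.mul_sum, Finset.sum_mul]
  exact Finset.sum_congr rfl fun η _ => by rw [bfPair_symm e η]; ring

/-- The contribution at a subsection of full defect. -/
theorem contrib_valuation (hM : IsPModular p M) (hy : ∃ k : ℕ, y ^ p ^ k = 1)
    {B : Set (IrrCharacter G)} {b : Set (IrrCharacter (Subgroup.centralizer ({y} : Set G)))}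
    (hind : IsInducedBlock M (Subgroup.centralizer ({y} : Set G)) b B)
    (hd : blockDefect p b = blockDefect p B) {χ ψ : IrrCharacter G} (hχ : χ ∈ B) (hψ : ψ ∈ B)
    (h0 : blockHeight p B (ψ : G → ℂ) = 0) :
    ∃ a : ℂ, IsIntegral ℤ a ∧ a ≠ 0 ∧
      subMat p (blockDefect p b) b χ ψ = (p : ℂ) ^ blockHeight p B (χ : G → ℂ) * a := by
  classical
  haveI := Fact.mk hM.1
  haveI := charP_res (M := M) hM
  obtain ⟨hb, hB, -⟩ := id hind
  set d := blockDefect p b
  obtain ⟨X, hXs, hX⟩ := exists_bf_matrix hM hb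
  obtain ⟨j, hj⟩ := hy
  have hsC : selfC y ^ p ^ j = 1 := Subtype.ext (by simpa [selfC] using hj)
  have hom : ∀ η : IrrCharacter (Subgroup.centralizer ({y} : Set G)), omC η ^ p ^ j = 1 :=
    fun η => (omC_spec η).2 _ hsC
  have hpj : p ^ j ≠ 0 := pow_ne_zero j hM.1.ne_zero
  have homi : ∀ η : IrrCharacter (Subgroup.centralizer ({y} : Set G)), IsIntegral ℤ (omC η) := fun η =>
    IsIntegral.of_pow (Nat.pos_of_ne_zero hpj) (by rw [hom]; exact isIntegral_one)
  let w : IrrCharacter (Subgroup.centralizer ({y} : Set G)) → Loc M := fun η =>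
    ⟨omC η, integral_mem_loc (homi η)⟩
  let w' : IrrCharacter (Subgroup.centralizer ({y} : Set G)) → Loc M := fun η =>
    ⟨conj (omC η), integral_mem_loc (CT.isIntegral_conj (homi η))⟩
  have hw : ∀ η, red M (w η) = 1 := fun η => red_root_eq_one hM
    (Subtype.ext (by simpa [w] using hom η))
  have hw' : ∀ η, red M (w' η) = 1 := fun η => red_root_eq_one hM (Subtype.ext (by
    simp only [w', SubmonoidClass.coe_pow, OneMemClass.coe_one]
    rw [← map_pow, hom, map_one]))
  -- central characters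
  have hWex : ∀ η : IrrCharacter (Subgroup.centralizer ({y} : Set G)), ∃ W : IrrCharacter G → Loc M,
      η ∈ b → ((∀ χ, (W χ : ℂ) * (χ : G → ℂ) 1 = (Nat.card G : ℂ) * gB p b χ η) ∧
        (∀ χ, IsIntegral ℤ (W χ : ℂ)) ∧
        ∀ χ ψ : IrrCharacter G, SameBlock M (χ : G → ℂ) (ψ : G → ℂ) →
          red M (W χ) = red M (W ψ)) := fun η =>
    if h : η ∈ b then (exists_omega_gB hM hb h).imp fun W hW _ => hW
    else ⟨fun _ => 0, fun h' => absurd h' h⟩
  choose W hW using hWex
  set n1 := Nat.card G / p ^ (Nat.card G).factorization p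
  let n3 : IrrCharacter G → ℕ := fun φ =>
    charDegree (φ : G → ℂ) / p ^ (charDegree (φ : G → ℂ)).factorization p
  let S : IrrCharacter G → Loc M := fun φ =>
    ∑ η, (mB b ψ η : Loc M) * ((n3 φ : Loc M) * (W η φ * w' η))
  have hp0 : (p : ℂ) ≠ 0 := Nat.cast_ne_zero.mpr hM.1.ne_zero
  have hS : ∀ φ ∈ B, (n1 : ℂ) * subMat p d b φ ψ =
      (p : ℂ) ^ blockHeight p B (φ : G → ℂ) * (S φ : ℂ) := by
    intro φ hφ
    rw [subMat_eq_sum_secC, AddSubmonoidClass.coe_finsetSum, Finset.mul_sum, Finset.mul_sum]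
    refine Finset.sum_congr rfl fun η _ => ?_
    simp only [secC_eq_mB, Subring.coe_mul, SubringClass.coe_natCast, map_mul, map_natCast, w']
    by_cases hη : η ∈ b
    · have hdeg : (charDegree (φ : G → ℂ) : ℂ) =
          (p : ℂ) ^ (charDegree (φ : G → ℂ)).factorization p * (n3 φ : ℂ) := by
        exact_mod_cast (Nat.ordProj_mul_ordCompl_eq_self (charDegree (φ : G → ℂ)) p).symm
      have hG : (Nat.card G : ℂ) = (p : ℂ) ^ (Nat.card G).factorization p * (n1 : ℂ) := by
        exact_mod_cast (Nat.ordProj_mul_ordCompl_eq_self (Nat.card G) p).symm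
      have h1 := (hW η hη).1 φ
      rw [charDegree_cast, hdeg, hG] at h1
      have hh : (p : ℂ) ^ blockHeight p B (φ : G → ℂ) * (p : ℂ) ^ (Nat.card G).factorization p =
          (p : ℂ) ^ d * (p : ℂ) ^ (charDegree (φ : G → ℂ)).factorization p := by
        rw [← pow_add, ← pow_add, hd]
        congr 1
        exact height_add (p := p) hφ
      have h2 : (n1 : ℂ) * ((p : ℂ) ^ d * gB p b φ η) =
          (p : ℂ) ^ blockHeight p B (φ : G → ℂ) * ((n3 φ : ℂ) * (W η φ : ℂ)) := by
        apply mul_left_cancel₀ (pow_ne_zero ((Nat.card G).factorization p) hp0)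
        linear_combination -((p : ℂ) ^ d) * h1 - ((n3 φ : ℂ) * (W η φ : ℂ)) * hh
      linear_combination ((mB b ψ η : ℂ) * conj (omC η)) * h2
    · simp [mB, hη]
  have hmi : ∀ φ, IsIntegral ℤ (subMat p d b φ ψ) := by
    intro φ
    rw [subMat_eq]
    refine IsIntegral.sum _ fun η _ => IsIntegral.sum _ fun η' _ => ?_
    rw [secC_eq_mB, secC_eq_mB, map_mul, map_natCast]
    by_cases hη : η ∈ b
    · rw [hX η hη η']
      exact ((isIntegral_natCast _).mul (homi η)).mul
        ((isIntegral_natCast _).mul (CT.isIntegral_conj (homi η'))) |>.mul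
          (isIntegral_intCast _)
    · simp [mB, hη, isIntegral_zero]
  have hSi : ∀ φ, IsIntegral ℤ (S φ : ℂ) := by
    intro φ
    simp only [S, AddSubmonoidClass.coe_finsetSum, Subring.coe_mul, SubringClass.coe_natCast]
    refine IsIntegral.sum _ fun η _ => ?_
    by_cases hη : η ∈ b
    · exact (isIntegral_natCast _).mul ((isIntegral_natCast _).mul
        (((hW η hη).2.1 φ).mul (CT.isIntegral_conj (homi η))))
    · simp [mB, hη, isIntegral_zero]
  -- the sum is a unit modulo the ideal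
  have hn1 : ¬ p ∣ n1 := Nat.not_dvd_ordCompl hM.1 Nat.card_pos.ne'
  have hn3 : ∀ φ : IrrCharacter G, (n3 φ : Res M) ≠ 0 := fun φ =>
    mt (CharP.cast_eq_zero_iff (Res M) p _).mp (Nat.not_dvd_ordCompl hM.1 (charDegree_pos φ).ne')
  have hred : ∀ φ ∈ B, red M (S φ) = (n3 φ : Res M) *
      ∑ η, (mB b ψ η : Res M) * red M (W η ψ) := by
    intro φ hφ
    simp only [S, map_sum, map_mul, map_natCast, hw', mul_one, Finset.mul_sum]
    refine Finset.sum_congr rfl fun η _ => ?_
    by_cases hη : η ∈ b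
    · rw [(hW η hη).2.2 φ ψ ((mem_block_iff hB hφ).mp hψ)]; ring
    · simp [mB, hη]
  have hψu : red M (S ψ) ≠ 0 := by
    have e : (n1 : Loc M) * ∑ η, ∑ η', (((mB b ψ η : ℤ) * mB b ψ η' * X η η' : ℤ) : Loc M) *
        (w η * w' η') = S ψ := by
      apply Subtype.ext
      have h := hS ψ hψ
      rw [h0, pow_zero, one_mul] at h
      rw [← h, Subring.coe_mul, SubringClass.coe_natCast]
      congr 1
      simp only [AddSubmonoidClass.coe_finsetSum, subMat_eq]
      refine Finset.sum_congr rfl fun η _ => Finset.sum_congr rfl fun η' _ => ?_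
      rw [secC_eq_mB, secC_eq_mB, map_mul, map_natCast]
      by_cases hη : η ∈ b
      · rw [hX η hη η']
        simp only [w, w']
        push_cast
        ring
      · simp [mB, hη]
    rw [← e]
    simp only [map_mul, map_sum, map_natCast, map_intCast, hw, hw', mul_one]
    exact mul_ne_zero (mt (CharP.cast_eq_zero_iff (Res M) p _).mp hn1)
      (red_contrib_ne_zero hM hind hXs hX hψ hψ h0 h0)
  have hχu : red M (S χ) ≠ 0 := by
    rw [hred χ hχ]
    rw [hred ψ hψ] at hψu
    exact mul_ne_zero (hn3 χ) (right_ne_zero_of_mul hψu)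
  set h := blockHeight p B (χ : G → ℂ)
  obtain ⟨s, r, hsr⟩ : IsCoprime (n1 : ℤ) ((p : ℤ) ^ h) := by
    have h1 : IsCoprime (n1 : ℤ) (p : ℤ) :=
      Nat.isCoprime_iff_coprime.mpr ((hM.1.coprime_iff_not_dvd.mpr hn1).symm)
    exact h1.pow_right
  refine ⟨(s : ℂ) * (S χ : ℂ) + (r : ℂ) * subMat p d b χ ψ,
    ((isIntegral_intCast _).mul (hSi χ)).add ((isIntegral_intCast _).mul (hmi χ)), ?_, ?_⟩
  all_goals
    have hsrC : (s : ℂ) * (n1 : ℂ) + (r : ℂ) * (p : ℂ) ^ h = 1 := by
      exact_mod_cast congrArg (Int.cast : ℤ → ℂ) hsr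
    have e : (p : ℂ) ^ h * ((s : ℂ) * (S χ : ℂ) + (r : ℂ) * subMat p d b χ ψ) =
        subMat p d b χ ψ := by
      linear_combination -(s : ℂ) * hS χ hχ + subMat p d b χ ψ * hsrC
  · intro h0'
    rw [h0', mul_zero] at e
    have := hS χ hχ
    rw [← e, mul_zero] at this
    refine hχu ?_
    rw [show S χ = 0 from Subtype.ext ((mul_eq_zero.mp this.symm).resolve_left
      (pow_ne_zero _ hp0)), map_zero]
  · exact e.symm

end Cfsg.Agent.Blocks
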