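import Mathlib.GroupTheory.PGroup
import Mathlib.GroupTheory.Index
import Mathlib.GroupTheory.Sylow
import Mathlib.GroupTheory.IndexNormal
import Mathlib.Algebra.MonoidAlgebra.Basic
import Mathlib.Algebra.CharP.Lemmas
import Mathlib.Algebra.CharP.Algebra
import Mathlib.LinearAlgebra.FiniteDimensional.Lemmas

/-!
# Fixed points of `p`-groups in characteristic `p`

A module for a `p`-group has dimension at most the group order times the dimension of its fixed
points; direct summands of the group algebra have dimension divisible by the order of every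
`p`-subgroup.
-/

set_option linter.unusedSectionVars false

namespace Cfsg.Agent.PFix

open Module

universe u v w

variable {K : Type u} [Field K] {p : ℕ} [hp : Fact p.Prime] [CharP K p]
  {V : Type v} [AddCommGroup V] [Module K V] [FiniteDimensional K V]

/-- An operator whose `n`-th power kills a submodule: the dimension is at most `n` times the
dimension of the kernel part. -/
theorem finrank_le_mul_ker (U : Submodule K V) (T : V →ₗ[K] V) (hTU : ∀ v ∈ U, T v ∈ U) :
    ∀ n : ℕ, (∀ v ∈ U, (T ^ n) v = 0) →
      finrank K U ≤ n * finrank K ↥(U ⊓ LinearMap.ker T) := by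
  suffices h : ∀ n : ℕ, finrank K ↥(U ⊓ LinearMap.ker (T ^ n)) ≤
      n * finrank K ↥(U ⊓ LinearMap.ker T) by
    intro n hn
    refine le_trans (le_of_eq ?_) (h n)
    rw [inf_eq_left.mpr (show U ≤ LinearMap.ker (T ^ n) from hn)]
  intro n
  induction n with
  | zero =>
    rw [zero_mul, Nat.le_zero, Submodule.finrank_eq_zero, eq_bot_iff]
    rintro v ⟨-, hv⟩
    simpa using hv
  | succ n ih =>
    set W := U ⊓ LinearMap.ker (T ^ (n + 1))
    set W' := U ⊓ LinearMap.ker (T ^ n)
    have hW : ∀ v ∈ W, T v ∈ W' := fun v hv => by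
      refine ⟨hTU v hv.1, ?_⟩
      have := hv.2
      rw [SetLike.mem_coe, LinearMap.mem_ker, pow_succ, Module.End.mul_apply] at this
      exact this
    let S : W →ₗ[K] W' := (T.comp W.subtype).codRestrict W' fun v => hW v v.2
    have h1 := LinearMap.finrank_range_add_finrank_ker S
    have h2 : finrank K (LinearMap.range S) ≤ finrank K W' := Submodule.finrank_le _
    have h3 : finrank K (LinearMap.ker S) ≤ finrank K ↥(U ⊓ LinearMap.ker T) := by
      let ι : LinearMap.ker S →ₗ[K] ↥(U ⊓ LinearMap.ker T) :=
        (W.subtype.comp (LinearMap.ker S).subtype).codRestrict _ fun v => by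
          refine ⟨(v : W).2.1, ?_⟩
          show T ((v : W) : V) = 0
          exact congrArg Subtype.val (LinearMap.mem_ker.mp v.2)
      refine LinearMap.finrank_le_finrank_of_injective (f := ι) fun a b h => ?_
      exact Subtype.ext (Subtype.ext (congrArg (fun x : ↥(U ⊓ LinearMap.ker T) => (x : V)) h))
    rw [Nat.succ_mul]
    omega

variable {P : Type w} [Group P] [Finite P]

/-- The common fixed points of a subgroup. -/
def inv (ρ : P →* Module.End K V) (R : Subgroup P) : Submodule K V where
  carrier := {v | ∀ r ∈ R, ρ r v = v}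
  add_mem' := fun {a b} ha hb r hr => by rw [map_add, ha r hr, hb r hr]
  zero_mem' := fun r _ => map_zero _
  smul_mem' := fun c a ha r hr => by rw [map_smul, ha r hr]

/-- The dimension is at most the order of a `p`-group times the dimension of the fixed points. -/
theorem finrank_le_card_mul (hP : IsPGroup p P) (ρ : P →* Module.End K V) (U : Submodule K V)
    (hU : ∀ g, ∀ v ∈ U, ρ g v ∈ U) :
    ∀ R : Subgroup P, finrank K U ≤ Nat.card R * finrank K ↥(U ⊓ inv ρ R) := by
  intro R
  induction hn : Nat.card R using Nat.strong_induction_on generalizing R with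
  | _ n ih =>
  subst hn
  obtain ⟨k, hk⟩ := IsPGroup.iff_card.mp (hP.to_subgroup R)
  rcases k with - | k
  · rw [pow_zero] at hk
    rw [hk, one_mul, Subgroup.card_eq_one.mp hk, inf_eq_left.mpr ?_]
    intro v _ r hr
    rw [Subgroup.mem_bot.mp hr, map_one]
    rfl
  obtain ⟨S, hS⟩ := Sylow.exists_subgroup_card_pow_prime (G := R) p (n := k)
    (by rw [hk]; exact pow_dvd_pow p k.le_succ)
  have hSi : S.index = p := by
    have := S.card_mul_index
    rw [hS, hk, pow_succ] at this
    exact Nat.eq_of_mul_eq_mul_left (pow_pos hp.out.pos k) this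
  haveI : S.Normal := Subgroup.normal_of_index_eq_minFac_card (by
    rw [hSi, hk]; exact (Nat.Prime.pow_minFac hp.out k.succ_ne_zero).symm)
  set S' : Subgroup P := S.map R.subtype
  have hS'card : Nat.card S' = p ^ k := by
    rw [Subgroup.card_map_of_injective R.subtype_injective, hS]
  have hlt : Nat.card S' < Nat.card R := by
    rw [hS'card, hk]; exact pow_lt_pow_right₀ hp.out.one_lt k.lt_succ_self
  obtain ⟨r, hr⟩ : ∃ r : R, r ∉ S := by
    by_contra h
    push Not at h
    have : S = ⊤ := eq_top_iff.mpr fun x _ => h x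
    rw [this, Subgroup.index_top] at hSi
    exact hp.out.ne_one hSi.symm
  set W := U ⊓ inv ρ S'
  set T : V →ₗ[K] V := ρ (r : P) - 1
  have hTW : ∀ v ∈ W, T v ∈ W := by
    rintro v ⟨hvU, hv⟩
    refine sub_mem ⟨hU _ v hvU, ?_⟩ ⟨hvU, hv⟩
    rintro _ ⟨s, hs, rfl⟩
    have hm : (r⁻¹ * s * r : R) ∈ S := by
      simpa using (inferInstance : S.Normal).conj_mem s hs r⁻¹
    have := hv _ ⟨_, hm, rfl⟩
    calc ρ (s : P) (ρ (r : P) v) = ρ ((r : P) * (↑(r⁻¹ * s * r) : P)) v := by
          rw [← Module.End.mul_apply, ← map_mul]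
          congr 2
          simp [mul_assoc]
      _ = ρ (r : P) v := by
          rw [map_mul, Module.End.mul_apply]
          exact congrArg _ this
  have hTp : ∀ v ∈ W, (T ^ p) v = 0 := by
    intro v hv
    rcases subsingleton_or_nontrivial V with hV | hV
    · exact Subsingleton.elim _ _
    haveI : CharP (Module.End K V) p := charP_of_injective_algebraMap
      (FaithfulSMul.algebraMap_injective K (Module.End K V)) p
    have hrp : r ^ p ∈ S := by
      have := Subgroup.pow_index_mem S r
      rwa [hSi] at this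
    rw [show T ^ p = ρ (r : P) ^ p - 1 by
      rw [show T = ρ (r : P) - 1 from rfl, sub_pow_char_of_commute p (Commute.one_right _), one_pow]]
    rw [LinearMap.sub_apply, Module.End.one_apply, ← map_pow, sub_eq_zero]
    exact hv.2 _ ⟨_, hrp, by simp⟩
  have h1 := finrank_le_mul_ker W T hTW p hTp
  have hle : W ⊓ LinearMap.ker T ≤ U ⊓ inv ρ R := by
    rintro v ⟨⟨hvU, hvS⟩, hvT⟩
    refine ⟨hvU, fun x hx => ?_⟩
    rw [SetLike.mem_coe, LinearMap.mem_ker, LinearMap.sub_apply, Module.End.one_apply, sub_eq_zero] at hvT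
    -- the stabilizer of `v` contains `S` and `r`
    let St : Subgroup R :=
      { carrier := {y | ρ (y : P) v = v}
        one_mem' := by simp
        mul_mem' := fun {a b} (ha : ρ (a : P) v = v) (hb : ρ (b : P) v = v) => by
          show ρ (↑(a * b) : P) v = v
          rw [Subgroup.coe_mul, map_mul, Module.End.mul_apply, hb, ha]
        inv_mem' := fun {a} (ha : ρ (a : P) v = v) => by
          show ρ (↑(a⁻¹) : P) v = v
          conv_lhs => rw [← ha]
          rw [← Module.End.mul_apply, ← map_mul, Subgroup.coe_inv, inv_mul_cancel, map_one]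
          rfl }
    have hSSt : S ≤ St := fun y hy => hvS _ ⟨y, hy, rfl⟩
    have hSt : St = ⊤ := by
      have hd := Subgroup.index_dvd_of_le hSSt
      rw [hSi] at hd
      rcases (Nat.dvd_prime hp.out).mp hd with h | h
      · exact Subgroup.index_eq_one.mp h
      · exfalso
        have hle' : St ≤ S := by
          rw [← Subgroup.relIndex_eq_one]
          have := Subgroup.relIndex_mul_index hSSt
          rw [h, hSi] at this
          exact Nat.eq_of_mul_eq_mul_right hp.out.pos (this.trans (one_mul p).symm)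
        exact hr (hle' (show r ∈ St from hvT))
    exact (hSt ▸ Subgroup.mem_top _ : (⟨x, hx⟩ : R) ∈ St)
  calc finrank K U ≤ Nat.card S' * finrank K W := ih _ hlt S' rfl
    _ ≤ Nat.card S' * (p * finrank K ↥(U ⊓ inv ρ R)) :=
        Nat.mul_le_mul_left _ (h1.trans (Nat.mul_le_mul_left _ (Submodule.finrank_mono hle)))
    _ = Nat.card R * finrank K ↥(U ⊓ inv ρ R) := by rw [hS'card, hk, pow_succ, mul_assoc]

open MonoidAlgebra in
/-- A left ideal with a complement has dimension divisible by the order of every `p`-subgroup. -/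
theorem card_dvd_finrank_mulRight {G : Type w} [Group G] [Finite G] {Q : Subgroup G}
    (hQ : IsPGroup p Q) {f : MonoidAlgebra K G} (hf : f * f = f) :
    Nat.card Q ∣ finrank K (LinearMap.range (LinearMap.mulRight K f)) := by
  classical
  haveI := Fintype.ofFinite G
  haveI : FiniteDimensional K (MonoidAlgebra K G) :=
    Module.Finite.of_basis (MonoidAlgebra.basis G K)
  let ρ : Q →* Module.End K (MonoidAlgebra K G) :=
    { toFun := fun q => LinearMap.mulLeft K (MonoidAlgebra.single (q : G) 1)
      map_one' := by ext x; simp [← MonoidAlgebra.one_def]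
      map_mul' := fun a b => LinearMap.ext fun x => by
        simp [← mul_assoc, MonoidAlgebra.single_mul_single] }
  set W := LinearMap.range (LinearMap.mulRight K f)
  set C := LinearMap.ker (LinearMap.mulRight K f)
  have hW : ∀ g, ∀ v ∈ W, ρ g v ∈ W := by
    rintro g _ ⟨y, rfl⟩
    exact ⟨MonoidAlgebra.single (g : G) 1 * y, by simp [ρ, mul_assoc]⟩
  have hC : ∀ g, ∀ v ∈ C, ρ g v ∈ C := by
    intro g v hv
    simp only [C, LinearMap.mem_ker, LinearMap.mulRight_apply] at hv ⊢
    simp [ρ, mul_assoc, hv]
  have hdim : finrank K W + finrank K C = Nat.card G := by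
    rw [LinearMap.finrank_range_add_finrank_ker, Module.finrank_eq_card_basis (MonoidAlgebra.basis G K),
      Nat.card_eq_fintype_card]
  have hinv : finrank K ↥(inv ρ ⊤) ≤ Q.index := by
    let Φ : ↥(inv ρ ⊤) →ₗ[K] (G ⧸ Q → K) :=
      { toFun := fun x c => (x : MonoidAlgebra K G).coeff (Quotient.out c)⁻¹
        map_add' := fun a b => by ext; simp
        map_smul' := fun r a => by ext; simp }
    have hΦ : Function.Injective Φ := by
      intro a b h
      refine Subtype.ext (MonoidAlgebra.ext (Finsupp.ext fun u => ?_))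
      obtain ⟨q, hq⟩ := QuotientGroup.mk_out_eq_mul Q u⁻¹
      have key : ∀ x : ↥(inv ρ ⊤), (x : MonoidAlgebra K G).coeff u =
          (x : MonoidAlgebra K G).coeff (Quotient.out (QuotientGroup.mk u⁻¹ : G ⧸ Q))⁻¹ := by
        intro x
        have := congrArg (fun y : MonoidAlgebra K G => y.coeff u) (x.2 q (Subgroup.mem_top _))
        simp only [ρ, MonoidHom.coe_mk, OneHom.coe_mk, LinearMap.mulLeft_apply] at this
        rw [← this, hq, mul_inv_rev, inv_inv]
        simp [MonoidAlgebra.coeff_single_mul_apply]
      rw [key a, key b]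
      exact congrFun h _
    refine (LinearMap.finrank_le_finrank_of_injective hΦ).trans ?_
    rw [Module.finrank_pi, ← Nat.card_eq_fintype_card]
    rfl
  have hsum : finrank K ↥(W ⊓ inv ρ ⊤) + finrank K ↥(C ⊓ inv ρ ⊤) ≤ Q.index := by
    have hd : (W ⊓ inv ρ ⊤) ⊓ (C ⊓ inv ρ ⊤) = ⊥ := by
      rw [eq_bot_iff]
      rintro v ⟨⟨⟨y, rfl⟩, -⟩, hv, -⟩
      simp only [C, SetLike.mem_coe, LinearMap.mem_ker, LinearMap.mulRight_apply, mul_assoc, hf] at hv ⊢
      exact hv
    have := Submodule.finrank_sup_add_finrank_inf_eq (W ⊓ inv ρ ⊤) (C ⊓ inv ρ ⊤)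
    rw [hd, finrank_bot, add_zero] at this
    rw [← this]
    exact (Submodule.finrank_mono (sup_le inf_le_right inf_le_right)).trans hinv
  have h1 := finrank_le_card_mul (p := p) hQ ρ W hW ⊤
  have h2 := finrank_le_card_mul (p := p) hQ ρ C hC ⊤
  rw [Subgroup.card_top] at h1 h2
  have h3 := Q.card_mul_index
  refine ⟨finrank K ↥(W ⊓ inv ρ ⊤), le_antisymm h1 ?_⟩
  nlinarith [Nat.mul_le_mul_left (Nat.card Q) hsum]

end Cfsg.Agent.PFix
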