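import Cfsg.Agent.Lib.Blocks.GroupAlg
import Cfsg.Agent.Lib.Blocks.PFixedDims
import Mathlib.LinearAlgebra.Dual.Lemmas

/-!
# Blocks of minimal dimension

A two-sided block module of the least possible dimension is a transitive permutation module for
the square of a Sylow subgroup, which forces every local automorphism into that subgroup.
-/

set_option linter.unusedSectionVars false

namespace Cfsg.Agent.MinDim

open Module

universe u v w

variable {K : Type u} [Field K] {p : ℕ} [hp : Fact p.Prime] [CharP K p]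

section Trans

variable {Γ : Type v} [Group Γ] [Finite Γ] {X : Type w} [MulAction Γ X] [Fintype X]

/-- The permutation representation on functions. -/
def permRep : Γ →* Module.End K (X → K) where
  toFun t := { toFun := fun f x => f (t⁻¹ • x)
               map_add' := fun _ _ => rfl
               map_smul' := fun _ _ => rfl }
  map_one' := by ext f x; simp
  map_mul' t s := by ext f x; simp [mul_smul]

/-- A nonzero invariant subspace contains a nonzero fixed function. -/
theorem exists_fixed (hΓ : IsPGroup p Γ) (U : Submodule K (X → K))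
    (hU : ∀ t : Γ, ∀ f ∈ U, (fun x => f (t⁻¹ • x)) ∈ U) (hne : U ≠ ⊥) :
    ∃ f ∈ U, f ≠ 0 ∧ ∀ (t : Γ) (x : X), f (t • x) = f x := by
  have h1 := PFix.finrank_le_card_mul hΓ (permRep (K := K) (Γ := Γ) (X := X)) U
    (fun t f hf => hU t f hf) ⊤
  have hne' : U ⊓ PFix.inv (permRep (K := K) (Γ := Γ) (X := X)) ⊤ ≠ ⊥ := fun h0 => hne (by
    rw [h0, finrank_bot, mul_zero, Nat.le_zero] at h1
    exact Submodule.finrank_eq_zero.mp h1)
  obtain ⟨f, ⟨hfU, hf⟩, hf0⟩ := Submodule.exists_mem_ne_zero_of_ne_bot hne'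
  refine ⟨f, hfU, hf0, fun t x => ?_⟩
  have := congrFun (hf t⁻¹ (Subgroup.mem_top _)) x
  simpa [permRep] using this

/-- An invariant subspace of a transitive permutation module with an element of nonzero sum is
everything. -/
theorem eq_top_of_sum_ne_zero (hΓ : IsPGroup p Γ) (htr : ∀ x y : X, ∃ t : Γ, t • x = y)
    (U : Submodule K (X → K))
    (hU : ∀ t : Γ, ∀ f ∈ U, (fun x => f (t⁻¹ • x)) ∈ U)
    {f : X → K} (hf : f ∈ U) (hsum : ∑ x, f x ≠ 0) : U = ⊤ := by
  classical
  by_contra hne
  obtain ⟨U', hU'⟩ : ∃ U' : Submodule K (X → K), U' =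
      { carrier := {v | ∀ g ∈ U, ∑ x, v x * g x = 0}
        add_mem' := fun {a b} ha hb g hg => by
          simp only [Pi.add_apply, add_mul, Finset.sum_add_distrib, ha g hg, hb g hg, add_zero]
        zero_mem' := fun g _ => by simp
        smul_mem' := fun c a ha g hg => by
          simp only [Pi.smul_apply, smul_eq_mul, mul_assoc, ← Finset.mul_sum, ha g hg, mul_zero] } :=
    ⟨_, rfl⟩
  have hmem : ∀ v, v ∈ U' ↔ ∀ g ∈ U, ∑ x, v x * g x = 0 := fun v => by rw [hU']; rfl
  have hinv : ∀ t : Γ, ∀ v ∈ U', (fun x => v (t⁻¹ • x)) ∈ U' := fun t v hv => by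
    refine (hmem _).mpr fun g hg => ?_
    have h := (hmem v).mp hv _ (hU t⁻¹ g hg)
    rw [← Equiv.sum_comp (MulAction.toPerm t : Equiv.Perm X)]
    simpa using h
  obtain ⟨φ, hφ, hφU⟩ := Submodule.exists_le_ker_of_lt_top U (lt_top_iff_ne_top.mpr hne)
  have hv0 : (fun x => φ (Pi.single x 1)) ∈ U' := (hmem _).mpr fun g hg => by
    have h0 : φ g = 0 := hφU hg
    rw [pi_eq_sum_univ g, map_sum] at h0
    rw [← h0]
    refine Finset.sum_congr rfl fun x _ => ?_
    rw [map_smul, smul_eq_mul, mul_comm]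
    congr 2
    funext y
    simp [Pi.single_apply, eq_comm]
  have hne' : U' ≠ ⊥ := fun h => by
    rw [h, Submodule.mem_bot] at hv0
    refine hφ (LinearMap.pi_ext fun x c => ?_)
    have := congrFun hv0 x
    rw [show Pi.single x c = c • (Pi.single x 1 : X → K) by ext y; simp [Pi.single_apply],
      map_smul, map_smul, LinearMap.zero_apply, smul_zero]
    simpa using Or.inr this
  obtain ⟨v, hv, hv0', hvc⟩ := exists_fixed hΓ U' hinv hne'
  obtain ⟨x₀, hx₀⟩ := Function.ne_iff.mp hv0'
  have h := (hmem v).mp hv f hf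
  rw [Finset.sum_congr rfl fun x _ => show v x * f x = v x₀ * f x by
    obtain ⟨t, rfl⟩ := htr x₀ x; rw [hvc], ← Finset.mul_sum] at h
  exact (mul_eq_zero.mp h).elim hx₀ hsum

end Trans

/-! ### The double action of a `p`-subgroup -/

variable {G : Type v} [Group G] [Fintype G]

theorem isPGroup_prod {P : Subgroup G} (hP : IsPGroup p P) : IsPGroup p (P × P) := by
  obtain ⟨n, hn⟩ := IsPGroup.iff_card.mp hP
  exact IsPGroup.of_card (n := n + n) (by rw [Nat.card_prod, hn, pow_add])

/-- Left and right multiplication. -/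
@[reducible] def dblAct (P : Subgroup G) : MulAction (P × P) G where
  smul t h := (t.1 : G) * h * (t.2 : G)⁻¹
  one_smul h := show ((1 : P) : G) * h * ((1 : P) : G)⁻¹ = h by simp
  mul_smul s t h := show ((s.1 * t.1 : P) : G) * h * ((s.2 * t.2 : P) : G)⁻¹ =
      (s.1 : G) * ((t.1 : G) * h * (t.2 : G)⁻¹) * (s.2 : G)⁻¹ by simp [mul_assoc]

open Classical in
/-- An invariant sum vanishes if its terms vanish at the fixed points of a subgroup. -/
theorem sum_eq_zero_of_fixed {Γ : Type v} [Group Γ] (hΓ : IsPGroup p Γ) (S : Subgroup Γ)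
    {X : Type w} [MulAction Γ X] [Fintype X] (F : X → K)
    (hF : ∀ (t : S) (x : X), F ((t : Γ) • x) = F x)
    (h0 : ∀ x : X, (∀ t : S, (t : Γ) • x = x) → F x = 0) : ∑ x, F x = 0 := by
  rw [Blocks.sum_eq_sum_fixed (p := p) (hΓ.to_subgroup S) F fun t x => hF t x]
  exact Finset.sum_eq_zero fun x hx => h0 x fun t => (Finset.mem_filter.mp hx).2 t

open Classical in
/-- The main statement: if the image of convolution with a class idempotent is as small as
possible, some orbit of the double action maps bijectively onto it. -/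
theorem exists_free_orbit {P : Subgroup G} (hP : IsPGroup p P) {β : G → K}
    (hcl : ∀ x u, β (x * u * x⁻¹) = β u)
    (hidem : ∀ u h, ∑ x, β (u * x⁻¹) * β (x * h⁻¹) = β (u * h⁻¹)) (hne : β ≠ 0) {d : ℕ}
    (hbr : ∀ Q : Subgroup G, Q ≤ P → p ^ d < Nat.card Q →
      ∀ u ∈ Subgroup.centralizer (Q : Set G), β u = 0)
    (T : (G → K) →ₗ[K] (G → K)) (hT : ∀ v u, T v u = ∑ h, β (u * h⁻¹) * v h)
    (hdim : finrank K (LinearMap.range T) * p ^ d ≤ Nat.card P * Nat.card P) :
    letI := dblAct P
    ∃ z : G, Nat.card (MulAction.stabilizer (P × P) z) = p ^ d ∧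
      (∀ v : G → K, ∃ w : G → K, (∀ h, h ∉ MulAction.orbit (P × P) z → w h = 0) ∧ T w = T v) ∧
      ∀ w : G → K, (∀ h, h ∉ MulAction.orbit (P × P) z → w h = 0) → T w = 0 → w = 0 := by
  letI := dblAct P
  have hsm : ∀ (t : P × P) (h : G), t • h = (t.1 : G) * h * (t.2 : G)⁻¹ := fun _ _ => rfl
  have hPP : IsPGroup p (P × P) := by
    obtain ⟨n, hn⟩ := IsPGroup.iff_card.mp hP
    exact IsPGroup.of_card (n := n + n) (by rw [Nat.card_prod, hn, pow_add])
  -- invariant functions reproduced by the idempotent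
  let E : Submodule K (G → K) :=
    { carrier := {c | ∀ h, ∑ u, c u * β (u * h⁻¹) = c h}
      add_mem' := fun {a b} ha hb h => by
        simp only [Pi.add_apply, add_mul, Finset.sum_add_distrib, ha h, hb h]
      zero_mem' := fun h => by simp
      smul_mem' := fun c a ha h => by
        simp only [Pi.smul_apply, smul_eq_mul, mul_assoc, ← Finset.mul_sum, ha h] }
  have hE : ∀ c, c ∈ E ↔ ∀ h, ∑ u, c u * β (u * h⁻¹) = c h := fun c => Iff.rfl
  have hEinv : ∀ t : P × P, ∀ c ∈ E, (fun x => c (t⁻¹ • x)) ∈ E := fun t c hc h => by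
    show ∑ u, c (t⁻¹ • u) * β (u * h⁻¹) = c (t⁻¹ • h)
    rw [← (hE c).mp hc (t⁻¹ • h), ← Equiv.sum_comp (MulAction.toPerm t : Equiv.Perm G)]
    refine Finset.sum_congr rfl fun u _ => ?_
    rw [MulAction.toPerm_apply, inv_smul_smul, hsm, hsm, ← hcl (t.1 : G) (u * _)]
    congr 2
    simp only [Prod.fst_inv, Prod.snd_inv, Subgroup.coe_inv]
    group
  obtain ⟨u₀, hu₀⟩ := Function.ne_iff.mp hne
  have hE0 : E ≠ ⊥ := fun h0 => by
    have hmem : (fun u => β (u₀ * u⁻¹)) ∈ E := fun h => hidem u₀ h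
    rw [h0, Submodule.mem_bot] at hmem
    exact hu₀ (by simpa using congrFun hmem 1)
  obtain ⟨c, hc, hc0, hcinv⟩ := exists_fixed hPP E hEinv hE0
  -- points where it does not vanish have small stabilizers
  have hsmall : ∀ z, c z ≠ 0 → Nat.card (MulAction.stabilizer (P × P) z) ≤ p ^ d := by
    intro z hz
    by_contra hlt
    push Not at hlt
    obtain ⟨S, hS⟩ : ∃ S, S = MulAction.stabilizer (P × P) z := ⟨_, rfl⟩
    obtain ⟨Q, hQ⟩ : ∃ Q, Q = S.map (P.subtype.comp (MonoidHom.fst P P)) := ⟨_, rfl⟩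
    have hst : ∀ t ∈ S, (t.2 : G) = z⁻¹ * t.1 * z := fun t ht => by
      rw [hS, MulAction.mem_stabilizer_iff, hsm, mul_inv_eq_iff_eq_mul] at ht
      rw [mul_assoc, ht, inv_mul_cancel_left]
    have hQc : Nat.card Q = Nat.card S := by
      refine (Nat.card_congr (Equiv.ofBijective
        (fun t : S => (⟨_, hQ ▸ Subgroup.mem_map_of_mem _ t.2⟩ : Q)) ⟨fun s t hst' => ?_,
          fun y => ?_⟩)).symm
      · have h1 : ((s : P × P).1 : G) = ((t : P × P).1 : G) := by simpa using congrArg Subtype.val hst'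
        refine Subtype.ext (Prod.ext (Subtype.ext h1) (Subtype.ext ?_))
        rw [hst _ s.2, hst _ t.2, h1]
      · have hy : (y : G) ∈ S.map (P.subtype.comp (MonoidHom.fst P P)) := hQ ▸ y.2
        obtain ⟨t, ht, hty⟩ := hy
        exact ⟨⟨t, ht⟩, Subtype.ext hty⟩
    have hQP : Q ≤ P := by rw [hQ]; rintro _ ⟨t, -, rfl⟩; exact t.1.2
    have hzero : ∀ u, (∀ t : S, ((t : P × P).1 : G) * u * ((t : P × P).1 : G)⁻¹ = u) → β u = 0 :=
      fun u hu => hbr Q hQP (by rw [hQc]; exact hS ▸ hlt) u
        (Subgroup.mem_centralizer_iff.mpr fun q hq => by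
          rw [SetLike.mem_coe, hQ] at hq
          obtain ⟨t, ht, rfl⟩ := hq
          exact mul_inv_eq_iff_eq_mul.mp (hu ⟨t, ht⟩))
    refine hz ?_
    rw [← hc z]
    have htwist : ∀ (t : S) (u : G), (((t : S) : P × P) • u) * z⁻¹ =
        ((t : P × P).1 : G) * (u * z⁻¹) * ((t : P × P).1 : G)⁻¹ := fun t u => by
      rw [hsm, hst _ t.2]; group
    refine sum_eq_zero_of_fixed hPP S (fun u => c u * β (u * z⁻¹))
      (fun t u => by rw [hcinv, htwist, hcl]) fun u hu => ?_
    rw [hzero (u * z⁻¹) fun t => ?_, mul_zero]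
    rw [← htwist, hu t]
  -- a largest stabilizer among those points
  obtain ⟨z₀, hz₀⟩ : ∃ z, c z ≠ 0 := Function.ne_iff.mp hc0
  obtain ⟨z, hz, hzmax⟩ := Finset.exists_max_image (Finset.univ.filter fun z => c z ≠ 0)
    (fun z => Nat.card (MulAction.stabilizer (P × P) z)) ⟨z₀, by simpa using hz₀⟩
  replace hz : c z ≠ 0 := by simpa using hz
  obtain ⟨m, hm⟩ : ∃ m : G, m = z := ⟨_, rfl⟩
  -- some orbit of the same size receives it
  obtain ⟨z', hz'c, hz'⟩ : ∃ z', c z' ≠ 0 ∧
      ∑ x : MulAction.orbit (P × P) z', β ((x : G) * z⁻¹) ≠ 0 := by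
    by_contra hall
    push Not at hall
    refine hz ?_
    rw [← hc z, ← (MulAction.selfEquivSigmaOrbits (P × P) G).symm.sum_comp, Fintype.sum_sigma]
    refine Finset.sum_eq_zero fun ω _ => ?_
    show ∑ y : MulAction.orbit (P × P) ω.out, c (y : G) * β ((y : G) * z⁻¹) = 0
    have hconst : ∀ y : MulAction.orbit (P × P) ω.out, c y = c ω.out := fun y => by
      obtain ⟨t, ht⟩ := MulAction.mem_orbit_iff.mp y.2
      rw [← ht, hcinv]
    rw [Finset.sum_congr rfl fun (y : MulAction.orbit (P × P) ω.out) _ =>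
      show c (y : G) * β ((y : G) * z⁻¹) = c ω.out * β ((y : G) * z⁻¹) by rw [hconst y],
      ← Finset.mul_sum]
    rcases eq_or_ne (c ω.out) 0 with h | h
    · rw [h, zero_mul]
    · rw [hall _ h, mul_zero]
  obtain ⟨S, hS⟩ : ∃ S, S = MulAction.stabilizer (P × P) z := ⟨_, rfl⟩
  obtain ⟨S', hS'⟩ : ∃ S', S' = MulAction.stabilizer (P × P) z' := ⟨_, rfl⟩
  have hle : Nat.card S ≤ Nat.card S' := by
    have hstab : ∀ x ∈ MulAction.orbit (P × P) z', Nat.card (MulAction.stabilizer (P × P) x) =
        Nat.card S' := fun x hx => by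
      obtain ⟨t, rfl⟩ := hx
      rw [hS']
      exact Nat.card_congr (MulAction.stabilizerEquivStabilizerOfOrbitRel
        (a := t • z') (b := z') ⟨t, rfl⟩).toEquiv
    have hfix : ∃ x : MulAction.orbit (P × P) z', ∀ t : S, (t : P × P) • x = x := by
      by_contra hno
      refine hz' ?_
      refine sum_eq_zero_of_fixed hPP S (fun x : MulAction.orbit (P × P) z' => β ((x : G) * z⁻¹))
        (fun t x => ?_) fun x hx => ?_
      swap
      · exact absurd ⟨x, hx⟩ hno
      · have ht : (t : P × P) • z = z := MulAction.mem_stabilizer_iff.mp (hS ▸ t.2)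
        rw [MulAction.orbit.coe_smul, hsm, ← hcl ((t : P × P).1 : G) ((x : G) * z⁻¹)]
        rw [hsm, mul_inv_eq_iff_eq_mul] at ht
        congr 1
        rw [show ((t : P × P).2 : G) = z⁻¹ * (t : P × P).1 * z by
          rw [mul_assoc, ht, inv_mul_cancel_left]]
        group
    obtain ⟨x, hx⟩ := hfix
    rw [← hstab _ x.2]
    refine Subgroup.card_le_of_le fun t ht => ?_
    exact congrArg Subtype.val (hx ⟨t, ht⟩)
  have heq : Nat.card S' = Nat.card S :=
    le_antisymm (hS ▸ hS' ▸ hzmax z' (by simpa using hz'c)) hle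
  have horb : ∀ y : G, Nat.card (MulAction.orbit (P × P) y) *
      Nat.card (MulAction.stabilizer (P × P) y) = Nat.card P * Nat.card P := fun y => by
    rw [← Nat.card_prod P P, ← Nat.card_prod]
    exact Nat.card_congr (MulAction.orbitProdStabilizerEquivGroup (P × P) y)
  have hcard : Nat.card (MulAction.orbit (P × P) z) = Nat.card (MulAction.orbit (P × P) z') := by
    refine Nat.eq_of_mul_eq_mul_right (Nat.card_pos (α := S)) ?_
    conv_rhs => rw [← heq, hS', horb z']
    rw [hS, horb z]
  -- convolution is injective on the orbit of z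
  obtain ⟨O, hO⟩ : ∃ O, O = MulAction.orbit (P × P) z := ⟨_, rfl⟩
  obtain ⟨ext0, hext0⟩ : ∃ e : (MulAction.orbit (P × P) z → K) →ₗ[K] (G → K),
      ∀ w u, e w u = if h : u ∈ MulAction.orbit (P × P) z then w ⟨u, h⟩ else 0 :=
    ⟨{ toFun := fun w u => if h : u ∈ MulAction.orbit (P × P) z then w ⟨u, h⟩ else 0
       map_add' := fun a b => by funext u; by_cases h : u ∈ MulAction.orbit (P × P) z <;> simp [h]
       map_smul' := fun r a => by funext u; by_cases h : u ∈ MulAction.orbit (P × P) z <;> simp [h] },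
      fun _ _ => rfl⟩
  let g : (MulAction.orbit (P × P) z → K) →ₗ[K] (MulAction.orbit (P × P) z' → K) :=
    (LinearMap.funLeft K K Subtype.val).comp (T.comp ext0)
  have hg : ∀ w x, g w x = T (ext0 w) (x : G) := fun _ _ => rfl
  have hTeq : ∀ (t : P × P) (v : G → K) (u : G), T (fun x => v (t⁻¹ • x)) u = T v (t⁻¹ • u) := by
    intro t v u
    rw [hT, hT, ← Equiv.sum_comp (MulAction.toPerm t : Equiv.Perm G)]
    refine Finset.sum_congr rfl fun x _ => ?_
    rw [MulAction.toPerm_apply, inv_smul_smul, hsm, hsm, ← hcl (t.1 : G) (_ * x⁻¹)]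
    congr 2
    simp only [Prod.fst_inv, Prod.snd_inv, Subgroup.coe_inv]
    group
  have hsurj : LinearMap.range g = ⊤ := by
    refine eq_top_of_sum_ne_zero hPP (fun x y => ?_) _ (fun t f hf => ?_)
      (LinearMap.mem_range_self g (Pi.single ⟨z, MulAction.mem_orbit_self z⟩ 1)) ?_
    · obtain ⟨a, ha⟩ := x.2
      obtain ⟨b, hb⟩ := y.2
      exact ⟨b * a⁻¹, Subtype.ext (by
        rw [MulAction.orbit.coe_smul, ← ha, ← hb, smul_smul, inv_mul_cancel_right])⟩
    · obtain ⟨w, rfl⟩ := hf
      refine ⟨fun x => w (t⁻¹ • x), funext fun x => ?_⟩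
      rw [hg, hg, MulAction.orbit.coe_smul, ← hTeq]
      refine congrFun (congrArg T (funext fun u => ?_)) _
      rw [hext0, hext0]
      by_cases hu : u ∈ MulAction.orbit (P × P) z
      · rw [dif_pos hu, dif_pos (MulAction.mem_orbit_of_mem_orbit t⁻¹ hu)]
        rfl
      · rw [dif_neg hu, dif_neg fun h => hu (by
          simpa using MulAction.mem_orbit_of_mem_orbit t h)]
    · rw [Finset.sum_congr rfl fun x _ => show g _ x = β ((x : G) * z⁻¹) by
        rw [hg, hT, Finset.sum_eq_single z]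
        · rw [hext0, dif_pos (MulAction.mem_orbit_self z), Pi.single_eq_same, mul_one]
        · intro u _ hu
          rw [hext0]
          split_ifs with h
          · rw [Pi.single_eq_of_ne (fun h' => hu (congrArg Subtype.val h')), mul_zero]
          · rw [mul_zero]
        · simp]
      exact hz'
  have hginj : Function.Injective g :=
    (LinearMap.injective_iff_surjective_of_finrank_eq_finrank (by
      rw [Module.finrank_pi, Module.finrank_pi, ← Nat.card_eq_fintype_card,
        ← Nat.card_eq_fintype_card, hcard])).mpr (LinearMap.range_eq_top.mp hsurj)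
  have hinj : Function.Injective (T.comp ext0) := fun a b h => hginj (by
    funext x; rw [hg, hg]; exact congrFun h (x : G))
  -- count dimensions
  obtain ⟨hl, hr⟩ : Nat.card (MulAction.orbit (P × P) z) ≤ finrank K (LinearMap.range T) ∧
      LinearMap.range (T.comp ext0) ≤ LinearMap.range T := by
    refine ⟨?_, LinearMap.range_comp_le_range _ _⟩
    rw [Nat.card_eq_fintype_card, ← Module.finrank_pi K]
    exact (LinearMap.finrank_range_of_inj hinj).symm.trans_le
      (Submodule.finrank_mono (LinearMap.range_comp_le_range _ _))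
  haveI := (MulAction.nonempty_orbit (M := P × P) z).to_subtype
  have hSd : Nat.card S = p ^ d := by
    have h1 := hS ▸ hsmall z hz
    have h2 := horb z
    rw [← hS] at h2
    refine le_antisymm h1 (Nat.le_of_mul_le_mul_left ?_
      (Nat.card_pos (α := MulAction.orbit (P × P) z)))
    exact (Nat.mul_le_mul_right _ hl).trans (hdim.trans h2.ge)
  have hrange : LinearMap.range (T.comp ext0) = LinearMap.range T := by
    refine Submodule.eq_of_le_of_finrank_le hr ?_
    rw [LinearMap.finrank_range_of_inj hinj, Module.finrank_pi, ← Nat.card_eq_fintype_card]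
    refine Nat.le_of_mul_le_mul_right ?_ (pow_pos hp.out.pos d)
    refine hdim.trans ?_
    rw [← horb z, ← hS, hSd]
  refine ⟨z, hS ▸ hSd, fun v => ?_, fun w hw hw0 => ?_⟩
  · obtain ⟨w, hw⟩ := hrange.ge (LinearMap.mem_range_self T v)
    exact ⟨ext0 w, fun h hh => by rw [hext0, dif_neg hh], hw⟩
  · have he : ext0 (fun x => w (x : G)) = w := funext fun u => by
      rw [hext0]
      split_ifs with h
      · rfl
      · exact (hw u h).symm
    have h0 : (fun x : MulAction.orbit (P × P) z => w (x : G)) = 0 := hinj (by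
      rw [map_zero, LinearMap.comp_apply, he, hw0])
    rw [← he, h0, map_zero]

end Cfsg.Agent.MinDim
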