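import Cfsg.Agent.Lib.Blocks.MinDim
import Cfsg.Agent.Lib.Blocks.BlockDims
import Cfsg.Agent.Lib.Blocks.Defect
import Cfsg.Agent.Lib.BrauerPairs.Pairs

/-!
# A block of minimal dimension is nilpotent
-/

set_option linter.unusedSectionVars false

namespace Cfsg.Agent.MinDim

open Module MonoidAlgebra Blocks BPairs

universe u v

section Equivariance

variable {K : Type u} [Field K] {G : Type v} [Group G] [Fintype G] {β : G → K}

/-- Convolution with a class function commutes with the double action. -/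
theorem conv_smul (hcl : ∀ x u, β (x * u * x⁻¹) = β u) (P : Subgroup G)
    (T : (G → K) →ₗ[K] (G → K)) (hT : ∀ v u, T v u = ∑ h, β (u * h⁻¹) * v h)
    (t : P × P) (v : G → K) (u : G) :
    letI := dblAct P
    T (fun x => v (t • x)) u = T v (t • u) := by
  letI := dblAct P
  have hsm : ∀ (s : P × P) (h : G), s • h = (s.1 : G) * h * (s.2 : G)⁻¹ := fun _ _ => rfl
  rw [hT, hT, ← Equiv.sum_comp (MulAction.toPerm t : Equiv.Perm G)
    (fun h => β (t • u * h⁻¹) * v h)]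
  refine Finset.sum_congr rfl fun x _ => ?_
  rw [MulAction.toPerm_apply, hsm, hsm]
  congr 1
  rw [← hcl (t.1 : G) (u * x⁻¹)]
  congr 1
  group

end Equivariance

variable {p : ℕ} [hp : Fact p.Prime] {M : Ideal AlgInt} [M.IsPrime] {G : Type v} [Group G]
  [Fintype G]

open Classical in
/-- In a block of minimal dimension every local automorphism comes from a fixed Sylow subgroup. -/
theorem exists_sylow_control (hM : IsPModular p M) {B : Set (IrrCharacter G)} (hB : IsPBlock M B)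
    {D : Subgroup G} (hD : IsDefectGroup p M B D) {a d : ℕ}
    (ha : (Nat.card G).factorization p = a) (hd : Nat.card D = p ^ d)
    (hmin : ∑ᶠ χ ∈ B, charDegree (χ : G → ℂ) ^ 2 = p ^ (2 * a - d)) :
    ∃ P : Subgroup G, IsPGroup p P ∧ D ≤ P ∧ ∀ Q : Subgroup G, Q ≤ D →
      ∀ g ∈ Subgroup.normalizer (Q : Set G), ∃ k ∈ P, ∀ q ∈ Q, g * q * g⁻¹ = k * q * k⁻¹ := by
  haveI := charP_res hM
  obtain ⟨-, -, -, hDp, -⟩ := defectGroup_spec hD
  obtain ⟨S, hS⟩ := hDp.exists_le_sylow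
  obtain ⟨P, hP⟩ : ∃ P, P = (S : Subgroup G) := ⟨_, rfl⟩
  have hPp : IsPGroup p P := hP ▸ S.2
  have hDP : D ≤ P := hP ▸ hS
  have hPc : Nat.card P = p ^ a := by rw [hP, S.card_eq_multiplicity, ha]
  have hda : d ≤ a := (Nat.pow_le_pow_iff_right hp.out.one_lt).mp
    (hd ▸ hPc ▸ Subgroup.card_le_of_le hDP)
  obtain ⟨β, hβ⟩ : ∃ β : G → Res M,
      β = fun u => (bBar M B : MonoidAlgebra (Res M) G).coeff u := ⟨_, rfl⟩
  have hcl : ∀ x u, β (x * u * x⁻¹) = β u := fun x u => by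
    rw [hβ]; exact (mem_center_iff_isClassFn _).mp (bBar M B).2 u x
  have hbb : (bBar M B : MonoidAlgebra (Res M) G) * bBar M B = bBar M B :=
    congrArg Subtype.val (bBar_mul_self (M := M) (blockCoeff_mem_loc hB))
  have hidem : ∀ u h, ∑ x, β (u * x⁻¹) * β (x * h⁻¹) = β (u * h⁻¹) := fun u h => by
    subst hβ
    simp only
    conv_rhs => rw [show (bBar M B : MonoidAlgebra (Res M) G).coeff (u * h⁻¹) =
      ((bBar M B : MonoidAlgebra (Res M) G) * bBar M B).coeff (u * h⁻¹) by rw [hbb],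
      coeff_mul_sum]
    refine Fintype.sum_equiv ((Equiv.inv G).trans (Equiv.mulLeft u)) _ _ fun x => ?_
    simp [mul_assoc]
  have hne : β ≠ 0 := fun h => bBar_ne_zero (M := M) hB (Subtype.ext (by
    ext u
    simpa [hβ] using congrFun h u))
  have hbrz : ∀ Q : Subgroup G, IsPGroup p Q → (∀ x : G, ¬ Q.map (MulAut.conj x).toMonoidHom ≤ D) →
      ∀ u ∈ Subgroup.centralizer (Q : Set G), β u = 0 := by
    intro Q hQ hno u hu
    have h0 : br Q hQ (bBar M B) = 0 := by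
      by_contra h
      obtain ⟨x, hx⟩ := (br_bBar_ne_zero_iff hM hB hD hQ).mp h
      exact hno x hx
    rw [br_apply, trunc_eq_zero_iff] at h0
    rw [hβ]
    exact h0 u hu
  have hbrne : ∀ Q : Subgroup G, Q ≤ D → ∃ e ∈ Subgroup.centralizer (Q : Set G), β e ≠ 0 := by
    intro Q hQD
    have h := (br_bBar_ne_zero_iff hM hB hD (hDp.to_le hQD)).mpr
      ⟨1, by rwa [map_conj_one]⟩
    rw [br_apply, ne_eq, trunc_eq_zero_iff] at h
    push Not at h
    rw [hβ]
    exact h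
  obtain ⟨T, hTdef⟩ : ∃ T : (G → Res M) →ₗ[Res M] (G → Res M), T =
      (coeffFun (Res M) G).toLinearMap ∘ₗ
        (LinearMap.mulLeft (Res M) (bBar M B : MonoidAlgebra (Res M) G)) ∘ₗ
        (coeffFun (Res M) G).symm.toLinearMap := ⟨_, rfl⟩
  have hT : ∀ v u, T v u = ∑ h, β (u * h⁻¹) * v h := fun v u => by
    obtain ⟨w, rfl⟩ := (coeffFun (Res M) G).surjective v
    rw [hTdef, LinearMap.comp_apply, LinearMap.comp_apply, LinearEquiv.coe_coe, LinearEquiv.coe_coe,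
      LinearEquiv.symm_apply_apply, coeffFun_apply, LinearMap.mulLeft_apply, coeff_mul_sum, hβ]
    refine Fintype.sum_equiv ((Equiv.inv G).trans (Equiv.mulRight u)) _ _ fun x => ?_
    simp [coeffFun_apply, mul_assoc]
  have hfin : finrank (Res M) (LinearMap.range T) = p ^ (2 * a - d) := by
    have h1 : finrank (Res M) (LinearMap.range T) = finrank (Res M)
        (LinearMap.range (LinearMap.mulLeft (Res M) (bBar M B : MonoidAlgebra (Res M) G))) := by
      rw [hTdef, LinearMap.range_comp, LinearEquiv.range_comp, LinearEquiv.finrank_map_eq]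
    apply Nat.cast_injective (R := ℂ)
    rw [h1, finrank_bBar hB, ← hmin, finsum_mem_eq_finite_toFinset_sum _ (Set.toFinite B),
      Nat.cast_sum, ← Finset.sum_filter]
    refine Finset.sum_congr (by ext χ; simp) fun χ _ => ?_
    rw [charDegree_cast, Nat.cast_pow]
  letI := dblAct P
  have hsm : ∀ (t : P × P) (h : G), t • h = (t.1 : G) * h * (t.2 : G)⁻¹ := fun _ _ => rfl
  obtain ⟨z, hz, hsurj, hinj⟩ := exists_free_orbit (p := p) hPp hcl hidem hne (d := d)
    (fun Q hQP hlt => hbrz Q (hPp.to_le hQP) fun x hx => by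
      have := Subgroup.card_le_of_le hx
      rw [card_map_conj, hd] at this
      omega) T hT (by
      rw [hfin, ← pow_add, hPc, ← pow_add]
      exact Nat.pow_le_pow_right hp.out.pos (by omega))
  -- every local automorphism fixes a point of the orbit
  have hfix : ∀ Q : Subgroup G, Q ≤ D → ∀ g ∈ Subgroup.normalizer (Q : Set G),
      ∃ h ∈ MulAction.orbit (P × P) z, ∀ q ∈ Q, g * q * g⁻¹ * h = h * q := by
    intro Q hQD g hg
    have hQP : Q ≤ P := hQD.trans hDP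
    have hgP : ∀ q ∈ Q, g * q * g⁻¹ ∈ P := fun q hq =>
      hQP ((Subgroup.mem_normalizer_iff.mp hg q).mp hq)
    obtain ⟨e, he, he0⟩ := hbrne Q hQD
    obtain ⟨φ, hφ⟩ : ∃ φ : Q →* P × P, ∀ q : Q,
        ((φ q).1 : G) = g * q * g⁻¹ ∧ ((φ q).2 : G) = q := by
      refine ⟨MonoidHom.mk' (fun q : Q => (⟨g * q * g⁻¹, hgP q q.2⟩, ⟨q, hQP q.2⟩)) fun a b => ?_,
        fun q => ⟨rfl, rfl⟩⟩
      refine Prod.ext (Subtype.ext ?_) (Subtype.ext rfl)
      show g * ((a : G) * b) * g⁻¹ = g * a * g⁻¹ * (g * b * g⁻¹)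
      group
    obtain ⟨v, hv⟩ : ∃ v : G → Res M, v = Pi.single g 1 := ⟨_, rfl⟩
    have hvinv : ∀ q : Q, (fun x => v (φ q • x)) = v := fun q => funext fun x => by
      have hg' : φ q • g = g := by rw [hsm, (hφ q).1, (hφ q).2]; group
      rw [hv, Pi.single_apply, Pi.single_apply]
      refine if_congr ⟨fun h => ?_, fun h => by rw [h, hg']⟩ rfl rfl
      exact smul_left_cancel (φ q) (h.trans hg'.symm)
    obtain ⟨w, hw, hTw⟩ := hsurj v
    have hwinv : ∀ (q : Q) (x : G), w (φ q • x) = w x := by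
      intro q x
      have h1 := hinj ((fun y => w (φ q • y)) - w) (fun y hy => ?_) ?_
      · exact sub_eq_zero.mp (congrFun h1 x)
      · simp only [Pi.sub_apply, hw y hy, sub_zero]
        exact hw _ fun h => hy (by
          simpa using MulAction.mem_orbit_of_mem_orbit (φ q)⁻¹ h)
      · funext u
        rw [map_sub, Pi.sub_apply, conv_smul hcl P T hT (φ q) w u, hTw, ← conv_smul hcl P T hT,
          hvinv, sub_self, Pi.zero_apply]
    have hTe : T w (e * g) ≠ 0 := by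
      rw [hTw, hT, Finset.sum_eq_single g (fun h _ hh => by rw [hv, Pi.single_eq_of_ne hh, mul_zero])
        (by simp), hv, Pi.single_eq_same, mul_one, mul_inv_cancel_right]
      exact he0
    by_contra hno
    push Not at hno
    refine hTe ?_
    rw [hT]
    refine sum_eq_zero_of_fixed (p := p) (isPGroup_prod hPp) φ.range _ (fun t x => ?_) fun x hx => ?_
    · obtain ⟨q, hq⟩ := t.2
      rw [← hq, hwinv]
      congr 1
      rw [← hcl (g * (q : G) * g⁻¹) (e * g * x⁻¹)]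
      congr 1
      have hc : g * (q : G) * g⁻¹ * e = e * (g * q * g⁻¹) :=
        Subgroup.mem_centralizer_iff.mp he _ ((Subgroup.mem_normalizer_iff.mp hg q).mp q.2)
      calc e * g * (φ q • x)⁻¹ = e * (g * q * g⁻¹) * (g * x⁻¹ * (g * q * g⁻¹)⁻¹) := by
            rw [hsm, (hφ q).1, (hφ q).2]; group
        _ = g * (q : G) * g⁻¹ * e * (g * x⁻¹ * (g * q * g⁻¹)⁻¹) := by rw [hc]
        _ = _ := by group
    · by_cases hxO : x ∈ MulAction.orbit (P × P) z
      · exfalso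
        obtain ⟨q, hq, hne'⟩ := hno x hxO
        refine hne' ?_
        have h := hx ⟨φ ⟨q, hq⟩, _, rfl⟩
        rw [hsm, (hφ ⟨q, hq⟩).1, (hφ ⟨q, hq⟩).2] at h
        exact mul_inv_eq_iff_eq_mul.mp h
      · rw [hw x hxO, mul_zero]
  -- a point centralizing the defect group
  obtain ⟨h₀, hh₀, hD₀⟩ := hfix D le_rfl 1 (one_mem _)
  replace hD₀ : ∀ q ∈ D, q * h₀ = h₀ * q := fun q hq => by simpa using hD₀ q hq
  have hst₀ : ∀ t : P × P, t • h₀ = h₀ → (t.1 : G) ∈ D ∧ t.2 = t.1 := by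
    obtain ⟨Δ, hΔ⟩ : ∃ Δ : Subgroup (P × P), Δ =
        (MonoidHom.prod (Subgroup.inclusion hDP) (Subgroup.inclusion hDP)).range := ⟨_, rfl⟩
    have hle : Δ ≤ MulAction.stabilizer (P × P) h₀ := by
      rw [hΔ]
      rintro _ ⟨q, rfl⟩
      rw [MulAction.mem_stabilizer_iff, hsm]
      exact mul_inv_eq_iff_eq_mul.mpr (hD₀ q q.2)
    obtain ⟨t₀, ht₀⟩ := hh₀
    have hceq : Δ = MulAction.stabilizer (P × P) h₀ := by
      refine Subgroup.eq_of_le_of_card_ge hle ?_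
      rw [Nat.card_congr (MulAction.stabilizerEquivStabilizerOfOrbitRel (a := h₀) (b := z)
        (show MulAction.orbitRel (P × P) G h₀ z from ⟨t₀, ht₀⟩)).toEquiv, hz, hΔ,
        ← Nat.card_congr (MonoidHom.ofInjective (f := MonoidHom.prod (Subgroup.inclusion hDP)
          (Subgroup.inclusion hDP)) fun x y h =>
            Subgroup.inclusion_injective hDP (Prod.ext_iff.mp h).1).toEquiv, hd]
    intro t ht
    rw [← MulAction.mem_stabilizer_iff, ← hceq, hΔ] at ht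
    obtain ⟨q, rfl⟩ := ht
    exact ⟨q.2, rfl⟩
  refine ⟨P, hPp, hDP, fun Q hQD g hg => ?_⟩
  obtain ⟨h, hh, hq⟩ := hfix Q hQD g hg
  rw [← MulAction.orbit_eq_iff.mpr hh₀] at hh
  obtain ⟨t, rfl⟩ := hh
  refine ⟨(t.1 : G) * (t.2 : G)⁻¹, mul_mem t.1.2 (inv_mem t.2.2), fun q hqQ => ?_⟩
  have hqP : q ∈ P := hDP (hQD hqQ)
  have hgP : g * q * g⁻¹ ∈ P := hDP (hQD ((Subgroup.mem_normalizer_iff.mp hg q).mp hqQ))
  have he : t.1⁻¹ * ⟨_, hgP⟩ * t.1 = t.2⁻¹ * ⟨q, hqP⟩ * t.2 := by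
    have h1 := hq q hqQ
    simp only [hsm] at h1
    refine ((hst₀ (t.1⁻¹ * ⟨_, hgP⟩ * t.1, t.2⁻¹ * ⟨q, hqP⟩ * t.2) ?_).2).symm
    rw [hsm]
    simp only [Subgroup.coe_mul, Subgroup.coe_inv]
    calc (t.1 : G)⁻¹ * (g * q * g⁻¹) * (t.1 : G) * h₀ * ((t.2 : G)⁻¹ * q * (t.2 : G))⁻¹ =
        (t.1 : G)⁻¹ * ((g * q * g⁻¹) * ((t.1 : G) * h₀ * (t.2 : G)⁻¹)) * q⁻¹ * (t.2 : G) := by group
      _ = (t.1 : G)⁻¹ * (((t.1 : G) * h₀ * (t.2 : G)⁻¹) * q) * q⁻¹ * (t.2 : G) := by rw [h1]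
      _ = h₀ := by group
  replace he := congrArg (fun x : P => (x : G)) he
  simp only [Subgroup.coe_mul, Subgroup.coe_inv] at he
  calc g * q * g⁻¹ = (t.1 : G) * ((t.1 : G)⁻¹ * (g * q * g⁻¹) * t.1) * (t.1 : G)⁻¹ := by group
    _ = (t.1 : G) * ((t.2 : G)⁻¹ * q * t.2) * (t.1 : G)⁻¹ := by rw [he]
    _ = _ := by group

open Classical in
/-- A block of minimal dimension is nilpotent. -/
theorem isNilpotentBlock_of_minimal (hM : IsPModular p M) {B : Set (IrrCharacter G)}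
    (hB : IsPBlock M B) {D : Subgroup G} (hD : IsDefectGroup p M B D) {a d : ℕ}
    (ha : (Nat.card G).factorization p = a) (hd : Nat.card D = p ^ d)
    (hmin : ∑ᶠ χ ∈ B, charDegree (χ : G → ℂ) ^ 2 = p ^ (2 * a - d)) :
    IsNilpotentBlock p M B := by
  haveI := charP_res hM
  obtain ⟨P, hPp, -, hctl⟩ := exists_sylow_control hM hB hD ha hd hmin
  refine ⟨hB, fun Q e hpair x hx _ hreg => ?_⟩
  obtain ⟨hQ, he, -, hocc⟩ := isBrauerPairOf_iff.mp hpair
  obtain ⟨y, hy⟩ : ∃ y : G, Q.map (MulAut.conj y).toMonoidHom ≤ D := by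
    refine (br_bBar_ne_zero_iff hM hB hD hQ).mp fun h0 => ?_
    rw [br_apply, trunc_eq_zero_iff] at h0
    obtain ⟨ξ, hξ⟩ := block_nonempty he
    refine one_ne_zero ((hocc ξ hξ).symm.trans (Finset.sum_eq_zero fun K _ => ?_))
    rw [h0 _ (rep K).2, zero_mul]
  obtain ⟨R, hR⟩ : ∃ R, R = Q.map (MulAut.conj y).toMonoidHom := ⟨_, rfl⟩
  have hR' : ∀ v, v ∈ R ↔ y⁻¹ * v * y ∈ Q := fun v => hR ▸ mem_map_conj
  have hx' : y * x * y⁻¹ ∈ Subgroup.normalizer (R : Set G) := Subgroup.mem_normalizer_iff.mpr fun v => by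
    rw [hR', hR', Subgroup.mem_normalizer_iff.mp hx (y⁻¹ * v * y)]
    simp [mul_assoc]
  obtain ⟨k, hk, hkq⟩ := hctl R (hR ▸ hy) _ hx'
  -- both induce the same automorphism
  obtain ⟨ψ, hψdef⟩ : ∃ ψ, ψ = R.normalizerMonoidHom := ⟨_, rfl⟩
  have hkN : k ∈ Subgroup.normalizer (R : Set G) := Subgroup.mem_normalizer_iff.mpr fun v => by
    constructor
    · intro hv
      rw [← hkq v hv]
      exact (Subgroup.mem_normalizer_iff.mp hx' v).mp hv
    · intro hv
      obtain ⟨v', hv', hvv⟩ : ∃ v' ∈ R, y * x * y⁻¹ * v' * (y * x * y⁻¹)⁻¹ = k * v * k⁻¹ := by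
        refine ⟨(y * x * y⁻¹)⁻¹ * (k * v * k⁻¹) * (y * x * y⁻¹),
          (Subgroup.mem_normalizer_iff.mp hx' _).mpr ?_, by group⟩
        rwa [show y * x * y⁻¹ * ((y * x * y⁻¹)⁻¹ * (k * v * k⁻¹) * (y * x * y⁻¹)) *
          (y * x * y⁻¹)⁻¹ = k * v * k⁻¹ by group]
      rw [hkq v' hv'] at hvv
      rwa [← show v' = v by simpa using hvv]
  have heq : ψ ⟨_, hx'⟩ = ψ ⟨k, hkN⟩ := MulEquiv.ext fun v => Subtype.ext (by
    rw [hψdef]; exact hkq v v.2)
  have h1 : orderOf (ψ ⟨k, hkN⟩) = 1 := by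
    have hpk : ∃ n, orderOf (ψ ⟨k, hkN⟩) ∣ p ^ n := by
      obtain ⟨n, hn⟩ := hPp ⟨k, hk⟩
      refine ⟨n, (orderOf_map_dvd ψ _).trans ?_⟩
      rw [Subgroup.orderOf_mk, orderOf_dvd_iff_pow_eq_one]
      exact congrArg Subtype.val hn
    obtain ⟨n, hn⟩ := hpk
    have hxo : orderOf (ψ ⟨k, hkN⟩) ∣ orderOf x := by
      rw [← heq]
      refine (orderOf_map_dvd ψ _).trans ?_
      rw [Subgroup.orderOf_mk, show y * x * y⁻¹ = MulAut.conj y x from rfl, MulEquiv.orderOf_eq]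
    exact Nat.eq_one_of_dvd_coprimes
      (Nat.Coprime.pow_left n (hp.out.coprime_iff_not_dvd.mpr hreg)) hn hxo
  rw [orderOf_eq_one_iff, ← heq, ← MonoidHom.mem_ker, hψdef,
    Subgroup.normalizerMonoidHom_ker, Subgroup.mem_subgroupOf, Subgroup.mem_centralizer_iff] at h1
  refine Subgroup.mem_centralizer_iff.mpr fun q hq => ?_
  have h2 := h1 (y * q * y⁻¹) ((hR' _).mpr (by simpa [mul_assoc] using hq))
  calc q * x = y⁻¹ * ((y * q * y⁻¹) * (y * x * y⁻¹)) * y := by group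
    _ = y⁻¹ * ((y * x * y⁻¹) * (y * q * y⁻¹)) * y := by rw [h2]
    _ = x * q := by group

end Cfsg.Agent.MinDim
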