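import Cfsg.Agent.Lib.Blocks.BrauerBlock
import Cfsg.Agent.Lib.Blocks.BlockCount

/-!
# Generalized decomposition numbers and automorphisms of a section

The translates of the characters of a block to a section are combinations of the Brauer characters
of the blocks of the centralizer inducing it, and the trace of an injective endomorphism of the
centralizer on them is a natural number.
-/

set_option autoImplicit false
set_option linter.unusedSectionVars false

namespace Cfsg.Agent.Blocks

open MonoidAlgebra SplitAlg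
open scoped ComplexConjugate

universe u

variable {G : Type u} [Group G] [Fintype G] {p : ℕ} {M : Ideal AlgInt} [M.IsPrime]

theorem exists_phi_comp (hM : IsPModular p M) {Q : Type u} [Group Q] [Fintype Q] (T : GSplit M Q)
    (Sp : GSplit M G) (ι : Q →* G) (hι : Function.Injective ι) (i : Fin Sp.r) :
    ∃ N : Fin T.r → ℕ, ∀ q : Q, ¬ p ∣ orderOf q →
      phiB Sp (ι q) i = ∑ k, (N k : ℂ) * phiB T q k := by
  classical
  haveI := Fact.mk hM.1
  let F := MonoidAlgebra.mapDomainRingHom (Res M) ι
  let N : MonoidAlgebra (Res M) Q → ℕ := fun f => Sp.rk (F f) i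
  have hN : ∀ f : MonoidAlgebra (Res M) Q, f * f = f →
      N f = ∑ k, T.rk f k • N (T.prim k) := fun f hf =>
    T.additive_eq N (fun a b ha hb hab hba => by
      simp only [N, map_add]
      refine Sp.rk_add ?_ ?_ ?_ ?_ i <;> rw [← map_mul]
      · rw [ha]
      · rw [hb]
      · rw [hab, map_zero]
      · rw [hba, map_zero])
      (fun a v ha => by
        simp only [N, map_mul]
        exact Sp.rk_conj (Units.map F.toMonoidHom v) _ i) hf
  refine ⟨fun k => N (T.prim k), fun q hq => ?_⟩
  have hF : ∀ a : MonoidAlgebra (Loc M) Q,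
      redG M G (MonoidAlgebra.mapDomainRingHom (Loc M) ι a) = F (redG M Q a) := fun a => by
    induction a using MonoidAlgebra.induction_linear with
    | zero => simp
    | add x y hx hy => simp only [map_add, hx, hy]
    | single g r => ext u; simp [F, Finsupp.single_apply]
  simp only [phiB, phiL, orderOf_injective ι hι, cycIdem_map ι hι, hF,
    AddSubmonoidClass.coe_finset_sum, Subring.coe_mul, SubringClass.coe_natCast, Finset.mul_sum]
  rw [Finset.sum_comm]
  refine Finset.sum_congr rfl fun l _ => ?_
  rw [show Sp.rk (F (redG M Q (cycIdem M q l))) i = N (redG M Q (cycIdem M q l)) from rfl,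
    hN _ (by rw [← map_mul, cycIdem_mul_self hM hq]), Nat.cast_sum, Finset.sum_mul]
  exact Finset.sum_congr rfl fun k _ => by rw [nsmul_eq_mul]; push_cast; ring

variable {y : G} [Fintype (Subgroup.centralizer ({y} : Set G))]
variable (T : GSplit M (Subgroup.centralizer ({y} : Set G)))

/-- The generalized decomposition numbers. -/
noncomputable def secDec (χ : IrrCharacter G) (i : Fin T.r) : ℂ :=
  ∑ η : IrrCharacter (Subgroup.centralizer ({y} : Set G)),
    (CT.mult (fun h : Subgroup.centralizer ({y} : Set G) => (χ : G → ℂ) h) (η : _ → ℂ) : ℂ) *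
      omC η * (dec T η i : ℂ)

theorem translate_phi (hM : IsPModular p M) (χ : IrrCharacter G)
    {h : Subgroup.centralizer ({y} : Set G)} (hh : ¬ p ∣ orderOf h) :
    (χ : G → ℂ) (y * (h : G)) = ∑ i, secDec T χ i * phiB T h i := by
  have e := congrFun (translate_eq (y := y) χ) h
  simp only [Finset.sum_apply, Pi.smul_apply, smul_eq_mul, irr_eq_sum_phi T hM _ hh,
    Finset.mul_sum] at e
  rw [e, Finset.sum_comm]
  refine Finset.sum_congr rfl fun i _ => ?_
  rw [secDec, Finset.sum_mul]
  exact Finset.sum_congr rfl fun η _ => by ring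

/-- The second main theorem for generalized decomposition numbers. -/
theorem secDec_eq_zero (hM : IsPModular p M) (hy : ∃ k : ℕ, y ^ p ^ k = 1)
    {b : Set (IrrCharacter (Subgroup.centralizer ({y} : Set G)))} {B : Set (IrrCharacter G)}
    (hind : IsInducedBlock M (Subgroup.centralizer ({y} : Set G)) b B) {χ : IrrCharacter G}
    (hχ : χ ∉ B) {i : Fin T.r} (hi : i ∈ inBlk T b) : secDec T χ i = 0 := by
  classical
  haveI := Fact.mk hM.1
  have hA := blockCoeff_mem_loc (M := M) hind.1
  obtain ⟨f, hf⟩ : ∃ f : Subgroup.centralizer ({y} : Set G) → ℂ,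
      f = ∑ η, secC b χ η • regFun p η := ⟨_, rfl⟩
  have hcl : IsClassFunction (Subgroup.centralizer ({y} : Set G)) f := fun g h => by
    simp only [hf, Finset.sum_apply, Pi.smul_apply]
    exact Finset.sum_congr rfl fun η _ => by rw [regFun_class η g h]
  have hf0 : f = 0 := by
    rw [CT.classFunction_eq_sum hcl]
    refine Finset.sum_eq_zero fun η _ => ?_
    have h := gB_eq_zero hM hy hind hχ η
    rw [gB] at h
    rw [hf, CT.classInner_sum_left,
      Finset.sum_congr rfl fun η' _ => CT.classInner_smul_left _ _ _]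
    rw [show (∑ η', secC b χ η' * classInner (regFun p η')
      (η : Subgroup.centralizer ({y} : Set G) → ℂ)) = 0 from h, zero_smul]
  have h0 := phi_independent T hM
    (c := fun j => ∑ η, secC b χ η * (dec T η j : ℂ)) fun g hg => by
    have h := congrFun hf0 g
    simp only [hf, Finset.sum_apply, Pi.smul_apply, smul_eq_mul, regFun, if_neg hg, Pi.zero_apply,
      irr_eq_sum_phi T hM _ hg, Finset.mul_sum] at h
    rw [← h, Finset.sum_comm]
    refine Finset.sum_congr rfl fun j _ => ?_
    rw [Finset.sum_mul]
    exact Finset.sum_congr rfl fun η _ => by ring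
  have h1 := congrFun h0 i
  simp only [Pi.zero_apply] at h1
  rw [secDec, ← h1]
  refine Finset.sum_congr rfl fun η _ => ?_
  by_cases hη : η ∈ b
  · rw [secC, if_pos hη]
  · rw [(dec_cases T hM hA η i).1 hi hη]
    simp

theorem exists_block_of_component (hM : IsPModular p M) (i : Fin T.r) :
    ∃ b : Set (IrrCharacter (Subgroup.centralizer ({y} : Set G))),
      IsPBlock M b ∧ i ∈ inBlk T b := by
  obtain ⟨η, hη⟩ := exists_dec_ne_zero T hM i
  refine ⟨_, isPBlock_blockOf (M := M) η, by_contra fun hi => hη ?_⟩
  exact (dec_cases T hM (blockCoeff_mem_loc (isPBlock_blockOf η)) η i).2 hi (self_mem_blockOf η)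

theorem exists_induced_centralizer (hM : IsPModular p M) (hy : ∃ k : ℕ, y ^ p ^ k = 1)
    {b : Set (IrrCharacter (Subgroup.centralizer ({y} : Set G)))} (hb : IsPBlock M b) :
    ∃ B, IsInducedBlock M (Subgroup.centralizer ({y} : Set G)) b B := by
  haveI := Fact.mk hM.1
  have hCQ := centralizer_zpowers_eq y
  refine exists_inducedBlock hM (isPGroup_zpowers (p := p) hy)
    (Subgroup.zpowers_le.mpr (Subgroup.mem_centralizer_singleton_iff.mpr rfl)) hCQ.le ?_ hb
  rw [← hCQ]
  exact Subgroup.centralizer_le_normalizer _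

open Classical in
/-- The trace of an injective endomorphism of the centralizer on the part of a block. -/
theorem exists_section_trace (hM : IsPModular p M) {B : Set (IrrCharacter G)} (hB : IsPBlock M B)
    (hy : ∃ k : ℕ, y ^ p ^ k = 1)
    (τ : Subgroup.centralizer ({y} : Set G) →* Subgroup.centralizer ({y} : Set G))
    (hτ : Function.Injective τ) :
    ∃ n : ℕ, ∑ h ∈ Finset.univ.filter (fun h : Subgroup.centralizer ({y} : Set G) => ¬ p ∣ orderOf h),
        ∑ χ ∈ Finset.univ.filter (fun χ : IrrCharacter G => χ ∈ B),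
          (χ : G → ℂ) (y * (τ h : G)) * conj ((χ : G → ℂ) (y * (h : G))) =
      (Nat.card (Subgroup.centralizer ({y} : Set G)) : ℂ) * (n : ℂ) := by
  haveI := Fact.mk hM.1
  obtain ⟨T⟩ := nonempty_gSplit (G := Subgroup.centralizer ({y} : Set G)) hM
  obtain ⟨J, hJ⟩ : ∃ J : Finset (Fin T.r), J = Finset.univ.filter fun i =>
      ∃ b, IsInducedBlock M (Subgroup.centralizer ({y} : Set G)) b B ∧ i ∈ inBlk T b := ⟨_, rfl⟩
  have hin : ∀ χ ∈ B, ∀ i ∉ J, secDec T χ i = 0 := by
    intro χ hχ i hi
    obtain ⟨b, hb, hib⟩ := exists_block_of_component T hM i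
    obtain ⟨B', hB'⟩ := exists_induced_centralizer hM hy hb
    refine secDec_eq_zero T hM hy hB' (fun h => hi ?_) hib
    rw [hJ]
    exact Finset.mem_filter.mpr ⟨Finset.mem_univ _, b, block_eq_of_mem hB'.2.1 hB h hχ ▸ hB', hib⟩
  have hout : ∀ χ ∉ B, ∀ i ∈ J, secDec T χ i = 0 := by
    intro χ hχ i hi
    rw [hJ] at hi
    obtain ⟨-, b, hb, hib⟩ := Finset.mem_filter.mp hi
    exact secDec_eq_zero T hM hy hb hχ hib
  obtain ⟨β, hβ⟩ : ∃ β : Fin T.r → Subgroup.centralizer ({y} : Set G) → ℂ,
      β = fun i (h : Subgroup.centralizer ({y} : Set G)) => ∑ χ : IrrCharacter G, secDec T χ i * conj ((χ : G → ℂ) (y * (h : G))) :=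
    ⟨_, rfl⟩
  have hker : ∀ h' h : Subgroup.centralizer ({y} : Set G), ¬ p ∣ orderOf h' →
      ∑ χ ∈ Finset.univ.filter (fun χ : IrrCharacter G => χ ∈ B),
        (χ : G → ℂ) (y * (h' : G)) * conj ((χ : G → ℂ) (y * (h : G))) =
      ∑ i ∈ J, phiB T h' i * β i h := by
    intro h' h hh'
    simp only [hβ, Finset.mul_sum, translate_phi T hM _ hh', Finset.sum_mul]
    rw [Finset.sum_comm (s := J)]
    rw [Finset.sum_filter]
    refine Finset.sum_congr rfl fun χ _ => ?_
    by_cases hχ : χ ∈ B
    · rw [if_pos hχ]
      refine (Finset.sum_subset (Finset.subset_univ _) fun i _ hi => ?_).symm.trans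
        (Finset.sum_congr rfl fun i _ => by ring)
      rw [hin χ hχ i hi]
      simp
    · rw [if_neg hχ]
      exact (Finset.sum_eq_zero fun i hi => by rw [hout χ hχ i hi]; simp).symm
  have hdual : ∀ i j, ∑ h ∈ Finset.univ.filter
      (fun h : Subgroup.centralizer ({y} : Set G) => ¬ p ∣ orderOf h), β i h * phiB T h j =
        if i = j then (Nat.card (Subgroup.centralizer ({y} : Set G)) : ℂ) else 0 := by
    intro i j
    have key : (fun i => ∑ h ∈ Finset.univ.filter
        (fun h : Subgroup.centralizer ({y} : Set G) => ¬ p ∣ orderOf h), β i h * phiB T h j -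
          if i = j then (Nat.card (Subgroup.centralizer ({y} : Set G)) : ℂ) else 0) = 0 := by
      refine phi_independent T hM fun g hg => ?_
      simp only [sub_mul, Finset.sum_sub_distrib, Finset.sum_mul, ite_mul, zero_mul,
        Finset.sum_ite_eq', Finset.mem_univ, if_true]
      rw [Finset.sum_comm, sub_eq_zero]
      have hcol : ∀ h ∈ Finset.univ.filter
          (fun h : Subgroup.centralizer ({y} : Set G) => ¬ p ∣ orderOf h),
          ∑ i, β i h * phiB T h j * phiB T g i =
            (∑ η : IrrCharacter (Subgroup.centralizer ({y} : Set G)),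
              (η : _ → ℂ) g * conj ((η : _ → ℂ) h)) * phiB T h j := by
        intro h hh
        rw [← section_column hM.1 hy (Finset.mem_filter.mp hh).2 hg, Finset.sum_mul]
        simp only [hβ, Finset.sum_mul, translate_phi T hM _ hg]
        rw [Finset.sum_comm]
        exact Finset.sum_congr rfl fun χ _ => Finset.sum_congr rfl fun i _ => by ring
      rw [Finset.sum_congr rfl hcol]
      simp only [Finset.sum_mul]
      rw [Finset.sum_comm]
      obtain ⟨f, hf⟩ : ∃ f : Subgroup.centralizer ({y} : Set G) → ℂ,
          f = fun h => if p ∣ orderOf h then 0 else theta T p j h := ⟨_, rfl⟩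
      have hcl : IsClassFunction (Subgroup.centralizer ({y} : Set G)) f := fun x c => by
        simp only [hf]
        rw [theta_class T j x c]
        have ho : orderOf (c * x * c⁻¹) = orderOf x := by
          rw [← MulAut.conj_apply, MulEquiv.orderOf_eq]
        simp only [ho]
      have e := congrFun (CT.classFunction_eq_sum hcl) g
      simp only [Finset.sum_apply, Pi.smul_apply, smul_eq_mul] at e
      rw [show f g = phiB T g j by simp only [hf, if_neg hg, theta_of_regular T hg]] at e
      rw [e, Finset.mul_sum]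
      refine Finset.sum_congr rfl fun η _ => ?_
      rw [classInner, ← mul_assoc (Nat.card (Subgroup.centralizer ({y} : Set G)) : ℂ),
        mul_inv_cancel_left₀ (Nat.cast_ne_zero.mpr Nat.card_pos.ne'), Finset.sum_mul,
        Finset.sum_filter]
      refine Finset.sum_congr rfl fun h _ => ?_
      by_cases hh : p ∣ orderOf h
      · simp [hf, hh]
      · simp only [hf, if_neg hh, hh, not_false_eq_true, if_true, theta_of_regular T hh]
        ring
    exact sub_eq_zero.mp (congrFun key i)
  choose N hN using exists_phi_comp hM T T τ hτ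
  refine ⟨∑ i ∈ J, N i i, ?_⟩
  rw [Finset.sum_congr rfl fun h hh => hker (τ h) h
    (by rw [orderOf_injective τ hτ]; exact (Finset.mem_filter.mp hh).2), Finset.sum_comm,
    Nat.cast_sum, Finset.mul_sum]
  refine Finset.sum_congr rfl fun i _ => ?_
  rw [Finset.sum_congr rfl fun h hh => by
    rw [hN i h (Finset.mem_filter.mp hh).2, Finset.sum_mul], Finset.sum_comm]
  have e : ∀ k, ∑ h ∈ Finset.univ.filter
      (fun h : Subgroup.centralizer ({y} : Set G) => ¬ p ∣ orderOf h),
      (N i k : ℂ) * phiB T h k * β i h =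
      if i = k then (N i k : ℂ) * (Nat.card (Subgroup.centralizer ({y} : Set G)) : ℂ) else 0 := by
    intro k
    rw [Finset.sum_congr rfl fun h _ => show (N i k : ℂ) * phiB T h k * β i h =
      (N i k : ℂ) * (β i h * phiB T h k) by ring, ← Finset.mul_sum, hdual]
    split_ifs <;> simp
  rw [Finset.sum_congr rfl fun k _ => e k, Finset.sum_ite_eq, if_pos (Finset.mem_univ _), mul_comm]

end Cfsg.Agent.Blocks
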