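import Cfsg.Agent.Lib.Blocks.RankBasics
import Cfsg.Agent.Lib.Blocks.InvariantCover
import Cfsg.Agent.Lib.Blocks.FongReynolds
import Cfsg.Agent.Lib.Blocks.FirstMain
import Cfsg.Agent.Lib.Blocks.Orthogonality
import Cfsg.Agent.Lib.Blocks.SectionDec
import Cfsg.Agent.Lib.Blocks.Height
import Mathlib.GroupTheory.FixedPointFree
import Mathlib.GroupTheory.Transfer

/-!
# Blocks with one more character than regular rank

All nontrivial elements of a defect group are conjugate; for the principal block, and for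
`p`-solvable groups, the defect group is then elementary abelian.
-/

set_option linter.unusedSectionVars false

namespace Cfsg.Agent.OneSection

open Blocks

universe u

variable {G : Type u} [Group G] [Fintype G] {p : ℕ} [hp : Fact p.Prime] {M : Ideal AlgInt}
  [M.IsPrime]

theorem one_le_blockRank {B : Set (IrrCharacter G)} (hB : IsPBlock M B) :
    1 ≤ blockRank p B := by
  obtain ⟨χ, hχ⟩ := block_nonempty hB
  rw [blockRank, Nat.one_le_iff_ne_zero, ne_eq, Submodule.finrank_eq_zero, Submodule.span_eq_bot]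
  intro h
  refine CT.irr_one_ne_zero χ.2 ?_
  have := congrFun (h _ ⟨χ, hχ, rfl⟩) 1
  simp only [pRegularPart_eq_regFun] at this
  simpa [regFun, hp.out.ne_one] using this

theorem exists_pow_orderOf {x : G} (h : ∃ k : ℕ, x ^ p ^ k = 1) : ∃ k : ℕ, orderOf x = p ^ k := by
  obtain ⟨k, hk⟩ := h
  obtain ⟨j, -, hj⟩ := (Nat.dvd_prime_pow hp.out).mp (orderOf_dvd_of_pow_eq_one hk)
  exact ⟨j, hj⟩

open Classical in
/-- A set of representatives of the classes of `p`-elements gives the count, split at the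
identity. -/
theorem rank_add_le (hM : IsPModular p M) {B : Set (IrrCharacter G)} (hB : IsPBlock M B)
    {S : Finset G} (hS : ∀ x ∈ S, x ≠ 1 ∧ (∃ k : ℕ, x ^ p ^ k = 1) ∧
      ∃ b : Set (IrrCharacter (Subgroup.centralizer ({x} : Set G))),
        IsInducedBlock M (Subgroup.centralizer ({x} : Set G)) b B)
    (hdist : ∀ x ∈ S, ∀ y ∈ S, IsConj x y → x = y) :
    blockRank p B + ∑ x ∈ S, ∑ᶠ b ∈ {b : Set (IrrCharacter ↥(Subgroup.centralizer ({x} : Set G))) |
      IsInducedBlock M (Subgroup.centralizer ({x} : Set G)) b B}, blockRank p b ≤ Nat.card B := by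
  obtain ⟨r, hr⟩ : ∃ r : G → G, r = fun g =>
      if h : ∃ x ∈ insert (1 : G) S, IsConj g x then h.choose else rep (ConjClasses.mk g) := ⟨_, rfl⟩
  have hr1 : ∀ g, IsConj g (r g) := fun g => by
    simp only [hr]
    split_ifs with h
    · exact h.choose_spec.2
    · exact (ConjClasses.mk_eq_mk_iff_isConj.mp (mk_rep (ConjClasses.mk g)).symm)
  have hd' : ∀ x ∈ insert (1 : G) S, ∀ y ∈ insert (1 : G) S, IsConj x y → x = y := by
    intro x hx y hy hxy
    rcases Finset.mem_insert.mp hx with rfl | hx <;> rcases Finset.mem_insert.mp hy with rfl | hy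
    · rfl
    · exact absurd (isConj_one_right.mp hxy) (hS y hy).1
    · exact absurd (isConj_one_left.mp hxy) (hS x hx).1
    · exact hdist x hx y hy hxy
  have hr2 : ∀ g g', IsConj g g' → r g = r g' := fun g g' hg => by
    simp only [hr]
    split_ifs with h h' h'
    · exact hd' _ h.choose_spec.1 _ h'.choose_spec.1
        ((h.choose_spec.2.symm.trans hg).trans h'.choose_spec.2)
    · exact absurd ⟨_, h.choose_spec.1, hg.symm.trans h.choose_spec.2⟩ h'
    · exact absurd ⟨_, h'.choose_spec.1, hg.trans h'.choose_spec.2⟩ h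
    · rw [ConjClasses.mk_eq_mk_iff_isConj.mpr hg]
  obtain ⟨X, hX⟩ : ∃ X : Finset G, X =
      (Finset.univ.filter fun g : G => ∃ k : ℕ, orderOf g = p ^ k).image r := ⟨_, rfl⟩
  have hpel : ∀ x ∈ X, ∃ k : ℕ, orderOf x = p ^ k := fun x hx => by
    rw [hX, Finset.mem_image] at hx
    obtain ⟨g, hg, rfl⟩ := hx
    obtain ⟨c, hc⟩ := isConj_iff.mp (hr1 g)
    obtain ⟨k, hk⟩ := (Finset.mem_filter.mp hg).2
    refine ⟨k, ?_⟩
    rw [← hc, show c * g * c⁻¹ = MulAut.conj c g from rfl, MulEquiv.orderOf_eq, hk]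
  have hrep : ∀ g : G, (∃ k : ℕ, orderOf g = p ^ k) → ∃! x, x ∈ X ∧ IsConj g x := fun g hg => by
    refine ⟨r g, ⟨hX ▸ Finset.mem_image.mpr ⟨g, Finset.mem_filter.mpr ⟨Finset.mem_univ _, hg⟩, rfl⟩,
      hr1 g⟩, fun y ⟨hy, hgy⟩ => ?_⟩
    rw [hX, Finset.mem_image] at hy
    obtain ⟨g', -, rfl⟩ := hy
    exact (hr2 g g' (hgy.trans (hr1 g').symm)).symm
  have hSX : insert (1 : G) S ⊆ X := fun x hx => by
    rw [hX, Finset.mem_image]
    refine ⟨x, Finset.mem_filter.mpr ⟨Finset.mem_univ _, ?_⟩, ?_⟩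
    · rcases Finset.mem_insert.mp hx with rfl | hx
      · exact ⟨0, by simp⟩
      · exact exists_pow_orderOf (hS x hx).2.1
    · have h : ∃ y ∈ insert (1 : G) S, IsConj x y := ⟨x, hx, IsConj.refl x⟩
      simp only [hr, dif_pos h]
      exact (hd' _ hx _ h.choose_spec.1 h.choose_spec.2).symm
  rw [card_block_eq_sum_rank hM hB hpel hrep]
  refine le_trans (le_of_eq ?_) (Finset.sum_le_sum_of_subset hSX)
  rw [Finset.sum_insert fun h => (hS 1 h).1 rfl, finsum_rank_top hB _ (eq_top_iff.mpr fun g _ =>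
    Subgroup.mem_centralizer_singleton_iff.mpr (by simp))]

open Classical in
/-- Every `p`-element of a defect group has a block of its centralizer inducing the block. -/
theorem exists_section_block (hM : IsPModular p M) {B : Set (IrrCharacter G)} (hB : IsPBlock M B)
    {D : Subgroup G} (hD : IsDefectGroup p M B D) {x : G} (hx : x ∈ D) :
    (∃ k : ℕ, x ^ p ^ k = 1) ∧ ∃ b : Set (IrrCharacter (Subgroup.centralizer ({x} : Set G))),
      IsInducedBlock M (Subgroup.centralizer ({x} : Set G)) b B := by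
  haveI := charP_res hM
  obtain ⟨-, -, -, hDp, -⟩ := defectGroup_spec hD
  obtain ⟨k, hk⟩ := hDp ⟨x, hx⟩
  have hxk : ∃ k : ℕ, x ^ p ^ k = 1 := ⟨k, congrArg Subtype.val hk⟩
  refine ⟨hxk, ?_⟩
  have key : ∀ C : Subgroup G, C = Subgroup.centralizer ((Subgroup.zpowers x : Subgroup G) : Set G) →
      ∃ b : Set (IrrCharacter C), IsInducedBlock M C b B := by
    intro C hC
    subst hC
    obtain ⟨ξ, hξ⟩ := exists_block_inducing hM (isPGroup_zpowers (p := p) hxk)
      (Subgroup.le_centralizer _) le_rfl (Subgroup.centralizer_le_normalizer _) hB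
      ((br_bBar_ne_zero_iff hM hB hD (isPGroup_zpowers (p := p) hxk)).mpr
        ⟨1, by rw [map_conj_one]; exact Subgroup.zpowers_le.mpr hx⟩)
    exact ⟨_, hξ⟩
  exact key _ (centralizer_zpowers_eq x).symm

theorem one_le_sectionRank {B : Set (IrrCharacter G)} {C : Subgroup G} [Fintype C]
    {b : Set (IrrCharacter C)} (hb : IsInducedBlock M C b B) :
    blockRank p b ≤ ∑ᶠ b' ∈ {b' : Set (IrrCharacter C) | IsInducedBlock M C b' B}, blockRank p b' := by
  classical
  rw [finsum_mem_eq_finite_toFinset_sum _ (Set.toFinite _)]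
  exact Finset.single_le_sum (f := fun b' : Set (IrrCharacter C) => blockRank p b')
    (fun _ _ => Nat.zero_le _) ((Set.toFinite _).mem_toFinset.mpr hb)

open Classical in
theorem rank_lt_card (hM : IsPModular p M) {B : Set (IrrCharacter G)} (hB : IsPBlock M B)
    {D : Subgroup G} (hD : IsDefectGroup p M B D) (hD1 : D ≠ ⊥) : blockRank p B < Nat.card B := by
  obtain ⟨x, hx, hx1⟩ := (D.ne_bot_iff_exists_ne_one.mp hD1) |> fun ⟨a, ha⟩ =>
    (⟨(a : G), a.2, fun h => ha (Subtype.ext h)⟩ : ∃ x : G, x ∈ D ∧ x ≠ 1)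
  obtain ⟨hxk, b, hb⟩ := exists_section_block hM hB hD hx
  have h := rank_add_le hM hB (S := {x}) (fun y hy => by
    rw [Finset.mem_singleton] at hy; subst hy; exact ⟨hx1, hxk, b, hb⟩)
    (fun y hy z hz _ => by rw [Finset.mem_singleton.mp hy, Finset.mem_singleton.mp hz])
  rw [Finset.sum_singleton] at h
  haveI := Fintype.ofFinite (Subgroup.centralizer ({x} : Set G))
  have := (one_le_blockRank (p := p) hb.1).trans (one_le_sectionRank hb)
  omega

open Classical in
/-- The consequences of `k = l + 1`. -/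
theorem section_unique (hM : IsPModular p M) {B : Set (IrrCharacter G)} (hB : IsPBlock M B)
    (hk : Nat.card B = blockRank p B + 1) {x y : G} (hx : x ≠ 1) (hy : y ≠ 1)
    (hxk : ∃ k : ℕ, x ^ p ^ k = 1) (hyk : ∃ k : ℕ, y ^ p ^ k = 1)
    {b : Set (IrrCharacter (Subgroup.centralizer ({x} : Set G)))}
    (hb : IsInducedBlock M (Subgroup.centralizer ({x} : Set G)) b B)
    {b' : Set (IrrCharacter (Subgroup.centralizer ({y} : Set G)))}
    (hb' : IsInducedBlock M (Subgroup.centralizer ({y} : Set G)) b' B) :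
    IsConj x y ∧ blockRank p b = 1 := by
  haveI := Fintype.ofFinite (Subgroup.centralizer ({x} : Set G))
  haveI := Fintype.ofFinite (Subgroup.centralizer ({y} : Set G))
  have hbx := one_le_sectionRank (p := p) hb
  have hby := (one_le_blockRank (p := p) hb'.1).trans (one_le_sectionRank (p := p) hb')
  have hb1 := one_le_blockRank (p := p) hb.1
  have h1 := rank_add_le hM hB (S := {x}) (fun z hz => by
    rw [Finset.mem_singleton] at hz; subst hz; exact ⟨hx, hxk, b, hb⟩)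
    (fun z hz w hw _ => by rw [Finset.mem_singleton.mp hz, Finset.mem_singleton.mp hw])
  rw [Finset.sum_singleton] at h1
  refine ⟨?_, by omega⟩
  by_contra hne
  have hxy : x ≠ y := fun h => hne (h ▸ IsConj.refl x)
  have h2 := rank_add_le hM hB (S := {x, y}) (fun z hz => by
    rcases Finset.mem_insert.mp hz with rfl | hz
    · exact ⟨hx, hxk, b, hb⟩
    · rw [Finset.mem_singleton] at hz; subst hz; exact ⟨hy, hyk, b', hb'⟩)
    (fun z hz w hw hzw => by
      simp only [Finset.mem_insert, Finset.mem_singleton] at hz hw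
      rcases hz with hz | hz <;> rcases hw with hw | hw <;> rw [hz, hw] at hzw ⊢
      exacts [absurd hzw hne, absurd hzw.symm hne])
  rw [Finset.sum_pair hxy] at h2
  omega

theorem conj_of_mem_defect (hM : IsPModular p M) {B : Set (IrrCharacter G)} (hB : IsPBlock M B)
    (hk : Nat.card B = blockRank p B + 1) {D : Subgroup G} (hD : IsDefectGroup p M B D) {x y : G}
    (hx : x ∈ D) (hx1 : x ≠ 1) (hy : y ∈ D) (hy1 : y ≠ 1) : IsConj x y := by
  obtain ⟨hxk, b, hb⟩ := exists_section_block hM hB hD hx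
  obtain ⟨hyk, b', hb'⟩ := exists_section_block hM hB hD hy
  exact (section_unique hM hB hk hx1 hy1 hxk hyk hb hb').1

theorem pow_eq_one_of_conj {D : Subgroup G} (hDp : IsPGroup p D)
    (hconj : ∀ x ∈ D, ∀ y ∈ D, x ≠ 1 → y ≠ 1 → IsConj x y) : ∀ a ∈ D, a ^ p = 1 := by
  intro a ha
  rcases eq_or_ne a 1 with rfl | ha1
  · exact one_pow p
  obtain ⟨k, hk⟩ := hDp ⟨a, ha⟩
  have hcard : p ∣ Nat.card D := by
    obtain ⟨j, hj⟩ := exists_pow_orderOf (x := a) ⟨k, congrArg Subtype.val hk⟩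
    have hj0 : j ≠ 0 := fun h => ha1 (orderOf_eq_one_iff.mp (by rw [hj, h, pow_zero]))
    have h1 : orderOf (⟨a, ha⟩ : D) = p ^ j := by rw [Subgroup.orderOf_mk, hj]
    exact (dvd_pow_self p hj0).trans (h1 ▸ orderOf_dvd_natCard (⟨a, ha⟩ : D))
  obtain ⟨b, hb⟩ := exists_prime_orderOf_dvd_card' p hcard
  have hb1 : (b : G) ≠ 1 := fun h => by
    rw [← Subgroup.orderOf_coe, h, orderOf_one] at hb; exact hp.out.ne_one hb.symm
  obtain ⟨c, hc⟩ := isConj_iff.mp (hconj a ha b b.2 ha1 hb1)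
  rw [← Subgroup.orderOf_coe, ← hc, show c * a * c⁻¹ = MulAut.conj c a from rfl,
    MulEquiv.orderOf_eq] at hb
  rw [← hb, pow_orderOf_eq_one]

/-- Where the principal block has rank one, a regular element commutes with every element of a
`p`-subgroup whose commutator with it stays in that subgroup. -/
theorem commute_of_rank_one (hM : IsPModular p M) (hr : blockRank p (principalBlock M G) = 1)
    {t u : G} (ht : ¬ p ∣ orderOf t) (hcom : ∃ k : ℕ, (t * u * t⁻¹ * u⁻¹) ^ p ^ k = 1) :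
    t * u = u * t := by
  classical
  obtain ⟨B₀, hB₀⟩ : ∃ B₀, B₀ = principalBlock M G := ⟨_, rfl⟩
  rw [← hB₀] at hr
  have h1B : CT.trivIrr G ∈ B₀ := by
    rw [hB₀]; exact self_mem_blockOf (M := M) (CT.trivIrr G)
  have hB : IsPBlock M B₀ := by rw [hB₀]; exact isPBlock_blockOf (CT.trivIrr G)
  -- regular elements act trivially
  have hker : ∀ χ ∈ B₀, ∀ y : G, ¬ p ∣ orderOf y → (χ : G → ℂ) y = (χ : G → ℂ) 1 := by
    intro χ hχ y hy
    have hne : regFun p (CT.trivIrr G) ≠ 0 := fun h => one_ne_zero (α := ℂ) (by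
      simpa [regFun, hp.out.ne_one, CT.trivIrr] using congrFun h 1)
    have hmem : ∀ θ ∈ B₀, regFun p θ ∈ Submodule.span ℂ
        ((fun θ : IrrCharacter G => pRegularPart p (θ : G → ℂ)) '' B₀) := fun θ hθ => by
      rw [← pRegularPart_eq_regFun]; exact Submodule.subset_span ⟨θ, hθ, rfl⟩
    have hV := Submodule.eq_of_le_of_finrank_le ((Submodule.span_singleton_le_iff_mem _ _).mpr
      (hmem _ h1B)) (by rw [finrank_span_singleton hne]; exact le_of_eq hr)
    obtain ⟨c, hc⟩ := Submodule.mem_span_singleton.mp (hV.ge (hmem χ hχ))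
    have e1 := congrFun hc 1
    have e2 := congrFun hc y
    simp [regFun, hp.out.ne_one, hy, CT.trivIrr] at e1 e2
    rw [← e1, ← e2]
  let K : Subgroup G :=
    { carrier := {g | ∀ χ ∈ B₀, ∀ x : G, (χ : G → ℂ) (x * g) = (χ : G → ℂ) x}
      one_mem' := fun χ _ x => by rw [mul_one]
      mul_mem' := fun {a b} ha hb χ hχ x => by rw [← mul_assoc, hb χ hχ, ha χ hχ]
      inv_mem' := fun {a} ha χ hχ x => by
        have := ha χ hχ (x * a⁻¹)
        rwa [inv_mul_cancel_right, eq_comm] at this }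
  have htK : ∀ y : G, ¬ p ∣ orderOf y → y ∈ K := fun y hy χ hχ x => by
    exact (CT.mem_kerChar_iff (CT.isCharacter_of_isIrr χ.2)).mpr (hker χ hχ y hy) x
  have hcK : t * u * t⁻¹ * u⁻¹ ∈ K := by
    have h2 : u * t⁻¹ * u⁻¹ ∈ K := htK _ (by
      rwa [show u * t⁻¹ * u⁻¹ = MulAut.conj u t⁻¹ from rfl, MulEquiv.orderOf_eq, orderOf_inv])
    rw [show t * u * t⁻¹ * u⁻¹ = t * (u * t⁻¹ * u⁻¹) by group]
    exact mul_mem (htK t ht) h2
  by_contra hne
  have hc1 : t * u * t⁻¹ * u⁻¹ ≠ 1 := fun h => hne (by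
    rw [mul_inv_eq_one, mul_inv_eq_iff_eq_mul] at h; exact h)
  have hdiv : p ∣ orderOf (t * u * t⁻¹ * u⁻¹) := by
    obtain ⟨j, hj⟩ := exists_pow_orderOf hcom
    rw [hj]; exact dvd_pow_self p fun h => hc1 (orderOf_eq_one_iff.mp (by rw [hj, h, pow_zero]))
  have h0 := weak_orthogonality hM (blockCoeff_mem_loc hB) (g := (1 : G))
    (by rw [orderOf_one, Nat.dvd_one]; exact hp.out.ne_one) hdiv
  rw [finsum_mem_eq_finite_toFinset_sum _ (Set.toFinite B₀),
    Finset.sum_congr rfl fun χ hχ => by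
      rw [show (χ : G → ℂ) (t * u * t⁻¹ * u⁻¹) = (χ : G → ℂ) 1 by
        have := hcK χ ((Set.toFinite B₀).mem_toFinset.mp hχ) 1
        rwa [one_mul] at this, charDegree_cast, map_natCast, ← Nat.cast_mul],
    ← Nat.cast_sum, Nat.cast_eq_zero] at h0
  have := (Finset.sum_eq_zero_iff.mp h0) (CT.trivIrr G) ((Set.toFinite B₀).mem_toFinset.mpr h1B)
  exact (Nat.mul_pos (charDegree_pos (CT.trivIrr G)) (charDegree_pos (CT.trivIrr G))).ne' this

/-- The principal case. -/
theorem principal_elementary (hM : IsPModular p M) {D : Subgroup G}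
    (hD : IsDefectGroup p M (principalBlock M G) D)
    (hk : Nat.card (principalBlock M G) = blockRank p (principalBlock M G) + 1) :
    IsElementaryAbelian p D := by
  classical
  have hB : IsPBlock M (principalBlock M G) := isPBlock_blockOf (CT.trivIrr G)
  obtain ⟨-, -, -, hDp, -⟩ := defectGroup_spec hD
  have hconj := fun x hx y hy hx1 hy1 => conj_of_mem_defect hM hB hk hD (x := x) (y := y) hx hx1 hy hy1
  have hexp := pow_eq_one_of_conj hDp hconj
  refine ⟨?_, hexp⟩
  -- the defect group is a Sylow subgroup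
  have hdef : blockDefect p (principalBlock M G) = (Nat.card G).factorization p := by
    have h0 : sInf ((fun χ : IrrCharacter G => (charDegree (χ : G → ℂ)).factorization p) ''
        principalBlock M G) = 0 := by
      refine Nat.sInf_eq_zero.mpr (Or.inl ⟨CT.trivIrr G, self_mem_blockOf (CT.trivIrr G), ?_⟩)
      simp [charDegree, CT.trivIrr]
    rw [blockDefect, h0, Nat.sub_zero]
  obtain ⟨S, hS⟩ : ∃ S : Sylow p G, (S : Subgroup G) = D :=
    ⟨Sylow.ofCard D (by rw [card_defectGroup hM hB hD, hdef]), rfl⟩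
  refine ⟨⟨fun a b => ?_⟩⟩
  rcases eq_or_ne p 2 with rfl | hp2
  · have hinv : ∀ g : D, g⁻¹ = g := fun g => inv_eq_of_mul_eq_one_right (Subtype.ext (by
      rw [Subgroup.coe_mul, ← sq]; exact hexp g g.2))
    rw [← hinv (a * b), mul_inv_rev, hinv, hinv]
  by_cases hD1 : D = ⊥
  · subst hD1
    simp only [Subsingleton.elim a b]
  haveI : Nontrivial D := D.nontrivial_iff_ne_bot.mpr hD1
  have hcen := hDp.center_nontrivial
  obtain ⟨z, hz⟩ := exists_ne (1 : Subgroup.center D)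
  obtain ⟨x, hxdef⟩ : ∃ x : G, x = ((z : D) : G) := ⟨_, rfl⟩
  have hxD : x ∈ D := hxdef ▸ (z : D).2
  have hx1 : x ≠ 1 := fun h => hz (Subtype.ext (Subtype.ext (hxdef ▸ h)))
  have hDCx : ∀ d ∈ D, d * x = x * d := fun d hd => by
    rw [hxdef]; exact congrArg Subtype.val (Subgroup.mem_center_iff.mp z.2 ⟨d, hd⟩)
  -- regular elements in centralizers commute with what they nearly centralize
  have hrule : ∀ y ∈ D, y ≠ 1 → ∀ t u : G, t * y = y * t → u * y = y * u → ¬ p ∣ orderOf t →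
      t * u * t⁻¹ * u⁻¹ ∈ D → t * u = u * t := by
    intro y hy hy1 t u ht hu htr hmem
    obtain ⟨hyk, b', hb'⟩ := exists_section_block hM hB hD hy
    haveI := Fintype.ofFinite (Subgroup.centralizer ({y} : Set G))
    have hb0 : IsInducedBlock M (Subgroup.centralizer ({y} : Set G))
        (principalBlock M (Subgroup.centralizer ({y} : Set G))) (principalBlock M G) := by
      exact (third_main hM (exists_induced_centralizer hM hyk (isPBlock_blockOf (CT.trivIrr _)))).mpr rfl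
    have hr := (section_unique hM hB hk hy1 hy1 hyk hyk hb0 hb').2
    obtain ⟨k, hk'⟩ := hDp ⟨_, hmem⟩
    have := commute_of_rank_one hM hr
      (t := ⟨t, Subgroup.mem_centralizer_singleton_iff.mpr ht⟩)
      (u := ⟨u, Subgroup.mem_centralizer_singleton_iff.mpr hu⟩)
      (by rwa [Subgroup.orderOf_mk]) ⟨k, Subtype.ext (by simpa using congrArg Subtype.val hk')⟩
    exact congrArg Subtype.val this
  -- an element of the normalizer inverting x
  have hxinv : x⁻¹ ≠ 1 := inv_ne_one.mpr hx1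
  obtain ⟨g, hg⟩ := isConj_iff.mp (hconj x hxD x⁻¹ (inv_mem hxD) hx1 hxinv)
  have hSc : ∀ d : D, d * (z : D) = (z : D) * d := fun d => Subgroup.mem_center_iff.mp z.2 d
  obtain ⟨n, hn, hnx⟩ := S.conj_eq_normalizer_conj_of_mem_centralizer x g⁻¹
    (Subgroup.mem_centralizer_iff.mpr fun d hd => hDCx d (hS ▸ hd))
    (Subgroup.mem_centralizer_iff.mpr fun d hd => by
      rw [inv_inv, hg]
      exact (Commute.inv_right (hDCx d (hS ▸ hd))).eq)
  rw [inv_inv, hg] at hnx
  replace hn : n ∈ Subgroup.normalizer (D : Set G) := by rw [← hS]; exact hn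
  -- a suitable power is a 2-element
  obtain ⟨e, m, hm, hord⟩ := Nat.exists_eq_two_pow_mul_odd (orderOf_pos n).ne'
  obtain ⟨t, ht⟩ : ∃ t, t = n ^ m := ⟨_, rfl⟩
  have htN : t ∈ Subgroup.normalizer (D : Set G) := ht ▸ pow_mem hn m
  have hte : t ^ 2 ^ e = 1 := by rw [ht, ← pow_mul, mul_comm, ← hord, pow_orderOf_eq_one]
  obtain ⟨σ, hσ⟩ : ∃ σ : MulAut D, σ = D.normalizerMonoidHom ⟨t, htN⟩ := ⟨_, rfl⟩
  have hσv : ∀ v : D, ((σ v : D) : G) = t * v * t⁻¹ := fun v => by rw [hσ]; rfl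
  have hninv : ∀ i : ℕ, (n ^ i)⁻¹ * x * n ^ i = x ^ ((-1 : ℤ) ^ i) := fun i => by
    induction i with
    | zero => simp
    | succ i ih =>
      rw [pow_succ (-1 : ℤ), zpow_mul, zpow_neg, zpow_one, pow_succ n, mul_inv_rev,
        show n⁻¹ * (n ^ i)⁻¹ * x * (n ^ i * n) = MulAut.conj n⁻¹ ((n ^ i)⁻¹ * x * n ^ i) by
          simp [mul_assoc], ih, map_zpow,
        show MulAut.conj n⁻¹ x = x⁻¹ by simpa [mul_assoc] using hnx.symm, inv_zpow]
  have hσx : σ ≠ 1 := fun h => by
    have h1 := hσv ⟨x, hxD⟩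
    rw [h, MulAut.one_apply] at h1
    have h2 := hninv m
    rw [← ht, hm.neg_one_pow, zpow_neg, zpow_one] at h2
    have h3 : x = x⁻¹ := by
      calc x = t⁻¹ * x * t := by
            conv_rhs => rw [show x = t * x * t⁻¹ from h1]
            group
        _ = x⁻¹ := h2
    have h4 : x ^ 2 = 1 := by rw [sq]; nth_rewrite 1 [h3]; exact inv_mul_cancel x
    exact hx1 (orderOf_eq_one_iff.mp (Nat.eq_one_of_dvd_coprimes
      ((Nat.coprime_primes hp.out Nat.prime_two).mpr hp2)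
      (orderOf_dvd_of_pow_eq_one (hexp x hxD)) (orderOf_dvd_of_pow_eq_one h4)))
  obtain ⟨j, -, hj⟩ := (Nat.dvd_prime_pow Nat.prime_two).mp
    (orderOf_dvd_of_pow_eq_one (show σ ^ 2 ^ e = 1 by
      rw [hσ, ← map_pow, show (⟨t, htN⟩ : Subgroup.normalizer (D : Set G)) ^ 2 ^ e = 1 from
        Subtype.ext hte, map_one]))
  obtain ⟨j, rfl⟩ : ∃ i, j = i + 1 := Nat.exists_eq_succ_of_ne_zero fun h => hσx
    (orderOf_eq_one_iff.mp (by rw [hj, h, pow_zero]))
  obtain ⟨τ, hτ⟩ : ∃ τ, τ = σ ^ 2 ^ j := ⟨_, rfl⟩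
  obtain ⟨s, hs⟩ : ∃ s, s = t ^ 2 ^ j := ⟨_, rfl⟩
  have hτv : ∀ v : D, ((τ v : D) : G) = s * v * s⁻¹ := fun v => by
    rw [hτ, hσ, ← map_pow, hs]; rfl
  have hτ2 : τ ^ 2 = 1 := by rw [hτ, ← pow_mul, ← pow_succ, ← hj, pow_orderOf_eq_one]
  have hτ1 : τ ≠ 1 := fun h => by
    have := Nat.le_of_dvd (pow_pos two_pos _) (orderOf_dvd_of_pow_eq_one (hτ ▸ h))
    rw [hj, pow_succ] at this
    have := pow_pos (two_pos (α := ℕ)) j
    omega
  have hsreg : ¬ p ∣ orderOf s := fun h => by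
    have h1 : orderOf s ∣ 2 ^ e := orderOf_dvd_of_pow_eq_one (by
      rw [hs, ← pow_mul, mul_comm, pow_mul, hte, one_pow])
    exact hp2 ((Nat.prime_dvd_prime_iff_eq hp.out Nat.prime_two).mp (hp.out.dvd_of_dvd_pow (h.trans h1)))
  have hfix : MonoidHom.FixedPointFree (τ : D → D) := by
    intro y hy
    by_contra hy1
    refine hτ1 (MulEquiv.ext fun d => Subtype.ext ?_)
    have hy' : s * (y : G) * s⁻¹ = y := by rw [← hτv, hy]
    have hmemD : ∀ v : D, s * (v : G) * s⁻¹ * (v : G)⁻¹ ∈ D := fun v => by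
      rw [← hτv]; exact mul_mem (τ v).2 (inv_mem v.2)
    have hsy : s * (y : G) = y * s := by
      conv_rhs => rw [← hy']
      group
    have hsx : s * x = x * s := hrule y y.2 (fun h => hy1 (Subtype.ext h)) s x hsy
      (hDCx y y.2).symm hsreg (hmemD ⟨x, hxD⟩)
    have hsd : s * (d : G) = d * s := hrule x hxD hx1 s d hsx (hDCx d d.2) hsreg (hmemD d)
    rw [hτv, MulAut.one_apply, hsd]
    group
  exact hfix.commute_all_of_involutive (φ := τ) (fun v => by
    rw [← MulAut.mul_apply, ← sq, hτ2, MulAut.one_apply]) a b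

open Classical in
/-- The `p`-solvable endgame. -/
theorem sylow_comm_of_conj (hs : IsPSolvable p G) {P : Subgroup G} (hPp : IsPGroup p P)
    (hPc : Nat.card P = p ^ (Nat.card G).factorization p)
    (hconj : ∀ x ∈ P, ∀ y ∈ P, x ≠ 1 → y ≠ 1 → IsConj x y) :
    ∀ a ∈ P, ∀ b ∈ P, a * b = b * a := by
  intro a ha b hb
  by_cases hP1 : P = ⊥
  · subst hP1
    rw [Subgroup.mem_bot.mp ha, Subgroup.mem_bot.mp hb]
  haveI : Nontrivial P := P.nontrivial_iff_ne_bot.mpr hP1
  obtain ⟨n, C, h0, h1, hmono, hn, hfac⟩ := hs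
  obtain ⟨N, hN⟩ : ∃ N, N = pPrimeCore p G := ⟨_, rfl⟩
  haveI hNn : N.Normal := by rw [hN]; infer_instance
  have hNc : (Nat.card N).Coprime p := hN ▸ Basics.pPrimeCore_coprime p
  have hPN : ∀ v ∈ P, v ∈ N → v = 1 := fun v hv hvN => by
    obtain ⟨k, hk⟩ := hPp ⟨v, hv⟩
    have h1 : orderOf v ∣ p ^ k := orderOf_dvd_of_pow_eq_one (congrArg Subtype.val hk)
    have h2 : orderOf v ∣ Nat.card N := by
      have := orderOf_dvd_natCard (⟨v, hvN⟩ : N)
      rwa [Subgroup.orderOf_mk] at this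
    exact orderOf_eq_one_iff.mp (Nat.eq_one_of_dvd_coprimes (hNc.pow_right k).symm h1 h2)
  obtain ⟨u, hu⟩ := exists_ne (1 : P)
  have hne : ∃ i, ¬ C i ≤ N := ⟨Fin.last n, fun h => hu (Subtype.ext (hPN u u.2
    (h (h1 ▸ Subgroup.mem_top _))))⟩
  obtain ⟨i, hi, himin⟩ := Finset.exists_min_image (Finset.univ.filter fun i => ¬ C i ≤ N) id
    (by obtain ⟨i, hi⟩ := hne; exact ⟨i, by simpa using hi⟩)
  replace hi : ¬ C i ≤ N := by simpa using hi
  obtain ⟨j, rfl⟩ : ∃ j : Fin n, j.succ = i := ⟨i.pred fun h => hi (by rw [h, h0]; exact bot_le),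
    Fin.succ_pred _ _⟩
  have hlow : C j.castSucc ≤ N := by
    by_contra h
    have := himin j.castSucc (by simpa using h)
    exact absurd this (not_le.mpr Fin.castSucc_lt_succ)
  haveI := hn j.succ
  haveI := hn j.castSucc
  obtain ⟨Q, hQ⟩ : ∃ Q : Subgroup G, Q = N ⊔ C j.succ := ⟨_, rfl⟩
  haveI hQn : Q.Normal := by rw [hQ]; infer_instance
  have hdvd : N.relIndex Q ∣ (C j.castSucc).relIndex (C j.succ) := by
    rw [hQ, Subgroup.relIndex_sup_left]
    exact Subgroup.relIndex_dvd_of_le_left _ hlow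
  have hNQ : N ≤ Q := hQ ▸ le_sup_left
  have hcardQ : Nat.card N * N.relIndex Q = Nat.card Q := by
    rw [← Nat.card_congr (Subgroup.subgroupOfEquivOfLe hNQ).toEquiv, Subgroup.relIndex,
      Subgroup.card_mul_index]
  obtain ⟨m, hm⟩ : ∃ m, N.relIndex Q = p ^ m := by
    rcases hfac j with ⟨m, hm⟩ | hco
    · rw [hm] at hdvd
      obtain ⟨m', -, hm'⟩ := (Nat.dvd_prime_pow hp.out).mp hdvd
      exact ⟨m', hm'⟩
    · refine absurd ?_ hi
      have hQc : (Nat.card Q).Coprime p := by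
        rw [← hcardQ]
        exact Nat.Coprime.mul_left hNc (hco.coprime_dvd_left hdvd)
      have hQle : Q ≤ pPrimeCore p G := le_sSup ⟨hQn, hQc⟩
      rw [← hN, hQ] at hQle
      exact le_sup_right.trans hQle
  have hm0 : m ≠ 0 := fun h => hi (le_trans (hQ ▸ le_sup_right) (Subgroup.relIndex_eq_one.mp (by
    rw [hm, h, pow_zero])))
  -- every element of `P` lies in `Q`
  obtain ⟨w, hw⟩ := exists_prime_orderOf_dvd_card' (G := Q) p
    (hcardQ ▸ hm ▸ Dvd.dvd.mul_left (dvd_pow_self p hm0) _)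
  obtain ⟨S, hS⟩ : ∃ S : Sylow p G, (S : Subgroup G) = P := ⟨Sylow.ofCard P hPc, rfl⟩
  have hwp : IsPGroup p (Subgroup.zpowers (w : G)) :=
    isPGroup_zpowers ⟨1, by rw [pow_one, ← hw, ← Subgroup.orderOf_coe, pow_orderOf_eq_one]⟩
  obtain ⟨S', hS'⟩ := hwp.exists_le_sylow
  obtain ⟨g, hg⟩ := MulAction.exists_smul_eq G S' S
  have hwP : g * (w : G) * g⁻¹ ∈ P := by
    rw [← hS, ← hg, Sylow.coe_subgroup_smul]
    exact Subgroup.smul_mem_pointwise_smul _ (MulAut.conj g) _ (hS' (Subgroup.mem_zpowers _))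
  have hwQ : g * (w : G) * g⁻¹ ∈ Q := hQn.conj_mem _ w.2 g
  have hw1 : g * (w : G) * g⁻¹ ≠ 1 := fun h => by
    rw [conj_eq_one_iff] at h
    rw [← Subgroup.orderOf_coe, h, orderOf_one] at hw
    exact hp.out.ne_one hw.symm
  have hPQ : P ≤ Q := fun v hv => by
    rcases eq_or_ne v 1 with rfl | hv1
    · exact one_mem _
    obtain ⟨c, hc⟩ := isConj_iff.mp (hconj _ hwP v hv hw1 hv1)
    exact hc ▸ hQn.conj_mem _ hwQ c
  -- so `Q = N P`
  have hNP : ∀ q ∈ Q, ∃ v ∈ P, v⁻¹ * q ∈ N := by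
    have hinj : Function.Injective fun v : P => ((⟨v, hPQ v.2⟩ : Q) : Q ⧸ N.subgroupOf Q) := by
      intro v v' h
      have h' := QuotientGroup.eq.mp h
      rw [Subgroup.mem_subgroupOf] at h'
      refine Subtype.ext (inv_mul_eq_one.mp (hPN _ (mul_mem (inv_mem v.2) v'.2) (by simpa using h')))
    have hle : Nat.card (Q ⧸ N.subgroupOf Q) ≤ Nat.card P := by
      rw [← Subgroup.index_eq_card, show (N.subgroupOf Q).index = N.relIndex Q from rfl, hm, hPc]
      refine Nat.pow_le_pow_right hp.out.pos ((Nat.Prime.pow_dvd_iff_le_factorization hp.out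
        Nat.card_pos.ne').mp ?_)
      exact hm ▸ (Dvd.intro_left _ hcardQ).trans (Subgroup.card_subgroup_dvd_card Q)
    haveI := Fintype.ofFinite (Q ⧸ N.subgroupOf Q)
    haveI := Fintype.ofFinite P
    intro q hq
    obtain ⟨v, hv⟩ := ((Fintype.bijective_iff_injective_and_card _).mpr ⟨hinj, le_antisymm
      (Fintype.card_le_of_injective _ hinj) (by simpa [Nat.card_eq_fintype_card] using hle)⟩).2
      ((⟨q, hq⟩ : Q) : Q ⧸ N.subgroupOf Q)
    have hv' := QuotientGroup.eq.mp hv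
    rw [Subgroup.mem_subgroupOf] at hv'
    exact ⟨v, v.2, by simpa using hv'⟩
  obtain ⟨z, hz⟩ := @exists_ne (Subgroup.center P) hPp.center_nontrivial 1
  have hz1 : ((z : P) : G) ≠ 1 := fun h => hz (Subtype.ext (Subtype.ext h))
  have hzQ : ∀ q ∈ Q, ((z : P) : G) * q * ((z : P) : G)⁻¹ * q⁻¹ ∈ N := fun q hq => by
    obtain ⟨v, hv, hvn⟩ := hNP q hq
    obtain ⟨x, hx⟩ : ∃ x : G, x = ((z : P) : G) := ⟨_, rfl⟩
    have hxv : x * v = v * x := by
      rw [hx]
      exact (congrArg Subtype.val (Subgroup.mem_center_iff.mp z.2 ⟨v, hv⟩)).symm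
    rw [← hx]
    have : x * q * x⁻¹ * q⁻¹ = v * (x * (v⁻¹ * q) * x⁻¹ * (v⁻¹ * q)⁻¹) * v⁻¹ := by
      calc x * q * x⁻¹ * q⁻¹ = (x * v) * (v⁻¹ * q) * x⁻¹ * q⁻¹ := by group
        _ = (v * x) * (v⁻¹ * q) * x⁻¹ * q⁻¹ := by rw [hxv]
        _ = _ := by group
    rw [this]
    exact hNn.conj_mem _ (mul_mem (hNn.conj_mem _ hvn x) (inv_mem hvn)) v
  rcases eq_or_ne a 1 with rfl | ha1
  · rw [one_mul, mul_one]
  obtain ⟨c, hc⟩ := isConj_iff.mp (hconj _ (z : P).2 a ha hz1 ha1)
  have hcomN : a * b * a⁻¹ * b⁻¹ ∈ N := by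
    rw [← hc]
    have hb' : c⁻¹ * b * c ∈ Q := by
      simpa using hQn.conj_mem _ (hPQ hb) c⁻¹
    have h2 := hNn.conj_mem _ (hzQ _ hb') c
    convert h2 using 1
    group
  have := hPN _ (mul_mem (mul_mem (mul_mem ha hb) (inv_mem ha)) (inv_mem hb)) hcomN
  rw [mul_inv_eq_one, mul_inv_eq_iff_eq_mul] at this
  exact this

/-- The `p`-solvable case. -/
theorem psolv_elementary (n : ℕ) : ∀ {G : Type u} [Group G] [Fintype G],
    Nat.card G = n → IsPSolvable p G → ∀ {B : Set (IrrCharacter G)}, IsPModular p M →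
      IsPBlock M B → ∀ {D : Subgroup G}, IsDefectGroup p M B D →
        Nat.card B = blockRank p B + 1 → IsElementaryAbelian p D := by
  induction n using Nat.strong_induction_on with
  | _ n ih =>
  intro G _ _ hn hs B hM hB D hD hk
  classical
  obtain ⟨-, -, -, hDp, -⟩ := defectGroup_spec hD
  by_cases hD1 : D = ⊥
  · subst hD1
    refine ⟨⟨⟨fun a b => ?_⟩⟩, fun a ha => by rw [Subgroup.mem_bot.mp ha, one_pow]⟩
    simp only [Subsingleton.elim a b]
  obtain ⟨N, hN⟩ : ∃ N, N = pPrimeCore p G := ⟨_, rfl⟩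
  haveI hNn : N.Normal := by rw [hN]; infer_instance
  haveI := Fintype.ofFinite N
  have hp' : ¬ p ∣ Nat.card N := by
    rw [hN]; exact hp.out.coprime_iff_not_dvd.mp (Basics.pPrimeCore_coprime p).symm
  obtain ⟨χ, hχ⟩ := block_nonempty hB
  obtain ⟨θ, hθ⟩ := CT.exists_constituent_restrict N χ.2
  have hb := isPBlock_singleton hM hp' θ
  obtain ⟨T, hT⟩ : ∃ T, T = CT.inertia N (θ : N → ℂ) := ⟨_, rfl⟩
  have hTiff : ∀ g : G, g ∈ T ↔ ∀ η ∈ ({θ} : Set (IrrCharacter N)), conjIrr g η ∈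
      ({θ} : Set (IrrCharacter N)) := fun g => by
    simp only [Set.mem_singleton_iff, forall_eq, hT, CT.mem_inertia]
    exact ⟨fun h => Subtype.ext h, fun h => congrArg Subtype.val h⟩
  by_cases hTtop : T = ⊤
  · have hinv : ∀ g : G, conjIrr g θ = θ := fun g => by
      simpa using (hTiff g).mp (hTtop ▸ Subgroup.mem_top g)
    obtain ⟨K, hKn, hNK, hrel, hcent⟩ := exists_intermediate hs hN
    haveI := hKn
    haveI := Fintype.ofFinite K
    obtain ⟨B', hB', hmem, hdef⟩ := exists_block_over hM hp' θ hinv hNK hrel hcent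
    have hBB : B = B' := block_eq_of_mem hB hB' hχ ((hmem χ).mpr hθ)
    have hconj := fun x hx y hy hx1 hy1 => conj_of_mem_defect hM hB hk hD (x := x) (y := y) hx hx1 hy hy1
    refine ⟨⟨⟨fun a b => Subtype.ext ?_⟩⟩, pow_eq_one_of_conj hDp hconj⟩
    exact sylow_comm_of_conj hs hDp (by rw [card_defectGroup hM hB hD, hBB, hdef]) hconj a a.2 b b.2
  · haveI := Fintype.ofFinite T
    have hNT : N ≤ T := hT ▸ CT.le_inertia N (CT.isClassFunction_of_isIrr θ.2)
    obtain ⟨B', hB', hcov, hind⟩ := fong_reynolds_surjective hb hTiff hNT hB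
      ⟨χ, hχ, θ, Set.mem_singleton θ, hθ⟩
    obtain ⟨B₂, hind₂, hov, -, hmem⟩ := fong_reynolds hb hTiff hNT hB' hcov
    obtain rfl : B₂ = B := inducedBlock_unique hind₂ hind
    obtain ⟨hdef, -⟩ := fong_reynolds_defect hM hb hTiff hNT hB' hcov hind
    obtain ⟨D', hD'⟩ := exists_defectGroup (p := p) hB'
    have hcard : Nat.card B' = Nat.card B₂ := by
      refine Nat.card_congr (Equiv.ofBijective (fun ψ : B' => (⟨⟨_, (hov ψ ψ.2).2⟩,
        (hmem _).mpr ⟨ψ, ψ.2, rfl⟩⟩ : B₂)) ⟨fun ψ ψ' h => Subtype.ext ?_, fun ξ => ?_⟩)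
      · exact indFun_injective_over hb hTiff hNT (hov ψ ψ.2).1 (hov ψ' ψ'.2).1
          (congrArg (fun ξ : B₂ => ((ξ : IrrCharacter G) : G → ℂ)) h)
      · obtain ⟨ψ, hψ, he⟩ := (hmem ξ.1).mp ξ.2
        exact ⟨⟨ψ, hψ⟩, Subtype.ext (Subtype.ext he.symm)⟩
    have hrank : blockRank p B₂ ≤ blockRank p B' := by
      obtain ⟨L, hL⟩ : ∃ L : (T → ℂ) →ₗ[ℂ] (G → ℂ), ∀ f, L f = indFun T f :=
        ⟨{ toFun := indFun T
           map_add' := fun a b => CT.indFun_add T a b
           map_smul' := fun c a => CT.indFun_smul T c a }, fun _ => rfl⟩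
      rw [blockRank, blockRank]
      refine le_trans (Submodule.finrank_mono ?_) (Submodule.finrank_map_le L _)
      rw [Submodule.span_le]
      rintro _ ⟨ξ, hξ, rfl⟩
      obtain ⟨ψ, hψ, he⟩ := (hmem ξ).mp hξ
      refine ⟨_, Submodule.subset_span ⟨ψ, hψ, rfl⟩, ?_⟩
      rw [hL]
      funext g
      simp only [pRegularPart, IsPRegular, he, indFun]
      have hord : ∀ x : G, orderOf (x⁻¹ * g * x) = orderOf g := fun x => by
        have := MulEquiv.orderOf_eq (MulAut.conj x⁻¹) g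
        simpa using this
      by_cases hg : p ∣ orderOf g
      · rw [if_neg (not_not.mpr hg)]
        refine mul_eq_zero_of_right _ (Finset.sum_eq_zero fun x _ => ?_)
        by_cases hx : x⁻¹ * g * x ∈ T
        · rw [CT.extendByZero_mem T _ hx]
          rw [pRegularPart_eq_regFun, regFun, if_pos (by rwa [Subgroup.orderOf_mk, hord])]
        · rw [CT.extendByZero_not_mem T _ hx]
      · rw [if_pos hg]
        congr 1
        refine Finset.sum_congr rfl fun x _ => ?_
        by_cases hx : x⁻¹ * g * x ∈ T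
        · rw [CT.extendByZero_mem T _ hx, CT.extendByZero_mem T _ hx]
          rw [pRegularPart_eq_regFun, regFun, if_neg (by rwa [Subgroup.orderOf_mk, hord])]
        · rw [CT.extendByZero_not_mem T _ hx, CT.extendByZero_not_mem T _ hx]
    have hlt : Nat.card T < n := hn ▸ lt_of_le_of_ne (Subgroup.card_le_card_group T)
      fun h => hTtop (T.eq_top_of_card_eq h)
    have hcardD : Nat.card D = Nat.card (D'.map T.subtype) := card_defect_eq hM hB hD (hdef D' hD')
    have hD'1 : D' ≠ ⊥ := fun h => hD1 (Subgroup.card_eq_one.mp (by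
      rw [hcardD, h, Subgroup.map_bot, Subgroup.card_bot]))
    have hlt' := rank_lt_card hM hB' hD' hD'1
    obtain ⟨hc, he⟩ := ih _ hlt rfl (isPSolvable_subgroup hs T) hM hB' hD' (by omega)
    obtain ⟨x, hx⟩ := defect_le_of_defect hM hB hD (hdef D' hD')
    have key : ∀ a ∈ D, ∃ a' ∈ D', (a' : G) = x * a * x⁻¹ := fun a ha => by
      obtain ⟨a', ha', h⟩ := hx ⟨a, ha, rfl⟩
      exact ⟨a', ha', h⟩
    refine ⟨⟨⟨fun a b => Subtype.ext ?_⟩⟩, fun a ha => ?_⟩
    · obtain ⟨a', ha', e1⟩ := key a a.2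
      obtain ⟨b', hb', e2⟩ := key b b.2
      have h : a' * b' = b' * a' := congrArg Subtype.val (hc.is_comm.comm ⟨a', ha'⟩ ⟨b', hb'⟩)
      have h2 := congrArg (fun v : T => (v : G)) h
      simp only [Subgroup.coe_mul, e1, e2] at h2
      show (a : G) * b = b * a
      refine (MulAut.conj x).injective ?_
      simpa [mul_assoc] using h2
    · obtain ⟨a', ha', e1⟩ := key a ha
      refine (MulAut.conj x).injective ?_
      rw [map_pow, map_one, MulAut.conj_apply, ← e1, ← Subgroup.coe_pow, he a' ha', Subgroup.coe_one]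

end Cfsg.Agent.OneSection
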