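import Cfsg.Agent.Lib.Blocks.TwoCharacters
import Cfsg.Agent.Lib.Blocks.CornerFour
import Cfsg.Agent.Lib.Blocks.InflationRank
import Mathlib.Algebra.CharP.Lemmas

/-!
# Blocks of rank one with at most four characters

Such a block has defect group of order at most four.
-/

set_option linter.unusedSectionVars false

namespace Cfsg.Agent.Blocks

open MonoidAlgebra Module
open scoped ComplexConjugate

universe u

variable {G : Type u} [Group G] [Fintype G] {p : ℕ} {M : Ideal AlgInt} [M.IsPrime]

/-- A modular trace sees only the regular part. -/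
theorem modTrace_regular (hM : IsPModular p M) (g : G) :
    ∃ y : G, ¬ p ∣ orderOf y ∧ ∀ φ : MonoidAlgebra (Res M) G →ₗ[Res M] Res M,
      Corner.IsModTrace φ → φ (single g 1) = φ (single y 1) := by
  haveI : Fact p.Prime := ⟨hM.1⟩
  haveI := charP_res hM
  obtain ⟨x, hx, -⟩ := exists_isPPart (p := p) g
  obtain ⟨k, hk⟩ := ppart_pow_eq_one hx
  obtain ⟨y, hgy, hcom, -, hy⟩ := hx
  subst hgy
  refine ⟨y, hy, fun φ hφ => hφ _ _ ?_ ⟨p ^ k, ?_⟩⟩
  · rw [Commute, SemiconjBy, single_mul_single, single_mul_single]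
    congr 1
    calc x * y * y = y * x * y := by rw [hcom]
      _ = y * (x * y) := mul_assoc _ _ _
  · haveI : CharP (MonoidAlgebra (Res M) G) p := charP_of_injective_algebraMap
      (FaithfulSMul.algebraMap_injective (Res M) (MonoidAlgebra (Res M) G)) p
    rw [sub_pow_char_pow_of_commute, single_pow, single_pow, sub_eq_zero, one_pow,
      (show Commute x y from hcom).mul_pow, hk, one_mul]
    rw [Commute, SemiconjBy, single_mul_single, single_mul_single]
    congr 1
    calc x * y * y = y * x * y := by rw [hcom]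
      _ = y * (x * y) := mul_assoc _ _ _

open Classical in
/-- In a block of rank one two modular traces are dependent. -/
theorem not_indep_modTrace (hM : IsPModular p M) {B : Set (IrrCharacter G)} (hB : IsPBlock M B)
    (hl : blockRank p B = 1) (φ ψ : MonoidAlgebra (Res M) G →ₗ[Res M] Res M)
    (hφ : φ ∈ Corner.tracialOn (K := Res M) (bBar M B : MonoidAlgebra (Res M) G))
    (hψ : ψ ∈ Corner.tracialOn (K := Res M) (bBar M B : MonoidAlgebra (Res M) G))
    (hφm : Corner.IsModTrace φ) (hψm : Corner.IsModTrace ψ) :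
    ¬ LinearIndependent (Res M) ![φ, ψ] := by
  haveI := charP_res hM
  haveI : FiniteDimensional (Res M) (MonoidAlgebra (Res M) G) :=
    Module.Finite.of_basis (MonoidAlgebra.basis G (Res M))
  intro hind
  have hA := blockCoeff_mem_loc hB
  -- every such functional is the reduction of a combination of the characters of the block
  have hlift : ∀ l ∈ Corner.tracialOn (K := Res M) (bBar M B : MonoidAlgebra (Res M) G),
      ∃ F : G → Loc M, (∀ g, red M (F g) = l (single g 1)) ∧
        ∃ a : IrrCharacter G → ℂ, (∀ χ, χ ∉ B → a χ = 0) ∧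
          ∀ g, (F g : ℂ) = ∑ χ, a χ * (χ : G → ℂ) g := by
    intro l hl'
    let T : MonoidAlgebra (Res M) G →ₗ[Res M] (MonoidAlgebra (Res M) G →ₗ[Res M] Res M) :=
      { toFun := fun c => (coeffOne (Res M) G).comp (LinearMap.mulLeft (Res M) c)
        map_add' := fun a b => LinearMap.ext fun x => by simp [add_mul]
        map_smul' := fun a b => LinearMap.ext fun x => by simp }
    have hT : ∀ c x, T c x = coeffOne (Res M) G (c * x) := fun c x => rfl
    have hinj : Function.Injective T := fun a b h => by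
      refine sub_eq_zero.mp (coeffOne_nondeg _ fun y => ?_)
      have := LinearMap.congr_fun h y
      rw [hT, hT] at this
      rw [sub_mul, map_sub, this, sub_self]
    obtain ⟨c, rfl⟩ := (LinearMap.injective_iff_surjective_of_finrank_eq_finrank
      Subspace.dual_finrank_eq.symm).mp hinj l
    have hc1 : ∀ x, c * x = x * c := fun x => by
      refine sub_eq_zero.mp (coeffOne_nondeg _ fun y => ?_)
      have h1 := hl'.1 x y
      rw [hT, hT] at h1
      rw [sub_mul, map_sub, mul_assoc, h1, ← mul_assoc, isTracial_coeffOne (c * y) x, ← mul_assoc,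
        sub_self]
    have hc2 : c * (bBar M B : MonoidAlgebra (Res M) G) = c := hinj (LinearMap.ext fun x => by
      rw [hT, mul_assoc, ← hT, hl'.2 x])
    obtain ⟨C₀, hC₀⟩ := redZ_surjective (M := M) (G := G)
      ⟨c, Subring.mem_center_iff.mpr fun x => (hc1 x).symm⟩
    obtain ⟨C, hC⟩ : ∃ C : ZG (Loc M) G, C = C₀ * bIdem M B := ⟨_, rfl⟩
    have hred : redG M G (C : MonoidAlgebra (Loc M) G) = c := by
      have h1 : redZ M G C = redZ M G C₀ * bBar M B := by rw [hC, map_mul, bBar]
      have h2 := congrArg Subtype.val h1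
      rw [hC₀] at h2
      rw [← hc2]
      exact h2
    refine ⟨fun g => (C : MonoidAlgebra (Loc M) G).coeff g⁻¹, fun g => ?_,
      fun χ => (Nat.card G : ℂ)⁻¹ * ((χ : G → ℂ) 1 * omega (χ : G → ℂ) (toC M G (C : MonoidAlgebra (Loc M) G))),
      fun χ hχ => ?_, fun g => ?_⟩
    · rw [hT, coeffOne_apply, coeff_mul_single', one_mul, mul_one, ← hred, coeff_map']
    · have h0 : omega (χ : G → ℂ) (toC M G (C : MonoidAlgebra (Loc M) G)) = 0 := by
        rw [← coe_omegaL, hC, map_mul, omegaL_bIdem hA, if_neg hχ, mul_zero]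
        rfl
      simp only [h0, mul_zero]
    · have h := coeff_central_eq (mem_center_map (Loc M).subtype C.2) g⁻¹
      rw [coeff_map'] at h
      refine h.trans ?_
      rw [Finset.mul_sum]
      refine Finset.sum_congr rfl fun χ _ => ?_
      rw [CT.char_inv_eq_conj (CT.isCharacter_of_isIrr χ.2), Complex.conj_conj]
      ring
  obtain ⟨F₁, hF₁, a₁, ha₁, hv₁⟩ := hlift φ hφ
  obtain ⟨F₂, hF₂, a₂, ha₂, hv₂⟩ := hlift ψ hψ
  -- restricted to the regular elements they stay independent
  obtain ⟨f, hf⟩ : ∃ f : Fin 2 → {g : G // ¬ p ∣ orderOf g} → Loc M,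
      f = ![fun g : {g : G // ¬ p ∣ orderOf g} => F₁ g.1, fun g => F₂ g.1] := ⟨_, rfl⟩
  have hli : LinearIndependent (Res M) fun i g => red M (f i g) := by
    rw [Fintype.linearIndependent_iff]
    intro c hc
    refine Fintype.linearIndependent_iff.mp hind c ?_
    simp only [Fin.sum_univ_two, Matrix.cons_val_zero, Matrix.cons_val_one, hf] at hc ⊢
    refine MonoidAlgebra.lhom_ext' fun g => LinearMap.ext fun r => ?_
    simp only [LinearMap.comp_apply, MonoidAlgebra.lsingle_apply, LinearMap.add_apply,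
      LinearMap.smul_apply, LinearMap.zero_apply]
    obtain ⟨y, hy, heq⟩ := modTrace_regular (M := M) hM g
    have h := congrFun hc ⟨y, hy⟩
    simp only [Pi.add_apply, Pi.smul_apply, Pi.zero_apply, smul_eq_mul, hF₁, hF₂] at h
    rw [show single g r = r • single g (1 : Res M) by simp, map_smul, map_smul, heq φ hφm, heq ψ hψm]
    simp only [smul_eq_mul]
    linear_combination r * h
  have hli' := linearIndependent_of_red f hli
  -- but they lie in a line
  obtain ⟨V, hV⟩ : ∃ V, V = Submodule.span ℂ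
      ((fun χ : IrrCharacter G => pRegularPart p (χ : G → ℂ)) '' B) := ⟨_, rfl⟩
  let res : (G → ℂ) →ₗ[ℂ] ({g : G // ¬ p ∣ orderOf g} → ℂ) := LinearMap.funLeft ℂ ℂ Subtype.val
  have hmem : ∀ (F : G → Loc M) (a : IrrCharacter G → ℂ), (∀ χ, χ ∉ B → a χ = 0) →
      (∀ g, (F g : ℂ) = ∑ χ, a χ * (χ : G → ℂ) g) →
        (fun g : {g : G // ¬ p ∣ orderOf g} => (F g : ℂ)) ∈ V.map res := by
    intro F a ha hv
    refine ⟨∑ χ, a χ • pRegularPart p (χ : G → ℂ), Submodule.sum_mem _ fun χ _ => ?_, funext fun g => ?_⟩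
    · by_cases hχ : χ ∈ B
      · exact Submodule.smul_mem _ _ (hV ▸ Submodule.subset_span ⟨χ, hχ, rfl⟩)
      · rw [ha χ hχ, zero_smul]; exact zero_mem _
    · simp only [res, LinearMap.funLeft_apply, Finset.sum_apply, Pi.smul_apply, smul_eq_mul, hv]
      refine Finset.sum_congr rfl fun χ _ => ?_
      rw [pRegularPart_eq_regFun, regFun, if_neg g.2]
  have hle : Submodule.span ℂ (Set.range fun i g => (f i g : ℂ)) ≤ V.map res := by
    rw [Submodule.span_le]
    rintro _ ⟨i, rfl⟩
    fin_cases i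
    · simpa [hf] using hmem F₁ a₁ ha₁ hv₁
    · simpa [hf] using hmem F₂ a₂ ha₂ hv₂
  have h2 := (Submodule.finrank_mono hle).trans (Submodule.finrank_map_le res V)
  rw [finrank_span_eq_card hli', Fintype.card_fin, hV] at h2
  rw [blockRank] at hl
  omega

open Classical in
/-- In a block of rank one the degrees satisfy the projective relation. -/
theorem exists_rank_one_relation (hM : IsPModular p M) {B : Set (IrrCharacter G)}
    (hB : IsPBlock M B) (hl : blockRank p B = 1) :
    ∃ (χ : IrrCharacter G) (z S : ℤ), χ ∈ B ∧ blockHeight p B (χ : G → ℂ) = 0 ∧ z ≠ 0 ∧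
      ¬ (p : ℤ) ∣ z ∧
      ((S : ℂ) = ∑ η : IrrCharacter G, if η ∈ B then (η : G → ℂ) 1 ^ 2 else 0) ∧
      z * S = (p : ℤ) ^ blockDefect p B * (charDegree (χ : G → ℂ) : ℤ) ^ 2 := by
  haveI : Fact p.Prime := ⟨hM.1⟩
  obtain ⟨χ, hχ, h0⟩ := exists_height_zero (p := p) hB
  choose X hX using fun η => exists_int_bfPair (p := p) hM hχ η
  obtain ⟨V, hV⟩ : ∃ V, V = Submodule.span ℂ
      ((fun η : IrrCharacter G => pRegularPart p (η : G → ℂ)) '' B) := ⟨_, rfl⟩
  have hχ1 : (χ : G → ℂ) 1 ≠ 0 := CT.irr_one_ne_zero χ.2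
  have hprop : ∀ η ∈ B, regFun p η = ((η : G → ℂ) 1 / (χ : G → ℂ) 1) • regFun p χ := by
    intro η hη
    have hmem : ∀ θ ∈ B, regFun p θ ∈ V := fun θ hθ => by
      rw [hV, ← pRegularPart_eq_regFun]; exact Submodule.subset_span ⟨θ, hθ, rfl⟩
    have hne : regFun p χ ≠ 0 := fun h => hχ1 (by
      simpa [regFun, orderOf_one, hM.1.ne_one] using congrFun h 1)
    have hVeq : Submodule.span ℂ {regFun p χ} = V :=
      Submodule.eq_of_le_of_finrank_le ((Submodule.span_singleton_le_iff_mem _ _).mpr (hmem χ hχ))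
        (by rw [finrank_span_singleton hne, hV]; exact le_of_eq hl)
    obtain ⟨r, hr⟩ := Submodule.mem_span_singleton.mp (hVeq.ge (hmem η hη))
    rw [← hr]
    congr 1
    have h1 := congrFun hr 1
    simp only [Pi.smul_apply, smul_eq_mul, regFun, orderOf_one, Nat.dvd_one, hM.1.ne_one, if_false] at h1
    rw [eq_div_iff hχ1, h1]
  have hbf : ∀ η ∈ B, bfPair p χ η * (χ : G → ℂ) 1 = (η : G → ℂ) 1 * bfPair p χ χ := by
    intro η hη
    have hinner : ∀ θ : IrrCharacter G, bfPair p χ θ = (Nat.card G : ℂ)⁻¹ *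
        ∑ x, regFun p χ x * conj (regFun p θ x) := fun θ => by
      rw [bfPair, classInner]
      congr 1
      refine Finset.sum_congr rfl fun x _ => ?_
      simp only [regFun]
      split_ifs <;> simp
    rw [hinner η, hinner χ, hprop η hη]
    simp only [Pi.smul_apply, smul_eq_mul, map_mul, map_div₀,
      show conj ((η : G → ℂ) 1) = (η : G → ℂ) 1 by rw [charDegree_cast, map_natCast],
      show conj ((χ : G → ℂ) 1) = (χ : G → ℂ) 1 by rw [charDegree_cast, map_natCast]]
    rw [Finset.mul_sum, Finset.sum_mul, Finset.mul_sum, Finset.mul_sum]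
    refine Finset.sum_congr rfl fun x _ => ?_
    field_simp
  have hz : ¬ (p : ℤ) ∣ X χ := by
    obtain ⟨W, hW, hiff⟩ := bfInt_valuation hM hχ χ (hX χ)
    rw [hW, h0, pow_zero, one_mul]
    exact fun h => (hiff hB hχ).mp h h0
  refine ⟨χ, X χ, ∑ η : IrrCharacter G, if η ∈ B then (charDegree (η : G → ℂ) : ℤ) ^ 2 else 0,
    hχ, h0, fun h => hz (h ▸ dvd_zero _), hz, ?_, ?_⟩
  · push_cast
    refine Finset.sum_congr rfl fun η _ => ?_
    split_ifs <;> simp [charDegree_cast]
  · apply Int.cast_injective (α := ℂ)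
    push_cast
    simp only [← charDegree_cast]
    obtain ⟨h1, hout⟩ := pow_mul_regFun_eq (p := p) hM hB hχ (d := blockDefect p B)
    have h2 := congrFun h1 1
    simp only [Pi.smul_apply, Finset.sum_apply, smul_eq_mul, regFun, orderOf_one, Nat.dvd_one,
      hM.1.ne_one, if_false] at h2
    rw [← hX χ, Finset.mul_sum, pow_two ((χ : G → ℂ) 1), ← mul_assoc, h2, Finset.sum_mul]
    refine Finset.sum_congr rfl fun η _ => ?_
    by_cases hη : η ∈ B
    · rw [if_pos hη]
      linear_combination (-(p : ℂ) ^ blockDefect p B * (η : G → ℂ) 1) * hbf η hη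
    · rw [if_neg hη, hout η hη]; simp

open Classical in
/-- A block of rank one with at most four characters has defect group of order at most four. -/
theorem defect_le_four (hM : IsPModular p M) {B : Set (IrrCharacter G)} (hB : IsPBlock M B)
    (hl : blockRank p B = 1) (hk : Nat.card B ≤ 4) : p ^ blockDefect p B ≤ 4 := by
  haveI : Fact p.Prime := ⟨hM.1⟩
  haveI := charP_res hM
  haveI : IsAlgClosed (Res M) := isAlgClosed_res hM
  haveI : FiniteDimensional (Res M) (MonoidAlgebra (Res M) G) :=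
    Module.Finite.of_basis (MonoidAlgebra.basis G (Res M))
  obtain ⟨χ, z, S, hχ, h0, hz, hzp, hS, hrel⟩ := exists_rank_one_relation hM hB hl
  have hA := blockCoeff_mem_loc hB
  have he0 : (bBar M B : MonoidAlgebra (Res M) G) ≠ 0 := fun h =>
    bBar_ne_zero (M := M) hB (Subtype.ext h)
  obtain ⟨n, m, ⟨hm1, hm4⟩, hdim, f, hff, hfdim⟩ := Corner.exists_corner_dims_four
    (coeffOne (Res M) G) isTracial_coeffOne coeffOne_nondeg
    (fun x => (Subring.mem_center_iff.mp (bBar M B).2 x).symm)
    (congrArg Subtype.val (bBar_mul_self (M := M) hA)) he0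
    (fun φ ψ hφ hψ hφm hψm => not_indep_modTrace hM hB hl φ ψ hφ hψ hφm hψm)
    (centerSpan M B) (fun c hc hce => mem_centerSpan hc hce)
    ((finrank_centerSpan_le hB).trans hk)
  obtain ⟨P⟩ : Nonempty (Sylow p G) := inferInstance
  have hdvd : p ^ (Nat.card G).factorization p ∣ n * m := by
    have := PFix.card_dvd_finrank_mulRight (p := p) P.isPGroup' hff
    rw [hfdim] at this
    rwa [Sylow.card_eq_multiplicity] at this
  have hSn : S = ((n * n * m : ℕ) : ℤ) := by
    have := finrank_bBar hB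
    rw [← hS, hdim] at this
    exact_mod_cast this.symm
  obtain ⟨a, ha⟩ : ∃ a, a = (Nat.card G).factorization p := ⟨_, rfl⟩
  obtain ⟨deg, hdeg⟩ : ∃ deg, deg = charDegree (χ : G → ℂ) := ⟨_, rfl⟩
  rw [← ha] at hdvd
  have hmain : p ^ (2 * a) ∣ m * p ^ blockDefect p B * deg ^ 2 := by
    have h1 : (p ^ (2 * a) : ℕ) ∣ (n * m) ^ 2 := by
      rw [show 2 * a = a * 2 by ring, pow_mul]
      exact pow_dvd_pow_of_dvd hdvd 2
    have h2 : ((p ^ (2 * a) : ℕ) : ℤ) ∣ ((m * p ^ blockDefect p B * deg ^ 2 : ℕ) : ℤ) := by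
      have e1 : ((m * p ^ blockDefect p B * deg ^ 2 : ℕ) : ℤ) = z * (((n * m) ^ 2 : ℕ) : ℤ) := by
        push_cast
        rw [hSn] at hrel
        push_cast at hrel
        rw [← hdeg] at hrel
        linear_combination -(m : ℤ) * hrel
      rw [e1]
      exact Dvd.dvd.mul_left (by exact_mod_cast h1) _
    exact_mod_cast h2
  have hm0 : m ≠ 0 := by omega
  have hdeg0 : deg ≠ 0 := hdeg ▸ (charDegree_pos χ).ne'
  have hfac := (Nat.Prime.pow_dvd_iff_le_factorization hM.1
    (mul_ne_zero (mul_ne_zero hm0 (pow_ne_zero _ hM.1.ne_zero)) (pow_ne_zero _ hdeg0))).mp hmain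
  rw [Nat.factorization_mul (mul_ne_zero hm0 (pow_ne_zero _ hM.1.ne_zero)) (pow_ne_zero _ hdeg0),
    Nat.factorization_mul hm0 (pow_ne_zero _ hM.1.ne_zero), Nat.factorization_pow,
    Nat.factorization_pow] at hfac
  simp only [Finsupp.add_apply, Finsupp.smul_apply, smul_eq_mul, hM.1.factorization_self] at hfac
  have hh : a = blockDefect p B + deg.factorization p := by
    have := height_add (p := p) hχ
    rwa [h0, zero_add, ← ha, ← hdeg] at this
  refine le_trans (Nat.le_of_dvd (by omega) ?_) hm4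
  exact (Nat.Prime.pow_dvd_iff_le_factorization hM.1 hm0).mpr (by omega)

end Cfsg.Agent.Blocks
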