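import Cfsg.Agent.Lib.Blocks.NormalPIndex
import Cfsg.Agent.Lib.Blocks.CoverDefect
import Cfsg.Agent.Lib.BrauerPairs.Fusion

/-!
# Nilpotent blocks and normal subgroups of `p`-power index
-/

namespace Cfsg.Agent.Blocks

open MonoidAlgebra BPairs

universe u

variable {G : Type u} [Group G] [Finite G] {p : ℕ} {M : Ideal AlgInt} [M.IsPrime]
  {N : Subgroup G} [hN : N.Normal]

set_option linter.unusedSectionVars false

theorem mem_centralizer_map_iff (R : Subgroup N) (n : N) :
    (n : G) ∈ Subgroup.centralizer ((R.map N.subtype : Subgroup G) : Set G) ↔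
      n ∈ Subgroup.centralizer (R : Set N) := by
  simp only [Subgroup.mem_centralizer_iff, SetLike.mem_coe, Subgroup.mem_map]
  constructor
  · exact fun h r hr => Subtype.ext (h _ ⟨r, hr, rfl⟩)
  · rintro h _ ⟨r, hr, rfl⟩
    exact congrArg Subtype.val (h r hr)

/-- The centralizer in `N` as a normal subgroup of the centralizer in `G`. -/
noncomputable def centEquiv (R : Subgroup N) :
    Subgroup.centralizer (R : Set N) ≃*
      N.subgroupOf (Subgroup.centralizer ((R.map N.subtype : Subgroup G) : Set G)) where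
  toFun d := ⟨⟨((d : N) : G), (mem_centralizer_map_iff R _).mpr d.2⟩, (d : N).2⟩
  invFun t := ⟨⟨((t : Subgroup.centralizer ((R.map N.subtype : Subgroup G) : Set G)) : G), t.2⟩,
    (mem_centralizer_map_iff R _).mp
      (t : Subgroup.centralizer ((R.map N.subtype : Subgroup G) : Set G)).2⟩
  left_inv _ := rfl
  right_inv _ := rfl
  map_mul' _ _ := rfl

/-- The centralizer in `N` as a subgroup of `G`. -/
noncomputable def centInf (R : Subgroup N) :
    (N ⊓ Subgroup.centralizer ((R.map N.subtype : Subgroup G) : Set G) : Subgroup G) ≃*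
      Subgroup.centralizer (R : Set N) where
  toFun t := ⟨⟨(t : G), t.2.1⟩, (mem_centralizer_map_iff R _).mp t.2.2⟩
  invFun d := ⟨((d : N) : G), (d : N).2, (mem_centralizer_map_iff R _).mpr d.2⟩
  left_inv _ := rfl
  right_inv _ := rfl
  map_mul' _ _ := rfl

theorem exists_pow_index_centralizer [Fact p.Prime] (hidx : ∃ k : ℕ, N.index = p ^ k)
    (C : Subgroup G) : ∃ k : ℕ, (N.subgroupOf C).index = p ^ k := by
  obtain ⟨k, hk⟩ := hidx
  have h : (N.subgroupOf C).index ∣ p ^ k :=
    hk ▸ (Subgroup.relIndex_dvd_index_of_normal N C : N.relIndex C ∣ N.index)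
  obtain ⟨j, -, hj⟩ := (Nat.dvd_prime_pow Fact.out).mp h
  exact ⟨j, hj⟩

/-- The values at the idempotent, across the normal subgroup. -/
theorem val_of_cover (R : Subgroup N) {B : Set (IrrCharacter G)} {c : Set (IrrCharacter N)}
    (hB : IsPBlock M B) (hc : IsPBlock M c)
    (hBc : ∀ g : G, blockCoeff B g = subgroupBlockCoeff N c g)
    [Fintype (N.subgroupOf (Subgroup.centralizer ((R.map N.subtype : Subgroup G) : Set G)))]
    {ξ : IrrCharacter (Subgroup.centralizer ((R.map N.subtype : Subgroup G) : Set G))}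
    {φ : IrrCharacter (N.subgroupOf (Subgroup.centralizer ((R.map N.subtype : Subgroup G) : Set G)))}
    (hcon : classInner (fun n : N.subgroupOf (Subgroup.centralizer
        ((R.map N.subtype : Subgroup G) : Set G)) =>
      (ξ : Subgroup.centralizer ((R.map N.subtype : Subgroup G) : Set G) → ℂ) n) (φ : _ → ℂ) ≠ 0) :
    val M (R.map N.subtype) ξ (bBar M B : MonoidAlgebra (Res M) G) =
      val M R (compIrr (centEquiv R) φ) (bBar M c : MonoidAlgebra (Res M) N) := by
  haveI : (N.subgroupOf (Subgroup.centralizer ((R.map N.subtype : Subgroup G) : Set G))).Normal :=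
    Subgroup.normal_subgroupOf
  have hA := blockCoeff_mem_loc hB
  have hA' := blockCoeff_mem_loc hc
  rw [val_eq_omegaBar _ ξ (resH_mem_center _ (bBar M B).2),
    val_eq_omegaBar _ _ (resH_mem_center _ (bBar M c).2)]
  rw [omegaBar_eq_of_cover ξ hcon (fun u hu => ?_)]
  · refine (omegaBar_compIrr (centEquiv R) φ fun x => ?_).symm
    simp only [coe_resZ, coeff_resH, bBar, coe_redZ, coeff_map', coeff_bIdem hA, coeff_bIdem hA']
    refine congrArg (red M) (Subtype.ext ?_)
    show blockCoeff B ((x : N) : G) = blockCoeff c (x : N)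
    rw [hBc, subgroupBlockCoeff, dif_pos (x : N).2]
  · show (resH _ (bBar M B : MonoidAlgebra (Res M) G)).coeff u = 0
    simp only [coeff_resH, bBar, coe_redZ, coeff_map', coeff_bIdem hA]
    have h0 : blockCoeff B (u : G) = 0 := by
      rw [hBc, subgroupBlockCoeff, dif_neg]
      exact hu
    rw [show (⟨blockCoeff B (u : G), hA _⟩ : Loc M) = 0 from Subtype.ext h0, map_zero]

theorem stabilizesBlock_of_member (x : G) (H : Subgroup G) {b : Set (IrrCharacter H)}
    (hb : IsPBlock M b) (hx : x ∈ Subgroup.normalizer (H : Set G)) {χ χ' : IrrCharacter H}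
    (hχ : χ ∈ b) (hχ' : χ' ∈ b) (h : IsConjCharOf H x (χ : H → ℂ) (χ' : H → ℂ)) :
    StabilizesBlock H b x := by
  have hu : ∀ u, u ∈ H ↔ x * u * x⁻¹ ∈ H := fun u => Subgroup.mem_normalizer_iff.mp hx u
  rw [conjA_bel_iff_stabilizes x H hb hx, ← bel_conjSet x H H hu hb]
  congr 1
  exact block_eq_of_mem (isPBlock_pullSet _ hb) hb
    ((mem_conjSet_iff x H H hu b χ').mpr ⟨χ, hχ, h⟩) hχ'

theorem map_subgroupOf_normalizer {R : Subgroup N} {x : N}
    (hx : x ∈ Subgroup.normalizer (R : Set N)) :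
    (x : G) ∈ Subgroup.normalizer ((R.map N.subtype : Subgroup G) : Set G) := by
  rw [Subgroup.mem_normalizer_iff] at hx ⊢
  intro u
  constructor
  · rintro ⟨r, hr, rfl⟩
    exact ⟨x * r * x⁻¹, (hx r).mp hr, rfl⟩
  · rintro ⟨r, hr, he⟩
    refine ⟨x⁻¹ * r * x, (hx _).mpr (by simpa [mul_assoc] using hr), ?_⟩
    simp only [Subgroup.coe_subtype, Subgroup.coe_mul, Subgroup.coe_inv] at he ⊢
    rw [he]
    group

/-- If `B` is nilpotent, so is the block of `N` with the same idempotent. -/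
theorem nilpotent_sub_of_nilpotent (hM : IsPModular p M) (hidx : ∃ k : ℕ, N.index = p ^ k)
    {B : Set (IrrCharacter G)} {c : Set (IrrCharacter N)} (hc : IsPBlock M c)
    (hBc : ∀ g : G, blockCoeff B g = subgroupBlockCoeff N c g)
    (hnil : IsNilpotentBlock p M B) : IsNilpotentBlock p M c := by
  classical
  haveI : Fact p.Prime := ⟨hM.1⟩
  letI := Fintype.ofFinite N
  refine ⟨hc, fun R f hf x hxN hst hreg => ?_⟩
  obtain ⟨hR, hfb, -, hocc⟩ := isBrauerPairOf_iff.mp hf
  obtain ⟨θ, hθ⟩ := block_nonempty hfb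
  obtain ⟨θ', hθ', hconj⟩ := hst.2 θ hθ
  set R' := R.map N.subtype
  set C := Subgroup.centralizer (R' : Set G)
  haveI : (N.subgroupOf C).Normal := Subgroup.normal_subgroupOf
  letI := Fintype.ofFinite C
  letI := Fintype.ofFinite (N.subgroupOf C)
  let φ := compIrr (centEquiv R).symm θ
  let φ' := compIrr (centEquiv R).symm θ'
  have hback : ∀ η : IrrCharacter (Subgroup.centralizer (R : Set N)),
      compIrr (centEquiv R) (compIrr (centEquiv R).symm η) = η := fun η =>
    Subtype.ext (funext fun d => by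
      show (η : _ → ℂ) ((centEquiv R).symm (centEquiv R d)) = _
      rw [MulEquiv.symm_apply_apply])
  obtain ⟨ξ, hξ⟩ := CT.exists_irr_over (N.subgroupOf C) φ.2
  have hxR : (x : G) ∈ Subgroup.normalizer (R' : Set G) := map_subgroupOf_normalizer hxN
  have hxC : (x : G) ∈ Subgroup.normalizer (C : Set G) :=
    normalizer_le_normalizer_centralizer R' hxR
  -- the block of `C` covering `f`
  have hg := isPBlock_blockOf (M := M) ξ
  have hpair : IsBrauerPairOf p M B R' (blockOf M (ξ : C → ℂ)) := by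
    refine isBrauerPairOf_iff.mpr ⟨hR.map _, hg, hnil.1, occ_of_mem hg (self_mem_blockOf ξ) ?_⟩
    rw [val_of_cover R hnil.1 hc hBc hξ, hback]
    exact hocc θ hθ
  have hu : ∀ u, u ∈ C ↔ (x : G) * u * (x : G)⁻¹ ∈ C := fun u => Subgroup.mem_normalizer_iff.mp hxC u
  let ξ' : IrrCharacter C := compIrr (cIso (x : G) C C hu) ξ
  let τ : N.subgroupOf C ≃* N.subgroupOf C :=
    { toFun := fun t => ⟨cIso (x : G) C C hu t,
        (N.mul_mem (N.mul_mem (N.inv_mem x.2) t.2) x.2 :
          (x : G)⁻¹ * ((t : C) : G) * (x : G) ∈ N)⟩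
      invFun := fun t => ⟨(cIso (x : G) C C hu).symm t,
        (N.mul_mem (N.mul_mem x.2 t.2) (N.inv_mem x.2) :
          (x : G) * ((t : C) : G) * (x : G)⁻¹ ∈ N)⟩
      left_inv := fun t => Subtype.ext ((cIso (x : G) C C hu).symm_apply_apply _)
      right_inv := fun t => Subtype.ext ((cIso (x : G) C C hu).apply_symm_apply _)
      map_mul' := fun a b => Subtype.ext (map_mul (cIso (x : G) C C hu) _ _) }
  have hξ' : classInner (fun n : N.subgroupOf C => (ξ' : C → ℂ) n) (φ' : N.subgroupOf C → ℂ) ≠ 0 := by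
    intro h0
    apply hξ
    rw [← h0]
    simp only [classInner]
    congr 1
    refine (Fintype.sum_equiv τ.toEquiv _ _ fun t => ?_).symm
    congr 2
    exact hconj _ _ (Subtype.ext (by
        show ((t : C) : G) = (x : G) * ((x : G)⁻¹ * ((t : C) : G) * (x : G)) * (x : G)⁻¹
        group))
  have hmem : ξ' ∈ blockOf M (ξ : C → ℂ) :=
    mem_of_supported hg (fun u hu' => supported_of_pow_index hM (exists_pow_index_centralizer hidx C)
      hg hu') (self_mem_blockOf ξ) hξ hξ' (sameBlock_compIrr _ ((mem_block_iff hfb hθ).mp hθ'))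
  have hst' : StabilizesBlock C (blockOf M (ξ : C → ℂ)) (x : G) :=
    stabilizesBlock_of_member _ C hg hxC (self_mem_blockOf ξ) hmem fun k k' hk => by
      show (ξ : C → ℂ) _ = (ξ : C → ℂ) k
      exact congrArg _ (Subtype.ext (by
        show (x : G)⁻¹ * (k' : G) * (x : G) = k
        rw [hk]; group))
  exact (mem_centralizer_map_iff R x).mp (hnil.2 R' _ hpair (x : G) hxR hst'
    (by rwa [IsPRegular, Subgroup.orderOf_coe]))

/-- If the block of `N` with the same idempotent is nilpotent, so is `B`. -/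
theorem nilpotent_of_nilpotent_sub (hM : IsPModular p M) (hidx : ∃ k : ℕ, N.index = p ^ k)
    {B : Set (IrrCharacter G)} {c : Set (IrrCharacter N)} (hB : IsPBlock M B)
    (hBc : ∀ g : G, blockCoeff B g = subgroupBlockCoeff N c g)
    (hnil : IsNilpotentBlock p M c) : IsNilpotentBlock p M B := by
  classical
  haveI : Fact p.Prime := ⟨hM.1⟩
  letI := Fintype.ofFinite N
  refine ⟨hB, fun Q g hg x hxQ hst hreg => ?_⟩
  obtain ⟨hQ, hgb, -, -⟩ := isBrauerPairOf_iff.mp hg
  have hxN : x ∈ N := mem_of_pow_index hidx hreg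
  set R := Q.subgroupOf N
  have hRmap : R.map N.subtype = Q ⊓ N := Subgroup.subgroupOf_map_subtype Q N
  have hRp : IsPGroup p R := hQ.comap_of_injective N.subtype N.subtype_injective
  set R' := R.map N.subtype with hR'
  have hR'Q : R' ≤ Q := hRmap.le.trans inf_le_left
  set C := Subgroup.centralizer (R' : Set G)
  -- the pair below
  have hPe : IsBrauerPair p M Q g := ⟨hQ, hgb⟩
  obtain ⟨gR, ⟨hgR, hle⟩, -⟩ := existsUnique_below hM hPe hR'Q
  have hxR : x ∈ Subgroup.normalizer (R' : Set G) := by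
    rw [hRmap, Subgroup.mem_normalizer_iff]
    intro u
    rw [Subgroup.mem_inf, Subgroup.mem_inf, Subgroup.mem_normalizer_iff.mp hxQ u]
    refine and_congr_right fun _ => ⟨fun h => hN.conj_mem u h x, fun h => ?_⟩
    simpa [mul_assoc] using hN.conj_mem _ h x⁻¹
  have hfix : conjA x (bel M C gR) = bel M C gR := by
    have hgfix : conjIdx x (⟨Q, g⟩ : BrauerPairIdx G) = ⟨Q, g⟩ :=
      (conjIdx_eq_self_iff (a := ⟨Q, g⟩) hgb).mpr ⟨hxQ, (conjA_bel_iff_stabilizes x _ hgb
        (normalizer_le_normalizer_centralizer Q hxQ)).mp hst⟩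
    have h1 : Relation.ReflTransGen (NormalSubpairRel p M) (conjIdx x ⟨R', gR⟩) ⟨Q, g⟩ :=
      hgfix ▸ subpair_conj hM hle x
    have h2 : R'.map (MulAut.conj x).toMonoidHom = R' := by
      ext u
      rw [mem_map_conj]
      exact (Subgroup.mem_normalizer_iff''.mp hxR u).symm
    have h3 : conjIdx x (⟨R', gR⟩ : BrauerPairIdx G) = ⟨R', gR⟩ :=
      eq_idx_of_below hM hPe (isPBlock_conjBlock _ _ hgR) hgR h2 h1 hle
    exact ((conjIdx_eq_self_iff (a := ⟨R', gR⟩) hgR).mp h3).2
  have hpairR : IsBrauerPairOf p M B R' gR :=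
    (pairOf_iff_of_subpair hM hB ⟨R', gR⟩ ⟨Q, g⟩ hle).mp hg
  -- a block of `N` under it
  haveI : (N.subgroupOf C).Normal := Subgroup.normal_subgroupOf
  letI := Fintype.ofFinite C
  letI := Fintype.ofFinite (N.subgroupOf C)
  obtain ⟨ξ, hξ⟩ := block_nonempty hgR
  obtain ⟨φ, hφ⟩ := CT.exists_constituent_restrict (N.subgroupOf C) ξ.2
  set θ := compIrr (centEquiv R) φ
  have hh := isPBlock_blockOf (M := M) θ
  have hpair : IsBrauerPairOf p M c R (blockOf M (θ : _ → ℂ)) := by
    refine isBrauerPairOf_iff.mpr ⟨hRp, hh, hnil.1, occ_of_mem hh (self_mem_blockOf θ) ?_⟩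
    rw [← val_of_cover R hB hnil.1 hBc hφ]
    exact (isBrauerPairOf_iff.mp hpairR).2.2.2 ξ hξ
  -- a conjugate of `x` modulo `C` fixing it
  have hxC : x ∈ Subgroup.normalizer (C : Set G) := normalizer_le_normalizer_centralizer R' hxR
  have hstR := (conjA_bel_iff_stabilizes x C hgR hxC).mpr hfix
  obtain ⟨ξ', hξ', hconj⟩ := hstR.2 ξ hξ
  have hu : ∀ u, u ∈ C ↔ x * u * x⁻¹ ∈ C := fun u => Subgroup.mem_normalizer_iff.mp hxC u
  let τ : N.subgroupOf C ≃* N.subgroupOf C :=
    { toFun := fun t => ⟨cIso x C C hu t,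
        (N.mul_mem (N.mul_mem (N.inv_mem hxN) t.2) hxN : x⁻¹ * ((t : C) : G) * x ∈ N)⟩
      invFun := fun t => ⟨(cIso x C C hu).symm t,
        (N.mul_mem (N.mul_mem hxN t.2) (N.inv_mem hxN) : x * ((t : C) : G) * x⁻¹ ∈ N)⟩
      left_inv := fun t => Subtype.ext ((cIso x C C hu).symm_apply_apply _)
      right_inv := fun t => Subtype.ext ((cIso x C C hu).apply_symm_apply _)
      map_mul' := fun a b => Subtype.ext (map_mul (cIso x C C hu) _ _) }
  set φ' := compIrr τ φ
  have hφ' : classInner (fun n : N.subgroupOf C => (ξ' : C → ℂ) n) (φ' : N.subgroupOf C → ℂ) ≠ 0 := by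
    intro h0
    apply hφ
    rw [← h0]
    simp only [classInner]
    congr 1
    refine (Fintype.sum_equiv τ.toEquiv _ _ fun t => ?_).symm
    congr 1
    exact hconj _ _ (by
      show ((t : C) : G) = x * (x⁻¹ * ((t : C) : G) * x) * x⁻¹
      group)
  obtain ⟨c₀, hc₀⟩ := covered_conj hgR (isPBlock_blockOf φ) hξ (self_mem_blockOf φ) hφ hξ' hφ'
  set y := (c₀ : G)⁻¹ * x
  have hc₀C : (c₀ : G) ∈ Subgroup.normalizer (R' : Set G) :=
    Subgroup.centralizer_le_normalizer _ c₀.2
  have hyR : y ∈ Subgroup.normalizer (R' : Set G) := mul_mem (inv_mem hc₀C) hxR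
  set D' := N ⊓ Subgroup.centralizer (R' : Set G)
  have hnorm : ∀ w ∈ Subgroup.normalizer (R' : Set G), w ∈ Subgroup.normalizer (D' : Set G) := by
    intro w hw
    rw [Subgroup.mem_normalizer_iff]
    intro u
    rw [Subgroup.mem_inf, Subgroup.mem_inf,
      Subgroup.mem_normalizer_iff.mp (normalizer_le_normalizer_centralizer R' hw) u]
    refine and_congr_left fun _ => ⟨fun h => hN.conj_mem u h w, fun h => ?_⟩
    simpa [mul_assoc] using hN.conj_mem _ h w⁻¹
  set θ' := compIrr (centInf R) θ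
  have hhD := isPBlock_blockOf (M := M) θ'
  have hyst : StabilizesBlock D' (blockOf M (θ' : D' → ℂ)) y := by
    refine stabilizesBlock_of_member y D' hhD (hnorm y hyR) (self_mem_blockOf θ')
      (χ' := compIrr (centInf R) (compIrr (centEquiv R) (conjIrr c₀ φ'))) ?_ fun k k' hk => ?_
    · exact sameBlock_compIrr (centInf R) (sameBlock_compIrr (centEquiv R) hc₀)
    · show (φ : N.subgroupOf C → ℂ) (τ _) = (φ : N.subgroupOf C → ℂ) _
      refine congrArg _ (Subtype.ext (Subtype.ext ?_))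
      show x⁻¹ * ((c₀ : G) * (k' : G) * (c₀ : G)⁻¹) * x = (k : G)
      rw [hk]
      simp only [y]
      group
  let S : Subgroup G :=
    { carrier := {w | w ∈ Subgroup.normalizer (R' : Set G) ∧
        conjA w (bel M D' (blockOf M (θ' : D' → ℂ))) = bel M D' (blockOf M (θ' : D' → ℂ))}
      one_mem' := ⟨one_mem _, conjA_one _⟩
      mul_mem' := fun ha hb => ⟨mul_mem ha.1 hb.1, by rw [← conjA_conjA, hb.2, ha.2]⟩
      inv_mem' := fun {a} ha => ⟨inv_mem ha.1, by
        conv_lhs => rw [← ha.2]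
        rw [conjA_conjA, inv_mul_cancel, conjA_one]⟩ }
  have hyS : y ∈ S := ⟨hyR, (conjA_bel_iff_stabilizes y D' hhD (hnorm y hyR)).mp hyst⟩
  set a := (Nat.card G).factorization p
  have hcop : Nat.Coprime (p ^ a) (orderOf x) :=
    (hM.1.coprime_iff_not_dvd.mpr hreg).pow_left a
  obtain ⟨k, hk0, hk1⟩ := Nat.chineseRemainder hcop 0 1
  have hxk : x ^ k = x := by
    conv_rhs => rw [← pow_one x]
    exact pow_eq_pow_iff_modEq.mpr hk1
  have hyk : ¬ p ∣ orderOf (y ^ k) := by
    intro hd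
    obtain ⟨j, hj⟩ := Nat.modEq_zero_iff_dvd.mp hk0
    have h1 : orderOf (y ^ k) ∣ Nat.card G / p ^ a := by
      apply orderOf_dvd_of_pow_eq_one
      rw [hj, ← pow_mul, mul_right_comm, Nat.ordProj_mul_ordCompl_eq_self (Nat.card G) p, pow_mul,
        pow_card_eq_one', one_pow]
    exact Nat.not_dvd_ordCompl hM.1 Nat.card_pos.ne' (hd.trans h1)
  have hzN : y ^ k ∈ N := mem_of_pow_index hidx hyk
  obtain ⟨hzR, hzfix⟩ := S.pow_mem hyS k
  have hzst := (conjA_bel_iff_stabilizes (y ^ k) D' hhD (hnorm _ hzR)).mpr hzfix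
  have hz : (⟨y ^ k, hzN⟩ : N) ∈ Subgroup.centralizer (R : Set N) := by
    have hzRN : (⟨y ^ k, hzN⟩ : N) ∈ Subgroup.normalizer (R : Set N) := by
      rw [Subgroup.mem_normalizer_iff]
      intro u
      have h := Subgroup.mem_normalizer_iff.mp hzR (u : G)
      have e : ∀ v : N, (v : G) ∈ R' ↔ v ∈ R := fun v => Subgroup.mem_map_iff_mem N.subtype_injective
      rw [← e, ← e]
      simpa using h
    refine hnil.2 R _ hpair ⟨y ^ k, hzN⟩ hzRN ⟨normalizer_le_normalizer_centralizer R hzRN,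
      fun χ hχ => ?_⟩ (by rwa [IsPRegular, Subgroup.orderOf_mk])
    obtain ⟨χ', hχ', hc'⟩ := hzst.2 (compIrr (centInf R) χ) (sameBlock_compIrr (centInf R) hχ)
    refine ⟨compIrr (centInf R).symm χ', ?_, fun d d' hd => ?_⟩
    · refine sameBlock_of_compIrr (centInf R) ?_
      rw [show compIrr (centInf R) (compIrr (centInf R).symm χ') = χ' from
        Subtype.ext (funext fun t => by
          show (χ' : _ → ℂ) ((centInf R).symm (centInf R t)) = _
          rw [MulEquiv.symm_apply_apply])]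
      exact hχ'
    · exact hc' ((centInf R).symm d) ((centInf R).symm d')
        (congrArg Subtype.val hd : ((d' : N) : G) = y ^ k * ((d : N) : G) * (y ^ k)⁻¹)
  have hzC : y ^ k ∈ C := (mem_centralizer_map_iff R ⟨y ^ k, hzN⟩).mpr hz
  have hxC' : x ∈ C := by
    have hd : ∀ n : ℕ, ∃ w ∈ C, y ^ n = w * x ^ n := by
      intro n
      induction n with
      | zero => exact ⟨1, one_mem _, by simp⟩
      | succ n ih =>
        obtain ⟨w, hw, he⟩ := ih
        refine ⟨w * (x ^ n * (c₀ : G)⁻¹ * (x ^ n)⁻¹), mul_mem hw ?_, ?_⟩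
        · exact (Subgroup.mem_normalizer_iff.mp (pow_mem hxC n) _).mp (inv_mem c₀.2)
        · rw [pow_succ, he, pow_succ]
          simp only [y]
          group
    obtain ⟨w, hw, he⟩ := hd k
    rw [hxk] at he
    rw [show x = w⁻¹ * y ^ k by rw [he, inv_mul_cancel_left]]
    exact mul_mem (inv_mem hw) hzC
  -- `x` stabilizes the chain `1 ≤ Q ⊓ N ≤ Q`
  refine Subgroup.mem_centralizer_iff.mpr fun q hq => ?_
  set r := x * q * x⁻¹ * q⁻¹
  have hr : r ∈ R' := by
    rw [hRmap]
    refine ⟨Q.mul_mem ((Subgroup.mem_normalizer_iff.mp hxQ q).mp hq) (Q.inv_mem hq), ?_⟩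
    rw [show r = x * (q * x⁻¹ * q⁻¹) by simp only [r]; group]
    exact N.mul_mem hxN (hN.conj_mem _ (N.inv_mem hxN) q)
  have hxr : Commute x r := (Subgroup.mem_centralizer_iff.mp hxC' r hr).symm
  have hpow : ∀ n : ℕ, x ^ n * q * (x ^ n)⁻¹ = r ^ n * q := by
    intro n
    induction n with
    | zero => simp
    | succ n ih =>
      calc x ^ (n + 1) * q * (x ^ (n + 1))⁻¹ = x * (x ^ n * q * (x ^ n)⁻¹) * x⁻¹ := by
            rw [pow_succ']; group
        _ = (x * r ^ n * x⁻¹) * (r * q) := by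
            rw [ih, show r * q = x * q * x⁻¹ by simp only [r]; group]
            group
        _ = r ^ (n + 1) * q := by
            rw [(hxr.pow_right n).eq, mul_inv_cancel_right, pow_succ]
            simp [r, mul_assoc]
  have h1 : r ^ orderOf x = 1 := by
    have h := hpow (orderOf x)
    rw [pow_orderOf_eq_one] at h
    simpa using h.symm
  obtain ⟨j, hj⟩ := hQ ⟨r, hR'Q hr⟩
  have h2 : r ^ p ^ j = 1 := congrArg Subtype.val hj
  have h3 := Nat.dvd_gcd (orderOf_dvd_of_pow_eq_one h2) (orderOf_dvd_of_pow_eq_one h1)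
  rw [((hM.1.coprime_iff_not_dvd.mpr hreg).pow_left j : Nat.Coprime (p ^ j) (orderOf x)),
    Nat.dvd_one, orderOf_eq_one_iff] at h3
  simp only [r, mul_inv_eq_iff_eq_mul, one_mul] at h3
  exact h3.symm

where
  eq_idx_of_below {P : Subgroup G} {e : Set (IrrCharacter (Subgroup.centralizer (P : Set G)))}
      (hM : IsPModular p M) (hPe : IsBrauerPair p M P e) {a : BrauerPairIdx G} {R : Subgroup G}
      {f : Set (IrrCharacter (Subgroup.centralizer (R : Set G)))} (ha : IsPBlock M a.2)
      (hf : IsPBlock M f) (h : a.1 = R)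
      (h1 : Relation.ReflTransGen (NormalSubpairRel p M) a ⟨P, e⟩)
      (h2 : SubpairLE p M R f P e) : a = ⟨R, f⟩ := by
    obtain ⟨A, b⟩ := a
    simp only at h
    subst h
    obtain ⟨f', -, huniq⟩ := existsUnique_below hM hPe (subpair_le h2)
    rw [huniq b ⟨ha, h1⟩, huniq f ⟨hf, h2⟩]

end Cfsg.Agent.Blocks
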