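import Cfsg.Agent.Lib.Blocks.InvariantCover
import Cfsg.Agent.Lib.Blocks.FongReynolds
import Cfsg.Agent.Lib.CT.Degree
import Cfsg.Agent.Lib.OddChar.AbelianQuotient

/-!
# Heights in blocks of `p`-solvable groups

Fong's reduction and Itô's theorem bound the height by the index of the centre of a defect group.
-/

namespace Cfsg.Agent.Blocks

open MonoidAlgebra

universe u

variable {G : Type u} [Group G] [Finite G] {p : ℕ} {M : Ideal AlgInt} [M.IsPrime]

set_option linter.unusedSectionVars false

theorem index_center_congr {A B : Type*} [Group A] [Group B] (i : A ≃* B) :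
    (Subgroup.center A).index = (Subgroup.center B).index := by
  have h : (Subgroup.center A).map i.toMonoidHom = Subgroup.center B := by
    ext b
    constructor
    · rintro ⟨a, ha, rfl⟩
      refine Subgroup.mem_center_iff.mpr fun c => ?_
      obtain ⟨d, rfl⟩ := i.surjective c
      show i d * i a = i a * i d
      rw [← map_mul, ← map_mul, Subgroup.mem_center_iff.mp ha d]
    · intro hb
      refine ⟨i.symm b, Subgroup.mem_center_iff.mpr fun c => i.injective ?_,
        i.apply_symm_apply b⟩
      rw [map_mul, map_mul, i.apply_symm_apply]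
      exact Subgroup.mem_center_iff.mp hb (i c)
  rw [← h]
  exact (Subgroup.index_map_equiv _ i).symm

open Classical in
/-- Degrees over an invariant character of a normal `p'`-subgroup: the `p`-part is bounded by the
index of any normal subgroup which is abelian `p` modulo the subgroup. -/
theorem factorization_deg_le_index [Fintype G] [hp : Fact p.Prime] {N A : Subgroup G} [N.Normal]
    [A.Normal] [Fintype N] [Fintype A] (hNA : N ≤ A) (hN : ¬ p ∣ Nat.card N) (θ : IrrCharacter N)
    (hinv : ∀ g : G, conjIrr g θ = θ) (hab : ∀ x ∈ A, ∀ y ∈ A, x * y * x⁻¹ * y⁻¹ ∈ N)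
    (hrel : ∃ m : ℕ, N.relIndex A = p ^ m) {χ : IrrCharacter G}
    (hχ : classInner (fun n : N => (χ : G → ℂ) n) (θ : N → ℂ) ≠ 0) :
    (charDegree (χ : G → ℂ)).factorization p ≤ A.index.factorization p := by
  haveI : (N.subgroupOf A).Normal := inferInstance
  let i : N.subgroupOf A ≃* N := Subgroup.subgroupOfEquivOfLe hNA
  haveI := Fintype.ofFinite (N.subgroupOf A)
  obtain ⟨θ', hθ'⟩ : ∃ θ' : N.subgroupOf A → ℂ, θ' = fun n => (θ : N → ℂ) (i n) := ⟨_, rfl⟩
  have hirr : IsIrrCharacter (N.subgroupOf A) θ' :=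
    hθ' ▸ CT.isIrrCharacter_comp i.toMonoidHom i.surjective θ.2
  have hinv' : ∀ a : A, CT.conjFun (N.subgroupOf A) a θ' = θ' := by
    intro a
    rw [hθ']
    funext m
    exact congrFun (congrArg Subtype.val (hinv (a : G))) (i m)
  have hres : (fun a : A => (χ : G → ℂ) a) = ∑ η : IrrCharacter A,
      (CT.mult (fun a : A => (χ : G → ℂ) a) (η : A → ℂ) : ℂ) • (η : A → ℂ) :=
    CT.character_eq_sum (CT.isCharacter_restrict A (CT.isCharacter_of_isIrr χ.2))
  have hne : classInner (fun m : N.subgroupOf A => (χ : G → ℂ) ((m : A) : G)) θ' ≠ 0 := by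
    convert hχ using 1
    subst hθ'
    simp only [classInner]
    rw [Nat.card_congr i.toEquiv]
    congr 1
    exact Fintype.sum_equiv i.toEquiv _ _ fun m => rfl
  have hsum : classInner (fun m : N.subgroupOf A => (χ : G → ℂ) ((m : A) : G)) θ' =
      ∑ η : IrrCharacter A, (CT.mult (fun a : A => (χ : G → ℂ) a) (η : A → ℂ) : ℂ) *
        classInner (fun m : N.subgroupOf A => (η : A → ℂ) m) θ' := by
    have e : (fun m : N.subgroupOf A => (χ : G → ℂ) ((m : A) : G)) = ∑ η : IrrCharacter A,
        (CT.mult (fun a : A => (χ : G → ℂ) a) (η : A → ℂ) : ℂ) •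
          fun m : N.subgroupOf A => (η : A → ℂ) m := by
      funext m
      have := congrFun hres (m : A)
      simpa [Finset.sum_apply] using this
    rw [e, CT.classInner_sum_left]
    exact Finset.sum_congr rfl fun η _ => CT.classInner_smul_left _ _ _
  rw [hsum] at hne
  obtain ⟨η, -, hη⟩ := Finset.exists_ne_zero_of_sum_ne_zero hne
  obtain ⟨hη1, hη2⟩ := mul_ne_zero_iff.mp hη
  have hη1' : classInner (fun a : A => (χ : G → ℂ) a) (η : A → ℂ) ≠ 0 := by
    rw [CT.mult_spec (CT.isCharacter_restrict A (CT.isCharacter_of_isIrr χ.2))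
      (CT.isCharacter_of_isIrr η.2)]
    exact hη1
  have hcard : Nat.card (N.subgroupOf A) = Nat.card N := Nat.card_congr i.toEquiv
  have hcop : Nat.Coprime (Nat.card (N.subgroupOf A)) (N.subgroupOf A).index := by
    obtain ⟨m, hm⟩ := hrel
    rw [hcard, show (N.subgroupOf A).index = p ^ m from hm]
    exact ((hp.out.coprime_iff_not_dvd.mpr hN).pow_left m).symm
  obtain ⟨ψ, hψ, hψres⟩ := OddChar.exists_extension_coprime (N.subgroupOf A) hirr hinv' hcop
  have hψne : classInner (fun m : N.subgroupOf A => ψ m) θ' ≠ 0 := by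
    rw [hψres, CT.irr_inner_self hirr]
    exact one_ne_zero
  have hdeg := OddChar.constituent_eq_mul_linear (N.subgroupOf A) hirr hinv'
    (fun x y => Subgroup.mem_subgroupOf.mpr (hab x x.2 y y.2)) hψ η.2 hψne hη2
  have hψ1 : ψ 1 = (θ : N → ℂ) 1 := by
    have := congrFun hψres 1
    simpa [hθ'] using this
  have hηdeg : charDegree (η : A → ℂ) = charDegree (θ : N → ℂ) := by
    have := hdeg.trans hψ1
    rw [charDegree_cast, charDegree_cast] at this
    exact_mod_cast this
  obtain ⟨k, hk, hd⟩ := CT.deg_ratio_dvd_index A χ.2 η.2 hη1'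
  have hk' : charDegree (χ : G → ℂ) = k * charDegree (η : A → ℂ) := hk
  have hk0 : k ≠ 0 := fun h => (charDegree_pos χ).ne' (by rw [hk', h, zero_mul])
  rw [hk', Nat.factorization_mul hk0 (charDegree_pos η).ne', Finsupp.add_apply, hηdeg,
    Nat.factorization_eq_zero_of_not_dvd fun h => hN (h.trans (charDegree_dvd_card θ)), add_zero]
  exact (Nat.factorization_le_iff_dvd hk0 Subgroup.index_ne_zero_of_finite).mpr hd p

/-- The normal subgroup containing the centre of a Sylow subgroup, abelian modulo the `p'`-core. -/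
theorem exists_abelian_section [hp : Fact p.Prime] (hs : IsPSolvable p G) (P : Sylow p G) :
    ∃ A : Subgroup G, A.Normal ∧ pPrimeCore p G ≤ A ∧
      (∀ x ∈ A, ∀ y ∈ A, x * y * x⁻¹ * y⁻¹ ∈ pPrimeCore p G) ∧
      (∃ m : ℕ, (pPrimeCore p G).relIndex A = p ^ m) ∧
      A.index.factorization p ≤ ((Subgroup.center (P : Subgroup G)).index).factorization p := by
  set N := pPrimeCore p G with hNdef
  haveI : N.Normal := Basics.pPrimeCore_normal p
  set O := pCore p (G ⧸ N)
  haveI : O.Normal := Basics.pCore_normal p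
  have hcore := Transfer.centralizer_pCore_le_of_pSolvable (p := p) (X := G ⧸ N)
    (Basics.pPrimeCore_quotient_eq_bot p)
    (isPSolvable_subgroup (Coprime23.isPSolvable_map (QuotientGroup.mk' N)
      (QuotientGroup.mk'_surjective N) hs) _)
  obtain ⟨Z, hZ⟩ : ∃ Z, Z = Subgroup.centralizer (O : Set (G ⧸ N)) := ⟨_, rfl⟩
  haveI : Z.Normal := hZ ▸ inferInstance
  have hZO : Z ≤ O := hZ ▸ hcore
  obtain ⟨A, hA⟩ : ∃ A, A = Z.comap (QuotientGroup.mk' N) := ⟨_, rfl⟩
  have hNA : N ≤ A := fun x hx => by
    rw [hA, Subgroup.mem_comap, QuotientGroup.mk'_apply, (QuotientGroup.eq_one_iff x).mpr hx]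
    exact one_mem _
  obtain ⟨m, hm⟩ : ∃ m : ℕ, Nat.card Z = p ^ m :=
    IsPGroup.iff_card.mp ((Basics.pCore_isPGroup (G := G ⧸ N) p).to_le hZO)
  have hAcard : Nat.card A = Nat.card Z * Nat.card N := by
    rw [hA]; exact (Basics.card_comap_mk' Z).trans (mul_comm _ _) |> fun h => by linarith
  refine ⟨A, hA ▸ inferInstance, hNA, fun x hx y hy => ?_, ⟨m, ?_⟩, ?_⟩
  · rw [hA, Subgroup.mem_comap] at hx hy
    have hc : (QuotientGroup.mk' N x) * (QuotientGroup.mk' N y) =
        (QuotientGroup.mk' N y) * (QuotientGroup.mk' N x) := by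
      rw [hZ] at hx
      exact (Subgroup.mem_centralizer_iff.mp hx _ (hZO hy)).symm
    rw [← QuotientGroup.eq_one_iff]
    show QuotientGroup.mk' N (x * y * x⁻¹ * y⁻¹) = 1
    rw [map_mul, map_mul, map_mul, map_inv, map_inv, hc]
    group
  · have := (N.subgroupOf A).index_mul_card
    rw [Nat.card_congr (Subgroup.subgroupOfEquivOfLe hNA).toEquiv, hAcard, hm] at this
    exact Nat.eq_of_mul_eq_mul_right Nat.card_pos this
  -- the centre of the Sylow subgroup maps into `Z`
  have hsurj := QuotientGroup.mk'_surjective N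
  have hOP : O ≤ (P : Subgroup G).map (QuotientGroup.mk' N) := by
    have := Basics.pCore_le_sylow p (P.mapSurjective hsurj)
    rwa [Sylow.coe_mapSurjective] at this
  obtain ⟨C, hC⟩ : ∃ C : Subgroup G, C = (Subgroup.center (P : Subgroup G)).map
      (P : Subgroup G).subtype := ⟨_, rfl⟩
  have hCA : C ≤ A := by
    rw [hC, hA, hZ]
    rintro _ ⟨z, hz, rfl⟩
    rw [Subgroup.mem_comap, Subgroup.mem_centralizer_iff]
    intro o ho
    obtain ⟨y, hy, rfl⟩ := hOP ho
    rw [← map_mul, ← map_mul]
    exact congrArg _ (congrArg Subtype.val (Subgroup.mem_center_iff.mp hz ⟨y, hy⟩))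
  have hCcard : Nat.card C = Nat.card (Subgroup.center (P : Subgroup G)) :=
    hC ▸ Subgroup.card_map_of_injective (P : Subgroup G).subtype_injective
  have h1 : (Nat.card (Subgroup.center (P : Subgroup G))).factorization p ≤
      (Nat.card A).factorization p := by
    rw [← hCcard]
    exact (Nat.factorization_le_iff_dvd Nat.card_pos.ne' Nat.card_pos.ne').mpr
      (Subgroup.card_dvd_of_le hCA) p
  have h2 : (Nat.card G).factorization p = A.index.factorization p + (Nat.card A).factorization p := by
    rw [← A.index_mul_card, Nat.factorization_mul Subgroup.index_ne_zero_of_finite Nat.card_pos.ne',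
      Finsupp.add_apply]
  have h3 : (Nat.card G).factorization p = (Subgroup.center (P : Subgroup G)).index.factorization p +
      (Nat.card (Subgroup.center (P : Subgroup G))).factorization p := by
    rw [← Finsupp.add_apply, ← Nat.factorization_mul Subgroup.index_ne_zero_of_finite
      Nat.card_pos.ne', Subgroup.index_mul_card, P.card_eq_multiplicity, hp.out.factorization_pow,
      Finsupp.single_eq_same]
  omega

/-- The height of a character of a block of a `p`-solvable group. -/
theorem height_le_center_index (hM : IsPModular p M) [hp : Fact p.Prime] :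
    ∀ (n : ℕ) (G : Type u) [Group G] [Finite G], Nat.card G = n → IsPSolvable p G →
      ∀ (B : Set (IrrCharacter G)), IsPBlock M B → ∀ P : Subgroup G, IsDefectGroup p M B P →
        ∀ χ ∈ B, blockHeight p B ((χ : IrrCharacter G) : G → ℂ) ≤
          ((Subgroup.center P).index).factorization p := by
  intro n
  induction n using Nat.strong_induction_on with
  | _ n ih =>
    intro G _ _ hn hsolv B hB P hP χ hχ
    classical
    haveI := Fintype.ofFinite G
    obtain ⟨N, hNdef⟩ : ∃ N, N = pPrimeCore p G := ⟨_, rfl⟩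
    haveI : N.Normal := hNdef ▸ Basics.pPrimeCore_normal p
    haveI := Fintype.ofFinite N
    have hp' : ¬ p ∣ Nat.card N := by
      rw [hNdef]
      exact hp.out.coprime_iff_not_dvd.mp (Basics.pPrimeCore_coprime p).symm
    obtain ⟨θ, hθ⟩ := CT.exists_constituent_restrict N χ.2
    obtain ⟨T, hTdef⟩ : ∃ T, T = CT.inertia N (θ : N → ℂ) := ⟨_, rfl⟩
    have hT : ∀ g : G, g ∈ T ↔ ∀ θ' ∈ ({θ} : Set (IrrCharacter N)),
        conjIrr g θ' ∈ ({θ} : Set (IrrCharacter N)) := by
      intro g
      simp only [Set.mem_singleton_iff, forall_eq, hTdef]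
      exact ⟨fun h => Subtype.ext h, fun h => congrArg Subtype.val h⟩
    by_cases htop : T = ⊤
    · have hinv : ∀ g : G, conjIrr g θ = θ := fun g =>
        (hT g).mp (htop ▸ Subgroup.mem_top g) θ rfl
      obtain ⟨K, hK, hNK, hrel, hcent⟩ := exists_intermediate hsolv hNdef
      haveI := hK
      obtain ⟨B₀, hB₀, hiff, hd⟩ := exists_block_over hM hp' θ hinv hNK hrel hcent
      obtain rfl : B₀ = B := block_eq_of_mem hB₀ hB ((hiff χ).mpr hθ) hχ
      have hcard := card_defectGroup hM hB hP
      rw [hd] at hcard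
      obtain ⟨A, hA, hNA, hab, hArel, hle⟩ := exists_abelian_section hsolv (Sylow.ofCard P hcard)
      haveI := hA
      haveI := Fintype.ofFinite A
      subst hNdef
      refine le_trans (Nat.sub_le _ _) ((factorization_deg_le_index hNA hp' θ hinv hab hArel hθ).trans ?_)
      exact hle
    · have hb := isPBlock_singleton hM hp' θ
      have hNT : N ≤ T := hTdef ▸ CT.le_inertia N (CT.isClassFunction_of_isIrr θ.2)
      haveI := Fintype.ofFinite T
      obtain ⟨B', hB', hcov, hind⟩ :=
        fong_reynolds_surjective hb hT hNT hB ⟨χ, hχ, θ, Set.mem_singleton θ, hθ⟩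
      obtain ⟨hdef, hht⟩ := fong_reynolds_defect hM hb hT hNT hB' hcov hind
      obtain ⟨C, hC, -, -, hmem⟩ := fong_reynolds hb hT hNT hB' hcov
      obtain rfl : C = B := inducedBlock_unique hC hind
      obtain ⟨ψ, hψ, hψe⟩ := (hmem χ).mp hχ
      obtain ⟨χ', -, hχ', hh⟩ := hht ψ hψ
      obtain rfl : χ' = χ := Subtype.ext (hχ'.trans hψe.symm)
      obtain ⟨D, hD⟩ := exists_defectGroup (p := p) hB'
      obtain ⟨x, hx⟩ := defect_conj hM hB (hdef D hD) hP
      have hlt : Nat.card T < n := by
        rw [← hn]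
        exact lt_of_le_of_ne (Subgroup.card_le_card_group _) fun h =>
          htop (Subgroup.eq_top_of_card_eq _ h)
      rw [hh, ← hx]
      refine (ih _ hlt T rfl (isPSolvable_subgroup hsolv T) B' hB' D hD ψ hψ).trans (le_of_eq ?_)
      rw [index_center_congr ((D.equivMapOfInjective T.subtype T.subtype_injective).trans
        ((D.map T.subtype).equivMapOfInjective (MulAut.conj x).toMonoidHom (MulAut.conj x).injective))]

end Cfsg.Agent.Blocks
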