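import Cfsg.Agent.Lib.Blocks.CosetRegular
import Cfsg.Agent.Lib.CT.Extend
import Cfsg.Agent.Lib.CT.Brauer
import Cfsg.Agent.Lib.CT.Clifford
import Cfsg.Agent.Lib.CoprimeExt.Basic
import Cfsg.Agent.Lib.Transfer.Hall

/-!
# Extending invariant characters inside the principal block

If the centralizer of a Sylow `p`-subgroup of `N` covers a subgroup of `p`-power index of `G`, an
invariant principal-block character of `N` with degree and determinantal order prime to `p` extends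
to a principal-block character of `G`.
-/

set_option autoImplicit false
set_option linter.all false

namespace Cfsg.Agent.Blocks.PrincipalExtend

open MonoidAlgebra BPairs IsoBlocks CosetRegular
open scoped ComplexConjugate

universe u

theorem exists_lin_of_deg_one {G : Type u} [Group G] {E : G → ℂ} (hE : IsIrrCharacter G E)
    (h1 : E 1 = 1) : ∃ L : G →* ℂˣ, ∀ g, (L g : ℂ) = E g := by
  obtain ⟨d, ρ, -, rfl⟩ := hE
  have hd : d = 1 := by
    rw [Representation.char_one] at h1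
    simpa using h1
  subst hd
  refine ⟨CoprimeExt.detHom ρ, fun g => ?_⟩
  rw [CoprimeExt.detHom_apply, ← LinearMap.det_toMatrix (Pi.basisFun ℂ (Fin 1))]
  show _ = LinearMap.trace ℂ _ (ρ g)
  rw [LinearMap.trace_eq_matrix_trace ℂ (Pi.basisFun ℂ (Fin 1)), Matrix.det_fin_one,
    Matrix.trace_fin_one]

theorem isIrr_restrict_of_le {G : Type u} [Group G] [Finite G] {N R : Subgroup G} (hNR : N ≤ R)
    {E : G → ℂ} (hE : IsIrrCharacter G E) (hN : IsIrrCharacter N fun n : N => E n) :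
    IsIrrCharacter R fun r : R => E r := by
  obtain ⟨d, ρ, hρ, rfl⟩ := hE
  let ρR : Representation ℂ R (Fin d → ℂ) := ρ.comp R.subtype
  refine ⟨d, ρR, ?_, rfl⟩
  let ρN : Representation ℂ N (Fin d → ℂ) := ρR.comp (Subgroup.inclusion hNR)
  have hirr : ρN.IsIrreducible := CT.isIrreducible_of_isIrrCharacter ρN hN
  obtain ⟨hV, hW⟩ := (CT.isIrreducible_iff ρN).mp hirr
  exact (CT.isIrreducible_iff ρR).mpr ⟨hV, fun U hU => hW U fun n v hv => hU _ v hv⟩

/-- In an elementary group the projection onto the `p'`-parts is multiplicative. -/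
theorem pow_mul_pow {Y : Type u} [Group Y] [Finite Y] {q : ℕ} (hq : q.Prime) (hY : IsElementary q Y)
    {p : ℕ} [Fact p.Prime] {n v k : ℕ} (hn : ¬ p ∣ n) (hexp : ∀ y : Y, y ^ (n * p ^ v) = 1)
    (hk1 : k ≡ 1 [MOD n]) (hk0 : p ^ v ∣ k) (x y : Y) : (x * y) ^ k = x ^ k * y ^ k := by
  haveI := CT.isNilpotent_of_isElementary hq hY
  obtain ⟨S⟩ : Nonempty (Sylow p Y) := inferInstance
  haveI hSn : (S : Subgroup Y).Normal := inferInstance
  obtain ⟨C, hC⟩ := Subgroup.exists_right_complement'_of_coprime S.card_coprime_index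
  have hp := (Fact.out : p.Prime)
  have hCp : ¬ p ∣ Nat.card C := by
    rw [← hC.symm.index_eq_card]
    exact S.not_dvd_index
  have hcomm : ∀ c ∈ C, ∀ s ∈ (S : Subgroup Y), Commute c s := fun c hc s hs => by
    refine Transfer.commute_of_coprime_of_nilpotent ?_
    obtain ⟨i, hi⟩ := S.isPGroup' ⟨s, hs⟩
    have h1 : orderOf c ∣ Nat.card C := Subgroup.orderOf_dvd_natCard _ hc
    have h2 : orderOf s ∣ p ^ i := orderOf_dvd_of_pow_eq_one (congrArg Subtype.val hi)
    exact Nat.Coprime.of_dvd h1 h2 (Nat.Coprime.pow_right _ ((hp.coprime_iff_not_dvd.mpr hCp).symm))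
  have hsplit : ∀ z : Y, ∃ c ∈ C, ∃ s ∈ (S : Subgroup Y), z = c * s ∧ z ^ k = c := by
    intro z
    obtain ⟨⟨⟨s, hs⟩, ⟨c, hc⟩⟩, hz⟩ := hC.surjective z
    simp only at hz
    refine ⟨c, hc, s, hs, by rw [← hz]; exact (hcomm c hc s hs).eq.symm, ?_⟩
    rw [← hz, ((hcomm c hc s hs).symm).mul_pow]
    obtain ⟨i, hi⟩ := S.isPGroup' ⟨s, hs⟩
    have h2 : orderOf s ∣ p ^ i := orderOf_dvd_of_pow_eq_one (congrArg Subtype.val hi)
    have h3 : orderOf s ∣ p ^ v := by
      refine (Nat.Coprime.dvd_of_dvd_mul_left ?_ (orderOf_dvd_of_pow_eq_one (hexp s)))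
      exact Nat.Coprime.of_dvd_left h2 (Nat.Coprime.pow_left _ (hp.coprime_iff_not_dvd.mpr hn))
    have h4 : orderOf c ∣ n := by
      refine (Nat.Coprime.dvd_of_dvd_mul_right ?_ (orderOf_dvd_of_pow_eq_one (hexp c)))
      exact Nat.Coprime.of_dvd_left (Subgroup.orderOf_dvd_natCard _ hc)
        (Nat.Coprime.pow_right _ ((hp.coprime_iff_not_dvd.mpr hCp).symm))
    rw [orderOf_dvd_iff_pow_eq_one.mp (h3.trans hk0), one_mul, ← pow_mod_orderOf,
      Nat.ModEq.of_dvd h4 hk1, pow_mod_orderOf, pow_one]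
  obtain ⟨a, ha, u, hu, rfl, hxa⟩ := hsplit x
  obtain ⟨b, hb, v', hv, rfl, hyb⟩ := hsplit y
  obtain ⟨c, hc, s, hs, hz, hzc⟩ := hsplit (a * u * (b * v'))
  rw [hxa, hyb, hzc]
  have he : a * u * (b * v') = a * b * (u * v') := by
    rw [mul_assoc, ← mul_assoc u, (hcomm b hb u hu).symm.eq]; group
  have : (⟨⟨c, hc⟩, ⟨s, hs⟩⟩ : C × (S : Subgroup Y)) = ⟨⟨a * b, C.mul_mem ha hb⟩, ⟨u * v', S.mul_mem hu hv⟩⟩ :=
    hC.symm.injective (show c * s = a * b * (u * v') by rw [← hz, he])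
  exact congrArg (fun w : C × (S : Subgroup Y) => (w.1 : Y)) this

variable {G : Type u} [Group G] [Fintype G] {p : ℕ} {M : Ideal AlgInt} [M.IsPrime]
  (N : Subgroup G) [N.Normal] [Fintype N] (Q : Sylow p ↥N)

/-- `N` together with the centralizer of a Sylow subgroup of `N`. -/
noncomputable def covered : Subgroup G :=
  N ⊔ Subgroup.centralizer (((Q : Subgroup ↥N).map N.subtype : Subgroup G) : Set G)

theorem covered_normal [Fact p.Prime] : (covered N Q).Normal := by
  set Q' : Subgroup G := (Q : Subgroup ↥N).map N.subtype with hQ'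
  set C := Subgroup.centralizer (Q' : Set G)
  have hconj : ∀ g ∈ Subgroup.normalizer (Q' : Set G), ∀ c ∈ C, g * c * g⁻¹ ∈ C := by
    intro g hg c hc
    rw [Subgroup.mem_centralizer_iff] at hc ⊢
    intro x hx
    have hx' : g⁻¹ * x * g ∈ Q' := (Subgroup.mem_normalizer_iff''.mp hg x).mp hx
    have := hc _ hx'
    calc x * (g * c * g⁻¹) = g * ((g⁻¹ * x * g) * c) * g⁻¹ := by group
      _ = g * (c * (g⁻¹ * x * g)) * g⁻¹ := by rw [this]
      _ = g * c * g⁻¹ * x := by group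
  have hle : ∀ n ∈ N, n ∈ Subgroup.normalizer ((covered N Q : Subgroup G) : Set G) := fun n hn =>
    Subgroup.le_normalizer (show n ∈ covered N Q from Subgroup.mem_sup_left hn)
  have hnorm : Subgroup.normalizer (Q' : Set G) ≤ Subgroup.normalizer ((covered N Q : Subgroup G) : Set G) := by
    intro g hg
    have key : ∀ g ∈ Subgroup.normalizer (Q' : Set G), ∀ z ∈ covered N Q, g * z * g⁻¹ ∈ covered N Q := by
      intro g hg z hz
      obtain ⟨n, hn, c, hc, rfl⟩ := Subgroup.mem_sup_of_normal_left.mp hz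
      rw [show g * (n * c) * g⁻¹ = (g * n * g⁻¹) * (g * c * g⁻¹) by group]
      exact (covered N Q).mul_mem (Subgroup.mem_sup_left ((inferInstance : N.Normal).conj_mem n hn g))
        (Subgroup.mem_sup_right (hconj g hg c hc))
    rw [Subgroup.mem_normalizer_iff]
    intro z
    refine ⟨key g hg z, fun h => ?_⟩
    have := key g⁻¹ (Subgroup.inv_mem _ hg) _ h
    simpa [mul_assoc] using this
  rw [← Subgroup.normalizer_eq_top_iff, eq_top_iff, ← Sylow.normalizer_sup_eq_top Q]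
  exact sup_le hnorm hle

theorem mem_covered_of_regular [Fact p.Prime] {a : ℕ} (hidx : (covered N Q).index = p ^ a) {g : G}
    (hg : ¬ p ∣ orderOf (g : G ⧸ N)) : g ∈ covered N Q := by
  haveI := covered_normal N Q
  have h1 : orderOf (g : G ⧸ covered N Q) ∣ orderOf (g : G ⧸ N) := by
    refine orderOf_dvd_of_pow_eq_one ?_
    have h := pow_orderOf_eq_one (g : G ⧸ N)
    rw [← QuotientGroup.mk_pow, QuotientGroup.eq_one_iff] at h
    rw [← QuotientGroup.mk_pow, QuotientGroup.eq_one_iff]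
    exact Subgroup.mem_sup_left h
  have h2 : orderOf (g : G ⧸ covered N Q) ∣ p ^ a := hidx ▸ orderOf_dvd_natCard _
  have h3 : orderOf (g : G ⧸ covered N Q) = 1 := by
    obtain ⟨i, -, hi⟩ := (Nat.dvd_prime_pow Fact.out).mp h2
    rcases Nat.eq_zero_or_pos i with rfl | hi0
    · rw [hi, pow_zero]
    · exact absurd ((hi ▸ dvd_pow_self p hi0.ne').trans h1) hg
  exact (QuotientGroup.eq_one_iff g).mp (orderOf_eq_one_iff.mp h3)

variable (θ : IrrCharacter ↥N)

/-- An extension on a covered subgroup of index prime to `p`, with congruent coset sums. -/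
theorem exists_local_ext [Fact p.Prime] (hM : IsPModular p M) (hθ : θ ∈ principalBlock M ↥N)
    (R : Subgroup G) [Fintype R] (hNR : N ≤ R) (hR : R ≤ covered N Q)
    (hi : ¬ p ∣ (N.subgroupOf R).index) :
    ∃ ψ : IrrCharacter ↥R, (∀ n : N, (ψ : R → ℂ) ⟨n, hNR n.2⟩ = (θ : N → ℂ) n) ∧
      ∀ c : ↥R ⧸ N.subgroupOf R, ∃ z : Loc M, (z : ℂ) = cosetS (N.subgroupOf R) p (ψ : R → ℂ) c ∧
        red M z = red M (regS M p θ (CT.trivIrr N)) := by
  classical
  have hp := (Fact.out : p.Prime)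
  let e : ↥(N.subgroupOf R) ≃* ↥N := Subgroup.subgroupOfEquivOfLe hNR
  let θ' : IrrCharacter ↥(N.subgroupOf R) :=
    ⟨fun x => (θ : N → ℂ) (e x), CT.isIrrCharacter_comp e.toMonoidHom e.surjective θ.2⟩
  have hθ' : θ' ∈ principalBlock M ↥(N.subgroupOf R) := principal_comp e hθ
  set Q' : Subgroup G := (Q : Subgroup ↥N).map N.subtype with hQ'
  have hQN : Q' ≤ N := Subgroup.map_subtype_le _
  have hcard : Nat.card (Q'.subgroupOf R) = p ^ (Nat.card R).factorization p := by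
    rw [Nat.card_congr (Subgroup.subgroupOfEquivOfLe (hQN.trans hNR)).toEquiv,
      Subgroup.card_map_of_injective N.subtype_injective, Sylow.card_eq_multiplicity,
      ← (N.subgroupOf R).card_mul_index, Nat.card_congr e.toEquiv,
      Nat.factorization_mul Nat.card_pos.ne' Subgroup.index_ne_zero_of_finite, Finsupp.add_apply,
      Nat.factorization_eq_zero_of_not_dvd hi, add_zero]
  let P := Sylow.ofCard _ hcard
  have hsup : N.subgroupOf R ⊔ Subgroup.centralizer ((P : Subgroup ↥R) : Set ↥R) = ⊤ := by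
    rw [eq_top_iff]
    rintro ⟨r, hr⟩ -
    obtain ⟨n, hn, c, hc, rfl⟩ := Subgroup.mem_sup_of_normal_left.mp (hR hr)
    have hcR : c ∈ R := by
      have := R.mul_mem (R.inv_mem (hNR hn)) hr
      rwa [inv_mul_cancel_left] at this
    rw [show (⟨n * c, hr⟩ : ↥R) = ⟨n, hNR hn⟩ * ⟨c, hcR⟩ from rfl]
    refine Subgroup.mul_mem_sup (Subgroup.mem_subgroupOf.mpr hn) ?_
    rw [Subgroup.mem_centralizer_iff]
    rintro ⟨x, hx⟩ hxP
    exact Subtype.ext (Subgroup.mem_centralizer_iff.mp hc x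
      (Subgroup.mem_subgroupOf.mp (by simpa [P] using hxP)))
  obtain ⟨ψ, ⟨hψ, hψres⟩, -⟩ := (principal_restrict_bijection hM hi P hsup).2 θ' hθ'
  refine ⟨ψ, fun n => hψres ⟨⟨n, hNR n.2⟩, n.2⟩, fun c => ?_⟩
  obtain ⟨z, hz, hzr⟩ := cosetS_const (N.subgroupOf R) hM hi P hsup hψ hψres c
  refine ⟨z, hz, hzr.trans (congrArg (red M) (Subtype.ext ?_))⟩
  rw [regS_one_eq, regS_one_eq]
  congr 1
  · refine Fintype.sum_equiv e.toEquiv _ _ fun x => ?_
    rw [show orderOf (e.toEquiv x) = orderOf x from MulEquiv.orderOf_eq e x]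
    rfl

/-- The coset sums in a subgroup. -/
theorem cosetS_subgroup (R : Subgroup G) [Fintype R] (hNR : N ≤ R) (E : G → ℂ) (r : R) :
    cosetS (N.subgroupOf R) p (fun x : R => E x) (r : ↥R ⧸ N.subgroupOf R) =
      cosetS N p E ((r : G) : G ⧸ N) := by
  classical
  simp only [cosetS]
  congr 1
  rw [← Finset.sum_filter, ← Finset.sum_filter]
  refine Finset.sum_bij (fun x _ => (x : G)) (fun x hx => ?_) (fun x _ y _ h => Subtype.ext h)
    (fun g hg => ?_) (fun x _ => rfl)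
  · simp only [Finset.mem_filter, Finset.mem_univ, true_and] at hx ⊢
    refine ⟨?_, by rw [Subgroup.orderOf_coe]; exact hx.2⟩
    rw [QuotientGroup.eq] at hx ⊢
    exact Subgroup.mem_subgroupOf.mp hx.1
  · simp only [Finset.mem_filter, Finset.mem_univ, true_and] at hg
    have hgR : g ∈ R := by
      have h := QuotientGroup.eq.mp hg.1
      have h2 := R.mul_mem r.2 (R.inv_mem (hNR h))
      simpa [mul_inv_rev, mul_assoc] using h2
    refine ⟨⟨g, hgR⟩, ?_, rfl⟩
    simp only [Finset.mem_filter, Finset.mem_univ, true_and]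
    refine ⟨?_, by rw [← Subgroup.orderOf_coe]; exact hg.2⟩
    rw [QuotientGroup.eq]
    exact Subgroup.mem_subgroupOf.mpr (QuotientGroup.eq.mp hg.1)

/-- The coset sums of an extension on a covered subgroup are given by a linear character. -/
theorem exists_local_lin [Fact p.Prime] (hM : IsPModular p M) (hθ : θ ∈ principalBlock M ↥N)
    (E : IrrCharacter G) (hE : ∀ n : N, (E : G → ℂ) n = (θ : N → ℂ) n)
    (R : Subgroup G) [Fintype R] (hNR : N ≤ R) (hR : R ≤ covered N Q)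
    (hi : ¬ p ∣ (N.subgroupOf R).index) :
    ∃ L : R →* ℂˣ, (∀ r : R, (r : G) ∈ N → L r = 1) ∧ ∀ r : R, ∃ z : Loc M,
      (z : ℂ) * (L r : ℂ) = cosetS N p (E : G → ℂ) ((r : G) : G ⧸ N) ∧
      red M z = red M (regS M p θ (CT.trivIrr N)) := by
  classical
  obtain ⟨ψ, hψ, hconst⟩ := exists_local_ext N Q θ hM hθ R hNR hR hi
  have hNirr : IsIrrCharacter N fun n : N => (E : G → ℂ) n := by rw [funext hE]; exact θ.2
  let ER : IrrCharacter ↥R := ⟨_, isIrr_restrict_of_le hNR E.2 hNirr⟩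
  let θ' : IrrCharacter ↥(N.subgroupOf R) :=
    ⟨fun x => (θ : N → ℂ) (Subgroup.subgroupOfEquivOfLe hNR x),
      CT.isIrrCharacter_comp (Subgroup.subgroupOfEquivOfLe hNR).toMonoidHom
        (Subgroup.subgroupOfEquivOfLe hNR).surjective θ.2⟩
  have h1 : ∀ x : ↥(N.subgroupOf R), (ψ : R → ℂ) x = (θ' : ↥(N.subgroupOf R) → ℂ) x := fun x =>
    hψ (Subgroup.subgroupOfEquivOfLe hNR x)
  have h2 : (fun x : ↥(N.subgroupOf R) => (ER : R → ℂ) x) = (θ' : ↥(N.subgroupOf R) → ℂ) :=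
    funext fun x => hE (Subgroup.subgroupOfEquivOfLe hNR x)
  obtain ⟨η, hηN, hη⟩ := CoprimeExt.exists_eq_mul_of_over (N.subgroupOf R) ψ θ' h1 ER (by
    rw [h2, CT.irr_inner_self θ'.2]; exact one_ne_zero)
  have hη1 : (η : R → ℂ) 1 = 1 := by
    have h := congrFun hη 1
    rw [Pi.mul_apply] at h
    have e1 : (ER : R → ℂ) 1 = (θ : N → ℂ) 1 := hE 1
    have e2 : (ψ : R → ℂ) 1 = (θ : N → ℂ) 1 := hψ 1
    rw [e1, e2] at h
    exact (mul_eq_right₀ (CT.irr_one_ne_zero θ.2)).mp h.symm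
  obtain ⟨L, hL⟩ := exists_lin_of_deg_one η.2 hη1
  have hLN : ∀ r : R, (r : G) ∈ N → L r = 1 := fun r hr =>
    Units.ext (by rw [hL, hηN r (Subgroup.mem_subgroupOf.mpr hr), hη1]; rfl)
  refine ⟨L, hLN, fun r => ?_⟩
  obtain ⟨z, hz, hzr⟩ := hconst (r : ↥R ⧸ N.subgroupOf R)
  refine ⟨z, ?_, hzr⟩
  rw [hz, ← cosetS_subgroup N R hNR (E : G → ℂ) r]
  let β : ↥R ⧸ N.subgroupOf R →* ℂˣ :=
    QuotientGroup.lift _ L fun x hx => hLN x (Subgroup.mem_subgroupOf.mp hx)
  have hfun : (fun x : R => (E : G → ℂ) x) = fun x : R => ((β (x : ↥R ⧸ N.subgroupOf R) : ℂˣ) : ℂ) * (ψ : R → ℂ) x :=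
    funext fun x => by
      show (ER : R → ℂ) x = _
      rw [congrFun hη x, Pi.mul_apply, ← hL]
      rfl
  rw [hfun, cosetS_mul (N.subgroupOf R) (ψ : R → ℂ) (fun c => ((β c : ℂˣ) : ℂ))]
  rw [map_one, Units.val_one, div_one, mul_comm]
  rfl

/-- The invariant character extends. -/
theorem exists_ext [Fact p.Prime] (hM : IsPModular p M) (hθ : θ ∈ principalBlock M ↥N)
    (hinv : ∀ (g : G) (n : N), (θ : N → ℂ) (MulAut.conjNormal g n) = (θ : N → ℂ) n)
    (hdeg : ¬ p ∣ CT.deg (θ : N → ℂ)) (hdet : ¬ p ∣ detOrder (θ : N → ℂ))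
    {a : ℕ} (hidx : (covered N Q).index = p ^ a) :
    ∃ E : IrrCharacter G, ∀ n : N, (E : G → ℂ) n = (θ : N → ℂ) n := by
  classical
  have hp := (Fact.out : p.Prime)
  obtain ⟨θ0, d, τ, hτ, rfl⟩ := θ
  haveI := hτ
  haveI : Nontrivial (Fin d → ℂ) := ((CT.isIrreducible_iff τ).mp inferInstance).1
  obtain ⟨P, hP⟩ := CT.exists_projExt τ (fun g => funext fun n => by
    rw [CT.conjFun_eq_comp]; exact hinv g n)
  choose α hα using hP.cocycle
  obtain ⟨F, hF⟩ := CT.exists_hom_of_primes hP hα (fun q hq => by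
    haveI := Fact.mk hq
    obtain ⟨S⟩ : Nonempty (Sylow q (G ⧸ N)) := inferInstance
    set R : Subgroup G := (S : Subgroup (G ⧸ N)).comap (QuotientGroup.mk' N) with hR
    have hNR : N ≤ R := QuotientGroup.le_comap_mk' N _
    have hRi : R.index = (S : Subgroup (G ⧸ N)).index :=
      Subgroup.index_comap_of_surjective _ (QuotientGroup.mk'_surjective N)
    refine ⟨(R.index : ℤ), fun h => S.not_dvd_index (hRi ▸ Int.natCast_dvd_natCast.mp h), ?_⟩
    obtain ⟨i, hi⟩ := IsPGroup.iff_card.mp S.isPGroup'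
    have hidxR : (N.subgroupOf R).index = q ^ i := by
      rw [← Subgroup.relIndex, ← hi]
      have h1 : N.relIndex R * R.index = N.index := Subgroup.relIndex_mul_index hNR
      have h2 : (S : Subgroup (G ⧸ N)).index * Nat.card (S : Subgroup (G ⧸ N)) = N.index := by
        rw [Subgroup.index_mul_card]; exact N.index_eq_card.symm
      rw [hRi, ← h2, mul_comm] at h1
      exact Nat.eq_of_mul_eq_mul_left (Nat.pos_of_ne_zero Subgroup.index_ne_zero_of_finite) h1
    obtain ⟨η, hη, hηres⟩ : ∃ η : R → ℂ, IsCharacter R η ∧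
        ∀ n : N, η ⟨n, hNR n.2⟩ = τ.character n := by
      by_cases hqp : q = p
      · subst hqp
        let e := Subgroup.subgroupOfEquivOfLe hNR
        let θ' : IrrCharacter ↥(N.subgroupOf R) := ⟨fun x => τ.character (e x),
          CT.isIrrCharacter_comp e.toMonoidHom e.surjective ⟨d, τ, hτ, rfl⟩⟩
        have hdet' : detOrder (θ' : ↥(N.subgroupOf R) → ℂ) ∣ detOrder τ.character := by
          rw [show (θ' : ↥(N.subgroupOf R) → ℂ) = (CoprimeExt.pullRep τ e.toMonoidHom).character from rfl,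
            CoprimeExt.detOrder_eq, CoprimeExt.detOrder_eq]
          refine orderOf_dvd_of_pow_eq_one (MonoidHom.ext fun x => ?_)
          exact congrFun (congrArg DFunLike.coe (pow_orderOf_eq_one (CoprimeExt.detHom τ))) (e x)
        have hdeg' : CT.deg (θ' : ↥(N.subgroupOf R) → ℂ) = CT.deg τ.character := by
          rw [show (θ' : ↥(N.subgroupOf R) → ℂ) = (CoprimeExt.pullRep τ e.toMonoidHom).character from rfl,
            CT.deg_eq_finrank, CT.deg_eq_finrank]
        obtain ⟨χ, ⟨hχ, -⟩, -⟩ := CoprimeExt.exists_coprime_ext (N.subgroupOf R) θ'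
          (fun g x => by
            show τ.character (e _) = τ.character (e x)
            rw [show e ⟨g * x * g⁻¹, _⟩ = MulAut.conjNormal (g : G) (e x) from Subtype.ext (by
              simp [e, MulAut.conjNormal_apply])]
            exact hinv g (e x))
          (by rw [hidxR, hdeg']; exact Nat.Coprime.pow_left _ (hp.coprime_iff_not_dvd.mpr hdeg))
          (by rw [hidxR]; exact Nat.Coprime.pow_left _ (hp.coprime_iff_not_dvd.mpr fun h => hdet (h.trans hdet')))
        exact ⟨_, CT.isCharacter_of_isIrr χ.2, fun n => hχ ⟨⟨n, hNR n.2⟩, n.2⟩⟩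
      · have hRK : R ≤ covered N Q := fun g hg => by
          refine mem_covered_of_regular N Q hidx fun hdvd => hqp ?_
          have h1 : orderOf (g : G ⧸ N) ∣ q ^ i := hi ▸ Subgroup.orderOf_dvd_natCard _ hg
          exact ((Nat.prime_dvd_prime_iff_eq hp hq).mp (hp.dvd_of_dvd_pow (hdvd.trans h1))).symm
        obtain ⟨ψ, hψ, -⟩ := exists_local_ext N Q _ hM hθ R hNR hRK (by
          rw [hidxR]
          exact fun h => hqp ((Nat.prime_dvd_prime_iff_eq hp hq).mp (hp.dvd_of_dvd_pow h)).symm)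
        exact ⟨_, CT.isCharacter_of_isIrr ψ.2, hψ⟩
    obtain ⟨F, hF⟩ := CT.exists_hom_of_extension R hNR hη hηres
    exact CT.index_mem_cocyclePowers hP hα R hNR F hF)
  obtain ⟨χ, hχ, hχres⟩ := CT.exists_irr_of_hom F hF
  exact ⟨⟨χ, hχ⟩, hχres⟩

/-- The scalar of the coset sums on a regular class of the quotient. -/
def IsRatio (M : Ideal AlgInt) [M.IsPrime] (p n : ℕ) (E : G → ℂ) (c : G ⧸ N) (w : ℂ) : Prop :=
  w ^ n = 1 ∧ ∃ z : Loc M, (z : ℂ) * w = cosetS N p E c ∧
    red M z = red M (regS M p θ (CT.trivIrr N))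

theorem IsRatio.unique [Fact p.Prime] (hM : IsPModular p M) (hθ : θ ∈ principalBlock M ↥N) {n : ℕ}
    (hn : ¬ p ∣ n) {E : G → ℂ} {c : G ⧸ N} {w w' : ℂ} (h : IsRatio N θ M p n E c w)
    (h' : IsRatio N θ M p n E c w') : w = w' := by
  classical
  haveI := charP_res hM
  obtain ⟨hw, z, hz, hzr⟩ := h
  obtain ⟨hw', z', hz', hzr'⟩ := h'
  have hn0 : 0 < n := Nat.pos_of_ne_zero fun e => hn (e ▸ dvd_zero p)
  have hint : ∀ {x : ℂ}, x ^ n = 1 → x ∈ Loc M := fun hx =>
    integral_mem_loc (IsIntegral.of_pow hn0 (by rw [hx]; exact isIntegral_one))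
  set a : Loc M := ⟨w, hint hw⟩ with ha
  set b : Loc M := ⟨w', hint hw'⟩ with hb
  have hb1 : b * b ^ (n - 1) = 1 := by
    rw [← pow_succ', Nat.sub_add_cancel hn0]
    exact Subtype.ext (by simpa [hb] using hw')
  have ha0 : red M (regS M p θ (CT.trivIrr N)) ≠ 0 := (principal_iff hM θ).mp hθ
  have he : red M a = red M b := by
    have h1 : z * a = z' * b := Subtype.ext (by simp [ha, hb, hz, hz'])
    have h2 := congrArg (red M) h1
    rw [map_mul, map_mul, hzr, hzr'] at h2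
    exact mul_left_cancel₀ ha0 h2
  have h3 : a * b ^ (n - 1) = 1 := by
    refine eq_one_of_pow_eq_one hM hn ?_ ?_
    · rw [mul_pow, ← pow_mul, mul_comm (n - 1) n, pow_mul]
      have ea : a ^ n = 1 := Subtype.ext (by simpa [ha] using hw)
      have eb : b ^ n = 1 := Subtype.ext (by simpa [hb] using hw')
      rw [ea, eb, one_pow, one_mul]
    · rw [map_mul, he, ← map_mul, hb1, map_one]
  have h4 : a = b := by
    calc a = a * (b * b ^ (n - 1)) := by rw [hb1, mul_one]
      _ = b * (a * b ^ (n - 1)) := by ring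
      _ = b := by rw [h3, mul_one]
  exact congrArg Subtype.val h4

/-- On a regular subgroup of the quotient the ratios form a homomorphism. -/
theorem exists_ratio_hom [Fact p.Prime] (hM : IsPModular p M) (hθ : θ ∈ principalBlock M ↥N)
    {a : ℕ} (hidx : (covered N Q).index = p ^ a) (E : IrrCharacter G)
    (hE : ∀ n : N, (E : G → ℂ) n = (θ : N → ℂ) n) {n : ℕ} (H : Subgroup (G ⧸ N))
    (hH : ¬ p ∣ Nat.card H) (hHn : ∀ h : H, h ^ n = 1) :
    ∃ L : H →* ℂˣ, ∀ h : H, IsRatio N θ M p n (E : G → ℂ) (h : G ⧸ N) (L h : ℂ) := by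
  classical
  set R : Subgroup G := H.comap (QuotientGroup.mk' N) with hR
  have hNR : N ≤ R := QuotientGroup.le_comap_mk' N _
  have hRK : R ≤ covered N Q := fun g hg =>
    mem_covered_of_regular N Q hidx fun hdvd => hH (hdvd.trans (Subgroup.orderOf_dvd_natCard _ hg))
  let π : R →* H := (QuotientGroup.mk' N).subgroupComap H
  have hπ : Function.Surjective π := fun h => by
    obtain ⟨g, hg⟩ := QuotientGroup.mk'_surjective N (h : G ⧸ N)
    exact ⟨⟨g, Subgroup.mem_comap.mpr (by rw [hg]; exact h.2)⟩, Subtype.ext hg⟩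
  have hker : π.ker = N.subgroupOf R := by
    ext r
    rw [MonoidHom.mem_ker, Subgroup.mem_subgroupOf, ← QuotientGroup.eq_one_iff]
    exact Subtype.ext_iff
  have hi : ¬ p ∣ (N.subgroupOf R).index := by
    rw [← hker, Subgroup.index_ker, MonoidHom.range_eq_top.mpr hπ, Subgroup.card_top]
    exact hH
  obtain ⟨L, hLN, hL⟩ := exists_local_lin N Q θ hM hθ E hE R hNR hRK hi
  let L' : H →* ℂˣ := π.liftOfRightInverse (Function.surjInv hπ) (Function.rightInverse_surjInv hπ)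
    ⟨L, fun r hr => MonoidHom.mem_ker.mpr (hLN r (by
      rw [hker] at hr; exact Subgroup.mem_subgroupOf.mp hr))⟩
  have hL' : ∀ r : R, L' (π r) = L r := fun r => MonoidHom.liftOfRightInverse_comp_apply _ _ _ _ r
  refine ⟨L', fun h => ⟨?_, ?_⟩⟩
  · rw [← Units.val_pow_eq_pow_val, ← map_pow, hHn, map_one, Units.val_one]
  · obtain ⟨r, rfl⟩ := hπ h
    rw [hL']
    exact hL r

/-- The ratios come from a linear character. -/
theorem exists_twist [Fact p.Prime] (hM : IsPModular p M) (hθ : θ ∈ principalBlock M ↥N)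
    {a : ℕ} (hidx : (covered N Q).index = p ^ a) (E : IrrCharacter G)
    (hE : ∀ n : N, (E : G → ℂ) n = (θ : N → ℂ) n) :
    ∃ F : G ⧸ N →* ℂˣ, ∀ c : G ⧸ N, ¬ p ∣ orderOf c → ∃ z : Loc M,
      (z : ℂ) * (F c : ℂ) = cosetS N p (E : G → ℂ) c ∧
        red M z = red M (regS M p θ (CT.trivIrr N)) := by
  classical
  haveI := Fintype.ofFinite (G ⧸ N)
  have hp := (Fact.out : p.Prime)
  set n := Nat.card (G ⧸ N) / p ^ (Nat.card (G ⧸ N)).factorization p with hn
  set v := (Nat.card (G ⧸ N)).factorization p with hv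
  have hnv : n * p ^ v = Nat.card (G ⧸ N) := Nat.div_mul_cancel (Nat.ordProj_dvd _ p)
  have hnp : ¬ p ∣ n := Nat.not_dvd_ordCompl hp Nat.card_pos.ne'
  obtain ⟨k, hk1, hk0⟩ := Nat.chineseRemainder
    (Nat.Coprime.pow_right v ((hp.coprime_iff_not_dvd.mpr hnp).symm)) 1 0
  rw [Nat.modEq_zero_iff_dvd] at hk0
  have hexp : ∀ x : G ⧸ N, x ^ (n * p ^ v) = 1 := fun x => by rw [hnv, pow_card_eq_one']
  have hkn : ∀ x : G ⧸ N, (x ^ k) ^ n = 1 := fun x => by
    obtain ⟨j, hj⟩ := hk0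
    rw [← pow_mul, hj, show p ^ v * j * n = n * p ^ v * j by ring, pow_mul, hexp, one_pow]
  have hregk : ∀ c : G ⧸ N, ¬ p ∣ orderOf c → c ^ k = c := fun c hc => by
    have h1 : orderOf c ∣ n := Nat.Coprime.dvd_of_dvd_mul_right
      (Nat.Coprime.pow_right _ ((hp.coprime_iff_not_dvd.mpr hc).symm)) (orderOf_dvd_of_pow_eq_one (hexp c))
    rw [← pow_mod_orderOf, Nat.ModEq.of_dvd h1 hk1, pow_mod_orderOf, pow_one]
  have hpH : ∀ H : Subgroup (G ⧸ N), (∀ h ∈ H, h ^ n = 1) → ¬ p ∣ Nat.card H := fun H hH hdvd => by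
    obtain ⟨h, hh⟩ := exists_prime_orderOf_dvd_card' p hdvd
    refine hnp (hh ▸ orderOf_dvd_of_pow_eq_one (Subtype.ext ?_))
    rw [SubmonoidClass.coe_pow, hH h h.2, OneMemClass.coe_one]
  have hex : ∀ x : G ⧸ N, ∃ w, IsRatio N θ M p n (E : G → ℂ) (x ^ k) w := fun x => by
    have hH : ∀ h ∈ Subgroup.zpowers (x ^ k), h ^ n = 1 := fun h hh => by
      obtain ⟨i, rfl⟩ := Subgroup.mem_zpowers_iff.mp hh
      rw [← zpow_natCast, ← zpow_mul, mul_comm, zpow_mul, zpow_natCast, hkn, one_zpow]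
    obtain ⟨L, hL⟩ := exists_ratio_hom N Q θ hM hθ hidx E hE (Subgroup.zpowers (x ^ k))
      (hpH _ hH) fun h => Subtype.ext (hH h h.2)
    exact ⟨_, hL ⟨x ^ k, Subgroup.mem_zpowers _⟩⟩
  choose f hf using hex
  have hfval : ∀ (H : Subgroup (G ⧸ N)) (hH : ∀ h ∈ H, h ^ n = 1), ∃ L : H →* ℂˣ,
      ∀ x, ∀ hx : x ^ k ∈ H, f x = (L ⟨x ^ k, hx⟩ : ℂ) := by
    intro H hH
    obtain ⟨L, hL⟩ := exists_ratio_hom N Q θ hM hθ hidx E hE H (hpH _ hH) fun h => Subtype.ext (hH h h.2)
    exact ⟨L, fun x hx => IsRatio.unique N θ hM hθ hnp (hf x) (hL ⟨_, hx⟩)⟩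
  have hnorm : ∀ x, f x * conj (f x) = 1 := fun x => by
    have hn0 : n ≠ 0 := fun e => hnp (e ▸ dvd_zero p)
    rw [Complex.mul_conj', Complex.norm_eq_one_of_pow_eq_one (hf x).1 hn0]
    simp
  have hcf : IsClassFunction (G ⧸ N) f := fun x y => by
    refine IsRatio.unique N θ hM hθ hnp (hf _) ⟨(hf x).1, ?_⟩
    obtain ⟨z, hz, hzr⟩ := (hf x).2
    exact ⟨z, by rw [conj_pow, cosetS_conj N (CT.isClassFunction_of_isIrr E.2)]; exact hz, hzr⟩
  have hgen : IsGeneralizedCharacter (G ⧸ N) f := by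
    refine CT.isGen_of_restrict_elementary hcf fun Y q hq hY => ?_
    have hpk : ∀ x y : Y, (x * y) ^ k = x ^ k * y ^ k :=
      pow_mul_pow hq hY hnp (fun y => Subtype.ext (by simp [hexp])) hk1 hk0
    let powk : Y →* G ⧸ N := Y.subtype.comp (MonoidHom.mk' (fun y : Y => y ^ k) hpk)
    obtain ⟨L, hL⟩ := hfval powk.range fun h hh => by
      obtain ⟨y, rfl⟩ := hh
      show ((y ^ k : Y) : G ⧸ N) ^ n = 1
      rw [SubmonoidClass.coe_pow]
      exact hkn _
    have hfun : (fun e : Y => f e) = fun e : Y => ((L.comp powk.rangeRestrict e : ℂˣ) : ℂ) := funext fun e => by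
      rw [hL (e : G ⧸ N) ⟨e, by simp [powk]⟩]
      congr 2
    rw [hfun]
    exact CT.isGen_of_isIrr (CT.isIrrCharacter_lin _)
  have h1 : f 1 = 1 := by
    obtain ⟨L, hL⟩ := hfval ⊥ fun h hh => by rw [Subgroup.mem_bot.mp hh, one_pow]
    rw [hL 1 (by simp), show (⟨1 ^ k, _⟩ : (⊥ : Subgroup (G ⧸ N))) = 1 from Subtype.ext (one_pow k),
      map_one, Units.val_one]
  have hirr : IsIrrCharacter (G ⧸ N) f := CT.isIrr_of_isGen_norm_one hgen (by
    rw [classInner, Finset.sum_congr rfl fun x _ => hnorm x, Finset.sum_const, Finset.card_univ,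
      nsmul_eq_mul, mul_one, ← Nat.card_eq_fintype_card, inv_mul_cancel₀ (CT.card_ne_zero)])
    (by rw [h1]; norm_num)
  obtain ⟨F, hF⟩ := exists_lin_of_deg_one hirr h1
  refine ⟨F, fun c hc => ?_⟩
  rw [hF]
  obtain ⟨z, hz, hzr⟩ := (hf c).2
  exact ⟨z, by rw [hz, hregk c hc], hzr⟩

/-- An extension whose coset sums are congruent lies in the principal block. -/
theorem mem_principal_of_cosetS [Fact p.Prime] (hM : IsPModular p M) (hθ : θ ∈ principalBlock M ↥N)
    (E : IrrCharacter G) (h : ∀ c : G ⧸ N, ¬ p ∣ orderOf c → ∃ z : Loc M,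
      (z : ℂ) = cosetS N p (E : G → ℂ) c ∧ red M z = red M (regS M p θ (CT.trivIrr N))) :
    E ∈ principalBlock M G := by
  classical
  haveI := Fintype.ofFinite (G ⧸ N)
  rw [principal_iff hM]
  choose z hz hzr using h
  let Z : G ⧸ N → Loc M := fun c => if hc : p ∣ orderOf c then 0 else z c hc
  have e : regS M p E (CT.trivIrr G) = ∑ c, Z c := Subtype.ext (by
    rw [regS_one_eq, ← sum_cosetS N, AddSubmonoidClass.coe_finsetSum]
    refine Finset.sum_congr rfl fun c _ => ?_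
    simp only [Z]
    split_ifs with hc
    · rw [cosetS_of_singular N _ hc]; rfl
    · rw [hz c hc])
  have e2 : regS M p (CT.trivIrr (G ⧸ N)) (CT.trivIrr (G ⧸ N)) =
      ∑ c : G ⧸ N, (if p ∣ orderOf c then 0 else 1 : Loc M) := Subtype.ext (by
    rw [regS_one_eq, AddSubmonoidClass.coe_finsetSum]
    simp only [CT.trivIrr_apply, div_one]
    refine Finset.sum_congr rfl fun c _ => ?_
    split_ifs <;> simp)
  have h3 : red M (regS M p E (CT.trivIrr G)) =
      red M (regS M p (CT.trivIrr (G ⧸ N)) (CT.trivIrr (G ⧸ N))) *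
        red M (regS M p θ (CT.trivIrr N)) := by
    rw [e, e2, map_sum, map_sum, Finset.sum_mul]
    refine Finset.sum_congr rfl fun c _ => ?_
    simp only [Z]
    split_ifs with hc
    · rw [map_zero, zero_mul]
    · rw [hzr c hc, map_one, one_mul]
  rw [h3]
  exact mul_ne_zero (red_regS_triv_ne_zero hM) ((principal_iff hM θ).mp hθ)

end Cfsg.Agent.Blocks.PrincipalExtend
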