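import Cfsg.Agent.Lib.Blocks.MajorBound
import Cfsg.Agent.Lib.Blocks.SubMatVal

/-!
# Counting a block through integral forms on a major subsection
-/

set_option linter.unusedSectionVars false

namespace Cfsg.Agent.Blocks.Forms

open scoped ComplexConjugate

universe u

variable {G : Type u} [Group G] [Fintype G] {p : ℕ} {M : Ideal AlgInt} [M.IsPrime]

open Classical in
/-- Integral vectors supported on `b`, fixed by the regular pairing, with zero sum, which
separate the regular restrictions in `b`. -/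
structure IsForms {H : Type u} [Group H] [Fintype H] (p : ℕ) (b : Set (IrrCharacter H))
    (T : Finset ℕ) (z : ℕ → IrrCharacter H → ℤ) : Prop where
  supp : ∀ t ∈ T, ∀ η, η ∉ b → z t η = 0
  fix : ∀ t ∈ T, ∀ η, ∑ η', bfPair p η η' * (z t η' : ℂ) = (z t η : ℂ)
  sum : ∀ η, ∑ t ∈ T, z t η = 0
  sep : ∀ v : IrrCharacter H → ℂ, (∀ t ∈ T, ∑ η, v η * (z t η : ℂ) = 0) →
    ∀ η' ∈ b, ∑ η, v η * bfPair p η η' = 0

variable {y : G} [Fintype (Subgroup.centralizer ({y} : Set G))]

open Classical in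
/-- A major subsection bounds the number of characters by `p ^ d` times its rank. -/
theorem card_le_rank_mul (hM : IsPModular p M) (hy : ∃ k : ℕ, y ^ p ^ k = 1)
    {B : Set (IrrCharacter G)} {b : Set (IrrCharacter (Subgroup.centralizer ({y} : Set G)))}
    (hind : IsInducedBlock M (Subgroup.centralizer ({y} : Set G)) b B)
    (hd : blockDefect p b = blockDefect p B) :
    Nat.card B ≤ p ^ blockDefect p B * blockRank p b := by
  obtain ⟨hb, hB, -⟩ := id hind
  rw [← hd]
  set d := blockDefect p b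
  haveI : NeZero (Nat.card G) := ⟨Nat.card_pos.ne'⟩
  obtain ⟨K, hfin, hgal, hroot⟩ := exists_root_field (Nat.card G)
  obtain ⟨A, hA, hAle⟩ := exists_conj_matrix hM hy hb hroot
  obtain ⟨ψ, hψ, h0⟩ := exists_height_zero (p := p) hB
  have hp0 : (p : ℂ) ≠ 0 := Nat.cast_ne_zero.mpr hM.1.ne_zero
  have hne : ∀ χ ∈ B, subMat p d b χ χ ≠ 0 := by
    intro χ hχ h
    obtain ⟨a, -, ha, e⟩ := contrib_valuation hM hy hind hd hχ hψ h0
    have hrow := congrArg Complex.re (sum_subMat_mul_row hM hy hb d χ χ)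
    rw [h, mul_zero, Complex.zero_re, Complex.re_sum] at hrow
    have hpos : 0 < ∑ φ : IrrCharacter G, (subMat p d b χ φ * subMat p d b φ χ).re := by
      refine Finset.sum_pos' (fun φ _ => ?_) ⟨ψ, Finset.mem_univ _, ?_⟩
      all_goals rw [← conj_subMat d χ _, Complex.mul_conj, Complex.ofReal_re]
      · exact Complex.normSq_nonneg _
      · refine Complex.normSq_pos.mpr ?_
        rw [e]
        exact mul_ne_zero (pow_ne_zero _ hp0) ha
    exact hpos.ne' hrow
  have hσ : ∀ σ : Gal(K/ℚ),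
      ∑ χ ∈ Finset.univ.filter (fun χ : IrrCharacter G => χ ∈ B), ((σ (A χ χ) : K) : ℂ).re =
        ((p ^ d * blockRank p b : ℕ) : ℝ) := by
    intro σ
    have hq : ∑ χ ∈ Finset.univ.filter (fun χ : IrrCharacter G => χ ∈ B), A χ χ =
        ((p ^ d * blockRank p b : ℕ) : K) := by
      apply Subtype.ext
      rw [AddSubmonoidClass.coe_finsetSum]
      push_cast
      simp only [hA]
      rw [Finset.sum_subset (Finset.subset_univ _) fun χ _ hχ =>
        subMat_eq_zero_left hM hy hind d (fun h => hχ (Finset.mem_filter.mpr ⟨Finset.mem_univ _, h⟩)) χ]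
      exact trace_subMat hM hy hb d
    have h2 := congrArg (fun w : K => ((σ w : K) : ℂ).re) hq
    simp only [map_sum, map_natCast, AddSubmonoidClass.coe_finsetSum, Complex.re_sum] at h2
    rw [h2, show (((p ^ d * blockRank p b : ℕ) : K) : ℂ) = ((p ^ d * blockRank p b : ℕ) : ℂ) from
      map_natCast K.val _, Complex.natCast_re]
  have hlow : ∀ χ ∈ Finset.univ.filter (fun χ : IrrCharacter G => χ ∈ B),
      (Fintype.card Gal(K/ℚ) : ℝ) ≤ ∑ σ : Gal(K/ℚ), ((σ (A χ χ) : K) : ℂ).re := by
    intro χ hχ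
    refine le_trans (card_le_sum_gal_norm (A χ χ) ?_ ?_) (Finset.sum_le_sum fun σ _ => ?_)
    · rw [hA]; exact hne χ (Finset.mem_filter.mp hχ).2
    · rw [hA]; exact isIntegral_subMat hM hy le_rfl χ χ
    · have := hAle σ χ χ
      linarith
  have h := Finset.card_nsmul_le_sum _ _ _ hlow
  rw [Finset.sum_comm, Finset.sum_congr rfl fun σ _ => hσ σ, Finset.sum_const, Finset.card_univ,
    nsmul_eq_mul, nsmul_eq_mul, mul_comm ((Finset.card _ : ℕ) : ℝ)] at h
  rw [Nat.card_eq_fintype_card, Fintype.card_subtype]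
  exact_mod_cast le_of_mul_le_mul_left h (by exact_mod_cast Fintype.card_pos)

open Classical in
/-- Forms on a major subsection bound twice the number of characters by their norms. -/
theorem two_mul_card_le (hM : IsPModular p M) (hy : ∃ k : ℕ, y ^ p ^ k = 1)
    {B : Set (IrrCharacter G)} {b : Set (IrrCharacter (Subgroup.centralizer ({y} : Set G)))}
    (hind : IsInducedBlock M (Subgroup.centralizer ({y} : Set G)) b B)
    (hd : blockDefect p b = blockDefect p B) {T : Finset ℕ}
    {z : ℕ → IrrCharacter (Subgroup.centralizer ({y} : Set G)) → ℤ} (hz : IsForms p b T z) :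
    2 * (Nat.card B : ℤ) ≤ ∑ t ∈ T, ∑ η, z t η ^ 2 := by
  obtain ⟨hb, hB, -⟩ := id hind
  haveI : NeZero (Nat.card G) := ⟨Nat.card_pos.ne'⟩
  obtain ⟨K, hfin, hgal, hroot⟩ := exists_root_field (Nat.card G)
  have hN : Nat.card G ≠ 0 := Nat.card_pos.ne'
  have hom : ∀ η : IrrCharacter (Subgroup.centralizer ({y} : Set G)), omC η ^ Nat.card G = 1 :=
    fun η => (omC_spec η).2 _ (Subtype.ext (by simp [selfC]))
  have hinv : ∀ w : ℂ, w ^ Nat.card G = 1 → w⁻¹ = conj w := fun w hw =>
    Complex.inv_eq_conj (Complex.norm_eq_one_of_pow_eq_one hw hN)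
  let om : IrrCharacter (Subgroup.centralizer ({y} : Set G)) → K := fun η => ⟨omC η, hroot _ (hom η)⟩
  have hom' : ∀ η, om η ^ Nat.card G = 1 := fun η => Subtype.ext (by simpa [om] using hom η)
  let D : IrrCharacter G → ℕ → K := fun χ t => ∑ η, (((mB b χ η : ℤ) * z t η : ℤ) : K) * om η
  let D' : IrrCharacter G → ℕ → K := fun χ t => ∑ η, (((mB b χ η : ℤ) * z t η : ℤ) : K) * (om η)⁻¹
  have hD : ∀ χ, ∀ t ∈ T, (D χ t : ℂ) = ∑ η, (z t η : ℂ) * gB p b χ η := by
    intro χ t ht
    simp only [gB, Finset.mul_sum]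
    rw [Finset.sum_comm]
    simp only [D, AddSubmonoidClass.coe_finsetSum]
    refine Finset.sum_congr rfl fun η' _ => ?_
    rw [Finset.sum_congr rfl fun η _ => show (z t η : ℂ) * (secC b χ η' * bfPair p η' η) =
      secC b χ η' * (bfPair p η' η * (z t η : ℂ)) by ring, ← Finset.mul_sum, hz.fix t ht, secC_eq_mB]
    push_cast
    simp only [om]
    ring
  have hconj : ∀ (σ : Gal(K/ℚ)) χ t, conj ((σ (D χ t) : K) : ℂ) = ((σ (D' χ t) : K) : ℂ) := by
    intro σ χ t
    simp only [D, D', map_sum, map_mul, map_intCast, map_inv₀, AddSubmonoidClass.coe_finsetSum]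
    push_cast
    simp only [map_sum, map_mul, map_intCast, map_natCast]
    refine Finset.sum_congr rfl fun η _ => ?_
    have hr : ((σ (om η) : K) : ℂ) ^ Nat.card G = 1 := by
      rw [← SubmonoidClass.coe_pow, ← map_pow, hom', map_one]; rfl
    rw [hinv _ hr]
  have hint : ∀ χ t, IsIntegral ℤ (D χ t : ℂ) := by
    intro χ t
    simp only [D, AddSubmonoidClass.coe_finsetSum]
    refine IsIntegral.sum _ fun η _ => ?_
    push_cast
    simp only [om]
    exact ((isIntegral_natCast _).mul (isIntegral_intCast _)).mul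
      (IsIntegral.of_pow Nat.card_pos (by rw [hom]; exact isIntegral_one))
  -- the norm of each form
  have hnorm : ∀ (σ : Gal(K/ℚ)), ∀ t ∈ T, ∑ χ : IrrCharacter G,
      Complex.normSq ((σ (D χ t) : K) : ℂ) = ((∑ η, z t η ^ 2 : ℤ) : ℝ) := by
    intro σ t ht
    have hq : ∑ χ : IrrCharacter G, D' χ t * D χ t = ((∑ η, z t η ^ 2 : ℤ) : K) := by
      apply Subtype.ext
      rw [AddSubmonoidClass.coe_finsetSum]
      push_cast
      rw [Finset.sum_congr rfl fun χ _ => show (D' χ t : ℂ) * (D χ t : ℂ) =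
          ∑ η, ∑ η', (z t η : ℂ) * (z t η' : ℂ) * (conj (gB p b χ η) * gB p b χ η') by
        rw [show (D' χ t : ℂ) = conj (D χ t : ℂ) from (hconj 1 χ t).symm, hD χ t ht, map_sum,
          Finset.sum_mul_sum]
        refine Finset.sum_congr rfl fun η _ => Finset.sum_congr rfl fun η' _ => ?_
        rw [map_mul, map_intCast]
        ring, Finset.sum_comm]
      refine Finset.sum_congr rfl fun η _ => ?_
      rw [Finset.sum_comm, Finset.sum_congr rfl fun η' _ => show
          ∑ χ : IrrCharacter G, (z t η : ℂ) * (z t η' : ℂ) * (conj (gB p b χ η) * gB p b χ η') =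
            (z t η : ℂ) * (bfPair p η η' * (z t η' : ℂ)) by
        rw [← Finset.mul_sum, sum_gB hM hy hb]
        split_ifs with h
        · ring
        · simp [hz.supp t ht η h], ← Finset.mul_sum, hz.fix t ht]
      ring
    have h2 := congrArg (fun w : K => ((σ w : K) : ℂ).re) hq
    simp only [map_sum, map_mul, map_intCast, AddSubmonoidClass.coe_finsetSum, Complex.re_sum] at h2
    have e : ∀ χ, ((σ (D' χ t) * σ (D χ t) : K) : ℂ).re = Complex.normSq ((σ (D χ t) : K) : ℂ) := by
      intro χ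
      push_cast
      rw [← hconj σ χ t, mul_comm, Complex.mul_conj, Complex.ofReal_re]
    simp only [e] at h2
    rw [h2, show (((∑ η, z t η ^ 2 : ℤ) : K) : ℂ) = ((∑ η, z t η ^ 2 : ℤ) : ℂ) from
      map_intCast K.val _, Complex.intCast_re]
  -- each character of the block has two nonzero coordinates
  obtain ⟨ψ, hψ, h0⟩ := exists_height_zero (p := p) hB
  set N : ℝ := (Fintype.card Gal(K/ℚ) : ℝ)
  have htwo : ∀ χ ∈ B, 2 * N ≤ ∑ t ∈ T, ∑ σ : Gal(K/ℚ), Complex.normSq ((σ (D χ t) : K) : ℂ) := by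
    intro χ hχ
    obtain ⟨t₀, ht₀, hne⟩ : ∃ t ∈ T, (D χ t : ℂ) ≠ 0 := by
      by_contra hcon
      push Not at hcon
      have hg : ∀ η, gB p b χ η = 0 := by
        intro η
        by_cases h : η ∈ b
        · refine hz.sep _ (fun t ht => ?_) η h
          rw [← hcon t ht]
          simp only [D, AddSubmonoidClass.coe_finsetSum]
          refine Finset.sum_congr rfl fun η' _ => ?_
          rw [secC_eq_mB]
          push_cast
          simp only [om]
          ring
        · rw [gB_eq hM hb, if_neg h]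
      obtain ⟨a, -, ha, e⟩ := contrib_valuation hM hy hind hd hχ hψ h0
      rw [subMat] at e
      simp [hg, ha, hM.1.ne_zero] at e
    obtain ⟨t₁, ht₁, hne₁⟩ : ∃ t ∈ T.erase t₀, (D χ t : ℂ) ≠ 0 := by
      by_contra hcon
      push Not at hcon
      refine hne ?_
      have h : ∑ t ∈ T, (D χ t : ℂ) = 0 := by
        simp only [D, AddSubmonoidClass.coe_finsetSum]
        rw [Finset.sum_comm]
        refine Finset.sum_eq_zero fun η _ => ?_
        push_cast
        rw [← Finset.sum_mul, ← Finset.mul_sum,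
          show ∑ t ∈ T, (z t η : ℂ) = 0 by exact_mod_cast hz.sum η]
        ring
      rwa [← Finset.add_sum_erase _ _ ht₀, Finset.sum_eq_zero hcon, add_zero] at h
    have h1 := card_le_sum_gal (D χ t₀) hne (hint χ t₀)
    have h2 := card_le_sum_gal (D χ t₁) hne₁ (hint χ t₁)
    rw [← Finset.add_sum_erase _ _ ht₀, ← Finset.add_sum_erase _ _ ht₁]
    have : 0 ≤ ∑ t ∈ (T.erase t₀).erase t₁, ∑ σ : Gal(K/ℚ), Complex.normSq ((σ (D χ t) : K) : ℂ) :=
      Finset.sum_nonneg fun _ _ => Finset.sum_nonneg fun _ _ => Complex.normSq_nonneg _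
    linarith
  have hkey : ((Finset.univ.filter fun χ : IrrCharacter G => χ ∈ B).card : ℝ) * (2 * N) ≤
      N * ((∑ t ∈ T, ∑ η, z t η ^ 2 : ℤ) : ℝ) := by
    have h := Finset.card_nsmul_le_sum (Finset.univ.filter fun χ : IrrCharacter G => χ ∈ B)
      (fun χ => ∑ t ∈ T, ∑ σ : Gal(K/ℚ), Complex.normSq ((σ (D χ t) : K) : ℂ)) (2 * N)
      fun χ hχ => htwo χ (Finset.mem_filter.mp hχ).2
    rw [nsmul_eq_mul] at h
    refine h.trans (le_trans (Finset.sum_le_sum_of_subset_of_nonneg (Finset.subset_univ _)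
      fun _ _ _ => Finset.sum_nonneg fun _ _ => Finset.sum_nonneg fun _ _ =>
        Complex.normSq_nonneg _) (le_of_eq ?_))
    rw [Finset.sum_comm, Int.cast_sum, Finset.mul_sum]
    refine Finset.sum_congr rfl fun t ht => ?_
    rw [Finset.sum_comm, Finset.sum_congr rfl fun σ _ => hnorm σ t ht, Finset.sum_const,
      Finset.card_univ, nsmul_eq_mul]
  have hN0 : 0 < N := by simp only [N]; exact_mod_cast Fintype.card_pos
  rw [Nat.card_eq_fintype_card, Fintype.card_subtype]
  have : 2 * ((Finset.univ.filter fun χ : IrrCharacter G => χ ∈ B).card : ℝ) ≤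
      ((∑ t ∈ T, ∑ η, z t η ^ 2 : ℤ) : ℝ) := by
    rw [mul_comm _ (2 * N), mul_comm 2 N, mul_assoc] at hkey
    exact le_of_mul_le_mul_left hkey hN0
  exact_mod_cast this

end Cfsg.Agent.Blocks.Forms
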