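import Cfsg.Agent.Lib.Blocks.RankForms
import Cfsg.Agent.Lib.Blocks.CycPerfectMain
import Cfsg.Agent.Lib.Blocks.CycPerfectSetting

/-!
# Forms of a block with cyclic defect group
-/

set_option linter.unusedSectionVars false

namespace Cfsg.Agent.Blocks.CycPerf

open scoped ComplexConjugate
open Cfsg.Agent.Blocks.Forms

universe u v

variable {G : Type u} [Group G] [Fintype G] {p : ℕ} [hp : Fact p.Prime] {M : Ideal AlgInt}
  [M.IsPrime] {B : Set (IrrCharacter G)} {D : Type v} [Group D] [Finite D] [IsCyclic D]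

open Classical in
/-- The forms from the coordinates: the differences of the projective generalized characters. -/
theorem exists_forms (C : Coords p M B D) (hD : 2 ≤ Nat.card D) :
    ∃ (T : Finset ℕ) (z : ℕ → IrrCharacter G → ℤ), IsForms p B T z ∧
      ∑ t ∈ T, ∑ η, z t η ^ 2 ≤ 2 * (Nat.card D : ℤ) := by
  haveI := finite_lin (D := D)
  letI := Fintype.ofFinite (D →* ℂˣ)
  obtain ⟨f₀, hf₀⟩ : ∃ f : D →* ℂˣ, f ≠ 1 := by
    by_contra h
    push Not at h
    haveI : Subsingleton (D →* ℂˣ) := ⟨fun a c => (h a).trans (h c).symm⟩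
    have := card_lin (D := D)
    rw [Nat.card_unique] at this
    omega
  let e₀ : Fin C.e ≃ {χ : IrrCharacter G // χ ∈ B ∧ ∀ f, f ≠ 1 → C.L f ≠ χ} :=
    (Finite.equivFinOfCardEq C.card_X).symm
  set xi : Fin C.e → IrrCharacter G := fun i => (e₀ i).1 with hxidef
  have hxiB : ∀ i, xi i ∈ B := fun i => (e₀ i).2.1
  have hxiY : ∀ i, ¬ C.IsY (xi i) := fun i => C.not_isY.mpr (e₀ i).2.2
  have hxi_inj : Function.Injective xi := fun i j h => e₀.injective (Subtype.ext h)
  have hbb : ∀ i, (C.bb (xi i) : ℂ) * (C.bb (xi i) : ℂ) = 1 := fun i => by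
    rcases C.bb_X _ (hxiB i) (e₀ i).2.2 with h | h <;> simp [h]
  have hbb' : ∀ i, C.bb (xi i) ^ 2 = 1 := fun i => by
    rcases C.bb_X _ (hxiB i) (e₀ i).2.2 with h | h <;> simp [h]
  set Ys := C.BF.filter C.IsY with hYs
  have hmemYs : ∀ χ, χ ∈ Ys ↔ C.IsY χ := fun χ =>
    ⟨fun h => (Finset.mem_filter.mp h).2, fun h => Finset.mem_filter.mpr
      ⟨C.mem_BF.mpr (by obtain ⟨f, hf, rfl⟩ := h; exact C.L_mem f hf), h⟩⟩
  set c : Fin C.e → IrrCharacter G → ℤ := fun i χ =>
    (if χ = xi i then C.bb χ else 0) - (if C.IsY χ then C.ε else 0) with hcdef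
  have hc : ∀ (i : Fin C.e) (F : IrrCharacter G → ℂ), ∑ χ, (c i χ : ℂ) * F χ =
      (C.bb (xi i) : ℂ) * F (xi i) - (C.ε : ℂ) * ∑ χ ∈ Ys, F χ := by
    intro i F
    simp only [hcdef, Int.cast_sub, Int.cast_ite, Int.cast_zero, sub_mul, ite_mul, zero_mul,
      Finset.sum_sub_distrib, Finset.sum_ite_eq', Finset.mem_univ, if_true, Finset.mul_sum]
    congr 1
    rw [← Finset.sum_filter]
    exact Finset.sum_congr (by ext χ; simp [hmemYs]) fun _ _ => rfl
  have hc0 : ∀ i χ, χ ∉ B → c i χ = 0 := fun i χ h => by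
    have h1 : χ ≠ xi i := fun e => h (e ▸ hxiB i)
    have h2 : ¬ C.IsY χ := fun e => h (C.mem_BF.mp (Finset.mem_filter.mp ((hmemYs χ).mpr e)).1)
    simp [hcdef, h1, h2]
  have hfib : ∀ χ, ¬ C.IsY χ → C.fib χ = ∅ := fun χ h =>
    Finset.eq_empty_of_forall_notMem fun f hf => h ⟨f, (C.mem_fib.mp hf).1, (C.mem_fib.mp hf).2⟩
  -- the generalized characters vanish at singular elements
  have hvan : ∀ i (x : G), p ∣ orderOf x → ∑ χ, (c i χ : ℂ) * (χ : G → ℂ) x = 0 := by
    intro i x hx
    letI := Fintype.ofFinite D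
    obtain ⟨W, -, -, hW1, hW⟩ := C.sing x hx
    rw [Finset.sum_congr rfl (g := fun χ => ∑ u, (c i χ : ℂ) * (C.d χ u * W u)) fun χ _ => by
      by_cases h : χ ∈ B
      · rw [hW χ h, finsum_eq_sum_of_fintype, Finset.mul_sum]
        simp only [C.dVal_eq]
      · simp [hc0 i χ h], Finset.sum_comm]
    refine Finset.sum_eq_zero fun u _ => ?_
    by_cases hu : u = 1
    · simp [hu, hW1]
    simp only [← mul_assoc, ← Finset.sum_mul]
    rw [hc i fun χ => C.d χ u]
    have h1 : C.d (xi i) u = -(C.bb (xi i) : ℂ) := by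
      simp [Coords.d, hfib _ (hxiY i)]
    have h2 : ∑ χ ∈ Ys, C.d χ u = -(C.ε : ℂ) := by
      have h := C.sum_fiber fun f => (f u : ℂ)
      rw [← Finset.sum_filter_add_sum_filter_not C.BF C.IsY, ← hYs,
        Finset.sum_eq_zero (s := C.BF.filter fun χ => ¬ C.IsY χ) (fun χ hχ => by
          rw [hfib χ (Finset.mem_filter.mp hχ).2, Finset.sum_empty]), add_zero, sum_nt hu] at h
      rw [Finset.sum_congr rfl (g := fun χ => (C.ε : ℂ) * ∑ f ∈ C.fib χ, (f u : ℂ)) fun χ hχ => by
        obtain ⟨f, hf, rfl⟩ := (hmemYs χ).mp hχ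
        simp [Coords.d, C.bb_L f hf], ← Finset.mul_sum, h]
      ring
    rw [h1, h2]
    linear_combination (-W u) * hbb i + W u * C.hεε
  have hfix : ∀ i η, ∑ η', bfPair p η η' * (c i η' : ℂ) = (c i η : ℂ) := by
    intro i η
    have e1 : ∀ F : G → ℂ, classInner F (∑ η', (c i η' : ℂ) • (η' : G → ℂ)) =
        ∑ η', (c i η' : ℂ) * classInner F (η' : G → ℂ) := fun F => by
      rw [CT.classInner_sum_right]
      exact Finset.sum_congr rfl fun η' _ => by rw [CT.classInner_smul_right, map_intCast]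
    have e2 : classInner (regFun p η) (∑ η', (c i η' : ℂ) • (η' : G → ℂ)) =
        classInner (η : G → ℂ) (∑ η', (c i η' : ℂ) • (η' : G → ℂ)) := by
      rw [classInner, classInner]
      congr 1
      refine Finset.sum_congr rfl fun x _ => ?_
      simp only [regFun]
      split_ifs with hx
      · have hv : (∑ η', (c i η' : ℂ) • (η' : G → ℂ)) x = 0 := by
          simp only [Finset.sum_apply, Pi.smul_apply, smul_eq_mul]
          exact hvan i x hx
        rw [hv]; simp
      · rfl
    rw [e1, e1] at e2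
    rw [Finset.sum_congr rfl fun η' _ => mul_comm (bfPair p η η') _]
    refine e2.trans ?_
    rw [Finset.sum_eq_single η (fun η' _ hne => by rw [CT.irr_inner_subtype, if_neg hne.symm, mul_zero])
      (fun h => absurd (Finset.mem_univ η) h), CT.irr_inner_subtype, if_pos rfl, mul_one]
  -- the numbers
  have hfibcard : ∀ χ ∈ Ys, (C.fib χ).card = C.e := by
    intro χ hχ
    obtain ⟨f, hf, rfl⟩ := (hmemYs χ).mp hχ
    have h := C.sum_fib_L hf (1 : D)
    simp only [map_one, one_pow, Units.val_one, Finset.sum_const, nsmul_eq_mul, mul_one,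
      C.card_roots] at h
    exact_mod_cast h
  have hJq : Ys.card * C.e + 1 = Nat.card D := by
    have h := C.sum_fiber fun _ => (1 : ℂ)
    rw [← Finset.sum_filter_add_sum_filter_not C.BF C.IsY, ← hYs,
      Finset.sum_eq_zero (s := C.BF.filter fun χ => ¬ C.IsY χ) (fun χ hχ => by
        rw [hfib χ (Finset.mem_filter.mp hχ).2, Finset.sum_empty]), add_zero,
      Finset.sum_congr rfl (g := fun _ => (C.e : ℂ)) fun χ hχ => by simp [hfibcard χ hχ]] at h
    have h' : ∑ f ∈ nt D, (1 : ℂ) = (Nat.card D : ℂ) - 1 := by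
      rw [← sum_nt_one]
      exact Finset.sum_congr rfl fun f _ => by simp
    rw [h', Finset.sum_const, nsmul_eq_mul] at h
    have h2 : ((Ys.card * C.e + 1 : ℕ) : ℂ) = (Nat.card D : ℂ) := by
      push_cast; linear_combination h
    exact_mod_cast h2
  have hJ : 1 ≤ Ys.card := Finset.card_pos.mpr ⟨_, (hmemYs _).mpr ⟨f₀, hf₀, rfl⟩⟩
  -- the forms
  set F : ℕ → IrrCharacter G → ℤ := fun k η =>
    if h : 1 ≤ k ∧ k ≤ C.e then c ⟨k - 1, by omega⟩ η else 0 with hFdef
  have hF0 : ∀ η, F 0 η = 0 := fun η => dif_neg (by omega)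
  have hFe : ∀ η, F (C.e + 1) η = 0 := fun η => dif_neg (by omega)
  have hFs : ∀ (k : ℕ) (hk : k < C.e) η, F (k + 1) η = c ⟨k, hk⟩ η := fun k hk η => by
    simp only [hFdef]
    rw [dif_pos ⟨by omega, by omega⟩]
    congr 1
  have hFfix : ∀ k η, ∑ η', bfPair p η η' * (F k η' : ℂ) = (F k η : ℂ) := by
    intro k η
    by_cases h : 1 ≤ k ∧ k ≤ C.e
    · simp only [hFdef, dif_pos h]; exact hfix _ η
    · simp [hFdef, dif_neg h]
  refine ⟨Finset.range (C.e + 1), fun t η => F (t + 1) η - F t η,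
    ⟨fun t _ η hη => ?_, fun t _ η => ?_, fun η => ?_, fun v hv η' hη' => ?_⟩, ?_⟩
  · have : ∀ k, F k η = 0 := fun k => by
      by_cases h : 1 ≤ k ∧ k ≤ C.e
      · simp only [hFdef, dif_pos h]; exact hc0 _ η hη
      · simp [hFdef, dif_neg h]
    simp [this]
  · push_cast
    simp only [mul_sub, Finset.sum_sub_distrib, hFfix]
  · rw [Finset.sum_range_sub (fun k => F k η), hFe, hF0, sub_zero]
  · have hk : ∀ k, k ≤ C.e + 1 → ∑ η, v η * (F k η : ℂ) = 0 := by
      intro k
      induction k with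
      | zero => intro _; simp [hF0]
      | succ k ih =>
        intro hk
        have h := hv k (Finset.mem_range.mpr (by omega))
        push_cast at h
        simp only [mul_sub, Finset.sum_sub_distrib] at h
        rw [ih (by omega), sub_zero] at h
        exact h
    have hvc : ∀ i, ∑ η, v η * (c i η : ℂ) = 0 := fun i => by
      rw [← hk (i.1 + 1) (by omega)]
      exact Finset.sum_congr rfl fun η _ => by rw [hFs i.1 i.2]
    obtain ⟨W, hW⟩ : ∃ W : IrrCharacter G → ℂ, ∀ χ, W χ = ∑ η, v η * bfPair p η χ :=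
      ⟨_, fun _ => rfl⟩
    rw [← hW]
    have hWc : ∀ i, (C.bb (xi i) : ℂ) * W (xi i) - (C.ε : ℂ) * ∑ χ ∈ Ys, W χ = 0 := by
      intro i
      rw [← hc i W, ← hvc i]
      simp only [hW, Finset.mul_sum]
      rw [Finset.sum_comm]
      refine Finset.sum_congr rfl fun η _ => ?_
      rw [← hfix i η, Finset.mul_sum]
      exact Finset.sum_congr rfl fun χ _ => by ring
    set S := ∑ χ ∈ C.BF, (C.bb χ : ℂ) * W χ with hS
    have hrel : ∀ f, f ≠ 1 → W (C.L f) = -(C.ε : ℂ) * S := by
      intro f hf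
      have h : ∑ χ ∈ C.BF, ((C.bb χ : ℂ) + (C.ε : ℂ) * if C.L f = χ then 1 else 0) * W χ = 0 := by
        simp only [hW, Finset.mul_sum]
        rw [Finset.sum_comm]
        refine Finset.sum_eq_zero fun η _ => ?_
        rw [Finset.sum_congr rfl fun χ _ => mul_left_comm _ (v η) _, ← Finset.mul_sum]
        refine mul_eq_zero_of_right _ ?_
        set cf : IrrCharacter G → ℤ := fun χ => C.bb χ + C.ε * if C.L f = χ then 1 else 0 with hcf
        have e : classInner (regFun p η) (∑ χ ∈ C.BF, (cf χ : ℂ) • (χ : G → ℂ)) = 0 := by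
          rw [classInner, Finset.sum_eq_zero fun x _ => ?_, mul_zero]
          simp only [regFun]
          split_ifs with hx
          · rw [zero_mul]
          · have h0 : (∑ χ ∈ C.BF, (cf χ : ℂ) • (χ : G → ℂ)) x = 0 := by
              simp only [Finset.sum_apply, Pi.smul_apply, smul_eq_mul, hcf]
              push_cast
              exact C.reg f hf x hx
            rw [h0]; simp
        rw [CT.classInner_sum_right] at e
        refine Eq.trans ?_ e
        refine Finset.sum_congr rfl fun χ _ => ?_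
        rw [CT.classInner_smul_right, map_intCast, hcf]
        push_cast
        rfl
      simp only [add_mul, Finset.sum_add_distrib, mul_assoc, ite_mul, one_mul, zero_mul,
        ← Finset.mul_sum, Finset.sum_ite_eq, if_pos (C.mem_BF.mpr (C.L_mem f hf)), ← hS] at h
      linear_combination (C.ε : ℂ) * h - W (C.L f) * C.hεε
    have hY : ∑ χ ∈ Ys, W χ = (Ys.card : ℂ) * (-(C.ε : ℂ) * S) := by
      rw [Finset.sum_congr rfl (g := fun _ => -(C.ε : ℂ) * S) fun χ hχ => by
        obtain ⟨f, hf, rfl⟩ := (hmemYs χ).mp hχ; exact hrel f hf, Finset.sum_const, nsmul_eq_mul]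
    have hxiS : S = ∑ i, (C.bb (xi i) : ℂ) * W (xi i) := by
      rw [hS, ← Finset.sum_image (f := fun χ => (C.bb χ : ℂ) * W χ) fun a _ b _ h => hxi_inj h]
      refine (Finset.sum_subset (fun χ hχ => ?_) fun χ hχ hχ' => ?_).symm
      · obtain ⟨i, -, rfl⟩ := Finset.mem_image.mp hχ
        exact C.mem_BF.mpr (hxiB i)
      · by_cases h : C.IsY χ
        · obtain ⟨f, hf, rfl⟩ := h
          rw [C.bb_L f hf]; simp
        · refine absurd (Finset.mem_image.mpr ⟨e₀.symm ⟨χ, C.mem_BF.mp hχ, C.not_isY.mp h⟩,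
            Finset.mem_univ _, ?_⟩) hχ'
          simp [hxidef]
    have hxiW : ∀ i, (C.bb (xi i) : ℂ) * W (xi i) = -(Ys.card : ℂ) * S := fun i => by
      linear_combination hWc i + (C.ε : ℂ) * hY - (Ys.card : ℂ) * S * C.hεε
    have hS0 : S = 0 := by
      have h : ((Ys.card * C.e + 1 : ℕ) : ℂ) * S = 0 := by
        have h1 := hxiS
        rw [Finset.sum_congr rfl fun i _ => hxiW i, Finset.sum_const, Finset.card_univ,
          Fintype.card_fin, nsmul_eq_mul] at h1
        push_cast
        linear_combination h1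
      exact (mul_eq_zero.mp h).resolve_left (Nat.cast_ne_zero.mpr (by omega))
    by_cases h : C.IsY η'
    · obtain ⟨f, hf, rfl⟩ := h
      rw [hrel f hf, hS0, mul_zero]
    · obtain ⟨i, hi⟩ : ∃ i, xi i = η' :=
        ⟨e₀.symm ⟨η', hη', C.not_isY.mp h⟩, by simp [hxidef]⟩
      rw [← hi]
      linear_combination (C.bb (xi i) : ℂ) * hxiW i - W (xi i) * hbb i -
        (C.bb (xi i) : ℂ) * (Ys.card : ℂ) * hS0
  · -- the norms
    have hεsq : C.ε ^ 2 = 1 := by rcases C.hε with h | h <;> simp [h]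
    have hend : ∀ i, ∑ η, c i η ^ 2 = 1 + (Ys.card : ℤ) := by
      intro i
      have e : ∀ η, c i η ^ 2 = (if η = xi i then 1 else 0) + (if η ∈ Ys then 1 else 0) := by
        intro η
        by_cases h1 : η = xi i
        · subst h1
          simp [hcdef, hxiY i, hmemYs, hbb' i]
        · by_cases h2 : C.IsY η <;> simp [hcdef, h1, h2, hmemYs, hεsq]
      rw [Finset.sum_congr rfl fun η _ => e η, Finset.sum_add_distrib]
      simp
    have hmid : ∀ i j, i ≠ j → ∑ η, (c j η - c i η) ^ 2 = 2 := by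
      intro i j hij
      have e : ∀ η, (c j η - c i η) ^ 2 =
          (if η = xi j then 1 else 0) + (if η = xi i then 1 else 0) := by
        intro η
        have hne : xi i ≠ xi j := fun h => hij (hxi_inj h)
        by_cases h1 : η = xi j
        · subst h1
          simp [hcdef, hne.symm, hxiY j, hbb' j]
        · by_cases h2 : η = xi i
          · subst h2
            simp [hcdef, hne, hxiY i, hbb' i]
          · simp [hcdef, h1, h2]
      rw [Finset.sum_congr rfl fun η _ => e η, Finset.sum_add_distrib]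
      simp
    obtain ⟨m, hm⟩ := Nat.exists_eq_succ_of_ne_zero C.e_pos.ne'
    rw [Finset.sum_range_succ, show Finset.range C.e = Finset.range (m + 1) by rw [hm],
      Finset.sum_range_succ',
      Finset.sum_congr rfl (g := fun _ => (2 : ℤ)) fun k hk => by
        have hk' := Finset.mem_range.mp hk
        simp only [hFs (k + 1) (by omega), hFs k (by omega)]
        exact hmid _ _ (by simp [Fin.ext_iff])]
    simp only [hF0, hFe, zero_sub, sub_zero, neg_sq, hFs 0 C.e_pos, Finset.sum_const,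
      Finset.card_range, hend]
    rw [show C.e = (C.e - 1) + 1 by omega]
    simp only [hFs (C.e - 1) (by omega), hend, nsmul_eq_mul]
    rw [← hJq, hm]
    push_cast
    nlinarith [mul_le_mul_of_nonneg_right (show (1 : ℤ) ≤ Ys.card by exact_mod_cast hJ)
      (show (0 : ℤ) ≤ m by positivity)]

end Cfsg.Agent.Blocks.CycPerf
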