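import Cfsg.Agent.Lib.Blocks.RankFormsQuot
import Cfsg.Agent.Lib.Blocks.RankFormsCyclic
import Cfsg.Agent.Lib.Blocks.DefectTwo.Count

/-!
# Blocks with abelian defect groups generated by two or three elements
-/

set_option linter.unusedSectionVars false

namespace Cfsg.Agent.Blocks.Forms

open Cfsg.Agent.BPairs Cfsg.Agent.DefectTwo

universe u

theorem card_closure_pair_le {H : Type u} [Group H] [Finite H] {x y : H} (h : Commute x y) :
    Nat.card (Subgroup.closure ({x, y} : Set H)) ≤ orderOf x * orderOf y := by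
  let φ : (Subgroup.zpowers x × Subgroup.zpowers y) →* H :=
    MonoidHom.noncommCoprod (Subgroup.zpowers x).subtype (Subgroup.zpowers y).subtype fun a b => by
      obtain ⟨i, hi⟩ := Subgroup.mem_zpowers_iff.mp a.2
      obtain ⟨j, hj⟩ := Subgroup.mem_zpowers_iff.mp b.2
      show Commute (a : H) (b : H)
      rw [← hi, ← hj]
      exact h.zpow_zpow i j
  have hle : Subgroup.closure ({x, y} : Set H) ≤ φ.range := by
    rw [Subgroup.closure_le]
    rintro w (rfl | rfl)
    · exact ⟨(⟨w, Subgroup.mem_zpowers w⟩, 1), by simp [φ]⟩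
    · exact ⟨(1, ⟨w, Subgroup.mem_zpowers w⟩), by simp [φ]⟩
  refine (Subgroup.card_le_of_le hle).trans ?_
  refine (Nat.card_le_card_of_surjective φ.rangeRestrict φ.rangeRestrict_surjective).trans ?_
  rw [Nat.card_prod, Nat.card_zpowers, Nat.card_zpowers]

variable {p : ℕ} [hp : Fact p.Prime] {M : Ideal AlgInt} [M.IsPrime]

theorem card_le_rank_mul' (hM : IsPModular p M) {G : Type u} [Group G] [Fintype G] {y : G}
    (C : Subgroup G) (hC : Subgroup.centralizer ({y} : Set G) = C) (hy : ∃ k : ℕ, y ^ p ^ k = 1)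
    {B : Set (IrrCharacter G)} {b : Set (IrrCharacter C)} (hind : IsInducedBlock M C b B)
    (hd : blockDefect p b = blockDefect p B) :
    Nat.card B ≤ p ^ blockDefect p B * blockRank p b := by
  subst hC
  letI := Fintype.ofFinite (Subgroup.centralizer ({y} : Set G))
  exact card_le_rank_mul hM hy hind hd

theorem two_mul_card_le' (hM : IsPModular p M) {G : Type u} [Group G] [Fintype G] {y : G}
    (C : Subgroup G) [Fintype C] (hC : Subgroup.centralizer ({y} : Set G) = C)
    (hy : ∃ k : ℕ, y ^ p ^ k = 1) {B : Set (IrrCharacter G)} {b : Set (IrrCharacter C)}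
    (hind : IsInducedBlock M C b B) (hd : blockDefect p b = blockDefect p B) {T : Finset ℕ}
    {z : ℕ → IrrCharacter C → ℤ} (hz : IsForms p b T z) :
    2 * (Nat.card B : ℤ) ≤ ∑ t ∈ T, ∑ η, z t η ^ 2 := by
  subst hC
  exact two_mul_card_le hM hy hind hd hz

open Classical in
/-- An element of an abelian defect group gives a major subsection with the dominated block. -/
theorem exists_major_quot (hM : IsPModular p M) {G : Type u} [Group G] [Fintype G]
    {B : Set (IrrCharacter G)} (hB : IsPBlock M B) {P : Subgroup G}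
    {e : Set (IrrCharacter (Subgroup.centralizer (P : Set G)))}
    (hmax : IsMaximalBrauerPair p M B P e) {a : G} (ha : a ∈ P)
    (hac : ∀ w ∈ P, w * a = a * w) :
    ∃ (f : Set (IrrCharacter (cz a))) (_ : P ≤ cz a)
      (_ : (Subgroup.zpowers (⟨a, mem_cz_self a⟩ : cz a)).Normal)
      (b' : Set (IrrCharacter (cz a ⧸ Subgroup.zpowers (⟨a, mem_cz_self a⟩ : cz a)))),
      IsInducedBlock M (cz a) f B ∧ blockDefect p f = blockDefect p B ∧
      (∃ k : ℕ, a ^ p ^ k = 1) ∧
      (IsPGroup p (Subgroup.zpowers (⟨a, mem_cz_self a⟩ : cz a)) ∧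
        ∃ k : ℕ, (Subgroup.centralizer ((Subgroup.zpowers (⟨a, mem_cz_self a⟩ : cz a) :
          Subgroup (cz a)) : Set (cz a))).index = p ^ k) ∧
      IsPBlock M b' ∧ (∀ ψ ∈ b', inflIrr ψ ∈ f) ∧
      blockRank p f = blockRank p b' ∧
      IsDefectGroup p M b' ((P.subgroupOf (cz a)).map (QuotientGroup.mk' _)) ∧
      Nat.card ((P.subgroupOf (cz a)).map
        (QuotientGroup.mk' (Subgroup.zpowers (⟨a, mem_cz_self a⟩ : cz a)))) * orderOf a =
        p ^ blockDefect p B := by
  have hPG := isDefectGroup_of_maximal hM hmax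
  obtain ⟨f, hf, -, hpair, hPa, hfdg⟩ := S4715.exists_major hM hmax ha hac
  haveI := Fintype.ofFinite (cz a)
  set aC : cz a := ⟨a, mem_cz_self a⟩
  have hNc : Subgroup.zpowers aC ≤ Subgroup.center (cz a) := Subgroup.zpowers_le.mpr
    (Subgroup.mem_center_iff.mpr fun w => Subtype.ext (mem_cz.mp w.2).eq)
  haveI hnorm : (Subgroup.zpowers aC).Normal := CT.normal_of_central _ hNc
  haveI := Fintype.ofFinite (cz a ⧸ Subgroup.zpowers aC)
  have hND : Subgroup.zpowers aC ≤ P.subgroupOf (cz a) := Subgroup.zpowers_le.mpr ha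
  have hN : IsPGroup p (Subgroup.zpowers aC) :=
    (isPGroup_defectGroup hM hf hfdg).to_le hND
  have hNC : ∃ k : ℕ, (Subgroup.centralizer
      ((Subgroup.zpowers aC : Subgroup (cz a)) : Set (cz a))).index = p ^ k := by
    refine ⟨0, ?_⟩
    rw [pow_zero, Subgroup.index_eq_one, Subgroup.centralizer_eq_top_iff_subset]
    exact hNc
  have hfd : blockDefect p f = blockDefect p B := Nat.pow_right_injective hp.out.two_le (by
    dsimp only
    rw [← card_defectGroup hM hf hfdg, ← card_defectGroup hM hB hPG]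
    exact Nat.card_congr (Subgroup.subgroupOfEquivOfLe hPa).toEquiv)
  obtain ⟨k, hk⟩ := hN ⟨aC, Subgroup.mem_zpowers aC⟩
  have hy : ∃ k : ℕ, a ^ p ^ k = 1 :=
    ⟨k, by simpa [aC] using congrArg (fun w : Subgroup.zpowers aC => ((w : cz a) : G)) hk⟩
  obtain ⟨χ₀, hχ₀⟩ := exists_trivial_on_pGroup (N := Subgroup.zpowers aC) hM hN hf
  have hb' : IsPBlock M (blockOf M (χ₀ : cz a ⧸ Subgroup.zpowers aC → ℂ)) := isPBlock_blockOf χ₀
  have hsub : ∀ ψ ∈ blockOf M (χ₀ : cz a ⧸ Subgroup.zpowers aC → ℂ), inflIrr ψ ∈ f := fun ψ hψ =>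
    (mem_block_iff hf hχ₀).mpr (sameBlock_inflIrr hψ)
  refine ⟨f, hPa, hnorm, _, isInducedBlock_of_brauerPair hM hpair, hfd, hy, ⟨hN, hNC⟩, hb', hsub,
    blockRank_inflation hM hN hNC hf hb' hsub, isDefectGroup_quot hM hNc hf hfdg hND hb' hsub, ?_⟩
  have h := card_comap_mk ((P.subgroupOf (cz a)).map (QuotientGroup.mk' (Subgroup.zpowers aC)))
  rw [Subgroup.comap_map_eq, QuotientGroup.ker_mk', sup_eq_left.mpr hND, Nat.card_zpowers,
    Subgroup.orderOf_mk, Nat.card_congr (Subgroup.subgroupOfEquivOfLe hPa).toEquiv,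
    card_defectGroup hM hB hPG] at h
  exact h.symm

theorem subgroupOf_closure {G : Type u} [Group G] {C : Subgroup G} {P : Subgroup G} (hP : P ≤ C)
    (s : Set C) (hs : P = Subgroup.closure (C.subtype '' s)) :
    P.subgroupOf C = Subgroup.closure s := by
  apply Subgroup.map_injective C.subtype_injective
  rw [Subgroup.map_subgroupOf_eq_of_le hP, MonoidHom.map_closure]
  exact hs

open Classical in
/-- An abelian defect group generated by two elements bounds the block by its order. -/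
theorem card_le_of_two_gen (hM : IsPModular p M) {G : Type u} [Group G] [Fintype G]
    {B : Set (IrrCharacter G)} (hB : IsPBlock M B) {D : Subgroup G}
    (hD : IsDefectGroup p M B D) (hab : ∀ v ∈ D, ∀ w ∈ D, v * w = w * v) {a₀ c₀ : G}
    (hgen : D = Subgroup.closure {a₀, c₀}) :
    Nat.card B ≤ p ^ blockDefect p B := by
  obtain ⟨P, e, hmax⟩ := exists_maximal_of_block hM hB
  obtain ⟨x, hx⟩ := defect_conj hM hB hD (isDefectGroup_of_maximal hM hmax)
  obtain ⟨a, hadef⟩ : ∃ a, a = x * a₀ * x⁻¹ := ⟨_, rfl⟩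
  obtain ⟨c, hcdef⟩ : ∃ c, c = x * c₀ * x⁻¹ := ⟨_, rfl⟩
  have hPgen : P = Subgroup.closure {a, c} := by
    rw [← hx, hgen, MonoidHom.map_closure, Set.image_pair, hadef, hcdef]
    rfl
  have hPab : ∀ v ∈ P, ∀ w ∈ P, v * w = w * v := by
    rw [← hx]
    rintro _ ⟨v, hv, rfl⟩ _ ⟨w, hw, rfl⟩
    rw [← map_mul, ← map_mul, hab v hv w hw]
  have haP : a ∈ P := hPgen ▸ Subgroup.subset_closure (Set.mem_insert a _)
  have hcP : c ∈ P := hPgen ▸ Subgroup.subset_closure (Set.mem_insert_of_mem a rfl)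
  obtain ⟨f, hPa, hnorm, b', hind, hfd, hy, ⟨hN, hNC⟩, hb', hsub, hrank, hD', hcard⟩ :=
    exists_major_quot hM hB hmax haP fun w hw => hPab w hw a haP
  haveI := hnorm
  haveI := Fintype.ofFinite (cz a)
  set N := Subgroup.zpowers (⟨a, mem_cz_self a⟩ : cz a) with hNdef
  haveI := Fintype.ofFinite (cz a ⧸ N)
  have hC : Subgroup.centralizer ({a} : Set G) = cz a := (centralizer_zpowers_eq a).symm
  set D' := (P.subgroupOf (cz a)).map (QuotientGroup.mk' N) with hD'def
  have hcyc : IsCyclic D' := by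
    have hle : D' ≤ Subgroup.zpowers (QuotientGroup.mk' N (⟨c, hPa hcP⟩ : cz a)) := by
      rw [hD'def, subgroupOf_closure hPa {⟨a, mem_cz_self a⟩, ⟨c, hPa hcP⟩}
        (by rw [Set.image_pair]; exact hPgen), MonoidHom.map_closure, Set.image_pair,
        Subgroup.closure_le]
      rintro w (rfl | rfl)
      · rw [show QuotientGroup.mk' N (⟨a, mem_cz_self a⟩ : cz a) = 1 from
          (QuotientGroup.eq_one_iff _).mpr (Subgroup.mem_zpowers _)]
        exact one_mem _
      · exact Subgroup.mem_zpowers _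
    exact isCyclic_of_injective (Subgroup.inclusion hle) (Subgroup.inclusion_injective hle)
  rcases eq_or_ne D' ⊥ with hbot | hne
  · have hr : blockRank p b' = 1 := by
      obtain ⟨η, hη⟩ := block_nonempty hb'
      exact blockRank_eq_one_of_agree hη hp.out.ne_one fun χ hχ g hg =>
        (central_block hM hb' hD' (by rw [hbot]; exact bot_le)).2.1 χ hχ η hη g hg
    have h := card_le_rank_mul' hM (cz a) hC hy hind hfd
    rwa [hrank, hr, mul_one] at h
  · obtain ⟨c', hc'⟩ := Cyclic.exists_centralizer_block hM hb' hD' hcyc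
    let S : Cyclic.Setting p M (cz a ⧸ N) := ⟨hM, b', hb', D', hD', hcyc, hne, c', hc'⟩
    haveI := S.isCyclic_Dc
    obtain ⟨C, -⟩ := S.exists_coords
    have hDc : Nat.card S.Dc = Nat.card D' := S.card_D'
    obtain ⟨T, z', hz', hnorms⟩ := CycPerf.exists_forms C (by rw [hDc]; exact S.two_le_card)
    obtain ⟨z, hz, hzn⟩ := exists_isForms_lift hM hN hNC hind.1 hb' hsub hz'
    have h := two_mul_card_le' hM (cz a) hC hy hind hfd hz
    rw [Finset.sum_congr rfl hzn, ← Finset.mul_sum] at h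
    have h2 : 2 * (Nat.card B : ℤ) ≤ 2 * ((p ^ blockDefect p B : ℕ) : ℤ) := by
      refine h.trans ((mul_le_mul_of_nonneg_left hnorms (Int.natCast_nonneg _)).trans (le_of_eq ?_))
      rw [hDc, ← hcard, show Nat.card N = orderOf a by rw [hNdef, Nat.card_zpowers, Subgroup.orderOf_mk]]
      push_cast
      ring
    omega

open Classical in
/-- An abelian defect group generated by three elements, the first of the largest order. -/
theorem cube_le_of_three_gen (hM : IsPModular p M) {G : Type u} [Group G] [Fintype G]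
    {B : Set (IrrCharacter G)} (hB : IsPBlock M B) {D : Subgroup G}
    (hD : IsDefectGroup p M B D) (hab : ∀ v ∈ D, ∀ w ∈ D, v * w = w * v) {a₀ b₀ c₀ : G}
    (hgen : D = Subgroup.closure {a₀, b₀, c₀}) (hb : orderOf b₀ ≤ orderOf a₀)
    (hc : orderOf c₀ ≤ orderOf a₀) :
    Nat.card B ^ 3 ≤ p ^ (5 * blockDefect p B) := by
  obtain ⟨P, e, hmax⟩ := exists_maximal_of_block hM hB
  obtain ⟨x, hx⟩ := defect_conj hM hB hD (isDefectGroup_of_maximal hM hmax)
  obtain ⟨a, hadef⟩ : ∃ a, a = x * a₀ * x⁻¹ := ⟨_, rfl⟩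
  obtain ⟨b, hbdef⟩ : ∃ b, b = x * b₀ * x⁻¹ := ⟨_, rfl⟩
  obtain ⟨c, hcdef⟩ : ∃ c, c = x * c₀ * x⁻¹ := ⟨_, rfl⟩
  have ho : ∀ w : G, orderOf (x * w * x⁻¹) = orderOf w := fun w => by
    rw [← MulAut.conj_apply, MulEquiv.orderOf_eq]
  have hb' : orderOf b ≤ orderOf a := by rw [hbdef, hadef, ho, ho]; exact hb
  have hc' : orderOf c ≤ orderOf a := by rw [hcdef, hadef, ho, ho]; exact hc
  have hPgen : P = Subgroup.closure {a, b, c} := by
    rw [← hx, hgen, MonoidHom.map_closure, Set.image_insert_eq, Set.image_pair, hadef, hbdef, hcdef]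
    rfl
  have hPab : ∀ v ∈ P, ∀ w ∈ P, v * w = w * v := by
    rw [← hx]
    rintro _ ⟨v, hv, rfl⟩ _ ⟨w, hw, rfl⟩
    rw [← map_mul, ← map_mul, hab v hv w hw]
  have haP : a ∈ P := hPgen ▸ Subgroup.subset_closure (Set.mem_insert a _)
  have hbP : b ∈ P := hPgen ▸ Subgroup.subset_closure (by simp)
  have hcP : c ∈ P := hPgen ▸ Subgroup.subset_closure (by simp)
  obtain ⟨f, hPa, hnorm, b', hind, hfd, hy, -, hb'blk, -, hrank, hD', hcard⟩ :=
    exists_major_quot hM hB hmax haP fun w hw => hPab w hw a haP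
  haveI := hnorm
  set N := Subgroup.zpowers (⟨a, mem_cz_self a⟩ : cz a) with hNdef
  haveI := Fintype.ofFinite (cz a ⧸ N)
  have hC : Subgroup.centralizer ({a} : Set G) = cz a := (centralizer_zpowers_eq a).symm
  set π := QuotientGroup.mk' N with hπ
  set D' := (P.subgroupOf (cz a)).map π with hD'def
  have hD'gen : D' = Subgroup.closure {π ⟨b, hPa hbP⟩, π ⟨c, hPa hcP⟩} := by
    rw [hD'def, subgroupOf_closure hPa {⟨a, mem_cz_self a⟩, ⟨b, hPa hbP⟩, ⟨c, hPa hcP⟩}
      (by rw [Set.image_insert_eq, Set.image_pair]; exact hPgen), MonoidHom.map_closure,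
      Set.image_insert_eq, Set.image_pair,
      show π (⟨a, mem_cz_self a⟩ : cz a) = 1 from
        (QuotientGroup.eq_one_iff _).mpr (Subgroup.mem_zpowers _), Subgroup.closure_insert_one]
  have hD'ab : ∀ v ∈ D', ∀ w ∈ D', v * w = w * v := by
    rw [hD'def]
    rintro _ ⟨v, hv, rfl⟩ _ ⟨w, hw, rfl⟩
    rw [← map_mul, ← map_mul]
    exact congrArg π (Subtype.ext (hPab _ hv _ hw))
  have hsize : Nat.card D' ≤ orderOf a * orderOf a := by
    rw [hD'gen]
    refine (card_closure_pair_le (hD'ab _ ?_ _ ?_)).trans (Nat.mul_le_mul ?_ ?_)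
    · rw [hD'gen]; exact Subgroup.subset_closure (Set.mem_insert _ _)
    · rw [hD'gen]; exact Subgroup.subset_closure (Set.mem_insert_of_mem _ rfl)
    · exact (Nat.le_of_dvd (orderOf_pos _) (orderOf_map_dvd π _)).trans
        (le_of_eq_of_le (Subgroup.orderOf_mk b _) hb')
    · exact (Nat.le_of_dvd (orderOf_pos _) (orderOf_map_dvd π _)).trans
        (le_of_eq_of_le (Subgroup.orderOf_mk c _) hc')
  have hk' : Nat.card b' ≤ Nat.card D' := by
    rw [card_defectGroup hM hb'blk hD']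
    exact card_le_of_two_gen hM hb'blk hD' hD'ab hD'gen
  have hk : Nat.card B ≤ p ^ blockDefect p B * Nat.card D' :=
    (card_le_rank_mul' hM (cz a) hC hy hind hfd).trans
      (Nat.mul_le_mul_left _ (hrank ▸ (blockRank_le_natCard b').trans hk'))
  calc Nat.card B ^ 3 ≤ (p ^ blockDefect p B * Nat.card D') ^ 3 := Nat.pow_le_pow_left hk 3
    _ = (p ^ blockDefect p B) ^ 3 * (Nat.card D' ^ 2 * Nat.card D') := by ring
    _ ≤ (p ^ blockDefect p B) ^ 3 * (Nat.card D' ^ 2 * (orderOf a * orderOf a)) :=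
      Nat.mul_le_mul_left _ (Nat.mul_le_mul_left _ hsize)
    _ = (p ^ blockDefect p B) ^ 3 * (Nat.card D' * orderOf a) ^ 2 := by ring
    _ = p ^ (5 * blockDefect p B) := by rw [hcard]; ring

end Cfsg.Agent.Blocks.Forms
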