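import Cfsg.Agent.Lib.Blocks.RankForms
import Cfsg.Agent.Lib.Blocks.DefectTwo.CentralLift

/-!
# The block dominated over a central subgroup of the defect group: defect group and forms
-/

set_option linter.unusedSectionVars false

namespace Cfsg.Agent.Blocks.Forms

open Cfsg.Agent.DefectTwo
open scoped ComplexConjugate

universe u

variable {K : Type u} [Group K] [Fintype K] {p : ℕ} [hp : Fact p.Prime] {M : Ideal AlgInt}
  [M.IsPrime] {N : Subgroup K} [N.Normal]

theorem card_comap_mk (E : Subgroup (K ⧸ N)) :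
    Nat.card (E.comap (QuotientGroup.mk' N)) = Nat.card E * Nat.card N := by
  have h1 := Subgroup.card_mul_index (E.comap (QuotientGroup.mk' N))
  rw [Subgroup.index_comap_of_surjective _ (QuotientGroup.mk'_surjective N),
    Subgroup.card_eq_card_quotient_mul_card_subgroup N, ← Subgroup.card_mul_index E] at h1
  exact Nat.eq_of_mul_eq_mul_right (Nat.pos_of_ne_zero Subgroup.index_ne_zero_of_finite)
    (h1.trans (by ring))

/-- The block of the quotient by a central subgroup of the defect group has the image as defect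
group. -/
theorem isDefectGroup_quot (hM : IsPModular p M) (hNc : N ≤ Subgroup.center K)
    {b : Set (IrrCharacter K)} (hb : IsPBlock M b) {D : Subgroup K} (hD : IsDefectGroup p M b D)
    (hND : N ≤ D) {b' : Set (IrrCharacter (K ⧸ N))} (hb' : IsPBlock M b')
    (hsub : ∀ ψ ∈ b', inflIrr ψ ∈ b) :
    IsDefectGroup p M b' (D.map (QuotientGroup.mk' N)) := by
  obtain ⟨g, hg, hDg, hDp, hDcard⟩ := defectGroup_spec hD
  have hgr := regular_of_defectClass hM hb hg
  have hN : IsPGroup p N := hDp.to_le hND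
  have hC : ∃ k : ℕ, (Subgroup.centralizer (N : Set K)).index = p ^ k := by
    refine ⟨0, ?_⟩
    rw [pow_zero, Subgroup.index_eq_one, Subgroup.centralizer_eq_top_iff_subset]
    exact hNc
  obtain ⟨χ, hχ⟩ := block_nonempty hb'
  obtain ⟨x, hx⟩ := exists_defectClass hb'
  obtain ⟨g', hg'r, hg'x⟩ := exists_regular_lift (N := N) (regular_of_defectClass hM hb' hx)
  obtain ⟨c, hc⟩ := exists_conj_le_centralizer hM hb (hsub χ hχ) (h := g') (u := g)
    (by rw [centralChar_inflIrr_regular hN hC χ hg'r, hg'x]; exact hx.2.2 χ hχ) hg.2.1 hDp hDg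
  set π := QuotientGroup.mk' N
  obtain ⟨E, hE⟩ : ∃ E, IsDefectGroup p M b' E ∧ ∃ S : Sylow p (Subgroup.centralizer ({x} : Set (K ⧸ N))),
      E = (S : Subgroup _).map (Subgroup.centralizer ({x} : Set (K ⧸ N))).subtype :=
    ⟨_, ⟨x, hx, Classical.arbitrary _, rfl⟩, _, rfl⟩
  obtain ⟨hE, S, hES⟩ := hE
  have hEx : E ≤ Subgroup.centralizer ({x} : Set (K ⧸ N)) := hES ▸ Subgroup.map_subtype_le _
  have hEp : IsPGroup p E := hES ▸ S.isPGroup'.map _
  have hEcard : Nat.card E = p ^ (Nat.card (Subgroup.centralizer ({x} : Set (K ⧸ N)))).factorization p :=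
    hES ▸ card_sylow_map S
  have hmap : (D.map (MulAut.conj c).toMonoidHom).map π =
      (D.map π).map (MulAut.conj (π c)).toMonoidHom := by
    rw [Subgroup.map_map, Subgroup.map_map]
    congr 1
  have hle : (D.map π).map (MulAut.conj (π c)).toMonoidHom ≤
      Subgroup.centralizer ({x} : Set (K ⧸ N)) := by
    rw [← hmap]
    rintro _ ⟨w, hw, rfl⟩
    refine Subgroup.mem_centralizer_singleton_iff.mpr ?_
    rw [← hg'x]
    exact congrArg π (Subgroup.mem_centralizer_singleton_iff.mp (hc hw))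
  obtain ⟨a, ha⟩ := conj_le_of_le_centralizer hEx hEcard
    (isPGroup_map_conj (hDp.map π) (π c)) hle
  -- the reverse inequality
  obtain ⟨a', ha'⟩ := exists_conj_le_centralizer hM hb' hχ (h := (g : K ⧸ N)) (u := x)
    (by rw [← centralChar_inflIrr_regular hN hC χ hgr]; exact hg.2.2 _ (hsub χ hχ)) hx.2.1 hEp hEx
  have hcz : (Subgroup.centralizer ({(g : K ⧸ N)} : Set (K ⧸ N))).comap π ≤
      Subgroup.centralizer ({g} : Set K) := fun w hw => by
    have h1 : π w * (g : K ⧸ N) = (g : K ⧸ N) * π w := Subgroup.mem_centralizer_singleton_iff.mp hw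
    have h2 : w * g * w⁻¹ = g := by
      refine regular_lift_unique (p := p) hN hC ?_ hgr ?_
      · rw [← MulAut.conj_apply, MulEquiv.orderOf_eq]; exact hgr
      · rw [QuotientGroup.mk_mul, QuotientGroup.mk_mul, QuotientGroup.mk_inv]
        exact mul_inv_eq_iff_eq_mul.mpr h1
    exact Subgroup.mem_centralizer_singleton_iff.mpr (mul_inv_eq_iff_eq_mul.mp h2)
  obtain ⟨i, hi⟩ := IsPGroup.iff_card.mp (isPGroup_map_conj hEp a')
  obtain ⟨j, hj⟩ := IsPGroup.iff_card.mp hN
  obtain ⟨a'', ha''⟩ := conj_le_of_le_centralizer hDg hDcard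
    (IsPGroup.of_card (G := ((E.map (MulAut.conj a').toMonoidHom).comap π)) (n := i + j)
      (by rw [card_comap_mk, hi, hj, pow_add]))
    ((Subgroup.comap_mono ha').trans hcz)
  have h1 := Subgroup.card_le_of_le ha''
  rw [card_map_conj, card_comap_mk, card_map_conj] at h1
  have hDker : (D.map π).comap π = D := by
    rw [Subgroup.comap_map_eq, QuotientGroup.ker_mk', sup_eq_left.mpr hND]
  have h2 := card_comap_mk (D.map π)
  rw [hDker] at h2
  have h3 : Nat.card E ≤ Nat.card (D.map π) :=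
    Nat.le_of_mul_le_mul_right (h1.trans h2.le) Nat.card_pos
  have heq : ((D.map π).map (MulAut.conj (π c)).toMonoidHom).map (MulAut.conj a).toMonoidHom = E :=
    Subgroup.eq_of_le_of_card_ge ha (by rw [card_map_conj, card_map_conj]; exact h3)
  convert isDefectGroup_conj hE (a * π c)⁻¹ using 1
  rw [← heq, Subgroup.map_map, Subgroup.map_map]
  conv_lhs => rw [← Subgroup.map_id (D.map π)]
  congr 1
  exact MonoidHom.ext fun w => by simp [mul_assoc]

open Classical in
/-- Forms of the dominated block lift with norms multiplied by the order of the subgroup. -/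
theorem exists_isForms_lift [Fintype (K ⧸ N)] (hM : IsPModular p M) (hN : IsPGroup p N)
    (hC : ∃ k : ℕ, (Subgroup.centralizer (N : Set K)).index = p ^ k)
    {b : Set (IrrCharacter K)} (hb : IsPBlock M b) {b' : Set (IrrCharacter (K ⧸ N))}
    (hb' : IsPBlock M b') (hsub : ∀ ψ ∈ b', inflIrr ψ ∈ b) {T : Finset ℕ}
    {z' : ℕ → IrrCharacter (K ⧸ N) → ℤ} (hz : IsForms p b' T z') :
    ∃ z : ℕ → IrrCharacter K → ℤ, IsForms p b T z ∧
      ∀ t ∈ T, ∑ η, z t η ^ 2 = (Nat.card N : ℤ) * ∑ ψ, z' t ψ ^ 2 := by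
  have hmem : ∀ χ, inflIrr χ ∈ b → χ ∈ b' := fun χ hχ => by
    obtain ⟨χ₀, hχ₀⟩ := block_nonempty hb'
    exact (mem_block_iff hb' hχ₀).mpr (sameBlock_of_inflIrr_of_pGroup hM hN hC
      ((mem_block_iff hb (hsub χ₀ hχ₀)).mp hχ))
  have hn0 : (Nat.card N : ℂ) ≠ 0 := CT.card_ne_zero
  -- coordinates of the regular restrictions
  have hlift : ∀ η ∈ b, ∃ a : IrrCharacter (K ⧸ N) → ℤ, (∀ χ, inflIrr χ ∉ b → a χ = 0) ∧
      ∀ θ : IrrCharacter K, bfPair p η θ = ∑ φ, (a φ : ℂ) * bfPair p (inflIrr φ) θ := by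
    intro η hη
    obtain ⟨a, ha0, ha⟩ := exists_int_lift hM hN hC hb hη
    refine ⟨a, ha0, fun θ => ?_⟩
    simp only [bfPair]
    rw [ha, CT.classInner_sum_left]
    exact Finset.sum_congr rfl fun φ _ => CT.classInner_smul_left _ _ _
  have hP : ∀ η ∈ b, ∃ a : IrrCharacter (K ⧸ N) → ℤ,
      ∀ ψ, (Nat.card N : ℂ) * bfPair p η (inflIrr ψ) = ∑ φ, (a φ : ℂ) * bfPair p φ ψ := by
    intro η hη
    obtain ⟨a, -, ha⟩ := hlift η hη
    refine ⟨a, fun ψ => ?_⟩
    rw [ha, Finset.mul_sum]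
    refine Finset.sum_congr rfl fun φ _ => ?_
    rw [← bfPair_inflIrr hN hC φ ψ]; ring
  have hout : ∀ η, η ∉ b → ∀ ψ ∈ b', bfPair p η (inflIrr ψ) = 0 := fun η hη ψ hψ => by
    rw [bfPair_symm]; exact bfPair_zero_of_mem hM hb (hsub ψ hψ) hη
  have hex : ∀ t η, ∃ n : ℤ, t ∈ T →
      (n : ℂ) = (Nat.card N : ℂ) * ∑ ψ, (z' t ψ : ℂ) * bfPair p η (inflIrr ψ) := by
    intro t η
    by_cases ht : t ∈ T
    swap; · exact ⟨0, fun h => absurd h ht⟩
    by_cases hη : η ∈ b
    · obtain ⟨a, ha⟩ := hP η hη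
      refine ⟨∑ φ, a φ * z' t φ, fun _ => ?_⟩
      rw [Finset.mul_sum, Finset.sum_congr rfl fun ψ _ => show (Nat.card N : ℂ) *
          ((z' t ψ : ℂ) * bfPair p η (inflIrr ψ)) =
          ∑ φ, (a φ : ℂ) * (bfPair p φ ψ * (z' t ψ : ℂ)) by
        rw [mul_left_comm, ha, Finset.mul_sum]
        exact Finset.sum_congr rfl fun φ _ => by ring, Finset.sum_comm]
      push_cast
      exact Finset.sum_congr rfl fun φ _ => by rw [← Finset.mul_sum, hz.fix t ht]
    · refine ⟨0, fun _ => ?_⟩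
      rw [Finset.sum_eq_zero fun ψ _ => ?_]
      · simp
      by_cases hψ : ψ ∈ b'
      · rw [hout η hη ψ hψ, mul_zero]
      · simp [hz.supp t ht ψ hψ]
  choose z hzdef using hex
  refine ⟨z, ⟨fun t ht η hη => ?_, fun t ht η => ?_, fun η => ?_, fun v hv η' hη' => ?_⟩,
    fun t ht => ?_⟩
  · have h : (z t η : ℂ) = 0 := by
      rw [hzdef t η ht, Finset.sum_eq_zero fun ψ _ => ?_]
      · simp
      by_cases hψ : ψ ∈ b'
      · rw [hout η hη ψ hψ, mul_zero]
      · simp [hz.supp t ht ψ hψ]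
    exact_mod_cast h
  · simp only [fun e => hzdef t e ht, Finset.mul_sum]
    rw [Finset.sum_comm]
    refine Finset.sum_congr rfl fun ψ _ => ?_
    rw [← bfPair_idem η (inflIrr ψ), Finset.mul_sum, Finset.mul_sum]
    exact Finset.sum_congr rfl fun η' _ => by ring
  · apply Int.cast_injective (α := ℂ)
    push_cast
    rw [Finset.sum_congr rfl fun t ht => hzdef t η ht, ← Finset.mul_sum, Finset.sum_comm,
      Finset.sum_eq_zero fun ψ _ => ?_, mul_zero]
    rw [← Finset.sum_mul, show ∑ t ∈ T, (z' t ψ : ℂ) = 0 by exact_mod_cast hz.sum ψ, zero_mul]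
  · set w : IrrCharacter (K ⧸ N) → ℂ := fun ψ => ∑ η, v η * bfPair p η (inflIrr ψ) with hw
    have hw0 : ∀ t ∈ T, ∑ ψ, w ψ * (z' t ψ : ℂ) = 0 := by
      intro t ht
      refine mul_left_cancel₀ hn0 ?_
      rw [mul_zero]
      rw [← hv t ht, Finset.mul_sum]
      simp only [hw, fun e => hzdef t e ht, Finset.sum_mul, Finset.mul_sum]
      rw [Finset.sum_comm]
      exact Finset.sum_congr rfl fun η _ => Finset.sum_congr rfl fun ψ _ => by ring
    have hP2 : ∀ η, ∀ χ ∈ b', ∑ ψ, bfPair p η (inflIrr ψ) * bfPair p ψ χ =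
        bfPair p η (inflIrr χ) := by
      intro η χ hχ
      by_cases hη : η ∈ b
      · obtain ⟨a, ha⟩ := hP η hη
        refine mul_left_cancel₀ hn0 ?_
        rw [ha, Finset.mul_sum]
        simp only [← mul_assoc, ha, Finset.sum_mul]
        rw [Finset.sum_comm]
        refine Finset.sum_congr rfl fun φ _ => ?_
        rw [← bfPair_idem φ χ, Finset.mul_sum]
        exact Finset.sum_congr rfl fun ψ _ => by ring
      · rw [hout η hη χ hχ]
        refine Finset.sum_eq_zero fun ψ _ => ?_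
        by_cases hψ : ψ ∈ b'
        · rw [hout η hη ψ hψ, zero_mul]
        · rw [bfPair_symm ψ χ, bfPair_zero_of_mem hM hb' hχ hψ, mul_zero]
    have hw1 : ∀ χ ∈ b', w χ = 0 := by
      intro χ hχ
      rw [← hz.sep w hw0 χ hχ]
      simp only [hw, Finset.sum_mul]
      rw [Finset.sum_comm]
      refine Finset.sum_congr rfl fun η _ => ?_
      rw [← hP2 η χ hχ, Finset.mul_sum]
      exact Finset.sum_congr rfl fun ψ _ => by ring
    obtain ⟨a, ha0, ha⟩ := hlift η' hη'
    rw [Finset.sum_congr rfl fun η _ => show v η * bfPair p η η' =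
        ∑ φ, (a φ : ℂ) * (v η * bfPair p η (inflIrr φ)) by
      rw [bfPair_symm, ha, Finset.mul_sum]
      exact Finset.sum_congr rfl fun φ _ => by rw [bfPair_symm η (inflIrr φ)]; ring, Finset.sum_comm]
    refine Finset.sum_eq_zero fun φ _ => ?_
    rw [← Finset.mul_sum]
    by_cases hφ : inflIrr φ ∈ b
    · rw [show ∑ η, v η * bfPair p η (inflIrr φ) = w φ from rfl, hw1 φ (hmem φ hφ), mul_zero]
    · simp [ha0 φ hφ]
  · apply Int.cast_injective (α := ℂ)
    push_cast
    rw [Finset.sum_congr rfl fun η _ => show (z t η : ℂ) ^ 2 =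
        ∑ ψ, ∑ ψ', (Nat.card N : ℂ) * (Nat.card N : ℂ) * ((z' t ψ : ℂ) * (z' t ψ' : ℂ)) *
          (bfPair p (inflIrr ψ) η * bfPair p η (inflIrr ψ')) by
      rw [hzdef t η ht, sq, mul_mul_mul_comm, Finset.sum_mul_sum, Finset.mul_sum]
      refine Finset.sum_congr rfl fun ψ _ => ?_
      rw [Finset.mul_sum]
      exact Finset.sum_congr rfl fun ψ' _ => by rw [bfPair_symm η (inflIrr ψ)]; ring]
    rw [Finset.sum_comm, Finset.mul_sum]
    refine Finset.sum_congr rfl fun ψ _ => ?_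
    rw [Finset.sum_comm, sq, ← hz.fix t ht, Finset.mul_sum, Finset.mul_sum]
    refine Finset.sum_congr rfl fun ψ' _ => ?_
    rw [← Finset.mul_sum, bfPair_idem, ← bfPair_inflIrr hN hC ψ ψ']
    ring

end Cfsg.Agent.Blocks.Forms
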