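import Cfsg.Agent.Lib.Blocks.BlockCount
import Cfsg.Agent.Lib.Blocks.CentralDefectChars
import Cfsg.Agent.Lib.Blocks.ChainSums

/-!
# Characters minus regular rank, along the sections of a union of blocks
-/

set_option linter.unusedSectionVars false

namespace Cfsg.Agent.Blocks

open scoped ComplexConjugate

universe u

open Classical in
/-- The trace of the regular pairing on a union of blocks is its regular rank. -/
theorem sum_bfPair_union {H : Type u} [Group H] [Fintype H] {p : ℕ}
    {b : Set (IrrCharacter H)} (hb : ∀ a ∈ b, ∀ c, c ∉ b → bfPair p a c = 0) :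
    ∑ η : IrrCharacter H, (if η ∈ b then bfPair p η η else 0) = (blockRank p b : ℂ) := by
  haveI : Fintype b := Fintype.ofFinite b
  let P : (b → ℂ) →ₗ[ℂ] (b → ℂ) :=
    Matrix.mulVecLin (Matrix.of fun a c : b => bfPair p (a : IrrCharacter H) (c : IrrCharacter H))
  let L : (b → ℂ) →ₗ[ℂ] (H → ℂ) := Fintype.linearCombination ℂ fun c : b => regFun p (c : IrrCharacter H)
  have hsum : ∀ a c : b, ∑ e : b, bfPair p (a : IrrCharacter H) e * bfPair p (e : IrrCharacter H) c =
      bfPair p (a : IrrCharacter H) c := by
    intro a c
    rw [← bfPair_idem (a : IrrCharacter H) c,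
      ← Finset.sum_filter_add_sum_filter_not Finset.univ (fun η : IrrCharacter H => η ∈ b)]
    rw [Finset.sum_eq_zero (s := Finset.univ.filter fun η : IrrCharacter H => ¬ η ∈ b) fun η hη => by
      rw [hb _ a.2 _ (Finset.mem_filter.mp hη).2, zero_mul], add_zero]
    exact (Finset.sum_subtype (p := fun η : IrrCharacter H => η ∈ b) _ (fun x => by simp)
      fun η : IrrCharacter H => bfPair p (a : IrrCharacter H) η * bfPair p η c).symm
  have hidem : IsIdempotentElem P := by
    show P ∘ₗ P = P
    rw [← Matrix.mulVecLin_mul]
    refine congrArg Matrix.mulVecLin ?_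
    ext a c
    simp only [Matrix.mul_apply, Matrix.of_apply]
    exact hsum a c
  have htr : LinearMap.trace ℂ (b → ℂ) P = ∑ c : b, bfPair p (c : IrrCharacter H) c := by
    rw [show P = Matrix.toLin' (Matrix.of fun a c : b =>
      bfPair p (a : IrrCharacter H) (c : IrrCharacter H)) from rfl, Matrix.trace_toLin'_eq]
    rfl
  have hker : LinearMap.ker P = LinearMap.ker L := by
    have hPL : ∀ (v : b → ℂ) (a : b), P v a = classInner (L v) ((a : IrrCharacter H) : H → ℂ) := by
      intro v a
      simp only [P, L, Matrix.mulVecLin_apply, Matrix.mulVec, dotProduct, Matrix.of_apply,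
        Fintype.linearCombination_apply, CT.classInner_sum_left, CT.classInner_smul_left]
      exact Finset.sum_congr rfl fun c _ => by rw [bfPair_symm, ← bfPair, mul_comm]
    ext v
    simp only [LinearMap.mem_ker]
    constructor
    · intro h
      have h0 : classInner (L v) (L v) = 0 := by
        have e : classInner (L v) (L v) =
            ∑ c : b, conj (v c) * classInner (L v) ((c : IrrCharacter H) : H → ℂ) := by
          simp only [classInner, Finset.mul_sum]
          rw [Finset.sum_comm]
          refine Finset.sum_congr rfl fun x _ => ?_
          simp only [L, Fintype.linearCombination_apply, Finset.sum_apply, Pi.smul_apply, smul_eq_mul,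
            map_sum, map_mul, Finset.mul_sum, Finset.sum_mul]
          refine Finset.sum_congr rfl fun c _ => Finset.sum_congr rfl fun c' _ => ?_
          simp only [regFun]
          split_ifs <;> simp
          ring
        rw [e]
        exact Finset.sum_eq_zero fun c _ => by rw [← hPL, h]; simp
      rw [classInner, mul_eq_zero, or_iff_right (inv_ne_zero CT.card_ne_zero)] at h0
      funext x
      have h1 : ∀ z : H, (L v z * conj (L v z)).re = Complex.normSq (L v z) := fun z => by
        rw [Complex.mul_conj, Complex.ofReal_re]
      have h2 := congrArg Complex.re h0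
      rw [Complex.re_sum, Complex.zero_re, Finset.sum_congr rfl fun z _ => h1 z] at h2
      exact Complex.normSq_eq_zero.mp
        ((Finset.sum_eq_zero_iff_of_nonneg fun z _ => Complex.normSq_nonneg _).mp h2 x (Finset.mem_univ x))
    · intro h
      funext a
      rw [hPL, h]
      simp [classInner]
  have hrank : Module.finrank ℂ (LinearMap.range P) = blockRank p b := by
    have e1 := LinearMap.finrank_range_add_finrank_ker P
    have e2 := LinearMap.finrank_range_add_finrank_ker L
    rw [hker] at e1
    have e3 : LinearMap.range L =
        Submodule.span ℂ ((fun χ : IrrCharacter H => pRegularPart p (χ : H → ℂ)) '' b) := by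
      rw [Fintype.range_linearCombination]
      congr 1
      have : (fun χ : IrrCharacter H => pRegularPart p (χ : H → ℂ)) = regFun p := by
        funext c z
        simp only [pRegularPart, IsPRegular, regFun]
        by_cases hz : p ∣ orderOf z <;> simp [hz]
      rw [this, Set.image_eq_range]
    rw [blockRank, ← e3]
    omega
  rw [← hrank, ← LinearMap.IsProj.trace (LinearMap.IsIdempotentElem.isProj_range P hidem), htr]
  rw [Finset.sum_ite, Finset.sum_const_zero, add_zero]
  exact Finset.sum_subtype (p := fun η : IrrCharacter H => η ∈ b) _ (fun x => by simp)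
    fun η : IrrCharacter H => bfPair p η η

end Cfsg.Agent.Blocks
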