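import Cfsg.Agent.Lib.Blocks.GaloisStable
import Cfsg.Agent.Lib.Blocks.BrauerFeit
import Cfsg.Agent.Lib.CoprimeExt.Gallagher
import Cfsg.Agent.Lib.OddChar.AbelianQuotient
import Mathlib.LinearAlgebra.Dual.Lemmas
import Mathlib.RepresentationTheory.Character

/-!
# Real characters of odd degree and the principal 2-block
-/

set_option linter.unusedSectionVars false

namespace Cfsg.Agent.Blocks

open scoped ComplexConjugate
open CT

universe u v

variable {G : Type u} [Group G] [Fintype G] {M : Ideal AlgInt} [M.IsPrime]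

/-- A real character of odd degree lies in the principal 2-block. -/
theorem mem_principal_of_real_odd (hM : IsPModular 2 M) {χ : IrrCharacter G}
    (hreal : ∀ g : G, ((χ : G → ℂ) g).im = 0) (hodd : Odd (charDegree (χ : G → ℂ))) :
    χ ∈ principalBlock M G := by
  haveI : Fact (Nat.Prime 2) := ⟨Nat.prime_two⟩
  set n := Nat.card G with hn
  have hn1 : 1 ≤ n := Nat.card_pos
  have hk : (n - 1).Coprime (Nat.card G) := by
    rw [← hn]
    conv_rhs => rw [← Nat.sub_add_cancel hn1]
    exact Nat.coprime_self_add_right.mpr (Nat.coprime_one_right _)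
  have hinv : ∀ g : G, g ^ (n - 1) = g⁻¹ := fun g => by
    rw [eq_inv_iff_mul_eq_one, ← pow_succ, Nat.sub_add_cancel hn1]
    exact pow_card_eq_one'
  have hfix : powIrr hk χ = χ := Subtype.ext (funext fun g => by
    rw [powIrr_apply, hinv, char_inv_eq_conj (isCharacter_of_isIrr χ.2)]
    exact Complex.conj_eq_iff_im.mpr (hreal g))
  have hB : IsPBlock M (blockOf M (χ : G → ℂ)) := isPBlock_blockOf χ
  have hdef : blockDefect 2 (blockOf M (χ : G → ℂ)) = (Nat.card G).factorization 2 := by
    refine le_antisymm (Nat.sub_le _ _) ?_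
    have := le_blockDefect_add (p := 2) (self_mem_blockOf (M := M) χ)
    rwa [Nat.factorization_eq_zero_of_not_dvd (Nat.two_dvd_ne_zero.mpr (Nat.odd_iff.mp hodd)),
      add_zero] at this
  rw [← eq_principal_of_stable hM hk (fun g _ => hinv g) hB hdef fun ψ hψ => by
    have := sameBlock_powIrr (M := M) hk ((mem_block_iff hB (self_mem_blockOf χ)).mp hψ)
    rw [hfix] at this
    exact this]
  exact self_mem_blockOf χ

/-- Multiplying by a linear character of `2`-power order does not change the block. -/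
theorem sameBlock_mul_lin {p : ℕ} (hM : IsPModular p M) {χ ψ : IrrCharacter G} (a : G →* ℂˣ)
    {e : ℕ} (ha : a ^ p ^ e = 1) (h : ∀ g, (ψ : G → ℂ) g = (a g : ℂ) * (χ : G → ℂ) g) :
    SameBlock M (χ : G → ℂ) (ψ : G → ℂ) := by
  haveI : Fact p.Prime := ⟨hM.1⟩
  haveI := charP_res hM
  intro g
  have hpow : (a g : ℂ) ^ p ^ e = 1 := by
    rw [← Units.val_pow_eq_pow_val, ← MonoidHom.pow_apply, ha]; rfl
  have hint : IsIntegral ℤ (a g : ℂ) :=
    IsIntegral.of_pow (pow_pos hM.1.pos e) (hpow ▸ isIntegral_one)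
  have h1 : MemLocalIdeal M (1 - (a g : ℂ)) := by
    let z : Loc M := ⟨(a g : ℂ), integral_mem_loc hint⟩
    have h2 : (1 - red M z) ^ p ^ e = 0 := by
      rw [sub_pow_char_pow, one_pow, ← map_pow, show z ^ p ^ e = 1 from Subtype.ext (by simpa [z] using hpow),
        map_one, sub_self]
    have h3 : red M (1 - z) = 0 := by
      rw [map_sub, map_one]; exact (pow_eq_zero_iff (pow_ne_zero _ hM.1.ne_zero)).mp h2
    exact red_eq_zero_iff.mp h3
  have h1' : (ψ : G → ℂ) 1 = (χ : G → ℂ) 1 := by rw [h, map_one, Units.val_one, one_mul]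
  have e1 : centralChar (χ : G → ℂ) g - centralChar (ψ : G → ℂ) g =
      centralChar (χ : G → ℂ) g * (1 - (a g : ℂ)) := by
    simp only [centralChar, h1', h g]; ring
  rw [e1]
  exact memLocalIdeal_mul_left (integral_mem_loc (isIntegral_centralChar χ.2 g)) h1

section Det

variable {V : Type v} [AddCommGroup V] [Module ℂ V] [FiniteDimensional ℂ V]

/-- A representation twisted by a linear character. -/
noncomputable def twistRep (lam : G →* ℂˣ) (ρ : Representation ℂ G V) : Representation ℂ G V where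
  toFun g := (lam g : ℂ) • ρ g
  map_one' := by simp
  map_mul' g h := by simp only [map_mul, Units.val_mul, smul_mul_smul_comm]

theorem twistRep_character (lam : G →* ℂˣ) (ρ : Representation ℂ G V) :
    (twistRep lam ρ).character = fun g => (lam g : ℂ) * ρ.character g := by
  funext g; simp [twistRep, Representation.character]

/-- If a character times a linear character is its conjugate, the determinant satisfies the
corresponding relation. -/
theorem det_relation (ρ : Representation ℂ G V) (lam : G →* ℂˣ)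
    (h : ∀ g, ρ.character g⁻¹ = (lam g : ℂ) * ρ.character g) :
    lam ^ Module.finrank ℂ V * CoprimeExt.detHom ρ ^ 2 = 1 := by
  have hc : ρ.dual.character = (twistRep lam ρ).character := funext fun g => by
    rw [twistRep_character, Representation.char_dual]; exact h g
  obtain ⟨e⟩ := CT.equiv_of_character_eq _ _ hc
  refine MonoidHom.ext fun g => Units.ext ?_
  have h1 : LinearMap.det (ρ.dual g) = LinearMap.det ((twistRep lam ρ) g) := by
    rw [← e.conj_apply_self g]
    exact (LinearMap.det_conj _ _).symm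
  have hdual : LinearMap.det (ρ.dual g) = LinearMap.det (ρ g⁻¹) := by
    classical
    let b := Module.finBasis ℂ V
    rw [Representation.dual_apply, ← LinearMap.det_toMatrix b.dualBasis, LinearMap.toMatrix_transpose,
      Matrix.det_transpose, LinearMap.det_toMatrix]
  rw [hdual,
    show (twistRep lam ρ) g = (lam g : ℂ) • ρ g from rfl, LinearMap.det_smul] at h1
  have h2 : LinearMap.det (ρ g⁻¹) * LinearMap.det (ρ g) = 1 := by
    rw [← map_mul, ← map_mul, inv_mul_cancel, map_one, map_one]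
  rw [h1] at h2
  simp only [MonoidHom.mul_apply, MonoidHom.pow_apply, MonoidHom.one_apply, Units.val_mul,
    Units.val_pow_eq_pow_val, Units.val_one, CoprimeExt.detHom_apply]
  linear_combination h2

end Det

/-- A real extendible character of odd degree extends into the principal 2-block. -/
theorem exists_extension_principal (hM : IsPModular 2 M) (N : Subgroup G) [N.Normal] [Fintype N]
    (θ : IrrCharacter N) (hreal : ∀ n : N, ((θ : N → ℂ) n).im = 0)
    (hodd : Odd (charDegree (θ : N → ℂ))) (η : IrrCharacter G)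
    (hη : ∀ n : N, (η : G → ℂ) n = (θ : N → ℂ) n) :
    ∃ η' : IrrCharacter G, (∀ n : N, (η' : G → ℂ) n = (θ : N → ℂ) n) ∧
      η' ∈ principalBlock M G := by
  classical
  set n := Nat.card G with hn
  have hn1 : 1 ≤ n := Nat.card_pos
  have hk : (n - 1).Coprime (Nat.card G) := by
    rw [← hn]
    conv_rhs => rw [← Nat.sub_add_cancel hn1]
    exact Nat.coprime_self_add_right.mpr (Nat.coprime_one_right _)
  have hinv : ∀ g : G, g ^ (n - 1) = g⁻¹ := fun g => by
    rw [eq_inv_iff_mul_eq_one, ← pow_succ, Nat.sub_add_cancel hn1]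
    exact pow_card_eq_one'
  obtain ⟨β, hβ, hβe⟩ := CoprimeExt.exists_eq_mul_of_over N η θ hη (powIrr hk η) (by
    have e : (fun m : N => (powIrr hk η : G → ℂ) m) = (θ : N → ℂ) := funext fun m => by
      rw [powIrr_apply, hinv, char_inv_eq_conj (isCharacter_of_isIrr η.2), hη]
      exact Complex.conj_eq_iff_im.mpr (hreal m)
    rw [e, irr_inner_self θ.2]; exact one_ne_zero)
  have hβ1 : (β : G → ℂ) 1 = 1 := by
    have h := congrFun hβe 1
    rw [powIrr_apply, one_pow, Pi.mul_apply] at h
    exact (mul_eq_right₀ (irr_one_ne_zero η.2)).mp h.symm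
  obtain ⟨lam, hlam⟩ := exists_hom_of_degree_one (isCharacter_of_isIrr β.2) hβ1
  obtain ⟨m, ρ, hρ, hρe⟩ := id η.2
  have hrel := det_relation ρ lam fun g => by
    rw [hρe, ← hinv g]
    have := congrFun hβe g
    rw [powIrr_apply, Pi.mul_apply, hlam] at this
    exact this
  set d := CoprimeExt.detHom ρ
  have hdeg : charDegree (θ : N → ℂ) = m := by
    have h1 : (θ : N → ℂ) 1 = (m : ℂ) := by
      rw [← hη, OneMemClass.coe_one, ← hρe, Representation.char_one, Module.finrank_fin_fun]
    rw [charDegree, h1]; simp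
  rw [Module.finrank_fin_fun] at hrel
  rw [hdeg] at hodd
  obtain ⟨j, hj⟩ := hodd
  set μ := (d * lam ^ j)⁻¹ with hμ
  have hμ2 : μ ^ 2 = lam := by
    refine MonoidHom.ext fun g => ?_
    have h1 : lam g ^ (2 * j + 1) * d g ^ 2 = 1 := by
      rw [← hj]; exact DFunLike.congr_fun hrel g
    show ((d g * lam g ^ j)⁻¹) ^ 2 = lam g
    rw [inv_pow]
    refine inv_eq_of_mul_eq_one_left ?_
    rw [← h1, mul_pow, ← pow_mul, pow_add, pow_one, mul_comm j 2]
    simp only [mul_comm, mul_left_comm, mul_assoc]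
  have hfo : IsOfFinOrder μ := isOfFinOrder_iff_pow_eq_one.mpr ⟨n, Nat.card_pos, MonoidHom.ext fun g => by
    rw [MonoidHom.pow_apply, ← map_pow]; simp [hn]⟩
  obtain ⟨e, o, ho, hoe⟩ := Nat.exists_eq_pow_mul_and_not_dvd hfo.orderOf_pos.ne' 2 (by norm_num)
  obtain ⟨t, ht0, ht1⟩ := Nat.chineseRemainder
    (Nat.Coprime.pow_left e (Nat.prime_two.coprime_iff_not_dvd.mpr ho)) 0 1
  set c := μ ^ t with hcdef
  have hord : ∀ g, orderOf (μ g) ∣ 2 ^ e * o := fun g =>
    hoe ▸ orderOf_dvd_of_pow_eq_one (show μ g ^ orderOf μ = 1 from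
      DFunLike.congr_fun (pow_orderOf_eq_one μ) g)
  have hc2 : (μ * c⁻¹) ^ 2 ^ e = 1 := by
    refine MonoidHom.ext fun g => ?_
    show (μ g * (μ g ^ t)⁻¹) ^ 2 ^ e = 1
    rw [mul_pow, inv_pow, mul_inv_eq_one, ← pow_mul]
    refine pow_eq_pow_iff_modEq.mpr (Nat.ModEq.of_dvd (hord g) ?_)
    rw [mul_comm t]
    simpa using (Nat.ModEq.mul_left' (2 ^ e) ht1).symm
  have hco : c ^ o = 1 := by
    refine MonoidHom.ext fun g => ?_
    show (μ g ^ t) ^ o = 1
    rw [← pow_mul, ← orderOf_dvd_iff_pow_eq_one]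
    exact (hord g).trans (Nat.mul_dvd_mul_right (Nat.modEq_zero_iff_dvd.mp ht0) o)
  have hcN : ∀ g ∈ N, c g = 1 := fun g hg => by
    have h1 : lam g = 1 := Units.ext (by
      have := hβ g hg
      rw [hlam] at this
      simpa using this)
    have h2 : c g ^ 2 = 1 := by
      rw [hcdef, MonoidHom.pow_apply, ← pow_mul, mul_comm, pow_mul, ← MonoidHom.pow_apply μ 2, hμ2,
        h1, one_pow]
    have h3 : c g ^ o = 1 := by rw [← MonoidHom.pow_apply, hco]; rfl
    rw [← orderOf_eq_one_iff]
    exact Nat.eq_one_of_dvd_coprimes (Nat.prime_two.coprime_iff_not_dvd.mpr ho)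
      (orderOf_dvd_of_pow_eq_one h2) (orderOf_dvd_of_pow_eq_one h3)
  let η1 : IrrCharacter G := ⟨(η : G → ℂ) * fun g => (c g : ℂ),
    Cfsg.Agent.OddChar.isIrr_mul_linear η.2 (isCharacter_lin c) (by simp)⟩
  let η0 : IrrCharacter G := ⟨(η : G → ℂ) * fun g => (μ g : ℂ),
    Cfsg.Agent.OddChar.isIrr_mul_linear η.2 (isCharacter_lin μ) (by simp)⟩
  refine ⟨η1, fun m' => ?_, ?_⟩
  · show (η : G → ℂ) m' * (c m' : ℂ) = _
    rw [hcN _ m'.2, Units.val_one, mul_one, hη]
  have h0 : η0 ∈ principalBlock M G := by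
    refine mem_principal_of_real_odd hM (fun g => Complex.conj_eq_iff_im.mp ?_) ?_
    · rw [← char_inv_eq_conj (isCharacter_of_isIrr η0.2)]
      show (η : G → ℂ) g⁻¹ * (μ g⁻¹ : ℂ) = (η : G → ℂ) g * (μ g : ℂ)
      have h1 := congrFun hβe g
      rw [powIrr_apply, hinv, Pi.mul_apply, hlam] at h1
      rw [h1, map_inv, ← hμ2]
      show ((μ g ^ 2 : ℂˣ) : ℂ) * _ * _ = _
      rw [Units.val_pow_eq_pow_val, Units.val_inv_eq_inv_val]
      field_simp
    · have : charDegree (η0 : G → ℂ) = m := by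
        rw [← hdeg, charDegree, charDegree]
        show ⌊((η : G → ℂ) 1 * (μ 1 : ℂ)).re⌋₊ = _
        rw [map_one, Units.val_one, mul_one, ← hη 1, OneMemClass.coe_one]
      rw [this]
      exact ⟨j, hj⟩
  have hs : SameBlock M (η1 : G → ℂ) (η0 : G → ℂ) := sameBlock_mul_lin hM (μ * c⁻¹) hc2 fun g => by
    show (η : G → ℂ) g * (μ g : ℂ) = ((μ g * (c g)⁻¹ : ℂˣ) : ℂ) * ((η : G → ℂ) g * (c g : ℂ))
    rw [Units.val_mul, Units.val_inv_eq_inv_val]
    field_simp
  refine (mem_block_iff isPBlock_principalBlock h0).mpr fun g => ?_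
  have := memLocalIdeal_neg (hs g)
  rwa [neg_sub] at this

end Cfsg.Agent.Blocks
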