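import Cfsg.Agent.Lib.CT.Brauer
import Cfsg.Agent.Lib.Blocks.Covering
import Cfsg.Agent.Lib.Basics.ThompsonFpf

/-!
# The Sylow order times the indicator of the regular elements is a generalized character
-/

set_option linter.unusedSectionVars false

namespace Cfsg.Agent.Blocks

variable {G : Type*} [Group G] [Finite G]

open Classical in
theorem isGen_regularIndicator_nilpotent (p : ℕ) [Fact p.Prime] [Group.IsNilpotent G] (a : ℕ)
    (ha : (Nat.card G).factorization p ≤ a) :
    IsGeneralizedCharacter G fun x : G => if p ∣ orderOf x then 0 else ((p ^ a : ℕ) : ℂ) := by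
  haveI := Fintype.ofFinite G
  obtain ⟨P, N, hN, hc⟩ := Basics.hasNormalPComplement_of_nilpotent (G := G) p
  haveI := hN
  haveI := Fintype.ofFinite N
  set b := (Nat.card G).factorization p with hb
  have hidx : N.index = p ^ b := by rw [hc.symm.index_eq_card, P.card_eq_multiplicity]
  have hN' : ¬ p ∣ Nat.card N := by rw [← hc.index_eq_card]; exact P.not_dvd_index
  have hiff : ∀ x : G, p ∣ orderOf x ↔ x ∉ N := fun x =>
    ⟨fun hd hx => hN' (hd.trans (Subgroup.orderOf_dvd_natCard N hx)),
      fun hx => by_contra fun hd => hx (mem_of_pow_index ⟨b, hidx⟩ hd)⟩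
  have e : (fun x : G => if p ∣ orderOf x then 0 else ((p ^ a : ℕ) : ℂ)) =
      (((p ^ (a - b) : ℕ) : ℤ) : ℂ) • indFun N (fun _ : N => (1 : ℂ)) := by
    funext x
    have h : indFun N (fun _ : N => (1 : ℂ)) x = if x ∈ N then (N.index : ℂ) else 0 := by
      have e' : ∀ g : G, extendByZero N (fun _ : N => (1 : ℂ)) (g⁻¹ * x * g) =
          if x ∈ N then 1 else 0 := fun g => by
        have : g⁻¹ * x * g ∈ N ↔ x ∈ N :=
          ⟨fun h => by simpa [mul_assoc] using hN.conj_mem _ h g,
            fun h => by simpa using hN.conj_mem _ h g⁻¹⟩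
        by_cases hx : x ∈ N
        · have hm := this.mpr hx
          rw [if_pos hx, show g⁻¹ * x * g = ((⟨_, hm⟩ : N) : G) from rfl, extendByZero,
            Subtype.val_injective.extend_apply]
        · rw [if_neg hx, extendByZero,
            Function.extend_apply' _ _ _ fun ⟨y, hy⟩ => hx (this.mp (hy ▸ y.2))]
          rfl
      rw [indFun, Finset.sum_congr rfl fun g _ => e' g, Finset.sum_const, Finset.card_univ,
        nsmul_eq_mul]
      split_ifs with hx
      · rw [mul_one, inv_mul_eq_iff_eq_mul₀ CT.card_ne_zero, ← Nat.card_eq_fintype_card,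
          ← N.index_mul_card, Nat.cast_mul, mul_comm]
      · simp
    rw [Pi.smul_apply, smul_eq_mul, h, hidx]
    by_cases hx : x ∈ N
    · rw [if_neg (fun hd => (hiff x).mp hd hx), if_pos hx]
      push_cast
      rw [← pow_add, Nat.sub_add_cancel ha]
    · rw [if_pos ((hiff x).mpr hx), if_neg hx, mul_zero]
  rw [e]
  exact CT.isGen_zsmul _ (CT.isGen_indFun N (CT.isGen_of_isCharacter CT.isCharacter_one))

open Classical in
theorem isGen_regularIndicator (p : ℕ) [Fact p.Prime] :
    IsGeneralizedCharacter G fun x : G =>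
      if p ∣ orderOf x then 0 else ((p ^ (Nat.card G).factorization p : ℕ) : ℂ) := by
  haveI := Fintype.ofFinite G
  refine CT.isGen_of_restrict_elementary ?_ fun E q hq hE => ?_
  · refine CT.isClassFunction_iff.mpr fun u v huv => ?_
    obtain ⟨c, hc⟩ := isConj_iff.mp huv
    rw [← hc, show c * u * c⁻¹ = MulAut.conj c u from rfl, MulEquiv.orderOf_eq]
  · haveI := CT.isNilpotent_of_isElementary hq hE
    have hle : (Nat.card E).factorization p ≤ (Nat.card G).factorization p :=
      (Nat.factorization_le_iff_dvd Nat.card_pos.ne' Nat.card_pos.ne').mpr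
        E.card_subgroup_dvd_card p
    have := isGen_regularIndicator_nilpotent (G := E) p _ hle
    simpa only [Subgroup.orderOf_coe] using this

end Cfsg.Agent.Blocks
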