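import Cfsg.Agent.Lib.Blocks.StabilizerDefect
import Cfsg.Agent.Lib.Blocks.CentralProduct
import Cfsg.Agent.Lib.Blocks.BrauerFeit
import Cfsg.Agent.Lib.CT.Kernel
import Cfsg.Agent.Lib.CT.Degree
import Cfsg.Agent.S0971

/-!
# Blocks with abelian normal defect group have height zero, and conversely
-/

set_option linter.unusedSectionVars false

namespace Cfsg.Agent.Blocks

open scoped ComplexConjugate

universe u

variable {G : Type u} [Group G] [Finite G] {p : ℕ} {M : Ideal AlgInt} [M.IsPrime]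

/-- Height zero in terms of the index of a defect group. -/
theorem blockHeight_eq_zero_iff (hM : IsPModular p M) {B : Set (IrrCharacter G)}
    (hB : IsPBlock M B) {D : Subgroup G} (hD : IsDefectGroup p M B D) {χ : IrrCharacter G}
    (hχ : χ ∈ B) :
    blockHeight p B (χ : G → ℂ) = 0 ↔
      (charDegree (χ : G → ℂ)).factorization p ≤ D.index.factorization p := by
  haveI : Fact p.Prime := ⟨hM.1⟩
  set m := sInf ((fun ψ : IrrCharacter G => (charDegree (ψ : G → ℂ)).factorization p) '' B)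
  have h1 : m ≤ (charDegree (χ : G → ℂ)).factorization p := Nat.sInf_le ⟨χ, hχ, rfl⟩
  have h2 : (charDegree (χ : G → ℂ)).factorization p ≤ (Nat.card G).factorization p :=
    (Nat.factorization_le_iff_dvd (charDegree_pos χ).ne' Nat.card_pos.ne').mpr
      (charDegree_dvd_card χ) p
  have h3 : (Nat.card G).factorization p =
      ((Nat.card G).factorization p - m) + D.index.factorization p := by
    conv_lhs => rw [← D.card_mul_index, card_defectGroup hM hB hD,
      Nat.factorization_mul (pow_ne_zero _ hM.1.ne_zero) Subgroup.index_ne_zero_of_finite,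
      Finsupp.add_apply, hM.1.factorization_pow, Finsupp.single_eq_same]
    rfl
  rw [blockHeight, Nat.sub_eq_zero_iff_le]
  omega

/-- In `P * C(P)`: height zero forces `P` to be abelian. -/
theorem comm_of_height_zero_central (hM : IsPModular p M) {P : Subgroup G} (hP : IsPGroup p P)
    (hG : P ⊔ Subgroup.centralizer (P : Set G) = ⊤) {B : Set (IrrCharacter G)}
    (hB : IsPBlock M B) (hD : IsDefectGroup p M B P)
    (h0 : ∀ χ ∈ B, (charDegree (χ : G → ℂ)).factorization p ≤ P.index.factorization p) :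
    ∀ a c : P, a * c = c * a := by
  classical
  haveI : Fact p.Prime := ⟨hM.1⟩
  haveI := normal_of_sup_eq_top hG
  letI := Fintype.ofFinite G
  letI := Fintype.ofFinite P
  obtain ⟨⟨⟨θ, ⟨hθB, hθt⟩, -⟩, hdeg, -⟩, hnorm⟩ := central_product_block_norm hM hP hG hB hD
  rw [CT.comm_iff_all_linear]
  intro lam
  -- some member of the block lies over `lam`
  have hcol : ∀ x : P, x ≠ 1 →
      ∑ᶠ χ ∈ B, (χ : G → ℂ) 1 * conj ((χ : G → ℂ) x) = 0 := by
    intro x hx
    refine weak_orthogonality hM (blockCoeff_mem_loc hB) (g := (1 : G))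
      (by rw [orderOf_one]; exact hM.1.not_dvd_one) ?_
    obtain ⟨k, hk⟩ := hP x
    obtain ⟨j, -, hj⟩ := (Nat.dvd_prime_pow hM.1).mp (orderOf_dvd_of_pow_eq_one hk)
    rw [Subgroup.orderOf_coe, hj]
    exact dvd_pow_self p fun e => hx (orderOf_eq_one_iff.mp (by rw [hj, e, pow_zero]))
  obtain ⟨χ, hχ, hover⟩ : ∃ χ ∈ B, classInner (fun x : P => (χ : G → ℂ) x) (lam : P → ℂ) ≠ 0 := by
    by_contra hall
    push Not at hall
    have hsum : ∑ x : P, (lam : P → ℂ) x * ∑ᶠ χ ∈ B, (χ : G → ℂ) 1 * conj ((χ : G → ℂ) x) = 0 := by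
      simp only [finsum_mem_eq_toFinset_sum, Finset.mul_sum]
      rw [Finset.sum_comm]
      refine Finset.sum_eq_zero fun χ hχ => ?_
      have h := congrArg conj (hall χ (Set.mem_toFinset.mp hχ))
      rw [CT.classInner_conj_symm, map_zero, classInner, mul_eq_zero] at h
      have h' := h.resolve_left (inv_ne_zero (CT.card_ne_zero (G := P)))
      simp only [mul_left_comm _ ((χ : G → ℂ) 1), ← Finset.mul_sum, h', mul_zero]
    rw [Finset.sum_eq_single 1 (fun x _ hx => by rw [hcol x hx, mul_zero]) (by simp)] at hsum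
    refine mul_ne_zero (CT.irr_one_ne_zero lam.2) ?_ hsum
    rw [OneMemClass.coe_one, finsum_mem_eq_toFinset_sum]
    have hpos : 0 < (∑ χ ∈ B.toFinset, (χ : G → ℂ) 1 * conj ((χ : G → ℂ) 1)).re := by
      rw [Complex.re_sum]
      refine Finset.sum_pos (fun χ _ => ?_) ⟨θ, Set.mem_toFinset.mpr hθB⟩
      rw [Complex.mul_conj, Complex.ofReal_re]
      exact Complex.normSq_pos.mpr (CT.irr_one_ne_zero χ.2)
    exact fun e => by rw [e] at hpos; simp at hpos
  -- it restricts to a multiple of `lam`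
  have hinv : ∀ g : G, CT.conjFun P g (lam : P → ℂ) = (lam : P → ℂ) := by
    intro g
    funext n
    obtain ⟨a, ha, c, hc, rfl⟩ := exists_mul_of_sup_eq_top hG g
    have e : a * c * n * (a * c)⁻¹ = a * (n : G) * a⁻¹ := by
      rw [mul_assoc a c, ← Subgroup.mem_centralizer_iff.mp hc n n.2]; group
    show (lam : P → ℂ) ⟨a * c * n * (a * c)⁻¹, _⟩ = _
    rw [show (⟨a * c * n * (a * c)⁻¹, _⟩ : P) = ⟨a, ha⟩ * n * ⟨a, ha⟩⁻¹ from Subtype.ext e]
    exact CT.isClassFunction_of_isIrr lam.2 n ⟨a, ha⟩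
  have hres := CT.restrict_eq_smul_of_invariant P χ.2 lam.2 hover hinv
  rw [CT.mult_spec (CT.isCharacter_restrict P (CT.isCharacter_of_isIrr χ.2))
    (CT.isCharacter_of_isIrr lam.2)] at hres
  set m := CT.mult (fun x : P => (χ : G → ℂ) x) (lam : P → ℂ)
  have hval : ∀ x : P, (χ : G → ℂ) x = (m : ℂ) * (lam : P → ℂ) x := fun x => congrFun hres x
  have hn := hnorm θ hθB hθt χ hχ
  rw [Finset.sum_subtype (Finset.univ.filter (· ∈ P)) (p := (· ∈ P)) (fun x => by simp)] at hn
  simp only [hval, map_mul, map_natCast] at hn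
  have h1 := CT.irr_inner_self lam.2
  rw [classInner, inv_mul_eq_iff_eq_mul₀ (CT.card_ne_zero (G := P)), mul_one] at h1
  rw [Finset.sum_congr rfl fun x _ => mul_mul_mul_comm _ _ _ _, ← Finset.mul_sum, h1] at hn
  rw [CT.deg_eq (CT.isCharacter_of_isIrr θ.2), map_natCast] at hn
  have hmm : m * m = CT.deg (θ : G → ℂ) * CT.deg (θ : G → ℂ) := by
    exact_mod_cast mul_right_cancel₀ (CT.card_ne_zero (G := P)) hn
  have hm : m = CT.deg (θ : G → ℂ) := Nat.mul_self_inj.mp hmm
  have hd : charDegree (χ : G → ℂ) = charDegree (θ : G → ℂ) * CT.deg (lam : P → ℂ) := by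
    have h := hval 1
    rw [OneMemClass.coe_one, CT.deg_eq (CT.isCharacter_of_isIrr χ.2),
      CT.deg_eq (CT.isCharacter_of_isIrr lam.2), hm] at h
    exact_mod_cast h
  have hlam : (CT.deg (lam : P → ℂ)).factorization p = 0 := by
    have h := h0 χ hχ
    rw [hd, Nat.factorization_mul (charDegree_pos θ).ne' (CT.deg_pos lam.2).ne',
      Finsupp.add_apply, hdeg θ hθB hθt] at h
    omega
  obtain ⟨k, hk⟩ := IsPGroup.iff_card.mp hP
  obtain ⟨j, -, hj⟩ := (Nat.dvd_prime_pow hM.1).mp
    (hk ▸ (charDegree_dvd_card lam : charDegree (lam : P → ℂ) ∣ Nat.card P))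
  have hj0 : j = 0 := by
    rw [show CT.deg (lam : P → ℂ) = charDegree (lam : P → ℂ) from rfl, hj,
      hM.1.factorization_pow, Finsupp.single_eq_same] at hlam
    exact hlam
  rw [CT.deg_eq (CT.isCharacter_of_isIrr lam.2)]
  have : CT.deg (lam : P → ℂ) = 1 := by
    rw [show CT.deg (lam : P → ℂ) = charDegree (lam : P → ℂ) from rfl, hj, hj0, pow_zero]
  rw [this, Nat.cast_one]

/-- Reynolds: a normal defect group is abelian exactly when all heights are zero. -/
theorem reynolds (hM : IsPModular p M) {B : Set (IrrCharacter G)} (hB : IsPBlock M B)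
    {P : Subgroup G} [P.Normal] (hD : IsDefectGroup p M B P) :
    (∀ a ∈ P, ∀ c ∈ P, a * c = c * a) ↔ ∀ χ ∈ B, blockHeight p B (χ : G → ℂ) = 0 := by
  classical
  haveI : Fact p.Prime := ⟨hM.1⟩
  letI := Fintype.ofFinite G
  obtain ⟨-, -, -, hP, -⟩ := defectGroup_spec hD
  constructor
  · intro hcomm χ hχ
    rw [blockHeight_eq_zero_iff hM hB hD hχ]
    letI := Fintype.ofFinite P
    have hd := CT.deg_dvd_index_of_comm (N := P) χ.2
      (fun a c => Subtype.ext (hcomm a a.2 c c.2))
    exact (Nat.factorization_le_iff_dvd (charDegree_pos χ).ne'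
      Subgroup.index_ne_zero_of_finite).mpr hd p
  intro h0
  set L := P ⊔ Subgroup.centralizer (P : Set G) with hL
  haveI hLn : L.Normal := inferInstance
  letI := Fintype.ofFinite L
  obtain ⟨⟨b, hbP, hind⟩, -⟩ := extended_first_main hM hB hD
  have hb := hind.1
  obtain ⟨ξ₀, hξ₀⟩ := block_nonempty hb
  let T : Subgroup G :=
    { carrier := {g | conjIrr g ξ₀ ∈ b}
      one_mem' := by show conjIrr 1 ξ₀ ∈ b; rw [conjIrr_one]; exact hξ₀
      mul_mem' := fun {g h} hg hh => by
        show conjIrr (g * h) ξ₀ ∈ b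
        rw [conjIrr_mul]
        exact (conj_mem_iff hb hξ₀ hg h).mp hh
      inv_mem' := fun {g} hg => by
        show conjIrr g⁻¹ ξ₀ ∈ b
        have h := (conj_mem_iff hb hξ₀ hg g⁻¹).mpr (by
          rw [← conjIrr_mul, mul_inv_cancel, conjIrr_one]; exact hξ₀)
        exact h }
  letI := Fintype.ofFinite T
  have hT : ∀ g : G, g ∈ T ↔ ∀ θ ∈ b, conjIrr g θ ∈ b := fun g =>
    ⟨fun h θ hθ => (conj_mem_iff hb hξ₀ hθ g).mp h, fun h => h ξ₀ hξ₀⟩
  have hT' : ∀ g : G, g ∈ T ↔ (g ∈ Subgroup.normalizer (P : Set G) ∧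
      ∀ θ ∈ b, ∀ θ' : IrrCharacter L, (∀ h h' : L, (h' : G) = g * h * g⁻¹ →
        (θ' : L → ℂ) h' = (θ : L → ℂ) h) → θ' ∈ b) := by
    intro g
    rw [← T.inv_mem_iff, hT, Subgroup.normalizer_eq_top_iff.mpr ‹P.Normal›]
    simp only [Subgroup.mem_top, true_and]
    have hid : ∀ θ θ' : IrrCharacter L, (∀ h h' : L, (h' : G) = g * h * g⁻¹ →
        (θ' : L → ℂ) h' = (θ : L → ℂ) h) ↔ θ' = conjIrr g⁻¹ θ := by
      intro θ θ'
      constructor
      · intro h
        refine Subtype.ext (funext fun n => ?_)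
        exact h ⟨g⁻¹ * n * g⁻¹⁻¹, hLn.conj_mem _ n.2 _⟩ n (by simp [mul_assoc])
      · rintro rfl h h' e
        show (θ : L → ℂ) ⟨g⁻¹ * h' * g⁻¹⁻¹, _⟩ = _
        exact congrArg _ (Subtype.ext (show g⁻¹ * (h' : G) * g⁻¹⁻¹ = (h : G) by rw [e]; group))
    exact ⟨fun h θ hθ θ' he => (hid θ θ').mp he ▸ h θ hθ,
      fun h θ hθ => h θ hθ _ ((hid θ _).mpr rfl)⟩
  have hLT : L ≤ T := fun l hl => (hT l).mpr fun θ hθ => by
    rwa [show conjIrr l θ = θ from Subtype.ext
      (CT.conjFun_of_mem L (CT.isClassFunction_of_isIrr θ.2) hl)]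
  have hndvd : ¬ p ∣ L.relIndex T := (stabilizer_defect hM hP hL hb hbP hind T hT').mp hD
  have hPc : IsPGroup p (P.subgroupOf L) := hP.comap_subtype
  have htop : P.subgroupOf L ⊔ Subgroup.centralizer ((P.subgroupOf L : Subgroup L) : Set L) = ⊤ := by
    refine top_le_iff.mp fun c _ => ?_
    have hc : (c : G) ∈ (P ⊔ Subgroup.centralizer (P : Set G) : Subgroup G) := c.2
    rw [← SetLike.mem_coe,
      Subgroup.coe_mul_of_right_le_normalizer_left _ _ (Subgroup.centralizer_le_normalizer _)] at hc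
    obtain ⟨a, ha, y, hy, e⟩ := hc
    have : c = (⟨a, le_sup_left (a := P) ha⟩ : L) *
        ⟨y, le_sup_right (b := Subgroup.centralizer (P : Set G)) hy⟩ := Subtype.ext e.symm
    rw [this]
    refine Subgroup.mul_mem_sup (Subgroup.mem_subgroupOf.mpr ha) ?_
    rw [mem_centralizer_subgroupOf le_sup_left]
    exact hy
  have hcomm := comm_of_height_zero_central hM hPc htop hb hbP fun ξ hξ => ?_
  · intro a ha c hc
    have h := hcomm ⟨⟨a, le_sup_left (b := Subgroup.centralizer (P : Set G)) ha⟩, ha⟩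
      ⟨⟨c, le_sup_left (b := Subgroup.centralizer (P : Set G)) hc⟩, hc⟩
    exact congrArg (fun t : P.subgroupOf L => ((t : L) : G)) h
  · obtain ⟨χ, hχ⟩ := CT.exists_irr_over L ξ.2
    have hχB : χ ∈ B := by
      have h := (Cfsg.Agent.S0971.result p M hM P hP b hb).2 (blockOf M (χ : G → ℂ))
        (isPBlock_blockOf χ) ⟨χ, self_mem_blockOf χ, ξ, hξ, hχ⟩
      exact inducedBlock_unique h hind ▸ self_mem_blockOf χ
    have hz := (blockHeight_eq_zero_iff hM hB hD hχB).mp (h0 χ hχB)
    have hcl := CT.clifford_mult L χ.2 ξ.2 hχ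
    have hI := inertia_le_stab hb hT hξ
    set I := CT.inertia L (ξ : L → ℂ)
    have hdvd : T.index ∣ I.index := Subgroup.index_dvd_of_le hI
    have e1 : L.index = L.relIndex T * T.index := (Subgroup.relIndex_mul_index hLT).symm
    have e2 : P.index = P.relIndex L * L.index := (Subgroup.relIndex_mul_index le_sup_left).symm
    have hrel0 : P.relIndex L ≠ 0 := Subgroup.index_ne_zero_of_finite
    have hrel1 : L.relIndex T ≠ 0 := Subgroup.index_ne_zero_of_finite
    have hm0 : CT.mult (fun n : L => (χ : G → ℂ) n) (ξ : L → ℂ) ≠ 0 := fun h => by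
      rw [h, zero_mul, zero_mul] at hcl
      exact (CT.deg_pos χ.2).ne' hcl
    have hTi : T.index.factorization p ≤ I.index.factorization p :=
      (Nat.factorization_le_iff_dvd Subgroup.index_ne_zero_of_finite
        Subgroup.index_ne_zero_of_finite).mpr hdvd p
    change (CT.deg (χ : G → ℂ)).factorization p ≤ _ at hz
    rw [hcl, Nat.factorization_mul (mul_ne_zero hm0 Subgroup.index_ne_zero_of_finite)
      (CT.deg_pos ξ.2).ne', Nat.factorization_mul hm0 Subgroup.index_ne_zero_of_finite,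
      e2, Nat.factorization_mul hrel0 Subgroup.index_ne_zero_of_finite, e1,
      Nat.factorization_mul hrel1 Subgroup.index_ne_zero_of_finite] at hz
    simp only [Finsupp.add_apply, Nat.factorization_eq_zero_of_not_dvd hndvd] at hz
    show (CT.deg (ξ : L → ℂ)).factorization p ≤ (P.relIndex L).factorization p
    omega

end Cfsg.Agent.Blocks
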