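import Cfsg.Agent.Lib.Blocks.Robinson

/-!
# Robinson's matrix
-/

set_option autoImplicit false
set_option linter.unusedSectionVars false

namespace Cfsg.Agent.Blocks.Robinson

open scoped ComplexConjugate Classical Pointwise

universe u v

variable {G : Type u} [Group G] [Fintype G] {p : ℕ} [hp : Fact p.Prime]
variable {M : Ideal AlgInt} [M.IsPrime] (hM : IsPModular p M)
variable {D : Subgroup G} [hDn : D.Normal] (hD : IsPGroup p D)

/-- The classes with defect group `D`. -/
def IsDClass (p : ℕ) (D : Subgroup G) (x : G) : Prop :=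
  ¬ p ∣ orderOf x ∧ D ≤ Subgroup.centralizer ({x} : Set G) ∧
    (Nat.card (Subgroup.centralizer ({x} : Set G))).factorization p = (Nat.card D).factorization p

theorem isDClass_inv {x : G} (h : IsDClass p D x) : IsDClass p D x⁻¹ := by
  have e : Subgroup.centralizer ({x⁻¹} : Set G) = Subgroup.centralizer ({x} : Set G) := by
    ext c
    rw [Subgroup.mem_centralizer_singleton_iff, Subgroup.mem_centralizer_singleton_iff]
    exact ⟨fun h => by simpa using (Commute.inv_right (h : Commute c x⁻¹)).eq,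
      fun h => (Commute.inv_right (h : Commute c x)).eq⟩
  exact ⟨by rw [orderOf_inv]; exact h.1, e ▸ h.2.1, e ▸ h.2.2⟩

theorem isDClass_conj {x y : G} (hxy : IsConj x y) (h : IsDClass p D x) : IsDClass p D y := by
  obtain ⟨c, rfl⟩ := isConj_iff.mp hxy
  refine ⟨?_, fun d hd => Subgroup.mem_centralizer_singleton_iff.mpr ?_, ?_⟩
  · rw [← MulAut.conj_apply, MulEquiv.orderOf_eq]; exact h.1
  · have := Subgroup.mem_centralizer_singleton_iff.mp (h.2.1 (hDn.conj_mem d hd c⁻¹))
    rw [inv_inv] at this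
    calc d * (c * x * c⁻¹) = c * ((c⁻¹ * d * c) * x) * c⁻¹ := by group
      _ = c * (x * (c⁻¹ * d * c)) * c⁻¹ := by rw [this]
      _ = c * x * c⁻¹ * d := by group
  · rw [card_centralizer_conj]; exact h.2.2

include hM hD in
/-- A block whose central character sees a class with defect group `D` has defect group `D`. -/
theorem defect_eq_of_sees {B : Set (IrrCharacter G)} (hB : IsPBlock M B) {χ : IrrCharacter G}
    (hχ : χ ∈ B) {x : G} (hx : IsDClass p D x)
    (h : ¬ MemLocalIdeal M (centralChar (χ : G → ℂ) x)) : IsDefectGroup p M B D := by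
  obtain ⟨E, hE⟩ := exists_defectGroup (p := p) hB
  have hDE := normal_le_defect hM hB hD hE
  obtain ⟨c, hc⟩ := defect_conj_le_centralizer hM hB hE hχ h
  obtain ⟨-, -, -, hEp, -⟩ := defectGroup_spec hE
  have h1 := card_le_of_isPGroup_le hc (isPGroup_map_conj hEp c)
  rw [card_map_conj, hx.2.2, ← Sylow.card_eq_multiplicity_aux hD] at h1
  exact Subgroup.eq_of_le_of_card_ge hDE h1 ▸ hE
where
  Sylow.card_eq_multiplicity_aux {D : Subgroup G} (hD : IsPGroup p D) :
      Nat.card D = p ^ (Nat.card D).factorization p := by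
    obtain ⟨n, hn⟩ := IsPGroup.iff_card.mp hD
    rw [hn, hp.out.factorization_pow, Finsupp.single_eq_same]

include hM hD in
theorem block_sum_eq {B B' : Set (IrrCharacter G)} (hB : IsPBlock M B)
    (hBD : IsDefectGroup p M B D) (hB' : IsPBlock M B') (hB'D : IsDefectGroup p M B' D)
    {χ : IrrCharacter G} (hχ : χ ∈ B') {ι : Type v} [Fintype ι] (K : ι → ConjClasses G)
    (hinj : Function.Injective K) (hK : ∀ x : G, IsDClass p D x → ∃ i, K i = ConjClasses.mk x) :
    ∑ i, (bBar M B : MonoidAlgebra (Res M) G).coeff (rep (K i)) *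
      red M (centralCharL M χ (rep (K i))) = if B = B' then 1 else 0 := by
  have hd : ∀ {A : Set (IrrCharacter G)}, IsPBlock M A → IsDefectGroup p M A D →
      blockDefect p A = (Nat.card D).factorization p := fun hA hAD => by
    rw [card_defectGroup hM hA hAD, hp.out.factorization_pow, Finsupp.single_eq_same]
  have e : omegaBar M χ (bBar M B) = if B = B' then 1 else 0 := by
    rw [omegaBar_bBar (blockCoeff_mem_loc hB)]
    by_cases h : B = B'
    · rw [if_pos h, if_pos (h ▸ hχ)]
    · rw [if_neg h, if_neg fun h' => h (block_eq_of_mem hB hB' h' hχ)]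
  rw [← e, omegaBar_apply]
  refine Finset.sum_bij_ne_zero (fun i _ _ => K i) (fun _ _ _ => by simp)
    (fun a _ _ b _ _ h => hinj h) (fun C _ hC => ?_) (fun _ _ _ => rfl)
  have hne := left_ne_zero_of_mul hC
  obtain ⟨hreg, hdd⟩ : ¬ p ∣ orderOf (rep C) ∧
      (Nat.card (Subgroup.centralizer ({rep C} : Set G))).factorization p = blockDefect p B := by
    by_contra h
    exact hC (term_eq_zero hM hB hB' ((hd hB' hB'D).trans (hd hB hBD).symm) hχ h)
  have hcent : rep C ∈ Subgroup.centralizer (D : Set G) := by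
    by_contra h
    exact (coeff_bBar_ne_zero_iff (blockCoeff_mem_loc hB) _).mp hne
      (by rw [blockCoeff_eq_zero_of_notMem hM hD hB h]; exact memLocalIdeal_zero)
  obtain ⟨i, hi⟩ := hK (rep C) ⟨hreg, fun d hd' => Subgroup.mem_centralizer_singleton_iff.mpr
    (Subgroup.mem_centralizer_iff.mp hcent d hd'), hdd.trans (hd hB hBD)⟩
  rw [mk_rep] at hi
  exact ⟨i, by simp, by rw [hi]; exact hC, hi⟩

include hM hD in
/-- Robinson's theorem on the blocks with a given normal defect group. -/
theorem card_blocks_eq_rank (S : Sylow p G) {ι : Type v} [Fintype ι] [DecidableEq ι]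
    (K : ι → ConjClasses G) (hinj : Function.Injective K)
    (hK : ∀ C : ConjClasses G, (∃ i, K i = C) ↔ ∃ x ∈ C.carrier, IsDClass p D x) :
    Nat.card {B : Set (IrrCharacter G) // IsPBlock M B ∧ IsDefectGroup p M B D} =
      (Matrix.of fun i j : ι => ((Nat.card {yz : G × G // yz.1 ∈ (K i).carrier ∧
        yz.2 ∈ (K j).carrier ∧ yz.2 * yz.1⁻¹ ∈ (S : Subgroup G)} /
          p ^ ((Nat.card G).factorization p - (Nat.card D).factorization p) : ℕ) : ZMod p)).rank := by
  haveI := charP_res hM
  letI : Fintype (S : Subgroup G) := Fintype.ofFinite _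
  set a := (Nat.card G).factorization p with ha
  set δ := (Nat.card D).factorization p with hδ
  have hδa : δ ≤ a := (Nat.factorization_le_iff_dvd Nat.card_pos.ne' Nat.card_pos.ne').mpr
    (Subgroup.card_subgroup_dvd_card D) p
  set g' := Nat.card G / p ^ a
  have hG : Nat.card G = p ^ a * g' := (Nat.ordProj_mul_ordCompl_eq_self _ _).symm
  have hg' : ((g' : ℕ) : Res M) ≠ 0 := fun h =>
    Nat.not_dvd_ordCompl hp.out Nat.card_pos.ne' ((CharP.cast_eq_zero_iff (Res M) p _).mp h)
  let κ := {B : Set (IrrCharacter G) // IsPBlock M B ∧ IsDefectGroup p M B D}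
  haveI : Fintype κ := Fintype.ofFinite _
  have hdef : ∀ B : κ, blockDefect p B.1 = δ := fun B => by
    rw [hδ, card_defectGroup hM B.2.1 B.2.2, hp.out.factorization_pow, Finsupp.single_eq_same]
  have hdvd : ∀ (B : κ) (χ : IrrCharacter G), χ ∈ B.1 → p ^ (a - δ) ∣ CT.deg (χ : G → ℂ) := by
    intro B χ hχ
    have h1 := hdef B
    rw [blockDefect] at h1
    have h2 : sInf ((fun χ : IrrCharacter G => (charDegree (χ : G → ℂ)).factorization p) '' B.1) ≤
        (charDegree (χ : G → ℂ)).factorization p := Nat.sInf_le ⟨χ, hχ, rfl⟩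
    refine (hp.out.pow_dvd_iff_le_factorization (CT.deg_pos χ.2).ne').mpr ?_
    show a - δ ≤ (charDegree (χ : G → ℂ)).factorization p
    omega
  -- the weights
  let q : IrrCharacter G → ℕ := fun χ => CT.deg (χ : G → ℂ) / p ^ (a - δ)
  let m : IrrCharacter G → ℕ := fun χ =>
    CT.mult (fun x : (S : Subgroup G) => (χ : G → ℂ) x) (fun _ => 1)
  let w : κ → ℕ := fun B => ∑ χ : IrrCharacter G, if χ ∈ B.1 then q χ * m χ else 0
  have hw : ∀ B : κ, ((w B : ℕ) : Res M) ≠ 0 := by
    intro B h0
    rw [CharP.cast_eq_zero_iff (Res M) p] at h0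
    obtain ⟨A, r, t, hA, hr, ht, hsum, hAr, hAt⟩ := exists_deg_sq hM hD B.2.1 B.2.2
    have hS := sum_deg_mult hM B.2.1 (S : Subgroup G) S.isPGroup'
    have hwd : ∑ χ : IrrCharacter G, (if χ ∈ B.1 then CT.deg (χ : G → ℂ) * m χ else 0) =
        p ^ (a - δ) * w B := by
      rw [Finset.mul_sum]
      refine Finset.sum_congr rfl fun χ _ => ?_
      by_cases hχ : χ ∈ B.1
      · simp only [if_pos hχ, q]
        rw [← mul_assoc, Nat.mul_div_cancel' (hdvd B χ hχ)]
      · simp [hχ]
    rw [hwd, hsum, S.card_eq_multiplicity] at hS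
    have hne : A * r * (t * t) ≠ 0 := by positivity
    have hw0 : w B ≠ 0 := fun hz => by
      rw [hz, mul_zero, mul_zero] at hS
      exact (Nat.mul_ne_zero Nat.card_pos.ne' hne) hS.symm
    have e := congrArg (fun n : ℕ => n.factorization p) hS
    have hp0 := hp.out.ne_zero
    rw [Nat.factorization_mul (pow_ne_zero _ hp0) (Nat.mul_ne_zero (pow_ne_zero _ hp0) hw0),
      Nat.factorization_mul (pow_ne_zero _ hp0) hw0, Nat.factorization_mul Nat.card_pos.ne' hne,
      Nat.factorization_mul (Nat.mul_ne_zero hA hr) (Nat.mul_ne_zero ht ht),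
      Nat.factorization_mul hA hr, Nat.factorization_mul ht ht] at e
    simp only [Finsupp.add_apply, hp.out.factorization_pow, Finsupp.single_eq_same] at e
    have := hp.out.factorization_pos_of_dvd hw0 h0
    omega
  let c : κ → Res M := fun B => ((w B : ℕ) : Res M) * ((g' : ℕ) : Res M)⁻¹
  have hc : ∀ B, c B ≠ 0 := fun B => mul_ne_zero (hw B) (inv_ne_zero hg')
  -- the classes
  have hmemK : ∀ i, IsDClass p D (rep (K i)) := fun i => by
    obtain ⟨x, hx, hxD⟩ := (hK (K i)).mp ⟨i, rfl⟩
    refine isDClass_conj (ConjClasses.mk_eq_mk_iff_isConj.mp ?_) hxD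
    rw [mk_rep]; exact ConjClasses.mem_carrier_iff_mk_eq.mp hx
  have hKx : ∀ x : G, IsDClass p D x → ∃ i, K i = ConjClasses.mk x := fun x hx =>
    (hK _).mpr ⟨x, ConjClasses.mem_carrier_mk, hx⟩
  let K' : ι → ConjClasses G := fun i => ConjClasses.mk (rep (K i))⁻¹
  have hK'inj : Function.Injective K' := fun i j h => hinj (by
    rw [← mk_rep (K i), ← mk_rep (K j), ConjClasses.mk_eq_mk_iff_isConj]
    obtain ⟨d, hd⟩ := isConj_iff.mp (ConjClasses.mk_eq_mk_iff_isConj.mp h)
    exact isConj_iff.mpr ⟨d, by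
      rw [← inv_inj, mul_inv_rev, mul_inv_rev, inv_inv, ← mul_assoc]; exact hd⟩)
  have hK'x : ∀ x : G, IsDClass p D x → ∃ i, K' i = ConjClasses.mk x := fun x hx => by
    obtain ⟨i, hi⟩ := hKx x⁻¹ (isDClass_inv hx)
    refine ⟨i, ConjClasses.mk_eq_mk_iff_isConj.mpr ?_⟩
    rw [← mk_rep (K i), ConjClasses.mk_eq_mk_iff_isConj] at hi
    obtain ⟨d, hd⟩ := isConj_iff.mp hi
    exact isConj_iff.mpr ⟨d, by
      rw [← inv_inv x, ← hd, mul_inv_rev, mul_inv_rev, inv_inv, mul_assoc]⟩
  choose ch hch using fun B : κ => block_nonempty B.2.1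
  let A : Matrix κ ι (Res M) :=
    Matrix.of fun B i => red M (centralCharL M (ch B) (rep (K' i)))
  let A' : Matrix κ ι (Res M) :=
    Matrix.of fun B i => red M (centralCharL M (ch B) (rep (K i)))
  let X : Matrix κ ι (Res M) :=
    Matrix.of fun B i => (bBar M B.1 : MonoidAlgebra (Res M) G).coeff (rep (K' i))
  let Y : Matrix κ ι (Res M) :=
    Matrix.of fun B i => (bBar M B.1 : MonoidAlgebra (Res M) G).coeff (rep (K i))
  have hXA : X * A.transpose = 1 := by
    refine Matrix.ext fun B B' => ?_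
    rw [Matrix.mul_apply, Matrix.one_apply]
    refine (block_sum_eq hM hD B.2.1 B.2.2 B'.2.1 B'.2.2 (hch B') K' hK'inj hK'x).trans ?_
    exact if_congr Subtype.ext_iff.symm rfl rfl
  have hAY : A' * Y.transpose = 1 := by
    refine Matrix.ext fun B B' => ?_
    rw [Matrix.mul_apply, Matrix.one_apply]
    refine Eq.trans (Finset.sum_congr rfl fun i _ => mul_comm _ _) ?_
    refine (block_sum_eq hM hD B'.2.1 B'.2.2 B.2.1 B.2.2 (hch B) K hinj hKx).trans ?_
    exact if_congr (Subtype.ext_iff.symm.trans eq_comm) rfl rfl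
  -- the entries
  let F : Matrix ι ι (ZMod p) := Matrix.of fun i j => ((Nat.card {yz : G × G //
    yz.1 ∈ (K i).carrier ∧ yz.2 ∈ (K j).carrier ∧ yz.2 * yz.1⁻¹ ∈ (S : Subgroup G)} /
      p ^ (a - δ) : ℕ) : ZMod p)
  let φ : ZMod p →+* Res M := ZMod.castHom dvd_rfl (Res M)
  have hF : F.map φ = A.transpose * (Matrix.diagonal c * A') := by
    refine Matrix.ext fun i j => ?_
    rw [Matrix.mul_apply]
    simp only [F, A, A', Matrix.map_apply, Matrix.of_apply, map_natCast, Matrix.diagonal_mul,
      Matrix.transpose_apply, K']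
    exact entry_eq hM hD S hG hg' hδ hδa hdef hdvd q rfl m rfl c (fun _ => rfl) ch hch (hmemK i)
      (hmemK j) (K i) (K j) (mk_rep _) (mk_rep _)
  rw [show Nat.card κ = Fintype.card κ from Nat.card_eq_fintype_card]
  show Fintype.card κ = F.rank
  rw [← rank_map φ F, hF]
  refine le_antisymm ?_ ?_
  · have e : X * (A.transpose * (Matrix.diagonal c * A')) * Y.transpose = Matrix.diagonal c := by
      rw [← Matrix.mul_assoc X, hXA, Matrix.one_mul, Matrix.mul_assoc, hAY, Matrix.mul_one]
    calc Fintype.card κ = (Matrix.diagonal c).rank := by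
          rw [Matrix.rank_diagonal]
          exact (Fintype.card_congr (Equiv.subtypeUnivEquiv hc)).symm
      _ ≤ _ := (le_of_eq (congrArg Matrix.rank e.symm)).trans
          ((Matrix.rank_mul_le_left _ _).trans (Matrix.rank_mul_le_right _ _))
  · exact (Matrix.rank_mul_le_left _ _).trans (Matrix.rank_le_card_width _)
where
  entry_eq {D : Subgroup G} [D.Normal] (hM : IsPModular p M) (hD : IsPGroup p D) (S : Sylow p G)
      [Fintype (S : Subgroup G)] {a δ g' : ℕ} (hG : Nat.card G = p ^ a * g')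
      (hg' : ((g' : ℕ) : Res M) ≠ 0) (hδ : δ = (Nat.card D).factorization p) (hδa : δ ≤ a)
      [Fintype {B : Set (IrrCharacter G) // IsPBlock M B ∧ IsDefectGroup p M B D}]
      (hdef : ∀ B : {B : Set (IrrCharacter G) // IsPBlock M B ∧ IsDefectGroup p M B D},
        blockDefect p B.1 = δ)
      (hdvd : ∀ (B : {B : Set (IrrCharacter G) // IsPBlock M B ∧ IsDefectGroup p M B D})
        (χ : IrrCharacter G), χ ∈ B.1 → p ^ (a - δ) ∣ CT.deg (χ : G → ℂ))
      (q : IrrCharacter G → ℕ) (hq : q = fun χ : IrrCharacter G => CT.deg (χ : G → ℂ) / p ^ (a - δ))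
      (m : IrrCharacter G → ℕ) (hm : m = fun χ : IrrCharacter G =>
        CT.mult (fun x : (S : Subgroup G) => (χ : G → ℂ) x) (fun _ => 1))
      (c : {B : Set (IrrCharacter G) // IsPBlock M B ∧ IsDefectGroup p M B D} → Res M)
      (hc : ∀ B, c B = ((∑ χ : IrrCharacter G, if χ ∈ B.1 then q χ * m χ else 0 : ℕ) : Res M) *
        ((g' : ℕ) : Res M)⁻¹)
      (ch : {B : Set (IrrCharacter G) // IsPBlock M B ∧ IsDefectGroup p M B D} → IrrCharacter G)
      (hch : ∀ B, ch B ∈ B.1) {x y : G} (hx : IsDClass p D x) (hy : IsDClass p D y)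
      (Cx Cy : ConjClasses G) (hCx : ConjClasses.mk x = Cx) (hCy : ConjClasses.mk y = Cy) :
      ((Nat.card {yz : G × G // yz.1 ∈ Cx.carrier ∧ yz.2 ∈ Cy.carrier ∧
          yz.2 * yz.1⁻¹ ∈ (S : Subgroup G)} / p ^ (a - δ) : ℕ) : Res M) =
        ∑ B, red M (centralCharL M (ch B) (rep (ConjClasses.mk x⁻¹))) *
          (c B * red M (centralCharL M (ch B) y)) := by
    subst hCx hCy
    haveI := charP_res hM
    subst hδ
    set e := a - (Nat.card D).factorization p with he
    set P := Subgroup.centralizer ({y} : Set G)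
    have hp0 : (p : ℂ) ≠ 0 := Nat.cast_ne_zero.mpr hp.out.ne_zero
    have ha : (Nat.card G).factorization p = a := by
      have hg0 : g' ≠ 0 := fun h0 => Nat.card_pos.ne' (by rw [hG, h0, mul_zero])
      have hndvd : ¬ p ∣ g' := fun hd => hg' ((CharP.cast_eq_zero_iff (Res M) p _).mpr hd)
      rw [hG, Nat.factorization_mul (pow_ne_zero _ hp.out.ne_zero) hg0, Finsupp.add_apply,
        hp.out.factorization_pow, Finsupp.single_eq_same,
        Nat.factorization_eq_zero_of_not_dvd hndvd, add_zero]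
    -- the class size
    obtain ⟨ny, hny⟩ : p ^ e ∣ P.index := by
      refine (hp.out.pow_dvd_iff_le_factorization Subgroup.index_ne_zero_of_finite).mpr ?_
      have h := congrArg (fun n : ℕ => n.factorization p) P.card_mul_index
      rw [Nat.factorization_mul Nat.card_pos.ne' Subgroup.index_ne_zero_of_finite,
        Finsupp.add_apply, ha, hy.2.2] at h
      omega
    -- divisibility
    let S' : Sylow p (Subgroup.centralizer ({x} : Set G)) := default
    have hdiv := Cfsg.Agent.S0957.result p S x y S'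
    rw [S.card_eq_multiplicity, S'.card_eq_multiplicity, hx.2.2, ha,
      Nat.pow_div hδa hp.out.pos] at hdiv
    have hcar : ∀ u v : G, u ∈ (ConjClasses.mk v).carrier ↔ IsConj v u := fun u v => by
      rw [ConjClasses.mem_carrier_iff_mk_eq, ConjClasses.mk_eq_mk_iff_isConj]
      exact ⟨IsConj.symm, IsConj.symm⟩
    simp only [hcar]
    obtain ⟨Q, hQ⟩ := hdiv
    rw [hQ, Nat.mul_div_cancel_left _ (pow_pos hp.out.pos _)]
    have hinv : ∀ u v : G, IsConj u v → IsConj u⁻¹ v⁻¹ := fun u v h => by
      obtain ⟨d, rfl⟩ := isConj_iff.mp h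
      exact isConj_iff.mpr ⟨d, by group⟩
    have hN : ((p ^ e * Q : ℕ) : ℂ) = ∑ s : (S : Subgroup G), (Nat.card {pq : G × G //
        IsConj y pq.1 ∧ IsConj x⁻¹ pq.2 ∧ pq.1 * pq.2 = (s : G)} : ℂ) := by
      rw [← hQ, ← Nat.cast_sum, ← Nat.card_sigma]
      refine congrArg _ (Nat.card_congr
        { toFun := fun t => ⟨⟨t.1.2 * t.1.1⁻¹, t.2.2.2⟩, ⟨(t.1.2, t.1.1⁻¹), t.2.2.1,
            hinv _ _ t.2.1, rfl⟩⟩
          invFun := fun t => ⟨(t.2.1.2⁻¹, t.2.1.1),
            (by have h := hinv _ _ t.2.2.2.1; rwa [inv_inv] at h), t.2.2.1, by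
            rw [inv_inv, t.2.2.2.2]; exact t.1.2⟩
          left_inv := fun t => Subtype.ext (by simp)
          right_inv := fun t => by
            obtain ⟨⟨s, hs⟩, ⟨u, v⟩, h1, h2, h3⟩ := t
            refine Sigma.subtype_ext (Subtype.ext ?_) ?_ <;> simp [h3] })
    -- in the complex numbers
    have hC : ((Q * g' : ℕ) : ℂ) = ∑ χ : IrrCharacter G,
        centralChar (χ : G → ℂ) x⁻¹ * ((ny : ℂ) * (χ : G → ℂ) y) * (m χ : ℂ) := by
      have hmul : ((p ^ e * Q : ℕ) : ℂ) * (Nat.card G : ℂ) = ∑ χ : IrrCharacter G,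
          centralChar (χ : G → ℂ) x⁻¹ * ((P.index : ℂ) * (χ : G → ℂ) y) *
            ((Nat.card (S : Subgroup G) : ℂ) * (m χ : ℂ)) := by
        have hsum : ∀ χ : IrrCharacter G, ∑ s : (S : Subgroup G), conj ((χ : G → ℂ) s) =
            (Nat.card (S : Subgroup G) : ℂ) * (m χ : ℂ) := by
          intro χ
          have e' := CT.mult_spec (CT.isCharacter_restrict (S : Subgroup G)
            (CT.isCharacter_of_isIrr χ.2)) (CT.isCharacter_one (G := (S : Subgroup G)))
          rw [classInner, inv_mul_eq_iff_eq_mul₀ (Nat.cast_ne_zero.mpr Nat.card_pos.ne')] at e'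
          simp only [map_one, mul_one] at e'
          rw [hm, ← map_sum, e', map_mul, map_natCast, map_natCast]
        rw [hN, Finset.sum_congr rfl fun (s : (S : Subgroup G)) _ =>
          CT.class_mul_formula y x⁻¹ (s : G),
          Finset.sum_mul]
        simp only [← hsum, Finset.mul_sum, Finset.sum_mul]
        rw [Finset.sum_comm]
        refine Finset.sum_congr rfl fun χ _ => Finset.sum_congr rfl fun s _ => ?_
        simp only [CT.card_conj_class, centralChar, P]
        field_simp [CT.card_ne_zero (G := G)]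
      rw [hG, S.card_eq_multiplicity, ha, hny] at hmul
      push_cast at hmul ⊢
      refine mul_left_cancel₀ (pow_ne_zero e hp0) (mul_left_cancel₀ (pow_ne_zero a hp0) ?_)
      calc (p : ℂ) ^ a * ((p : ℂ) ^ e * ((Q : ℂ) * (g' : ℂ)))
          = (p : ℂ) ^ e * (Q : ℂ) * ((p : ℂ) ^ a * (g' : ℂ)) := by ring
        _ = _ := by
          rw [hmul, Finset.mul_sum, Finset.mul_sum]
          exact Finset.sum_congr rfl fun χ _ => by ring
    -- modulo the maximal ideal
    set f : IrrCharacter G → Res M := fun χ =>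
      red M (centralCharL M χ x⁻¹) * red M ((ny : Loc M) * charL M χ y) * ((m χ : ℕ) : Res M)
    have hR : ((Q * g' : ℕ) : Res M) = ∑ χ : IrrCharacter G, f χ := by
      have hL : ((Q * g' : ℕ) : Loc M) = ∑ χ : IrrCharacter G,
          centralCharL M χ x⁻¹ * ((ny : Loc M) * charL M χ y) * ((m χ : ℕ) : Loc M) := by
        refine Subtype.ext ?_
        rw [← Subring.coe_subtype (Loc M), map_natCast, map_sum, hC]
        simp
      have h := congrArg (red M) hL
      rw [map_natCast, map_sum] at h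
      rw [h]
      exact Finset.sum_congr rfl fun χ _ => by simp [f]
    have hval : ∀ (B : {B : Set (IrrCharacter G) // IsPBlock M B ∧ IsDefectGroup p M B D})
        (χ : IrrCharacter G), χ ∈ B.1 → f χ =
          red M (centralCharL M (ch B) (rep (ConjClasses.mk x⁻¹))) *
            (red M (centralCharL M (ch B) y) * ((q χ * m χ : ℕ) : Res M)) := by
      intro B χ hχ
      have hs := sameBlock_iff_red.mp ((mem_block_iff B.2.1 (hch B)).mp hχ)
      have hny' : (ny : Loc M) * charL M χ y = centralCharL M χ y * ((q χ : ℕ) : Loc M) := by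
        refine Subtype.ext (mul_left_cancel₀ (pow_ne_zero e hp0) ?_)
        push_cast
        rw [← mul_assoc, coe_charL, show (p : ℂ) ^ e * (ny : ℂ) = (P.index : ℂ) by
            rw [hny]; push_cast; ring, coe_centralCharL, mul_left_comm,
          show (p : ℂ) ^ e * (q χ : ℂ) = (χ : G → ℂ) 1 by
            rw [← Nat.cast_pow, ← Nat.cast_mul, hq, Nat.mul_div_cancel' (hdvd B χ hχ),
              CT.deg_eq (CT.isCharacter_of_isIrr χ.2)],
          centralChar, div_mul_cancel₀ _ (CT.irr_one_ne_zero χ.2)]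
      have h1 : red M (centralCharL M χ x⁻¹) =
          red M (centralCharL M (ch B) (rep (ConjClasses.mk x⁻¹))) := by
        rw [← hs x⁻¹]
        exact congrArg _ (Subtype.ext (centralChar_congr (ch B) (isConj_rep x⁻¹).symm))
      simp only [f]
      rw [h1, hny', map_mul, map_natCast, ← hs y]
      push_cast; ring
    refine mul_right_cancel₀ hg' ?_
    rw [← Nat.cast_mul, hR, Finset.sum_mul]
    have hr : ∀ B : {B : Set (IrrCharacter G) // IsPBlock M B ∧ IsDefectGroup p M B D},
        red M (centralCharL M (ch B) (rep (ConjClasses.mk x⁻¹))) *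
          (c B * red M (centralCharL M (ch B) y)) * ((g' : ℕ) : Res M) =
        ∑ χ : IrrCharacter G, if χ ∈ B.1 then f χ else 0 := by
      intro B
      rw [hc, Nat.cast_sum, Finset.sum_mul, Finset.sum_mul, Finset.mul_sum, Finset.sum_mul]
      refine Finset.sum_congr rfl fun χ _ => ?_
      by_cases hχ : χ ∈ B.1
      · rw [if_pos hχ, if_pos hχ, hval B χ hχ]
        field_simp
      · simp [hχ]
    rw [Finset.sum_congr rfl fun B _ => hr B, Finset.sum_comm]
    refine Finset.sum_congr rfl fun χ _ => ?_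
    by_cases hex : IsDefectGroup p M (blockOf M (χ : G → ℂ)) D
    · rw [Finset.sum_eq_single
        (⟨blockOf M (χ : G → ℂ), isPBlock_blockOf χ, hex⟩ :
          {B : Set (IrrCharacter G) // IsPBlock M B ∧ IsDefectGroup p M B D})
        (fun (B : {B : Set (IrrCharacter G) // IsPBlock M B ∧ IsDefectGroup p M B D}) _ hB =>
          if_neg fun h => hB (Subtype.ext
          (block_eq_blockOf B.2.1 h))) (by simp), if_pos (self_mem_blockOf χ)]
    · rw [Finset.sum_eq_zero fun (B : {B : Set (IrrCharacter G) //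
        IsPBlock M B ∧ IsDefectGroup p M B D}) _ => if_neg fun h => hex
        (block_eq_blockOf B.2.1 h ▸ B.2.2)]
      by_contra hne
      refine hex (defect_eq_of_sees hM hD (isPBlock_blockOf χ) (self_mem_blockOf χ) (isDClass_inv hx)
        ((red_centralCharL_ne_zero_iff χ _).mp (left_ne_zero_of_mul (left_ne_zero_of_mul hne))))

end Cfsg.Agent.Blocks.Robinson
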