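import Cfsg.Agent.Lib.Blocks.BrauerFeit
import Cfsg.Agent.Lib.ClassSum.Landau

/-!
# Groups with a single block
-/

namespace Cfsg.Agent.Blocks

universe u

/-- Groups with a single block and bounded p-part have bounded order. -/
theorem exists_bound_of_single_block (p : ℕ) [Fact p.Prime] (a : ℕ) : ∃ N : ℕ,
    ∀ (G : Type u) [Group G] [Finite G] (M : Ideal AlgInt), IsPModular p M →
      (Nat.card G).factorization p ≤ a →
      (∀ B : Set (IrrCharacter G), IsPBlock M B → B = principalBlock M G) → Nat.card G ≤ N := by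
  obtain ⟨N, hN⟩ := ClassSum.exists_bound_of_classNumber.{u} (p ^ (2 * a) + 4)
  refine ⟨N, fun G _ _ M hM ha hone => hN G ?_⟩
  haveI := Fintype.ofFinite G
  haveI := isPrime_of_modular hM
  have h := brauer_feit hM (isPBlock_principalBlock (M := M) (G := G))
  have he : Nat.card (principalBlock M G) = Nat.card (IrrCharacter G) :=
    Nat.card_congr (Equiv.subtypeUnivEquiv fun χ => hone _ (isPBlock_blockOf χ) ▸ self_mem_blockOf χ)
  have hd : p ^ (2 * blockDefect p (principalBlock M G)) ≤ p ^ (2 * a) :=
    Nat.pow_le_pow_right (Fact.out : p.Prime).pos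
      (Nat.mul_le_mul_left 2 ((blockDefect_le p _).trans ha))
  rw [← CT.card_irr_eq_card_conjClasses, ← he]
  omega

end Cfsg.Agent.Blocks
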