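import Cfsg.Agent.Lib.Blocks.Section
import Cfsg.Agent.Lib.Blocks.Regular
import Cfsg.Agent.Lib.CT.Brauer
import Cfsg.Agent.Lib.ClassSum.GaloisMean
import Mathlib.GroupTheory.Transfer
import Mathlib.Algebra.Order.Chebyshev
import Mathlib.Analysis.SpecialFunctions.Complex.CircleAddChar
import Mathlib.NumberTheory.LegendreSymbol.AddCharacter

/-!
# Tools for a small centralizer of a p-element
-/

set_option linter.unusedSectionVars false

namespace Cfsg.Agent.Blocks.SmallCent

open scoped ComplexConjugate Classical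

universe u

variable {p : ℕ} [hp : Fact p.Prime]

/-- The value of an integral vector on a root of unity. -/
noncomputable def evr (r : ZMod p → ℤ) (j : ZMod p) : ℂ :=
  ∑ k, (r k : ℂ) * ZMod.stdAddChar (j * k)

theorem conj_psi (a : ZMod p) : conj (ZMod.stdAddChar a) = ZMod.stdAddChar (-a) := by
  rw [AddChar.map_neg_eq_inv, ZMod.stdAddChar_apply, ← Circle.coe_inv, Circle.coe_inv_eq_conj]

theorem sum_psi (b : ZMod p) :
    ∑ j : ZMod p, (ZMod.stdAddChar (j * b) : ℂ) = if b = 0 then (p : ℂ) else 0 := by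
  rw [AddChar.sum_mulShift b (ZMod.isPrimitive_stdAddChar p), ZMod.card]
  split_ifs <;> simp

theorem parseval (r : ZMod p → ℤ) :
    ∑ j, Complex.normSq (evr r j) = (p : ℝ) * ∑ k, (r k : ℝ) ^ 2 := by
  apply Complex.ofReal_injective
  push_cast
  simp only [← Complex.mul_conj, evr, map_sum, map_mul, map_intCast, conj_psi, Finset.sum_mul_sum]
  rw [Finset.sum_comm, Finset.mul_sum]
  refine Finset.sum_congr rfl fun k _ => ?_
  rw [Finset.sum_comm]
  rw [Finset.sum_eq_single k]
  · simp only [mul_mul_mul_comm, ← AddChar.map_add_eq_mul, ← Finset.mul_sum, add_neg_cancel,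
      AddChar.map_zero_eq_one, Finset.sum_const, Finset.card_univ, ZMod.card, nsmul_eq_mul, mul_one]
    ring
  · intro l _ hl
    simp only [mul_mul_mul_comm, ← AddChar.map_add_eq_mul, ← Finset.mul_sum]
    rw [Finset.sum_congr rfl fun j _ => congrArg _ (show j * k + -(j * l) = j * (k - l) by ring),
      sum_psi, if_neg (sub_ne_zero.mpr hl.symm), mul_zero]
  · simp

theorem sum_units (r : ZMod p → ℤ) :
    ∑ j ∈ Finset.univ.erase 0, Complex.normSq (evr r j) =
      (p : ℝ) * ∑ k, (r k : ℝ) ^ 2 - (∑ k, (r k : ℝ)) ^ 2 := by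
  have h0 : evr r 0 = (((∑ k, (r k : ℝ)) : ℝ) : ℂ) := by simp [evr]
  rw [← parseval, ← Finset.add_sum_erase Finset.univ (fun j => Complex.normSq (evr r j))
    (Finset.mem_univ 0), h0, Complex.normSq_ofReal]
  ring

theorem evr_sub_const (r : ZMod p → ℤ) (c : ℤ) {j : ZMod p} (hj : j ≠ 0) :
    evr (fun k => r k - c) j = evr r j := by
  simp only [evr, Int.cast_sub, sub_mul, Finset.sum_sub_distrib]
  rw [← Finset.mul_sum, Finset.sum_congr rfl fun k _ => congrArg _ (mul_comm j k), sum_psi j,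
    if_neg hj, mul_zero, sub_zero]

theorem evr_const {r : ZMod p → ℤ} (h : ∀ k, r k = r 0) {j : ZMod p} (hj : j ≠ 0) :
    evr r j = 0 := by
  rw [← evr_sub_const r (r 0) hj]
  simp [evr, h]

theorem sum_units_ge {r : ZMod p → ℤ} (h : ∃ k, r k ≠ r 0) :
    (p : ℝ) - 1 ≤ ∑ j ∈ Finset.univ.erase 0, Complex.normSq (evr r j) := by
  set r' : ZMod p → ℤ := fun k => r k - r 0
  rw [← Finset.sum_congr rfl fun j hj => congrArg Complex.normSq
    (evr_sub_const r (r 0) (Finset.ne_of_mem_erase hj)), sum_units]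
  set S := Finset.univ.filter fun k => r' k ≠ 0 with hS
  have hS0 : S.Nonempty := by
    obtain ⟨k, hk⟩ := h
    exact ⟨k, Finset.mem_filter.mpr ⟨Finset.mem_univ _, sub_ne_zero.mpr hk⟩⟩
  have hlt : (S.card : ℝ) + 1 ≤ p := by
    have h1 : S.card < p := by
      have := Finset.card_lt_card (Finset.ssubset_iff_subset_ne.mpr
        ⟨Finset.subset_univ S, fun e => by
          have h0 : (0 : ZMod p) ∈ S := by rw [e]; exact Finset.mem_univ _
          exact (Finset.mem_filter.mp h0).2 (sub_self _)⟩)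
      rwa [Finset.card_univ, ZMod.card] at this
    exact_mod_cast h1
  have e1 : ∑ k, (r' k : ℝ) ^ 2 = ∑ k ∈ S, (r' k : ℝ) ^ 2 :=
    (Finset.sum_subset (Finset.subset_univ S) fun k _ hk => by
      simp only [hS, Finset.mem_filter, Finset.mem_univ, true_and, not_not] at hk
      simp [hk]).symm
  have e2 : ∑ k, (r' k : ℝ) = ∑ k ∈ S, (r' k : ℝ) :=
    (Finset.sum_subset (Finset.subset_univ S) fun k _ hk => by
      simp only [hS, Finset.mem_filter, Finset.mem_univ, true_and, not_not] at hk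
      simp [hk]).symm
  show (p : ℝ) - 1 ≤ (p : ℝ) * ∑ k, (r' k : ℝ) ^ 2 - (∑ k, (r' k : ℝ)) ^ 2
  rw [e1, e2]
  have hcs := sq_sum_le_card_mul_sum_sq (s := S) (f := fun k => (r' k : ℝ))
  have hge : (S.card : ℝ) ≤ ∑ k ∈ S, (r' k : ℝ) ^ 2 := by
    have := Finset.card_nsmul_le_sum S (fun k => (r' k : ℝ) ^ 2) 1 fun k hk => by
      have h1 := Int.one_le_abs (Finset.mem_filter.mp hk).2
      have h2 : (1 : ℤ) ≤ r' k ^ 2 := by rw [← sq_abs]; nlinarith
      exact_mod_cast h2
    simpa using this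
  have hs1 : (1 : ℝ) ≤ S.card := by exact_mod_cast hS0.card_pos
  nlinarith [mul_le_mul_of_nonneg_left hge (by linarith : (0 : ℝ) ≤ p - S.card),
    mul_nonneg (by linarith : (0 : ℝ) ≤ S.card - 1) (by linarith : (0 : ℝ) ≤ p - S.card - 1)]

/-- The quadratic form of a block of defect one on Galois averaged integral vectors. -/
theorem quad_ge {ι : Type*} [Fintype ι] (r : ι → ZMod p → ℤ) (u : ι → ℤ)
    (hu : ∀ i, u i = 1 ∨ u i = -1) {t : ℕ} (ht : t * Fintype.card ι = p - 1)
    (hne : ∃ i, ∃ j : ZMod p, j ≠ 0 ∧ evr (r i) j ≠ 0) :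
    (Fintype.card ι : ℝ) * ((p : ℝ) - 1) ≤ ∑ j ∈ Finset.univ.erase 0,
      ((p : ℝ) * ∑ i, Complex.normSq (evr (r i) j) -
        (t : ℝ) * Complex.normSq (∑ i, (u i : ℂ) * evr (r i) j)) := by
  set S := Finset.univ.filter fun i => ∃ k, r i k ≠ r i 0 with hS
  have hz : ∀ i, i ∉ S → ∀ j : ZMod p, j ≠ 0 → evr (r i) j = 0 := fun i hi j hj =>
    evr_const (fun k => by_contra fun h => hi (Finset.mem_filter.mpr ⟨Finset.mem_univ _, k, h⟩)) hj
  obtain ⟨i₀, j₀, hj₀, hne₀⟩ := hne
  have hs1 : (1 : ℝ) ≤ S.card := by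
    have : 0 < S.card := Finset.card_pos.mpr ⟨i₀, by_contra fun h => hne₀ (hz i₀ h j₀ hj₀)⟩
    exact_mod_cast this
  have hse : (S.card : ℝ) ≤ Fintype.card ι := by exact_mod_cast Finset.card_le_univ S
  have ht' : (t : ℝ) * Fintype.card ι = (p : ℝ) - 1 := by
    rw [← Nat.cast_one, ← Nat.cast_sub hp.out.one_le]
    exact_mod_cast ht
  have hj : ∀ j ∈ Finset.univ.erase (0 : ZMod p),
      ((p : ℝ) - t * S.card) * ∑ i ∈ S, Complex.normSq (evr (r i) j) ≤
      (p : ℝ) * ∑ i, Complex.normSq (evr (r i) j) -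
        (t : ℝ) * Complex.normSq (∑ i, (u i : ℂ) * evr (r i) j) := by
    intro j hj
    have hj0 := Finset.ne_of_mem_erase hj
    rw [← Finset.sum_filter_of_ne (s := Finset.univ) (p := fun i => i ∈ S)
        (f := fun i => Complex.normSq (evr (r i) j)) (fun i _ h => by_contra fun hi => h (by simp [hz i hi j hj0])),
      ← Finset.sum_filter_of_ne (s := Finset.univ) (p := fun i => i ∈ S)
        (f := fun i => (u i : ℂ) * evr (r i) j) (fun i _ h => by_contra fun hi => h (by simp [hz i hi j hj0])),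
      Finset.filter_univ_mem]
    have h1 : Complex.normSq (∑ i ∈ S, (u i : ℂ) * evr (r i) j) ≤
        (S.card : ℝ) * ∑ i ∈ S, Complex.normSq (evr (r i) j) := by
      simp only [Complex.normSq_eq_norm_sq]
      refine le_trans ?_ (sq_sum_le_card_mul_sum_sq (s := S) (f := fun i => ‖evr (r i) j‖))
      refine pow_le_pow_left₀ (norm_nonneg _) ((norm_sum_le _ _).trans_eq ?_) 2
      refine Finset.sum_congr rfl fun i _ => ?_
      rcases hu i with h | h <;> simp [h]
    have := mul_le_mul_of_nonneg_left h1 (Nat.cast_nonneg (α := ℝ) t)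
    linarith
  refine le_trans ?_ (Finset.sum_le_sum hj)
  rw [← Finset.mul_sum, Finset.sum_comm]
  have hge : (S.card : ℝ) * ((p : ℝ) - 1) ≤
      ∑ i ∈ S, ∑ j ∈ Finset.univ.erase 0, Complex.normSq (evr (r i) j) := by
    have := Finset.card_nsmul_le_sum S
      (fun i => ∑ j ∈ Finset.univ.erase 0, Complex.normSq (evr (r i) j)) ((p : ℝ) - 1)
      fun i hi => sum_units_ge (Finset.mem_filter.mp hi).2
    simpa using this
  have hp1 : (0 : ℝ) ≤ (p : ℝ) - 1 := by
    have : (1 : ℝ) ≤ p := by exact_mod_cast hp.out.one_le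
    linarith
  have hpos : (0 : ℝ) ≤ (p : ℝ) - t * S.card := by
    nlinarith [mul_le_mul_of_nonneg_left hse (Nat.cast_nonneg (α := ℝ) t)]
  rcases Nat.eq_zero_or_pos t with rfl | htp
  · rw [Nat.cast_zero, zero_mul] at ht'
    exact absurd (by linarith : (p : ℝ) = 1) (by exact_mod_cast hp.out.ne_one)
  · have ht1 : (1 : ℝ) ≤ t := by exact_mod_cast htp
    have hkey : (Fintype.card ι : ℝ) ≤ ((p : ℝ) - t * S.card) * S.card := by
      nlinarith [mul_nonneg (sub_nonneg.mpr hse)
        (sub_nonneg.mpr (by nlinarith : (1 : ℝ) ≤ t * S.card))]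
    nlinarith [mul_le_mul_of_nonneg_left hge hpos, mul_le_mul_of_nonneg_right hkey hp1]

/-- A group with a central `p`-element and Sylow order at most `p²` has a normal `p`-complement
or the element generates a direct factor. -/
theorem case_split {C : Type u} [Group C] [Finite C] {x : C} (hx : x ∈ Subgroup.center C)
    (hk : ∃ k : ℕ, orderOf x = p ^ k) (hx1 : x ≠ 1) (hν : (Nat.card C).factorization p ≤ 2) :
    (∃ k : ℕ, (pPrimeCore p C).index = p ^ k) ∨
      (orderOf x = p ∧ ∃ C0 : Subgroup C, C0.Normal ∧ C0.index = p ∧ x ∉ C0 ∧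
        (Nat.card C0).factorization p = 1) := by
  obtain ⟨k, hk⟩ := hk
  let P : Sylow p C := default
  set ν := (Nat.card C).factorization p with hνdef
  have hPc : Nat.card (P : Subgroup C) = p ^ ν := P.card_eq_multiplicity
  have hcomm : ∀ a b : (P : Subgroup C), a * b = b * a := by
    intro a b
    obtain h | h := Nat.lt_or_ge ν 2
    · haveI : IsCyclic (P : Subgroup C) := isCyclic_of_card_dvd_prime (p := p)
        (by rw [hPc]; exact (pow_dvd_pow p (Nat.le_of_lt_succ h)).trans (by rw [pow_one]))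
      exact IsCyclic.commGroup.mul_comm a b
    · exact IsPGroup.commutative_of_card_eq_prime_sq (p := p) (by rw [hPc, le_antisymm hν h]) a b
  letI : CommGroup (P : Subgroup C) := { (inferInstance : Group (P : Subgroup C)) with mul_comm := hcomm }
  have hxP : x ∈ (P : Subgroup C) := by
    haveI : (Subgroup.zpowers x).Normal := CT.normal_of_central _ (Subgroup.zpowers_le.mpr hx)
    have hZ : IsPGroup p (Subgroup.zpowers x) :=
      IsPGroup.of_card (n := k) (by rw [Nat.card_zpowers, hk])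
    exact (P.is_maximal' (P.2.to_sup_of_normal_right hZ) le_sup_left).le
      ((le_sup_right : Subgroup.zpowers x ≤ (P : Subgroup C) ⊔ Subgroup.zpowers x)
        (Subgroup.mem_zpowers x))
  set m := (P : Subgroup C).index
  let v : C →* (P : Subgroup C) := MonoidHom.transfer (MonoidHom.id (P : Subgroup C))
  have hv : ∀ z ∈ Subgroup.center C, ((v z : (P : Subgroup C)) : C) = z ^ m := fun z hz =>
    congrArg Subtype.val (MonoidHom.transfer_eq_pow (MonoidHom.id (P : Subgroup C)) z fun i g _ => by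
      rw [mul_assoc, ← Subgroup.mem_center_iff.mp (pow_mem hz i) g, ← mul_assoc, inv_mul_cancel,
        one_mul])
  have hcop : m.Coprime (orderOf x) := by
    rw [hk]; exact ((hp.out.coprime_iff_not_dvd.mpr P.not_dvd_index).symm).pow_right k
  have hinj : ∀ w ∈ Subgroup.zpowers x, v w = 1 → w = 1 := by
    intro w hw hvw
    have hwm : w ^ m = 1 := by
      rw [← hv w (Subgroup.zpowers_le.mpr hx hw), hvw, OneMemClass.coe_one]
    have h1 : orderOf w ∣ orderOf x := by
      rw [← Nat.card_zpowers x]; exact Subgroup.orderOf_dvd_natCard _ hw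
    exact orderOf_eq_one_iff.mp (Nat.eq_one_of_dvd_coprimes hcop (orderOf_dvd_of_pow_eq_one hwm) h1)
  by_cases hker : p ∣ Nat.card v.ker
  swap
  · left
    have h1 : v.ker ≤ pPrimeCore p C :=
      Basics.le_pPrimeCore (hp.out.coprime_iff_not_dvd.mpr hker).symm
    have h2 : (pPrimeCore p C).index ∣ p ^ ν := by
      refine (Subgroup.index_dvd_of_le h1).trans ?_
      rw [Subgroup.index_ker, ← hPc]
      exact Subgroup.card_subgroup_dvd_card v.range
    obtain ⟨i, -, hi⟩ := (Nat.dvd_prime_pow hp.out).mp h2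
    exact ⟨i, hi⟩
  · right
    obtain ⟨i, -, hi⟩ := (Nat.dvd_prime_pow hp.out).mp
      (hPc ▸ Subgroup.card_subgroup_dvd_card v.range : Nat.card v.range ∣ p ^ ν)
    have hidx : v.ker.index = p ^ i := by rw [Subgroup.index_ker]; exact hi
    have hfac : ν = i + (Nat.card v.ker).factorization p := by
      rw [hνdef, ← v.ker.index_mul_card, hidx, Nat.factorization_mul (pow_ne_zero _ hp.out.ne_zero)
        Nat.card_pos.ne', Finsupp.coe_add, Pi.add_apply, hp.out.factorization_pow,
        Finsupp.single_eq_same]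
    have hker1 : 1 ≤ (Nat.card v.ker).factorization p :=
      hp.out.factorization_pos_of_dvd Nat.card_pos.ne' hker
    have hk1 : 1 ≤ k := Nat.one_le_iff_ne_zero.mpr fun h => hx1 (orderOf_eq_one_iff.mp (by rw [hk, h, pow_zero]))
    have hki : k ≤ i := by
      have hle : Nat.card (Subgroup.zpowers x) ≤ Nat.card v.range := by
        refine Nat.card_le_card_of_injective (fun w : Subgroup.zpowers x => (⟨v w, ⟨w, rfl⟩⟩ : v.range)) fun a b hab => ?_
        have hab' : v a = v b := congrArg Subtype.val hab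
        have := hinj _ (mul_mem a.2 (inv_mem b.2)) (by rw [map_mul, map_inv, hab', mul_inv_cancel])
        exact Subtype.ext (mul_inv_eq_one.mp this)
      rw [Nat.card_zpowers, hk, hi] at hle
      exact (Nat.pow_le_pow_iff_right hp.out.one_lt).mp hle
    have hk' : k = 1 := by omega
    have hi' : i = 1 := by omega
    refine ⟨by rw [hk, hk', pow_one], v.ker, inferInstance, by rw [hidx, hi', pow_one],
      fun h => hx1 (hinj x (Subgroup.mem_zpowers x) h), by omega⟩

variable {G : Type u} [Group G] [Finite G] {M : Ideal AlgInt}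

/-- Characters of degree prime to `p` do not vanish on `p`-elements. -/
theorem ne_zero_of_not_dvd_deg (hM : IsPModular p M) (χ : IrrCharacter G)
    (hd : ¬ p ∣ charDegree (χ : G → ℂ)) {x : G} (hx : ∃ k : ℕ, x ^ p ^ k = 1) :
    (χ : G → ℂ) x ≠ 0 := by
  haveI := hM.2.1.isPrime
  haveI := Fintype.ofFinite G
  haveI := charP_res hM
  intro h0
  have h := red_charL_mul (M := M) χ (Commute.one_right x) hx
    (by rw [orderOf_one]; exact hp.out.not_dvd_one)
  rw [mul_one, show charL M χ x = 0 from Subtype.ext (by rw [coe_charL, h0]; rfl), map_zero,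
    show charL M χ 1 = ((charDegree (χ : G → ℂ) : ℕ) : Loc M) from
      Subtype.ext (by rw [coe_charL, charDegree_cast]; simp), map_natCast, eq_comm,
    CharP.cast_eq_zero_iff (Res M) p] at h
  exact hd h

/-- The count when the centralizer has a normal `p`-complement. -/
theorem count_of_normal_complement (hM : IsPModular p M) {x : G}
    (hx : ∃ k : ℕ, orderOf x = p ^ k)
    (hnc : ∃ k : ℕ, (pPrimeCore p (Subgroup.centralizer ({x} : Set G))).index = p ^ k) :
    Nat.card {χ : IrrCharacter G // χ ∈ principalBlock M G ∧ ¬ p ∣ charDegree (χ : G → ℂ)} ≤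
      p ^ (Nat.card (Subgroup.centralizer ({x} : Set G))).factorization p := by
  haveI := hM.2.1.isPrime
  letI := Fintype.ofFinite G
  set q : ℕ := p ^ (Nat.card (Subgroup.centralizer ({x} : Set G))).factorization p
  set S := Finset.univ.filter fun g : G => Subgroup.zpowers g = Subgroup.zpowers x with hS
  have hxS : x ∈ S := by simp [hS]
  have hSk : ∀ g ∈ S, ∀ k : ℕ, k.Coprime (Nat.card G) → g ^ k ∈ S := by
    intro g hg k hk
    refine Finset.mem_filter.mpr ⟨Finset.mem_univ _, ?_⟩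
    rw [← (Finset.mem_filter.mp hg).2]
    refine Subgroup.eq_of_le_of_card_ge (Subgroup.zpowers_le.mpr (pow_mem (Subgroup.mem_zpowers g) k)) ?_
    rw [Nat.card_zpowers, Nat.card_zpowers,
      Nat.Coprime.orderOf_pow (hk.symm.coprime_dvd_left (orderOf_dvd_natCard g))]
  have hord : ∀ g ∈ S, ∃ k : ℕ, g ^ p ^ k = 1 := fun g hg => by
    obtain ⟨k, hk⟩ := hx
    refine ⟨k, ?_⟩
    rw [← hk, ← Nat.card_zpowers, ← (Finset.mem_filter.mp hg).2, Nat.card_zpowers, pow_orderOf_eq_one]
  set T := Finset.univ.filter fun χ : IrrCharacter G =>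
    χ ∈ principalBlock M G ∧ ¬ p ∣ charDegree (χ : G → ℂ) with hT
  have hsum : ∀ g ∈ S, ∑ χ ∈ T, ‖(χ : G → ℂ) g‖ ^ 2 ≤ (q : ℝ) := by
    intro g hg
    have key : ∀ (C : Subgroup G), Subgroup.centralizer ({g} : Set G) = C →
        (∃ k : ℕ, (pPrimeCore p C).index = p ^ k) →
        ∑ᶠ ζ ∈ principalBlock M G, ‖(ζ : G → ℂ) g‖ ^ 2 =
          ((p ^ (Nat.card C).factorization p : ℕ) : ℝ) := by
      rintro C rfl h
      have h1 : ¬ p ∣ orderOf (1 : Subgroup.centralizer ({g} : Set G)) := by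
        rw [orderOf_one]; exact hp.out.not_dvd_one
      have h2 := section_sums hM (hord g hg) h1
      rw [OneMemClass.coe_one, mul_one] at h2
      rw [h2]
      exact sum_sq_of_normal_complement hM h h1
    rw [← key _ (by rw [← centralizer_zpowers_eq, (Finset.mem_filter.mp hg).2, centralizer_zpowers_eq]) hnc,
      finsum_mem_eq_toFinset_sum]
    exact Finset.sum_le_sum_of_subset_of_nonneg (fun χ hχ => Set.mem_toFinset.mpr
      (Finset.mem_filter.mp hχ).2.1) fun χ _ _ => sq_nonneg _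
  have h1 : (T.card : ℝ) * S.card ≤ S.card * q := by
    calc (T.card : ℝ) * S.card = ∑ _χ ∈ T, (S.card : ℝ) := by simp
      _ ≤ ∑ χ ∈ T, ∑ g ∈ S, ‖(χ : G → ℂ) g‖ ^ 2 := Finset.sum_le_sum fun χ hχ =>
          ClassSum.card_le_sum_norm_sq (CT.isCharacter_of_isIrr χ.2) S hSk fun g hg =>
            ne_zero_of_not_dvd_deg hM χ (Finset.mem_filter.mp hχ).2.2 (hord g hg)
      _ = ∑ g ∈ S, ∑ χ ∈ T, ‖(χ : G → ℂ) g‖ ^ 2 := Finset.sum_comm
      _ ≤ ∑ _g ∈ S, (q : ℝ) := Finset.sum_le_sum hsum
      _ = S.card * q := by simp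
  have hS0 : (0 : ℝ) < S.card := by exact_mod_cast Finset.card_pos.mpr ⟨x, hxS⟩
  rw [Nat.card_eq_fintype_card, Fintype.card_subtype]
  have : (T.card : ℝ) ≤ q := by nlinarith
  exact_mod_cast this

end Cfsg.Agent.Blocks.SmallCent
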