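import Cfsg.Agent.Lib.Blocks.NormalPIndex
import Cfsg.Agent.Lib.BrauerPairs.Elem

/-!
# Stabilizers of covered blocks in intermediate normal subgroups of `p`-power index
-/

namespace Cfsg.Agent.Blocks

open MonoidAlgebra

universe u

variable {G : Type u} [Group G] [Finite G] {p : ℕ} {M : Ideal AlgInt} [M.IsPrime]
  {N : Subgroup G} [Fintype N] [hN : N.Normal]

set_option linter.unusedSectionVars false

/-- A `p`-element stabilizing a block gives a fixed class where the coefficient is a unit. -/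
theorem exists_centralized_class (hM : IsPModular p M) {c : Set (IrrCharacter N)}
    (hc : IsPBlock M c) {x : G} (hx : ∃ s : ℕ, x ^ p ^ s = 1) (hst : StabilizesBlock N c x) :
    ∃ n m : N, x * (n : G) * x⁻¹ = (m : G) * n * (m : G)⁻¹ ∧
      ¬ MemLocalIdeal M (blockCoeff c n) := by
  classical
  haveI : Fact p.Prime := ⟨hM.1⟩
  haveI := charP_res hM
  set H := Subgroup.zpowers x
  have hH : IsPGroup p H := by
    obtain ⟨s, hs⟩ := hx
    rintro ⟨y, hy⟩
    obtain ⟨i, rfl⟩ := Subgroup.mem_zpowers_iff.mp hy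
    refine ⟨s, Subtype.ext ?_⟩
    show (x ^ i) ^ p ^ s = 1
    rw [← zpow_natCast, ← zpow_mul, mul_comm, zpow_mul, zpow_natCast, hs, one_zpow]
  have hstH : ∀ y : H, StabilizesBlock N c (y : G) := by
    let S : Submonoid G :=
      { carrier := {y | StabilizesBlock N c y}
        one_mem' := stabilizesBlock_of_mem hc N.one_mem
        mul_mem' := fun ha hb => stabilizesBlock_mul hc ha hb }
    have hfin : IsOfFinOrder x := isOfFinOrder_of_finite x
    intro y
    obtain ⟨i, hi⟩ := (IsOfFinOrder.mem_powers_iff_mem_zpowers hfin).mpr y.2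
    show (y : G) ∈ S
    rw [← hi]
    exact pow_mem (show x ∈ S from hst) i
  letI : MulAction H (ConjClasses N) :=
    { smul := fun y C => ConjClasses.map (MulAut.conjNormal (y : G) : N ≃* N).toMonoidHom C
      one_smul := fun C => by
        refine Quotient.inductionOn C fun a => ?_
        show ConjClasses.mk ((MulAut.conjNormal ((1 : H) : G) : N ≃* N) a) = ConjClasses.mk a
        simp
      mul_smul := fun y z C => by
        refine Quotient.inductionOn C fun a => ?_
        show ConjClasses.mk ((MulAut.conjNormal ((y * z : H) : G) : N ≃* N) a) =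
          ConjClasses.mk ((MulAut.conjNormal (y : G) : N ≃* N)
            ((MulAut.conjNormal (z : G) : N ≃* N) a))
        simp }
  obtain ⟨θ, hθ⟩ := block_nonempty hc
  have hA := blockCoeff_mem_loc hc
  let F : ConjClasses N → Res M := fun C =>
    (bBar M c : MonoidAlgebra (Res M) N).coeff (rep C) * red M (centralCharL M θ (rep C))
  have hF : ∀ (y : H) (C : ConjClasses N), F (y • C) = F C := by
    intro y C
    have hconj : IsConj (rep (y • C)) ((MulAut.conjNormal (y : G) : N ≃* N) (rep C)) := by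
      rw [← ConjClasses.mk_eq_mk_iff_isConj, mk_rep]
      conv_lhs => rw [← mk_rep C]
      rfl
    simp only [F, bBar, coe_redZ, coeff_map', coeff_bIdem hA]
    congr 1
    · refine congrArg (red M) (Subtype.ext ?_)
      show blockCoeff c (rep (y • C)) = blockCoeff c (rep C)
      rw [blockCoeff_congr c hconj, ← blockCoeff_conj_of_stab hc (hstH y)
        ((MulAut.conjNormal (y : G) : N ≃* N) (rep C))]
      refine congrArg (blockCoeff c) (Subtype.ext ?_)
      show (y : G)⁻¹ * ((MulAut.conjNormal (y : G) : N ≃* N) (rep C) : G) * ((y : G)⁻¹)⁻¹ = _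
      rw [MulAut.conjNormal_apply]
      group
    · have hs : SameBlock M (θ : N → ℂ) (conjIrr (y : G) θ : N → ℂ) :=
        (mem_block_iff hc hθ).mp ((stabilizesBlock_iff hc _).mp (hstH y) θ hθ)
      rw [sameBlock_iff_red.mp hs (rep C)]
      refine congrArg (red M) (Subtype.ext ?_)
      show centralChar (θ : N → ℂ) (rep (y • C)) = centralChar (conjIrr (y : G) θ : N → ℂ) (rep C)
      rw [centralChar_congr θ hconj, coe_conjIrr, CT.conjFun_eq_comp, centralChar_comp_equiv]
  have h1 : ∑ C, F C = 1 := by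
    rw [← omegaBar_bBar_eq_one hc hθ, omegaBar_apply]
  rw [sum_eq_sum_fixed hH F hF] at h1
  obtain ⟨C, hC, hC0⟩ := Finset.exists_ne_zero_of_sum_ne_zero (h1.trans_ne one_ne_zero)
  rw [Finset.mem_filter] at hC
  have h2 := hC.2 ⟨x, Subgroup.mem_zpowers x⟩
  rw [← mk_rep C] at h2
  have h3 : IsConj (rep C) ((MulAut.conjNormal x : N ≃* N) (rep C)) :=
    ConjClasses.mk_eq_mk_iff_isConj.mp h2.symm
  obtain ⟨m, hm⟩ := isConj_iff.mp h3
  refine ⟨rep C, m, ?_, (coeff_bBar_ne_zero_iff hA _).mp (left_ne_zero_of_mul hC0)⟩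
  have := congrArg Subtype.val hm
  simp only [Subgroup.coe_mul, Subgroup.coe_inv, MulAut.conjNormal_apply] at this
  exact this.symm

theorem inf_stabilizer_eq (hM : IsPModular p M) {L : Subgroup G} [L.Normal] (hNL : N ≤ L)
    (hLN : ∃ k : ℕ, (N.subgroupOf L).index = p ^ k) {B : Set (IrrCharacter G)}
    (hB : IsPBlock M B) {c : Set (IrrCharacter N)} (hc : IsPBlock M c)
    (hcov : ∃ χ ∈ B, ∃ θ ∈ c, classInner (fun n : N => (χ : G → ℂ) n) (θ : N → ℂ) ≠ 0)
    {D : Subgroup G} (hD : IsDefectGroup p M B D) (hDN : D ≤ N) {T : Subgroup G}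
    (hT : ∀ x : G, x ∈ T ↔ StabilizesBlock N c x) : T ⊓ L = N := by
  classical
  haveI : Fact p.Prime := ⟨hM.1⟩
  haveI := charP_res hM
  letI := Fintype.ofFinite G
  letI := Fintype.ofFinite L
  letI := Fintype.ofFinite (N.subgroupOf L)
  refine le_antisymm (fun z hz => ?_)
    (le_inf (fun n hn => (hT n).mpr (stabilizesBlock_of_mem hc hn)) hNL)
  by_contra hzN
  obtain ⟨k, hk⟩ := hLN
  -- a p-element of the stabilizer outside the normal subgroup
  obtain ⟨x, hxK, hxN, hxp⟩ : ∃ x ∈ T ⊓ L, x ∉ N ∧ ∃ s : ℕ, x ^ p ^ s = 1 := by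
    set a := orderOf z / p ^ (orderOf z).factorization p
    refine ⟨z ^ a, pow_mem hz _, fun ha => hzN ?_, (orderOf z).factorization p, ?_⟩
    · have h1 : orderOf (QuotientGroup.mk z : G ⧸ N) ∣ a := orderOf_dvd_of_pow_eq_one (by
        rw [← QuotientGroup.mk_pow, QuotientGroup.eq_one_iff]; exact ha)
      have h2 : orderOf (QuotientGroup.mk z : G ⧸ N) ∣ p ^ k := by
        refine orderOf_dvd_of_pow_eq_one ?_
        rw [← QuotientGroup.mk_pow, QuotientGroup.eq_one_iff, ← hk]
        exact Subgroup.pow_index_mem (H := N.subgroupOf L) ⟨z, hz.2⟩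
      exact (QuotientGroup.eq_one_iff z).mp (orderOf_eq_one_iff.mp (Nat.eq_one_of_dvd_coprimes
        ((Nat.coprime_ordCompl hM.1 (orderOf_pos z).ne').pow_left k) h2 h1))
    · rw [← pow_mul, mul_comm, Nat.ordProj_mul_ordCompl_eq_self, pow_orderOf_eq_one]
  obtain ⟨n, m, hnm, hn0⟩ := exists_centralized_class hM hc hxp ((hT x).mp hxK.1)
  -- move into the centralizer and take the p-part
  set w := (m : G)⁻¹ * x with hw
  have hwn : w * (n : G) = (n : G) * w := by
    have h1 : x * (n : G) = (m : G) * n * (m : G)⁻¹ * x := by rw [← hnm]; group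
    rw [hw, mul_assoc, h1]
    group
  have hwK : w ∈ T ⊓ L := mul_mem (inv_mem (⟨(hT m).mpr (stabilizesBlock_of_mem hc m.2), hNL m.2⟩ :
    (m : G) ∈ T ⊓ L)) hxK
  have hwN : w ∉ N := fun h => hxN (by simpa [hw] using N.mul_mem m.2 h)
  set y := w ^ (orderOf w / p ^ (orderOf w).factorization p) with hy
  have hyN : y ∉ N := fun ha => hwN (by
    have h1 : orderOf (QuotientGroup.mk w : G ⧸ N) ∣
        orderOf w / p ^ (orderOf w).factorization p := orderOf_dvd_of_pow_eq_one (by
      rw [← QuotientGroup.mk_pow, QuotientGroup.eq_one_iff]; exact ha)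
    have h2 : orderOf (QuotientGroup.mk w : G ⧸ N) ∣ p ^ k := by
      refine orderOf_dvd_of_pow_eq_one ?_
      rw [← QuotientGroup.mk_pow, QuotientGroup.eq_one_iff, ← hk]
      exact Subgroup.pow_index_mem (H := N.subgroupOf L) ⟨w, hwK.2⟩
    exact (QuotientGroup.eq_one_iff w).mp (orderOf_eq_one_iff.mp (Nat.eq_one_of_dvd_coprimes
      ((Nat.coprime_ordCompl hM.1 (orderOf_pos w).ne').pow_left k) h2 h1)))
  have hyn : y * (n : G) = (n : G) * y :=
    ((Commute.pow_left (show Commute w (n : G) from hwn)) _).eq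
  have hyL : y ∈ L := pow_mem hwK.2 _
  have hyp : IsPGroup p (Subgroup.zpowers (⟨y, hyL⟩ : L)) := by
    rintro ⟨v, hv⟩
    obtain ⟨i, rfl⟩ := Subgroup.mem_zpowers_iff.mp hv
    refine ⟨(orderOf w).factorization p, Subtype.ext (Subtype.ext ?_)⟩
    show (y ^ i) ^ p ^ (orderOf w).factorization p = 1
    rw [← zpow_natCast, ← zpow_mul, mul_comm, zpow_mul, zpow_natCast, hy, ← pow_mul,
      mul_comm, Nat.ordProj_mul_ordCompl_eq_self, pow_orderOf_eq_one, one_zpow]
  -- the block of `L`
  obtain ⟨χ, hχ, θ, hθ, hcon⟩ := hcov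
  obtain ⟨η, hη1, hη2⟩ : ∃ η : IrrCharacter L,
      classInner (fun l : L => (χ : G → ℂ) l) (η : L → ℂ) ≠ 0 ∧
      classInner (CT.resTo N L hNL (η : L → ℂ)) (θ : N → ℂ) ≠ 0 := by
    have h := (mult_ne_zero_iff χ θ).mpr hcon
    rw [CT.sum_mult_over N θ.2 L hNL (CT.isCharacter_of_isIrr χ.2)] at h
    obtain ⟨η, -, hη⟩ := Finset.exists_ne_zero_of_sum_ne_zero h
    refine ⟨η, ?_, ?_⟩
    · rw [CT.mult_spec (CT.isCharacter_restrict L (CT.isCharacter_of_isIrr χ.2))
        (CT.isCharacter_of_isIrr η.2), Nat.cast_ne_zero]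
      exact left_ne_zero_of_mul hη
    · rw [CT.mult_spec (CT.isCharacter_resTo N L hNL (CT.isCharacter_of_isIrr η.2))
        (CT.isCharacter_of_isIrr θ.2), Nat.cast_ne_zero]
      exact right_ne_zero_of_mul hη
  set bL := blockOf M (η : L → ℂ) with hbL
  have hbLb : IsPBlock M bL := isPBlock_blockOf η
  obtain ⟨Q, hQ⟩ := exists_defectGroup (p := p) hbLb
  have hmap : (Q.map L.subtype).subgroupOf L = Q :=
    Subgroup.comap_map_eq_self_of_injective L.subtype_injective Q
  obtain ⟨P', hP', hPQ⟩ := knorr_cover hM hbLb (Subgroup.map_subtype_le Q) (hmap.symm ▸ hQ) hB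
    ⟨χ, hχ, η, self_mem_blockOf η, hη1⟩
  obtain ⟨t, ht⟩ := defect_conj hM hB hD hP'
  have hQN : ∀ q ∈ Q, (q : G) ∈ N := fun q hq => by
    have h1 : (q : G) ∈ P' := (hPQ.symm ▸ Subgroup.mem_map_of_mem L.subtype hq :
      (q : G) ∈ P' ⊓ L).1
    rw [← ht] at h1
    have := hN.conj_mem _ (hDN (mem_map_conj.mp h1)) t
    simpa [mul_assoc] using this
  -- the block of the normal subgroup seen in `L`
  set e : N.subgroupOf L ≃* N := Subgroup.subgroupOfEquivOfLe hNL with he
  set c' := BPairs.pullSet e c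
  have hc' : IsPBlock M c' := BPairs.isPBlock_pullSet e hc
  set φ : IrrCharacter (N.subgroupOf L) := Glauberman.compIrr e θ
  have hφ : φ ∈ c' := (BPairs.compIrr_mem_pullSet e).mpr hθ
  have hφc : classInner (fun v : N.subgroupOf L => (η : L → ℂ) v)
      (φ : N.subgroupOf L → ℂ) ≠ 0 := by
    refine fun h => hη2 (Eq.trans ?_ h)
    simp only [classInner]
    rw [Nat.card_congr e.toEquiv]
    congr 1
    exact (Fintype.sum_equiv e.toEquiv _ _ fun v => rfl).symm
  have hsupp : ∀ u ∉ N.subgroupOf L, blockCoeff bL u = 0 := fun u hu =>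
    supported_of_pow_index hM ⟨k, hk⟩ hbLb hu
  have hAL := blockCoeff_mem_loc hbLb
  have hsuppb : ∀ u ∉ N.subgroupOf L, (bBar M bL : MonoidAlgebra (Res M) L).coeff u = 0 :=
    fun u hu => by
      rw [bBar, coe_redZ, coeff_map', coeff_bIdem hAL, red_eq_zero_iff]
      show MemLocalIdeal M (blockCoeff bL u)
      rw [hsupp u hu]
      exact memLocalIdeal_zero
  have hFa : resZ (N.subgroupOf L) (bBar M bL) * bBar M c' = bBar M c' := by
    have hid : resZ (N.subgroupOf L) (bBar M bL) * resZ (N.subgroupOf L) (bBar M bL) =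
        resZ (N.subgroupOf L) (bBar M bL) := Subtype.ext (embH_injective (N.subgroupOf L) (by
      rw [Subring.coe_mul, map_mul, coe_resZ, embH_resH hsuppb, ← Subring.coe_mul,
        bBar_mul_self hAL]))
    refine idem_ext hM (by rw [mul_mul_mul_comm, hid, bBar_mul_self (blockCoeff_mem_loc hc')])
      (bBar_mul_self (blockCoeff_mem_loc hc')) fun ψ => ?_
    rw [map_mul, omegaBar_bBar (blockCoeff_mem_loc hc')]
    split_ifs with hψ
    · obtain ⟨η', hη'⟩ := CT.exists_irr_over (N.subgroupOf L) ψ.2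
      have hmem : η' ∈ bL := mem_of_supported hbLb hsupp (self_mem_blockOf η) hφc hη'
        ((mem_block_iff hc' hφ).mp hψ)
      rw [mul_one, ← omegaBar_eq_of_cover η' hη' hsuppb, omegaBar_bBar_eq_one hbLb hmem]
    · rw [mul_zero]
  set R := Subgroup.zpowers (⟨y, hyL⟩ : L)
  set n' : N.subgroupOf L := e.symm n
  have hcen : ((n' : L)) ∈ Subgroup.centralizer (R : Set L) := by
    intro r hr
    obtain ⟨i, rfl⟩ := Subgroup.mem_zpowers_iff.mp hr
    exact ((Commute.zpow_left (show Commute (⟨y, hyL⟩ : L) (n' : L) from Subtype.ext hyn)) i).eq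
  have hinvc : IsInv R (embH (N.subgroupOf L) (bBar M c' : MonoidAlgebra (Res M) _)) := by
    rw [isInv_iff_commute]
    intro r hr
    obtain ⟨i, rfl⟩ := Subgroup.mem_zpowers_iff.mp hr
    rw [commute_single_iff]
    intro u
    by_cases hu : u ∈ N.subgroupOf L
    · have hu' := (inferInstance : (N.subgroupOf L).Normal).conj_mem u hu ((⟨y, hyL⟩ : L) ^ i)
      rw [coeff_embH _ _ ⟨u, hu⟩, coeff_embH _ _ ⟨_, hu'⟩,
        BPairs.bBar_pullSet e hc, BPairs.bBar_pullSet e hc]
      simp only [bBar, coe_redZ, coeff_map', coeff_bIdem (blockCoeff_mem_loc hc)]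
      refine congrArg (red M) (Subtype.ext ?_)
      show blockCoeff c _ = blockCoeff c _
      have hsy : StabilizesBlock N c (((⟨y, hyL⟩ : L) ^ i : L) : G) := by
        rw [Subgroup.coe_zpow]
        exact (hT _).mp (T.zpow_mem (T.pow_mem hwK.1 _) i)
      rw [← blockCoeff_conj_of_stab hc hsy (e ⟨_, hu'⟩)]
      refine congrArg (blockCoeff c) (Subtype.ext ?_)
      show _ * ((((⟨y, hyL⟩ : L) ^ i * u * ((⟨y, hyL⟩ : L) ^ i)⁻¹ : L) : G)) * _ = (u : G)
      simp only [Subgroup.coe_mul, Subgroup.coe_inv]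
      group
    · rw [coeff_embH_of_notMem _ _ hu, coeff_embH_of_notMem]
      intro h
      apply hu
      have := (inferInstance : (N.subgroupOf L).Normal).conj_mem _ h ((⟨y, hyL⟩ : L) ^ i)⁻¹
      simpa [mul_assoc] using this
  have hbr : br R hyp (bBar M bL) ≠ 0 := by
    intro h0
    apply (coeff_bBar_ne_zero_iff (blockCoeff_mem_loc hc) n).mpr hn0
    have hprod : (bBar M bL : MonoidAlgebra (Res M) L) *
        embH (N.subgroupOf L) (bBar M c' : MonoidAlgebra (Res M) _) =
        embH (N.subgroupOf L) (bBar M c' : MonoidAlgebra (Res M) _) := by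
      conv_lhs => rw [← embH_resH hsuppb, ← map_mul]
      exact congrArg (embH (N.subgroupOf L)) (congrArg Subtype.val hFa)
    have h1 := congrArg (trunc (Subgroup.centralizer (R : Set L) : Set L)) hprod
    rw [trunc_mul hyp (isInv_of_mem_center R (bBar M bL).2) hinvc, ← br_apply R hyp, h0, zero_mul]
      at h1
    have h2 := congrArg (fun a : MonoidAlgebra (Res M) L => a.coeff (n' : L)) h1
    simp only [coeff_zero, Finsupp.coe_zero, Pi.zero_apply, coeff_trunc_of_mem _ hcen,
      coeff_embH _ _ n'] at h2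
    rw [BPairs.bBar_pullSet e hc, show e n' = n from e.apply_symm_apply n] at h2
    exact h2.symm
  obtain ⟨l, hl⟩ := (br_bBar_ne_zero_iff hM hbLb hQ hyp).mp hbr
  have hyQ := hQN _ (hl (Subgroup.mem_map_of_mem _ (Subgroup.mem_zpowers _)))
  apply hyN
  have := hN.conj_mem _ hyQ ((l : L) : G)⁻¹
  simpa [mul_assoc] using this

end Cfsg.Agent.Blocks
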