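import Cfsg.Agent.Lib.Blocks.StarInteg2
import Cfsg.Agent.Lib.CT.Brauer
import Cfsg.Agent.Lib.Basics.ThompsonFpf

/-!
# The star construction gives generalized characters

By Brauer's characterisation and the monomiality of nilpotent groups it is enough to pair with
linear characters of nilpotent subgroups, and there the pairing is a local weighted sum.
-/

namespace Cfsg.Agent.Blocks

open MonoidAlgebra BPairs
open scoped ComplexConjugate

universe u

variable {G : Type u} [Group G] [Finite G] {p : ℕ} {M : Ideal AlgInt} [M.IsPrime]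
  {W : G → MonoidAlgebra (Res M) G → ℂ}

set_option linter.unusedSectionVars false

/-- The star product of a weight with a character. -/
noncomputable def psi (p : ℕ) (W : G → MonoidAlgebra (Res M) G → ℂ) (θ : IrrCharacter G) (g : G) : ℂ :=
  ∑ a ∈ blkIdem M (pPart p g), W (pPart p g) a * phi p θ g a

theorem mem_cz_pPart [Fact p.Prime] (g : G) : g ∈ cz (pPart p g) := by
  obtain ⟨y, hxy, hcom, -, -⟩ := id (pPart_spec (p := p) g)
  refine mem_cz.mpr ?_
  generalize pPart p g = x at hxy hcom ⊢
  rw [← hxy]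
  exact (Commute.refl x).mul_left hcom.symm

theorem blk_commute [Fact p.Prime] {g : G} {a : MonoidAlgebra (Res M) G}
    (ha : a ∈ blkIdem M (pPart p g)) : Commute a (single g 1) :=
  isInv_iff_commute.mp (blkIdem_isInv ha) g (mem_cz_pPart g)

theorem isClassFunction_psi (hM : IsPModular p M) [Fact p.Prime] (hW : IsWeight p M W)
    (θ : IrrCharacter G) : IsClassFunction G (psi p W θ) := by
  intro g c
  rw [psi, psi, pPart_conj, sum_blkIdem_conj]
  refine Finset.sum_congr rfl fun a ha => ?_
  rw [hW.conjEq c _ a ha, phi_conjA hM θ c (blkIdem_mul_self ha) (blk_commute ha)]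

theorem inner_psi_nilpotent (hM : IsPModular p M) [hp : Fact p.Prime] [Fintype G]
    (hW : IsWeight p M W) (θ : IrrCharacter G) (H : Subgroup G) [Group.IsNilpotent H] [Fintype H]
    (lam : H →* ℂˣ) :
    ∃ z : ℤ, classInner (fun h : H => psi p W θ (h : G)) (fun h => (lam h : ℂ)) = z := by
  classical
  obtain ⟨P, N, hN, hc⟩ := Basics.hasNormalPComplement_of_nilpotent (G := H) p
  haveI := hN
  haveI hPn : (P : Subgroup H).Normal :=
    Sylow.normal_of_normalizerCondition Group.normalizerCondition_of_isNilpotent P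
  have hcomm : ∀ n ∈ N, ∀ x ∈ (P : Subgroup H), Commute n x := fun n hn x hx =>
    Subgroup.commute_of_normal_of_disjoint N P hN hPn hc.disjoint n x hn hx
  obtain ⟨Q, hQdef⟩ : ∃ Q : Subgroup G, Q = (P : Subgroup H).map H.subtype := ⟨_, rfl⟩
  have hQ : IsPGroup p Q := hQdef ▸ P.2.map _
  have hpp : ∀ (n : N) (x : (P : Subgroup H)),
      pPart p ((((x : H) * (n : H) : H)) : G) = ((x : H) : G) := by
    intro n x
    refine pPart_eq ?_
    rw [Subgroup.coe_mul]
    refine isPPart_mk ?_ (exists_pow_eq_one_of_isPGroup hQ (hQdef ▸ ⟨_, x.2, rfl⟩)) ?_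
    · exact (congrArg Subtype.val (hcomm n n.2 x x.2).eq).symm
    · rw [Subgroup.orderOf_coe, Subgroup.orderOf_coe]
      intro hd
      exact P.not_dvd_index (hc.index_eq_card ▸ hd.trans (orderOf_dvd_natCard n))
  have hbij : Function.Bijective fun q : N × (P : Subgroup H) => (q.2 : H) * (q.1 : H) := by
    have h := Subgroup.isComplement'_def.mp hc
    have e : (fun q : N × (P : Subgroup H) => (q.2 : H) * (q.1 : H)) =
        fun q => (q.1 : H) * (q.2 : H) := funext fun q => (hcomm q.1 q.1.2 q.2 q.2.2).eq.symm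
    rw [e]
    exact h
  -- the idempotent of the linear character
  have hNp : ¬ p ∣ Nat.card N := fun h => P.not_dvd_index (hc.index_eq_card ▸ h)
  have hμ : ∀ n : N, IsIntegral ℤ (conj (lam (n : H) : ℂ)) := fun n =>
    CT.isIntegral_conj (IsIntegral.of_pow (orderOf_pos (n : H)) (by
      rw [← Units.val_pow_eq_pow_val, ← map_pow, pow_orderOf_eq_one, map_one, Units.val_one]
      exact isIntegral_one))
  obtain ⟨r, hr⟩ : ∃ r : N → Loc M, ∀ n, (r n : ℂ) = (Nat.card N : ℂ)⁻¹ * conj (lam (n : H) : ℂ) :=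
    ⟨fun n => ⟨_, (Loc M).mul_mem (inv_mem_loc (natCast_mem _ _)
      (mt (memLocalIdeal_natCast hM _).mp hNp)) (integral_mem_loc (hμ n))⟩, fun n => rfl⟩
  obtain ⟨ε, hε⟩ : ∃ ε : MonoidAlgebra (Loc M) G, ε = ∑ n : N, single ((n : H) : G) (r n) := ⟨_, rfl⟩
  have hεε : ε * ε = ε := by
    have hN0 : (Nat.card N : ℂ) ≠ 0 := CT.card_ne_zero
    refine toC_injective (M := M) ?_
    rw [map_mul, hε]
    simp only [map_sum, mapRingHom_single, Subring.subtype_apply, hr]
    rw [Finset.sum_mul_sum]
    have : ∀ n : N, ∑ k : N, (single ((n : H) : G) ((Nat.card N : ℂ)⁻¹ * conj (lam (n : H) : ℂ)) :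
        MonoidAlgebra ℂ G) * single ((k : H) : G) ((Nat.card N : ℂ)⁻¹ * conj (lam (k : H) : ℂ)) =
        (Nat.card N : ℂ)⁻¹ • ∑ k : N, single ((k : H) : G) ((Nat.card N : ℂ)⁻¹ * conj (lam (k : H) : ℂ)) := by
      intro n
      rw [Finset.smul_sum]
      refine Fintype.sum_equiv (Equiv.mulLeft n) _ _ fun k => ?_
      rw [single_mul_single, smul_single, smul_eq_mul, Equiv.coe_mulLeft, Subgroup.coe_mul,
        Subgroup.coe_mul]
      congr 1
      rw [map_mul, Units.val_mul, map_mul]
      ring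
    rw [Finset.sum_congr rfl fun n _ => this n, Finset.sum_const, Finset.card_univ,
      ← Nat.card_eq_fintype_card, ← Nat.cast_smul_eq_nsmul ℂ, smul_smul, mul_inv_cancel₀ hN0,
      one_smul]
  have hεQ : ∀ (x : (P : Subgroup H)), Commute ε (single ((x : H) : G) 1) := fun x => by
    rw [hε]
    refine Commute.sum_left _ _ _ fun n _ => ?_
    rw [Commute, SemiconjBy, single_mul_single, single_mul_single, mul_one, one_mul,
      ← Subgroup.coe_mul, ← Subgroup.coe_mul, (hcomm n n.2 x x.2).eq]
  have hεs : ∀ (x : (P : Subgroup H)) (v : G), v ∉ cz ((x : H) : G) → ε.coeff v = 0 := by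
    intro x v hv
    rw [hε, coeff_sum, Finsupp.finsetSum_apply]
    refine Finset.sum_eq_zero fun n _ => ?_
    rw [coeff_single, Finsupp.single_eq_of_ne]
    rintro rfl
    exact hv (mem_cz.mpr (congrArg Subtype.val (hcomm n n.2 x x.2).eq))
  obtain ⟨e, he⟩ : ∃ e, e = redG M G ε := ⟨_, rfl⟩
  have hee : e * e = e := by rw [he, ← map_mul, hεε]
  have heQ : IsInv Q e := by
    rw [isInv_iff_commute, hQdef]
    rintro _ ⟨x, hx, rfl⟩
    have := (hεQ ⟨x, hx⟩).map (redG M G)
    rw [← he] at this
    simpa using this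
  have key : ∀ x : (P : Subgroup H), ∑ n : N, psi p W θ (((x : H) * (n : H) : H) : G) *
      conj (lam (n : H) : ℂ) = (Nat.card N : ℂ) * wVal p W θ e ((x : H) : G) := by
    intro x
    have hu := exists_pow_eq_one_of_isPGroup hQ (hQdef ▸ ⟨(x : H), x.2, rfl⟩ : ((x : H) : G) ∈ Q)
    have heu : Commute e (single ((x : H) : G) 1) :=
      isInv_iff_commute.mp heQ _ (hQdef ▸ ⟨(x : H), x.2, rfl⟩)
    simp only [psi, hpp, wVal, Finset.mul_sum, Finset.sum_mul]
    rw [Finset.sum_comm]
    refine Finset.sum_congr rfl fun a ha => ?_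
    obtain ⟨ã, ha1, ha2, ha3⟩ := exists_inv_idem_lift (M := M) (cz ((x : H) : G))
      (blkIdem_mul_self ha) (blkIdem_isInv ha)
    have hxn : ∀ n : N, (((x : H) * (n : H) : H) : G) ∈ cz ((x : H) : G) := fun n => by
      rw [Subgroup.coe_mul]
      exact mul_mem (mem_cz_self _) (mem_cz.mpr (congrArg Subtype.val (hcomm n n.2 x x.2).eq))
    have hcae : Commute ã ε := commute_of_supp ha3 (hεs x)
    have hx1 : Commute ã (single ((x : H) : G) 1) :=
      isInv_iff_commute.mp ha3 _ (mem_cz_self _)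
    have hidem : (ã * ε) * (ã * ε) = ã * ε := by
      rw [mul_assoc, ← mul_assoc ε, ← hcae.eq, mul_assoc ã ε ε, hεε, ← mul_assoc, ha1]
    have htr : phi p θ ((x : H) : G) (trunc (cz ((x : H) : G) : Set G) e * a) =
        ((ev (charL M θ) (ã * ε * single ((x : H) : G) 1) : Loc M) : ℂ) := by
      refine phi_eq_of_red hM θ hidem (hx1.mul_left (hεQ x)) ?_
      rw [map_mul, ha2, trunc_eq_self fun v hv => by
        rw [he, coeff_map', hεs x v hv, map_zero]]
      rw [← he]
      exact commute_of_supp (blkIdem_isInv ha) fun v hv => by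
        rw [he, coeff_map', hεs x v hv, map_zero]
    have hnv : ∀ n : N, phi p θ (((x : H) * (n : H) : H) : G) a =
        ((ev (charL M θ) (ã * single (((x : H) * (n : H) : H) : G) 1) : Loc M) : ℂ) := fun n =>
      phi_eq_of_red hM θ ha1 (isInv_iff_commute.mp ha3 _ (hxn n)) ha2
    rw [htr, hε, Finset.mul_sum, Finset.sum_mul, ev_sum, AddSubmonoidClass.coe_finsetSum,
      Finset.mul_sum, Finset.mul_sum]
    refine Finset.sum_congr rfl fun n _ => ?_
    have e1 : ã * single ((n : H) : G) (r n) * single ((x : H) : G) 1 =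
        r n • (ã * single (((x : H) * (n : H) : H) : G) 1) := by
      rw [mul_assoc, single_mul_single, mul_one, ← mul_smul_comm, smul_single, smul_eq_mul, mul_one,
        ← Subgroup.coe_mul, (hcomm n n.2 x x.2).eq]
    rw [hnv n, e1, ev_smul, Subring.coe_mul, hr]
    have hN0 : (Nat.card N : ℂ) ≠ 0 := CT.card_ne_zero
    field_simp
  have hF : IsGeneralizedCharacter (P : Subgroup H) fun x : (P : Subgroup H) =>
      wVal p W θ e ((x : H) : G) := by
    subst hQdef
    exact CT.isGen_comp ((P : Subgroup H).equivMapOfInjective _ H.subtype_injective).toMonoidHom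
      (isGen_wVal hM hW θ _ _ rfl hQ e hee heQ)
  obtain ⟨z, hz⟩ := CT.isGen_inner_int hF
    (CT.isGen_of_isCharacter (CT.isCharacter_lin (lam.comp (P : Subgroup H).subtype)))
  refine ⟨z, ?_⟩
  rw [← hz]
  simp only [classInner, MonoidHom.coe_comp, Subgroup.coe_subtype, Function.comp_apply]
  have hsum : ∑ h : H, psi p W θ (h : G) * conj (lam h : ℂ) =
      (Nat.card N : ℂ) * ∑ x : (P : Subgroup H), wVal p W θ e ((x : H) : G) * conj (lam (x : H) : ℂ) := by
    rw [← Fintype.sum_bijective _ hbij _ _ fun q => rfl, Fintype.sum_prod_type, Finset.sum_comm,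
      Finset.mul_sum]
    refine Finset.sum_congr rfl fun x _ => ?_
    rw [← mul_assoc, ← key x, Finset.sum_mul]
    refine Finset.sum_congr rfl fun n _ => ?_
    rw [map_mul, Units.val_mul, map_mul]
    ring
  rw [hsum, ← hc.card_mul]
  have hN0 : (Nat.card N : ℂ) ≠ 0 := CT.card_ne_zero
  push_cast
  field_simp

/-- The star product is a generalized character. -/
theorem isGen_psi (hM : IsPModular p M) [hp : Fact p.Prime] (hW : IsWeight p M W)
    (θ : IrrCharacter G) : IsGeneralizedCharacter G (psi p W θ) := by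
  classical
  haveI := Fintype.ofFinite G
  refine CT.isGen_of_restrict_elementary (isClassFunction_psi hM hW θ) fun E q hq hE => ?_
  haveI := CT.isNilpotent_of_isElementary hq hE
  have hcl : IsClassFunction E fun e : E => psi p W θ (e : G) := fun g c =>
    isClassFunction_psi hM hW θ g c
  refine CT.isGen_iff.mpr ⟨hcl, fun η => ?_⟩
  obtain ⟨H, lam, hlam⟩ := CT.nilpotent_monomial η.2
  obtain ⟨eH, heH⟩ : ∃ eH, eH = H.equivMapOfInjective E.subtype E.subtype_injective := ⟨_, rfl⟩
  haveI : Group.IsNilpotent (H.map E.subtype) :=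
    Group.nilpotent_of_surjective eH.toMonoidHom eH.surjective
  obtain ⟨z, hz⟩ := inner_psi_nilpotent hM hW θ (H.map E.subtype) (lam.comp eH.symm.toMonoidHom)
  refine ⟨z, ?_⟩
  rw [hlam, CT.frobenius_reciprocity' _ hcl, ← hz]
  simp only [classInner, Nat.card_congr eH.toEquiv]
  congr 1
  refine Fintype.sum_equiv eH.toEquiv _ _ fun h => ?_
  subst heH
  simp

end Cfsg.Agent.Blocks
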