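import Cfsg.Agent.Lib.Blocks.StarPhi
import Cfsg.Agent.Lib.Blocks.CornerTrace
import Cfsg.Agent.Lib.BrauerPairs.Fusion
import Cfsg.Agent.Lib.CT.Induced
import Mathlib.LinearAlgebra.PID
import Mathlib.FieldTheory.Minpoly.Field

/-!
# Local integrality of the weighted star construction

For a `p`-group `Q` and an idempotent of the residue group algebra fixed by `Q`, the weighted sum
of the values at the blocks of the centralizers of the elements of `Q` is a generalized character
of `Q`.
-/

namespace Cfsg.Agent.Blocks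

open MonoidAlgebra BPairs
open scoped ComplexConjugate

universe u

variable {G : Type u} [Group G] [Finite G] {p : ℕ} {M : Ideal AlgInt} [M.IsPrime]

set_option linter.unusedSectionVars false

/-- Weights on pairs of a `p`-element and a block idempotent of its centralizer. -/
structure IsWeight (p : ℕ) (M : Ideal AlgInt) [M.IsPrime]
    (W : G → MonoidAlgebra (Res M) G → ℂ) : Prop where
  conjEq : ∀ c u a, a ∈ blkIdem M u → W (c * u * c⁻¹) (conjA c a) = W u a
  gen : ∀ (Q : Subgroup G) (f : Set (IrrCharacter (Subgroup.centralizer (Q : Set G)))),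
    IsBrauerPair p M Q f → ∃ ω : Q → ℂ, IsGeneralizedCharacter Q ω ∧
      ∀ (u : Q) (b : Set (IrrCharacter (cz (u : G)))),
        SubpairLE p M (Subgroup.zpowers (u : G)) b Q f → W u (bel M (cz (u : G)) b) = ω u

/-- The weighted sum at a `p`-element. -/
noncomputable def wVal (p : ℕ) (W : G → MonoidAlgebra (Res M) G → ℂ) (θ : IrrCharacter G)
    (e : MonoidAlgebra (Res M) G) (u : G) : ℂ :=
  ∑ a ∈ blkIdem M u, W u a * phi p θ u (trunc (cz u : Set G) e * a)

section Basic

theorem trunc_blk_facts (hM : IsPModular p M) [Fact p.Prime] {u : G}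
    (hu : ∃ k : ℕ, u ^ p ^ k = 1) {e a : MonoidAlgebra (Res M) G} (he : e * e = e)
    (heu : Commute e (single u 1)) (ha : a ∈ blkIdem M u) :
    trunc (cz u : Set G) e * trunc (cz u : Set G) e = trunc (cz u : Set G) e ∧
      Commute (trunc (cz u : Set G) e) a ∧
      (trunc (cz u : Set G) e * a) * (trunc (cz u : Set G) e * a) = trunc (cz u : Set G) e * a ∧
      Commute (trunc (cz u : Set G) e * a) (single u 1) := by
  haveI := charP_res hM
  have hi := isInv_zpowers_iff.mpr heu
  have h1 : trunc (cz u : Set G) e * trunc (cz u : Set G) e = trunc (cz u : Set G) e := by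
    rw [← trunc_mul (isPGroup_zpowers hu) hi hi, he]
  have h2 : Commute (trunc (cz u : Set G) e) a :=
    (commute_of_supp (blkIdem_isInv ha) fun v hv => coeff_trunc_of_notMem _ hv).symm
  refine ⟨h1, h2, ?_, ?_⟩
  · rw [mul_assoc, ← mul_assoc a, ← h2.eq, mul_assoc _ a a, blkIdem_mul_self ha, ← mul_assoc, h1]
  · refine Commute.mul_left ?_ (isInv_iff_commute.mp (blkIdem_isInv ha) u (mem_cz_self u))
    rw [commute_single_iff]
    intro v
    have hmem : u * v * u⁻¹ ∈ cz u ↔ v ∈ cz u := by
      rw [Subgroup.mul_mem_cancel_right _ (inv_mem (mem_cz_self u)),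
        Subgroup.mul_mem_cancel_left _ (mem_cz_self u)]
    by_cases hv : v ∈ cz u
    · rw [coeff_trunc_of_mem _ (hmem.mpr hv), coeff_trunc_of_mem _ hv,
        (commute_single_iff e u).mp heu v]
    · rw [coeff_trunc_of_notMem _ (mt hmem.mp hv), coeff_trunc_of_notMem _ hv]

theorem trunc_conjA (c u : G) (e : MonoidAlgebra (Res M) G) :
    trunc (cz (c * u * c⁻¹) : Set G) (conjA c e) = conjA c (trunc (cz u : Set G) e) := by
  ext v
  have h : v ∈ (cz (c * u * c⁻¹) : Set G) ↔ c⁻¹ * v * c ∈ (cz u : Set G) := by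
    simp only [SetLike.mem_coe, mem_cz]
    constructor
    · intro h
      have := h.map (MulAut.conj c⁻¹)
      simpa [mul_assoc] using this
    · intro h
      have := h.map (MulAut.conj c)
      simpa [mul_assoc] using this
  rw [coeff_conjA]
  by_cases hv : v ∈ (cz (c * u * c⁻¹) : Set G)
  · rw [coeff_trunc_of_mem _ hv, coeff_trunc_of_mem _ (h.mp hv), coeff_conjA]
  · rw [coeff_trunc_of_notMem _ hv, coeff_trunc_of_notMem _ (mt h.mpr hv)]

variable {W : G → MonoidAlgebra (Res M) G → ℂ}

theorem wVal_conj (hM : IsPModular p M) [Fact p.Prime] (hW : IsWeight p M W) (θ : IrrCharacter G)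
    (c : G) {u : G} (hu : ∃ k : ℕ, u ^ p ^ k = 1) {e : MonoidAlgebra (Res M) G} (he : e * e = e)
    (heu : Commute e (single u 1)) :
    wVal p W θ (conjA c e) (c * u * c⁻¹) = wVal p W θ e u := by
  rw [wVal, wVal, sum_blkIdem_conj]
  refine Finset.sum_congr rfl fun a ha => ?_
  rw [hW.conjEq c u a ha, trunc_conjA, ← conjA_mul]
  obtain ⟨-, -, h3, h4⟩ := trunc_blk_facts hM hu he heu ha
  rw [phi_conjA hM θ c h3 h4]

theorem wVal_add (hM : IsPModular p M) [Fact p.Prime] (θ : IrrCharacter G) {u : G}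
    (hu : ∃ k : ℕ, u ^ p ^ k = 1) {e e' : MonoidAlgebra (Res M) G} (he : e * e = e)
    (he' : e' * e' = e') (heu : Commute e (single u 1)) (heu' : Commute e' (single u 1))
    (h : e * e' = 0) (h' : e' * e = 0) :
    wVal p W θ (e + e') u = wVal p W θ e u + wVal p W θ e' u := by
  haveI := charP_res hM
  rw [wVal, wVal, wVal, ← Finset.sum_add_distrib]
  refine Finset.sum_congr rfl fun a ha => ?_
  obtain ⟨-, c1, h1, g1⟩ := trunc_blk_facts hM hu he heu ha
  obtain ⟨-, c2, h2, g2⟩ := trunc_blk_facts hM hu he' heu' ha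
  have hi := isInv_zpowers_iff.mpr heu
  have hi' := isInv_zpowers_iff.mpr heu'
  have ho : trunc (cz u : Set G) e * trunc (cz u : Set G) e' = 0 := by
    rw [← trunc_mul (isPGroup_zpowers hu) hi hi', h, trunc_zero]
  have ho' : trunc (cz u : Set G) e' * trunc (cz u : Set G) e = 0 := by
    rw [← trunc_mul (isPGroup_zpowers hu) hi' hi, h', trunc_zero]
  rw [← mul_add, trunc_add, add_mul, phi_add hM θ h1 h2 g1 g2 ?_ ?_]
  · rw [mul_assoc, ← mul_assoc a, ← c2.eq, mul_assoc _ a a, ← mul_assoc, ho, zero_mul]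
  · rw [mul_assoc, ← mul_assoc a, ← c1.eq, mul_assoc _ a a, ← mul_assoc, ho', zero_mul]

theorem wVal_of_trunc_eq_zero (hM : IsPModular p M) [Fact p.Prime] (θ : IrrCharacter G) {u : G}
    {e : MonoidAlgebra (Res M) G} (h : trunc (cz u : Set G) e = 0) : wVal p W θ e u = 0 :=
  Finset.sum_eq_zero fun a _ => by rw [h, zero_mul, phi_zero hM, mul_zero]

theorem wVal_unit_conj (hM : IsPModular p M) [Fact p.Prime] (θ : IrrCharacter G) {u : G}
    (hu : ∃ k : ℕ, u ^ p ^ k = 1) {e v w : MonoidAlgebra (Res M) G} (he : e * e = e)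
    (heu : Commute e (single u 1)) (hvu : Commute v (single u 1)) (hwu : Commute w (single u 1))
    (hvw : v * w = 1) (hwv : w * v = 1) :
    wVal p W θ (v * e * w) u = wVal p W θ e u := by
  haveI := charP_res hM
  refine Finset.sum_congr rfl fun a ha => ?_
  obtain ⟨-, -, h1, g1⟩ := trunc_blk_facts hM hu he heu ha
  have iv := isInv_zpowers_iff.mpr hvu
  have iw := isInv_zpowers_iff.mpr hwu
  have ie := isInv_zpowers_iff.mpr heu
  have h1' : (1 : G) ∈ (cz u : Set G) := Subgroup.one_mem _
  have e1 : trunc (cz u : Set G) (v * e * w) * a =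
      trunc (cz u : Set G) v * (trunc (cz u : Set G) e * a) * trunc (cz u : Set G) w := by
    rw [trunc_mul (isPGroup_zpowers hu) (isInv_mul iv ie) iw,
      trunc_mul (isPGroup_zpowers hu) iv ie, mul_assoc _ (trunc (cz u : Set G) w) a,
      ← (commute_of_supp (blkIdem_isInv ha) fun x hx => coeff_trunc_of_notMem _ hx).eq]
    simp only [mul_assoc]
  rw [e1]
  congr 1
  refine phi_unit_conj hM θ h1 g1 ?_ ?_ ?_
  · rw [commute_single_iff]
    intro x
    have hmem : u * x * u⁻¹ ∈ cz u ↔ x ∈ cz u := by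
      rw [Subgroup.mul_mem_cancel_right _ (inv_mem (mem_cz_self u)),
        Subgroup.mul_mem_cancel_left _ (mem_cz_self u)]
    by_cases hx : x ∈ cz u
    · rw [coeff_trunc_of_mem _ (hmem.mpr hx), coeff_trunc_of_mem _ hx,
        (commute_single_iff v u).mp hvu x]
    · rw [coeff_trunc_of_notMem _ (mt hmem.mp hx), coeff_trunc_of_notMem _ hx]
  · rw [← trunc_mul (isPGroup_zpowers hu) iv iw, hvw, trunc_one h1']
  · rw [← trunc_mul (isPGroup_zpowers hu) iw iv, hwv, trunc_one h1']

end Basic

section Primitive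

variable {R : Type*} [CommRing R]

/-- A primitive idempotent of the algebra of elements fixed by `Q`. -/
def IsPrim (Q : Subgroup G) (e : MonoidAlgebra R G) : Prop :=
  ∀ f, f * f = f → IsInv Q f → e * f = f → f * e = f → f = 0 ∨ f = e

theorem isInv_aeval {Q : Subgroup G} {x : MonoidAlgebra R G} (hx : IsInv Q x)
    (P : Polynomial R) : IsInv Q (Polynomial.aeval x P) := by
  rw [isInv_iff_commute] at hx ⊢
  intro q hq
  induction P using Polynomial.induction_on' with
  | add a b ha hb => rw [map_add]; exact ha.add_left hb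
  | monomial n c =>
    rw [Polynomial.aeval_monomial]
    exact (Algebra.commute_algebraMap_left c _).mul_left ((hx q hq).pow_left n)

theorem commute_aeval {x y : MonoidAlgebra R G} (h : Commute y x) (P : Polynomial R) :
    Commute y (Polynomial.aeval x P) := by
  induction P using Polynomial.induction_on' with
  | add a b ha hb => rw [map_add]; exact ha.add_right hb
  | monomial n c =>
    rw [Polynomial.aeval_monomial]
    exact (Algebra.commute_algebraMap_right c _).mul_right (h.pow_right n)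

theorem isInv_pow {Q : Subgroup G} {x : MonoidAlgebra R G} (hx : IsInv Q x) (n : ℕ) :
    IsInv Q (x ^ n) :=
  isInv_iff_commute.mpr fun q hq => (isInv_iff_commute.mp hx q hq).pow_left n

theorem trunc_pow [Fact p.Prime] [CharP R p] {Q : Subgroup G} (hQ : IsPGroup p Q)
    {x : MonoidAlgebra R G} (hx : IsInv Q x) (n : ℕ) :
    trunc (Subgroup.centralizer (Q : Set G) : Set G) (x ^ n) =
      trunc (Subgroup.centralizer (Q : Set G) : Set G) x ^ n := by
  induction n with
  | zero => rw [pow_zero, pow_zero, trunc_one (Subgroup.one_mem _)]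
  | succ n ih => rw [pow_succ, pow_succ, trunc_mul hQ (isInv_pow hx n) hx, ih]

/-- In the corner of a primitive idempotent every element is nilpotent or invertible. -/
theorem prim_cases {K : Type*} [Field K] {Q : Subgroup G} {e x : MonoidAlgebra K G} (he : e * e = e)
    (heQ : IsInv Q e) (hprim : IsPrim Q e) (hex : e * x = x) (hxe : x * e = x) (hx : IsInv Q x) :
    IsNilpotent x ∨ ∃ c, IsInv Q c ∧ x * c = e ∧ c * x = e := by
  haveI := Fintype.ofFinite G
  haveI : FiniteDimensional K (MonoidAlgebra K G) :=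
    Module.Finite.of_basis (MonoidAlgebra.basis G K)
  have hint : IsIntegral K x := IsIntegral.of_finite K x
  obtain ⟨P, hP0, hPx⟩ : ∃ P : Polynomial K, P ≠ 0 ∧ Polynomial.aeval x P = 0 :=
    ⟨minpoly K x, minpoly.ne_zero hint, minpoly.aeval K x⟩
  obtain ⟨r, P1, rfl, hP1⟩ := Polynomial.exists_eq_pow_rootMultiplicity_mul_and_not_dvd P hP0 0 |>
    fun ⟨g, h1, h2⟩ => (⟨_, g, h1, h2⟩ : ∃ r g, P = (Polynomial.X - Polynomial.C 0) ^ r * g ∧
      ¬ (Polynomial.X - Polynomial.C 0) ∣ g)
  rw [map_zero, sub_zero, Polynomial.X_dvd_iff] at hP1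
  rw [map_zero, sub_zero, map_mul, map_pow, Polynomial.aeval_X] at hPx
  obtain ⟨q, hqdef⟩ : ∃ q : MonoidAlgebra K G, q = -(P1.coeff 0)⁻¹ • Polynomial.aeval x P1.divX :=
    ⟨_, rfl⟩
  have hqQ : IsInv Q q := by
    subst hqdef
    exact isInv_iff_commute.mpr fun y hy =>
      (isInv_iff_commute.mp (isInv_aeval hx _) y hy).smul_left _
  have hqc : ∀ y, Commute y x → Commute y q := fun y hy => by
    subst hqdef; exact (commute_aeval hy _).smul_right _
  have hqx : Commute x q := hqc x (Commute.refl x)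
  have heq : Commute e q := hqc e (by rw [Commute, SemiconjBy, hex, hxe])
  have hstep : x ^ (r + 1) = x ^ (r + 2) * q := by
    have h := congrArg (fun z => Polynomial.aeval x z) (Polynomial.X_mul_divX_add P1)
    simp only [map_add, map_mul, Polynomial.aeval_X, Polynomial.aeval_C] at h
    have h3 : x ^ (r + 1) * (x * Polynomial.aeval x P1.divX) + P1.coeff 0 • x ^ (r + 1) = 0 := by
      rw [Algebra.smul_def, Algebra.commutes, ← mul_add, h, pow_succ', mul_assoc, hPx, mul_zero]
    rw [hqdef, mul_smul_comm, pow_succ x (r + 1), mul_assoc, neg_smul,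
      eq_neg_of_add_eq_zero_left h3, smul_neg, neg_neg, smul_smul, inv_mul_cancel₀ hP1, one_smul]
  have hiter : ∀ k : ℕ, x ^ (r + 1) = x ^ (r + 1 + k) * q ^ k := by
    intro k
    induction k with
    | zero => simp
    | succ k ih =>
      calc x ^ (r + 1) = x ^ (r + 1 + k) * q ^ k := ih
        _ = x ^ k * x ^ (r + 1) * q ^ k := by rw [← pow_add, Nat.add_comm k]
        _ = x ^ k * (x ^ (r + 2) * q) * q ^ k := by rw [← hstep]
        _ = x ^ (r + 1 + (k + 1)) * q ^ (k + 1) := by
          rw [← mul_assoc (x ^ k), ← pow_add, mul_assoc, ← pow_succ',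
            show k + (r + 2) = r + 1 + (k + 1) by omega]
  obtain ⟨f, hf⟩ : ∃ f, f = x ^ (r + 1) * q ^ (r + 1) := ⟨_, rfl⟩
  have hfx : x ^ (r + 1) * f = x ^ (r + 1) := by
    rw [hf, ← mul_assoc, ← pow_add]; exact (hiter (r + 1)).symm
  have hff : f * f = f :=
    calc f * f = x ^ (r + 1) * (q ^ (r + 1) * x ^ (r + 1)) * q ^ (r + 1) := by
          rw [hf]; simp only [mul_assoc]
      _ = x ^ (r + 1) * f * q ^ (r + 1) := by
          rw [hf, ((hqx.pow_pow (r + 1) (r + 1)).symm).eq]
      _ = f := by rw [hfx, hf]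
  have hef : e * f = f := by rw [hf, ← mul_assoc, pow_succ', ← mul_assoc e, hex]
  have hfe : f * e = f := by
    rw [hf, mul_assoc, ← (heq.pow_right (r + 1)).eq, ← mul_assoc, pow_succ, mul_assoc _ x e, hxe]
  have hfQ : IsInv Q f := hf ▸ isInv_mul (isInv_pow hx _) (isInv_pow hqQ _)
  rcases hprim f hff hfQ hef hfe with h0 | h1
  · exact Or.inl ⟨r + 1, by rw [← hfx, h0, mul_zero]⟩
  · refine Or.inr ⟨x ^ r * q ^ (r + 1) * e, isInv_mul (isInv_mul (isInv_pow hx _) (isInv_pow hqQ _)) heQ,
      ?_, ?_⟩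
    · rw [← mul_assoc, ← mul_assoc, ← pow_succ', ← hf, h1, he]
    · rw [mul_assoc _ e x, hex, mul_assoc, ← (hqx.pow_right (r + 1)).eq, ← mul_assoc, ← pow_succ,
        ← hf, h1]

theorem not_nil_of_right_inv {e a c : MonoidAlgebra R G} (hae : a * e = a) (hac : a * c = e)
    (ha : IsNilpotent a) : e = 0 := by
  have key : ∀ k : ℕ, e = a ^ (k + 1) * c ^ (k + 1) := by
    intro k
    induction k with
    | zero => rw [pow_one, pow_one, hac]
    | succ k ih =>
      calc e = a * c := hac.symm
        _ = a * e * c := by rw [hae]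
        _ = a * (a ^ (k + 1) * c ^ (k + 1)) * c := by rw [← ih]
        _ = a ^ (k + 1 + 1) * c ^ (k + 1 + 1) := by
          rw [← mul_assoc, ← pow_succ', mul_assoc, ← pow_succ]
  obtain ⟨n, hn⟩ := ha
  rw [key n, pow_succ a n, hn, zero_mul, zero_mul]

theorem prim_nil_add {K : Type*} [Field K] {Q : Subgroup G} {e a b : MonoidAlgebra K G}
    (he : e * e = e) (heQ : IsInv Q e) (hprim : IsPrim Q e) (hea : e * a = a) (hae : a * e = a)
    (haQ : IsInv Q a) (han : IsNilpotent a) (heb : e * b = b) (hbe : b * e = b) (hbQ : IsInv Q b)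
    (hbn : IsNilpotent b) : IsNilpotent (a + b) := by
  have hQadd : IsInv Q (a + b) := isInv_iff_commute.mpr fun q hq =>
    (isInv_iff_commute.mp haQ q hq).add_left (isInv_iff_commute.mp hbQ q hq)
  rcases prim_cases he heQ hprim (by rw [mul_add, hea, heb]) (by rw [add_mul, hae, hbe]) hQadd with
    h | ⟨c, hcQ, hc, -⟩
  · exact h
  -- the two summands of `e` are nilpotent
  have hc' : a * (c * e) + b * (c * e) = e := by rw [← add_mul, ← mul_assoc, hc, he]
  have hn : ∀ y : MonoidAlgebra K G, e * y = y → y * e = y → IsInv Q y → IsNilpotent y →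
      IsNilpotent (y * (c * e)) := by
    intro y hey hye hyQ hyn
    rcases prim_cases he heQ hprim (by rw [← mul_assoc, hey])
      (by rw [mul_assoc, mul_assoc c, he]) (isInv_mul hyQ (isInv_mul hcQ heQ)) with h | ⟨d, -, hd, -⟩
    · exact h
    · have e0 : e = 0 := not_nil_of_right_inv hye (c := c * e * d) (by rw [← mul_assoc, hd]) hyn
      refine ⟨1, ?_⟩
      rw [pow_one, e0, mul_zero, mul_zero]
  have hcomm : Commute (a * (c * e)) (b * (c * e)) := by
    have hb' : b * (c * e) = e - a * (c * e) := by rw [eq_sub_iff_add_eq', hc']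
    rw [hb']
    refine Commute.sub_right ?_ (Commute.refl _)
    rw [Commute, SemiconjBy, mul_assoc a, mul_assoc c, he, ← mul_assoc e, hea]
  have hen := hcomm.isNilpotent_add (hn a hea hae haQ han) (hn b heb hbe hbQ hbn)
  rw [hc'] at hen
  obtain ⟨n, hn'⟩ := hen
  have e0 : e = 0 := by
    rcases n with - | n
    · rw [pow_zero] at hn'
      rw [← mul_one e, hn', mul_zero]
    · rwa [IsIdempotentElem.pow_succ_eq n he] at hn'
  rw [← hea, ← heb, e0, zero_mul, zero_mul, add_zero]
  exact IsNilpotent.zero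

end Primitive

section Char

/-- The values at an invariant lift form a character. -/
theorem isGen_phi (hM : IsPModular p M) [Fact p.Prime] (θ : IrrCharacter G) (Q : Subgroup G)
    {e : MonoidAlgebra (Res M) G} (he : e * e = e) (heQ : IsInv Q e) :
    IsGeneralizedCharacter Q fun u : Q => phi p θ (u : G) e := by
  haveI := Fintype.ofFinite G
  obtain ⟨ε, h1, h2, h3⟩ := exists_inv_idem_lift Q he heQ
  have hθ0 := θ.2
  obtain ⟨n, ρ, -, hρ⟩ := hθ0
  have hθ : ∀ g, ρ.character g = (θ : G → ℂ) g := fun g => congrFun hρ g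
  obtain ⟨A, hA⟩ : ∃ A : MonoidAlgebra (Loc M) G →+* Module.End ℂ (Fin n → ℂ),
      A = (ρ.asAlgebraHom.toRingHom).comp (toC M G) := ⟨_, rfl⟩
  have hAs : ∀ g, A (single g 1) = ρ g := fun g => by simp [hA]
  have htr : ∀ x, LinearMap.trace ℂ _ (A x) = ((ev (charL M θ) x : Loc M) : ℂ) := by
    intro x
    induction x using MonoidAlgebra.induction_linear with
    | zero => simp
    | add y z hy hz => rw [map_add, map_add, hy, hz, ev_add]; rfl
    | single g r =>
      simp [hA, ← hθ, Representation.character]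
  obtain ⟨E, hE⟩ : ∃ E, E = A ε := ⟨_, rfl⟩
  have hEE : E * E = E := by rw [hE, ← map_mul, h1]
  have hEu : ∀ u : Q, E * ρ (u : G) = ρ (u : G) * E := fun u => by
    rw [hE, ← hAs, ← map_mul, ← map_mul, (isInv_iff_commute.mp h3 u u.2).eq]
  obtain ⟨V, hV⟩ : ∃ V : Submodule ℂ (Fin n → ℂ), V = LinearMap.range E := ⟨_, rfl⟩
  have hstab : ∀ (u : Q), ∀ x ∈ V, ρ (u : G) x ∈ V := by
    intro u x hx
    rw [hV] at hx ⊢
    obtain ⟨y, rfl⟩ := hx
    exact ⟨ρ (u : G) y, LinearMap.congr_fun (hEu u) y⟩
  let σ : Representation ℂ Q V :=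
    { toFun := fun u => (ρ (u : G)).restrict (hstab u)
      map_one' := by ext x i; simp [LinearMap.restrict_apply]
      map_mul' := fun a b => by ext x i; simp [LinearMap.restrict_apply] }
  have hch : (fun u : Q => phi p θ (u : G) e) = σ.character := by
    funext u
    rw [phi_eq_of_red hM θ h1 (isInv_iff_commute.mp h3 u u.2) h2, ← htr, map_mul, hAs, ← hE]
    have hfix : ∀ x ∈ V, E x = x := by
      intro x hx
      rw [hV] at hx
      obtain ⟨y, rfl⟩ := hx
      exact LinearMap.congr_fun hEE y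
    have hall : ∀ x, (E * ρ (u : G)) x ∈ V := fun x => hV ▸ LinearMap.mem_range_self E _
    rw [← LinearMap.trace_restrict_eq_of_forall_mem V (E * ρ (u : G)) hall fun x _ => hall x,
      Representation.character]
    congr 1
    ext x i
    simp [σ, LinearMap.restrict_apply, hfix _ (hstab u x x.2)]
  rw [hch]
  exact CT.isGen_of_isCharacter (CT.isCharacter_character σ)

end Char

section Pairs

theorem trunc_mul_of_occ (hM : IsPModular p M) {P : Subgroup G} (hP : IsPGroup p P)
    {e : Set (IrrCharacter (Subgroup.centralizer (P : Set G)))} (he : IsPBlock M e)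
    {a : MonoidAlgebra (Res M) G} (ha : Inv2 P a) (haa : a * a = a) (h : Occ M P e a) :
    trunc (Subgroup.centralizer (P : Set G) : Set G) a * bel M _ e = bel M _ e := by
  haveI := Fact.mk hM.1
  have e1 : embH _ (resH (Subgroup.centralizer (P : Set G)) a) =
      trunc (Subgroup.centralizer (P : Set G) : Set G) a := by
    ext u
    by_cases hu : u ∈ Subgroup.centralizer (P : Set G)
    · rw [coeff_trunc_of_mem _ hu, show u = ((⟨u, hu⟩ : Subgroup.centralizer (P : Set G)) : G) from rfl,
        coeff_embH, coeff_resH]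
    · rw [coeff_trunc_of_notMem _ hu, coeff_embH_of_notMem _ _ hu]
  rw [← e1]
  exact mul_of_occ hM hP he ha haa h

theorem mul_supp {R : Type*} [CommRing R] {H : Subgroup G} {a b : MonoidAlgebra R G}
    (ha : ∀ v, v ∉ H → a.coeff v = 0) (hb : ∀ v, v ∉ H → b.coeff v = 0) {v : G} (hv : v ∉ H) :
    (a * b).coeff v = 0 := by
  haveI := Fintype.ofFinite G
  rw [coeff_mul_sum]
  refine Finset.sum_eq_zero fun x _ => ?_
  by_cases hx : x ∈ H
  · rw [hb _ fun h => hv (by simpa using H.mul_mem hx h), mul_zero]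
  · rw [ha x hx, zero_mul]

theorem isInv_trunc {R : Type*} [CommRing R] {Q S : Subgroup G} {a : MonoidAlgebra R G}
    (ha : IsInv Q a) (h : ∀ q ∈ Q, q ∈ Subgroup.normalizer (S : Set G)) :
    IsInv Q (trunc (Subgroup.centralizer (S : Set G) : Set G) a) := by
  intro q hq v
  by_cases hv : v ∈ Subgroup.centralizer (S : Set G)
  · rw [coeff_trunc_of_mem _ ((centralizer_conj_mem (h q hq)).mpr hv), coeff_trunc_of_mem _ hv,
      ha q hq v]
  · rw [coeff_trunc_of_notMem _ fun hc => hv ((centralizer_conj_mem (h q hq)).mp hc),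
      coeff_trunc_of_notMem _ hv]

theorem trunc_trunc_of_subset {R : Type*} [CommRing R] {S T : Set G} (h : S ⊆ T)
    (a : MonoidAlgebra R G) : trunc S (trunc T a) = trunc S a := by
  ext v
  by_cases hv : v ∈ S
  · rw [coeff_trunc_of_mem _ hv, coeff_trunc_of_mem _ hv, coeff_trunc_of_mem _ (h hv)]
  · rw [coeff_trunc_of_notMem _ hv, coeff_trunc_of_notMem _ hv]

/-- A primitive idempotent with nonzero Brauer image at `Q` lies in the blocks below a pair. -/
theorem exists_pair_of_prim (hM : IsPModular p M) [Fact p.Prime] {Q : Subgroup G}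
    (hQ : IsPGroup p Q) {e : MonoidAlgebra (Res M) G} (he : e * e = e) (heQ : IsInv Q e)
    (hprim : IsPrim Q e) (hne : trunc (Subgroup.centralizer (Q : Set G) : Set G) e ≠ 0) :
    ∃ f, IsBrauerPair p M Q f ∧ ∀ (R : Subgroup G) (b : Set (IrrCharacter _)),
      SubpairLE p M R b Q f →
        trunc (Subgroup.centralizer (R : Set G) : Set G) e * bel M _ b =
          trunc (Subgroup.centralizer (R : Set G) : Set G) e := by
  classical
  haveI := charP_res hM
  haveI := Fintype.ofFinite G
  obtain ⟨f, hf, hfne⟩ : ∃ f, IsPBlock M f ∧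
      trunc (Subgroup.centralizer (Q : Set G) : Set G) e * bel M _ f ≠ 0 := by
    by_contra h
    push Not at h
    apply hne
    rw [← mul_one (trunc _ e), ← sum_bel hM (Subgroup.centralizer (Q : Set G)), Finset.mul_sum]
    exact Finset.sum_eq_zero fun b hb => h b (mem_blocks.mp hb)
  have hQf : IsBrauerPair p M Q f := ⟨hQ, hf⟩
  refine ⟨f, hQf, ?_⟩
  have hnil0 : ∀ (y : MonoidAlgebra (Res M) G), y * y = y → IsNilpotent y → y = 0 := by
    rintro y hy ⟨n, hn⟩
    rcases n with - | n
    · rw [pow_zero] at hn; rw [← mul_one y, hn, mul_zero]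
    · rwa [IsIdempotentElem.pow_succ_eq n hy] at hn
  suffices H : ∀ (n : ℕ) (R : Subgroup G) (b : Set (IrrCharacter _)),
      Nat.card Q - Nat.card R = n → SubpairLE p M R b Q f →
        trunc (Subgroup.centralizer (R : Set G) : Set G) e * bel M _ b =
          trunc (Subgroup.centralizer (R : Set G) : Set G) e from fun R b => H _ R b rfl
  intro n
  induction n using Nat.strong_induction_on with
  | _ n ih =>
    intro R b hn hle
    have hRQ : R ≤ Q := subpair_le hle
    have hb : IsPBlock M b := (isBrauerPair_of_subpair hle hQf : IsBrauerPair p M R b).2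
    have hRp : IsPGroup p R := IsPGroup.to_le hQ hRQ
    obtain ⟨T, hT⟩ : ∃ T, T = trunc (Subgroup.centralizer (R : Set G) : Set G) e := ⟨_, rfl⟩
    obtain ⟨β, hβ⟩ : ∃ β, β = bel M (Subgroup.centralizer (R : Set G)) b := ⟨_, rfl⟩
    rw [← hT, ← hβ]
    have hTT : T * T = T := by
      rw [hT, ← trunc_mul hRp (isInv_mono hRQ heQ) (isInv_mono hRQ heQ), he]
    have hTs : ∀ v, v ∉ Subgroup.centralizer (R : Set G) → T.coeff v = 0 := fun v hv => by
      rw [hT]; exact coeff_trunc_of_notMem _ hv
    have hβs : ∀ v, v ∉ Subgroup.centralizer (R : Set G) → β.coeff v = 0 := fun v hv => by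
      rw [hβ]; exact coeff_bel_of_notMem _ b hv
    have hcT : Commute T β := (commute_of_supp (hβ ▸ isInv_bel _ b) hTs).symm
    have hββ : β * β = β := hβ ▸ bel_mul_self _ hb
    obtain ⟨y, hy⟩ : ∃ y, y = T * (1 - β) := ⟨_, rfl⟩
    have hyy : y * y = y := by
      have hc : Commute T (1 - β) := (Commute.one_right T).sub_right hcT
      have h2 : (1 - β) * (1 - β) = 1 - β := by
        rw [mul_sub, mul_one, sub_mul, one_mul, hββ, sub_self, sub_zero]
      rw [hy, mul_assoc, ← mul_assoc (1 - β), ← hc.eq, mul_assoc, h2, ← mul_assoc, hTT]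
    have hTy : T * y = y := by rw [hy, ← mul_assoc, hTT]
    have hyT : y * T = y := by
      rw [hy, mul_assoc, ← ((Commute.one_right T).sub_right hcT).eq, ← mul_assoc, hTT]
    suffices hy0 : y = 0 by
      rw [hy, mul_sub, mul_one, sub_eq_zero] at hy0
      exact hy0.symm
    have h1s : ∀ v, v ∉ Subgroup.centralizer (R : Set G) →
        (1 : MonoidAlgebra (Res M) G).coeff v = 0 := fun v hv => by
      rw [one_def, coeff_single, Finsupp.single_eq_of_ne]
      exact fun h => hv (h ▸ Subgroup.one_mem _)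
    have hys : ∀ v, v ∉ Subgroup.centralizer (R : Set G) → y.coeff v = 0 := fun v hv => by
      rw [hy]
      exact mul_supp hTs (fun w hw => by
        rw [coeff_sub, Finsupp.sub_apply, h1s w hw, hβs w hw, sub_self]) hv
    by_cases hRe : R = Q
    · subst hRe
      obtain rfl : b = f := by
        refine eq_of_below hM hQf _ R rfl b f hle ?_
        exact Relation.ReflTransGen.refl
      have hyQ : IsInv R y := by
        rw [hy, isInv_iff_commute]
        intro q hq
        refine (isInv_iff_commute.mp (hT ▸ isInv_trunc heQ fun q hq => Subgroup.le_normalizer hq) q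
          hq).mul_left ((Commute.one_left _).sub_left ?_)
        exact isInv_iff_commute.mp (isInv_iff_conjA.mpr fun x hx => hβ ▸ conjA_bel_self R b hx) q hq
      rcases prim_cases he heQ hprim (x := e * y * e) (by rw [← mul_assoc, ← mul_assoc, he])
        (by rw [mul_assoc, he]) (isInv_mul (isInv_mul heQ hyQ) heQ) with h | ⟨c, hc, hxc, -⟩
      · refine hnil0 y hyy ?_
        obtain ⟨k, hk⟩ := h
        refine ⟨k, ?_⟩
        have := congrArg (trunc (Subgroup.centralizer (R : Set G) : Set G)) hk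
        rw [trunc_pow hRp (isInv_mul (isInv_mul heQ hyQ) heQ), trunc_zero,
          trunc_mul hRp (isInv_mul heQ hyQ) heQ, trunc_mul hRp heQ hyQ, trunc_eq_self hys, ← hT,
          hTy, hyT] at this
        exact this
      · exfalso
        apply hfne
        have := congrArg (trunc (Subgroup.centralizer (R : Set G) : Set G)) hxc
        rw [trunc_mul hRp (isInv_mul (isInv_mul heQ hyQ) heQ) hc,
          trunc_mul hRp (isInv_mul heQ hyQ) heQ, trunc_mul hRp heQ hyQ, trunc_eq_self hys, ← hT,
          hTy, hyT] at this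
        rw [← hT, ← hβ, hcT.eq, ← this, ← mul_assoc, hy, ← mul_assoc β, ← hcT.eq, mul_assoc T β,
          mul_sub, mul_one, hββ, sub_self, mul_zero, zero_mul]
    -- the normalizer step
    obtain ⟨N, hN⟩ : ∃ N : Subgroup G, N = Q ⊓ Subgroup.normalizer (R : Set G) := ⟨_, rfl⟩
    have hRN : R ≤ N := hN ▸ le_inf hRQ Subgroup.le_normalizer
    obtain ⟨h, ⟨-, hhle⟩, -⟩ := existsUnique_below hM hQf (hN ▸ inf_le_left : N ≤ Q)
    obtain ⟨-, -, -, -, hst, -⟩ := isNormalSubpair_iff.mp
      (rel_of_below hM hQf hle hRN (hN ▸ inf_le_right) hhle)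
    have hyN : IsInv N y := by
      rw [hy, isInv_iff_commute]
      intro q hq
      refine (isInv_iff_commute.mp (hT ▸ isInv_trunc (isInv_mono (hN ▸ inf_le_left) heQ)
        fun q hq => (hN ▸ inf_le_right : N ≤ _) hq) q hq).mul_left ((Commute.one_left _).sub_left ?_)
      exact isInv_iff_commute.mp (isInv_iff_conjA.mpr fun x hx => hβ ▸ hst x hx) q hq
    have hS0 : ∀ S : Subgroup G, R < S → S ≤ N → ∀ v ∈ Subgroup.centralizer (S : Set G),
        y.coeff v = 0 := by
      intro S hlt hSN v hv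
      have hSQ : S ≤ Q := hSN.trans (hN ▸ inf_le_left)
      have hSp : IsPGroup p S := IsPGroup.to_le hQ hSQ
      obtain ⟨g, ⟨hgb, hgle⟩, -⟩ := existsUnique_below hM hQf hSQ
      obtain ⟨-, -, -, -, hstS, hocc⟩ := isNormalSubpair_iff.mp
        (rel_of_below hM hQf hle hlt.le (hSN.trans (hN ▸ inf_le_right)) hgle)
      have hcard : Nat.card R < Nat.card S := Set.Finite.card_lt_card (Set.toFinite _) hlt
      have hcard' : Nat.card S ≤ Nat.card Q := Subgroup.card_le_of_le hSQ
      have hI := ih _ (by omega) S g rfl hgle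
      have hi2 : Inv2 S β := hβ ▸ inv2_bel hlt.le hstS
      have hk := trunc_mul_of_occ hM hSp hgb hi2 hββ (hβ ▸ hocc)
      have hTS : IsInv S T := hT ▸ isInv_trunc (isInv_mono hSQ heQ)
        fun q hq => (hSN.trans (hN ▸ inf_le_right) : S ≤ _) hq
      have h1β : IsInv S (1 - β) := isInv_iff_commute.mpr fun q hq =>
        (Commute.one_left _).sub_left (isInv_iff_commute.mp hi2.1 q hq)
      have key : trunc (Subgroup.centralizer (S : Set G) : Set G) y = 0 := by
        rw [hy, trunc_mul hSp hTS h1β, hT,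
          trunc_trunc_of_subset (S := (Subgroup.centralizer (S : Set G) : Set G))
            (Subgroup.centralizer_le (s := (R : Set G)) hlt.le), trunc_sub,
          trunc_one (Subgroup.one_mem _), ← hI, mul_assoc, mul_sub, mul_one,
          (commute_of_supp (isInv_bel _ g) fun v hv => coeff_trunc_of_notMem _ hv).eq, hk, sub_self,
          mul_zero]
      exact trunc_eq_zero_iff.mp key v hv
    have hstab : ∀ w, y.coeff w ≠ 0 → Q ⊓ Subgroup.centralizer ({w} : Set G) = R := by
      intro w hw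
      have hwR : w ∈ Subgroup.centralizer (R : Set G) := by
        by_contra h'; exact hw (hys w h')
      have hle' : R ≤ Q ⊓ Subgroup.centralizer ({w} : Set G) :=
        le_inf hRQ (le_centralizer_singleton.mpr hwR)
      by_contra hne'
      have hlt := exists_normalizer_gt (IsPGroup.to_le hQ inf_le_left) hle' (Ne.symm hne')
      refine hw (hS0 _ hlt (hN ▸ le_inf (inf_le_left.trans inf_le_left) inf_le_right) w ?_)
      exact le_centralizer_singleton.mp (inf_le_left.trans inf_le_right)
    have hnorm : ∀ t ∈ Q, ∀ w, y.coeff w ≠ 0 →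
        t * w * t⁻¹ ∈ Subgroup.centralizer (R : Set G) → t⁻¹ ∈ N := by
      intro t ht w hw hmem
      have hsub : R.map (MulAut.conj t⁻¹).toMonoidHom ≤ R := by
        refine le_trans ?_ (hstab w hw).le
        rintro _ ⟨r, hr, rfl⟩
        refine ⟨show t⁻¹ * r * t⁻¹⁻¹ ∈ Q from
          mul_mem (mul_mem (inv_mem ht) (hRQ hr)) (inv_mem (inv_mem ht)), ?_⟩
        refine Subgroup.mem_centralizer_singleton_iff.mpr ?_
        show t⁻¹ * r * t⁻¹⁻¹ * w = w * (t⁻¹ * r * t⁻¹⁻¹)
        have := Subgroup.mem_centralizer_iff.mp hmem r hr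
        calc t⁻¹ * r * t⁻¹⁻¹ * w = t⁻¹ * (r * (t * w * t⁻¹)) * t := by group
          _ = t⁻¹ * ((t * w * t⁻¹) * r) * t := by rw [this]
          _ = _ := by group
      rw [hN]
      refine Subgroup.mem_inf.mpr ⟨inv_mem ht, ?_⟩
      have heq : R.map (MulAut.conj t⁻¹).toMonoidHom = R :=
        Subgroup.eq_of_le_of_card_ge hsub (by rw [card_map_conj])
      rw [Subgroup.mem_normalizer_iff]
      intro r
      conv_rhs => rw [← heq]
      rw [mem_map_conj]
      simp [mul_assoc]
    -- the invariant extension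
    obtain ⟨z, hz⟩ : ∃ z : MonoidAlgebra (Res M) G, z = ofFun fun v =>
        if h : ∃ t ∈ Q, y.coeff (t⁻¹ * v * t) ≠ 0 then y.coeff (h.choose⁻¹ * v * h.choose) else 0 :=
      ⟨_, rfl⟩
    have hzv : ∀ v, ∀ t ∈ Q, y.coeff (t⁻¹ * v * t) ≠ 0 → z.coeff v = y.coeff (t⁻¹ * v * t) := by
      intro v t ht hv
      have h : ∃ t ∈ Q, y.coeff (t⁻¹ * v * t) ≠ 0 := ⟨t, ht, hv⟩
      rw [hz, coeff_ofFun, dif_pos h]
      obtain ⟨hs, hsv⟩ := h.choose_spec
      obtain ⟨s, hsdef⟩ : ∃ s, s = h.choose := ⟨_, rfl⟩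
      rw [← hsdef] at hs hsv ⊢
      have hmem : (s⁻¹ * t) * (t⁻¹ * v * t) * (s⁻¹ * t)⁻¹ ∈
          Subgroup.centralizer (R : Set G) := by
        rw [show (s⁻¹ * t) * (t⁻¹ * v * t) * (s⁻¹ * t)⁻¹ = s⁻¹ * v * s by group]
        by_contra h'
        exact hsv (hys _ h')
      have hN' := inv_mem (hnorm _ (mul_mem (inv_mem hs) ht) _ hv hmem)
      rw [inv_inv] at hN'
      rw [show s⁻¹ * v * s = (s⁻¹ * t) * (t⁻¹ * v * t) * (s⁻¹ * t)⁻¹ by group]
      exact hyN _ hN' _
    have hz0 : ∀ v, (∀ t ∈ Q, y.coeff (t⁻¹ * v * t) = 0) → z.coeff v = 0 := by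
      intro v hv
      rw [hz, coeff_ofFun, dif_neg]
      rintro ⟨t, ht, h⟩
      exact h (hv t ht)
    have hzQ : IsInv Q z := by
      intro q hq v
      by_cases h : ∃ t ∈ Q, y.coeff (t⁻¹ * v * t) ≠ 0
      · obtain ⟨t, ht, hv⟩ := h
        have e1 : (q * t)⁻¹ * (q * v * q⁻¹) * (q * t) = t⁻¹ * v * t := by group
        rw [hzv v t ht hv, hzv (q * v * q⁻¹) (q * t) (mul_mem hq ht) (by rwa [e1]), e1]
      · push Not at h
        rw [hz0 v h, hz0]
        intro t ht
        rw [show t⁻¹ * (q * v * q⁻¹) * t = (q⁻¹ * t)⁻¹ * v * (q⁻¹ * t) by group]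
        exact h _ (mul_mem (inv_mem hq) ht)
    have hzR : trunc (Subgroup.centralizer (R : Set G) : Set G) z = y := by
      ext v
      by_cases hv : v ∈ Subgroup.centralizer (R : Set G)
      · rw [coeff_trunc_of_mem _ hv]
        by_cases h : ∃ t ∈ Q, y.coeff (t⁻¹ * v * t) ≠ 0
        · obtain ⟨t, ht, htv⟩ := h
          rw [hzv v t ht htv]
          have hN' := hnorm t ht _ htv
            (by rwa [show t * (t⁻¹ * v * t) * t⁻¹ = v by group])
          have := hyN _ hN' v
          rwa [inv_inv] at this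
        · push Not at h
          rw [hz0 v h]
          simpa using (h 1 Q.one_mem).symm
      · rw [coeff_trunc_of_notMem _ hv, hys v hv]
    have hzT : trunc (Subgroup.centralizer (Q : Set G) : Set G) z = 0 := by
      rw [trunc_eq_zero_iff]
      intro v hv
      refine hz0 v fun t ht => ?_
      have hfix : t⁻¹ * v * t = v := by
        rw [mul_assoc, ← Subgroup.mem_centralizer_iff.mp hv t ht, inv_mul_cancel_left]
      rw [hfix]
      by_contra h'
      refine hRe (le_antisymm hRQ ?_)
      rw [← hstab v h']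
      exact le_inf le_rfl (le_centralizer_singleton.mpr hv)
    have hxQ : IsInv Q (e * z * e) := isInv_mul (isInv_mul heQ hzQ) heQ
    rcases prim_cases he heQ hprim (x := e * z * e) (by rw [← mul_assoc, ← mul_assoc, he])
      (by rw [mul_assoc, he]) hxQ with h' | ⟨c, hc, hxc, -⟩
    · refine hnil0 y hyy ?_
      obtain ⟨k, hk⟩ := h'
      refine ⟨k, ?_⟩
      have := congrArg (trunc (Subgroup.centralizer (R : Set G) : Set G)) hk
      rw [trunc_pow hRp (isInv_mono hRQ hxQ), trunc_zero,
        trunc_mul hRp (isInv_mono hRQ (isInv_mul heQ hzQ)) (isInv_mono hRQ heQ),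
        trunc_mul hRp (isInv_mono hRQ heQ) (isInv_mono hRQ hzQ), hzR, ← hT, hTy, hyT] at this
      exact this
    · exfalso
      apply hne
      have := congrArg (trunc (Subgroup.centralizer (Q : Set G) : Set G)) hxc
      rw [trunc_mul hQ hxQ hc, trunc_mul hQ (isInv_mul heQ hzQ) heQ, trunc_mul hQ heQ hzQ, hzT,
        mul_zero, zero_mul, zero_mul] at this
      exact this.symm

end Pairs

end Cfsg.Agent.Blocks
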