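import Cfsg.Agent.Lib.Blocks.StarInteg
import Cfsg.Agent.Lib.Blocks.UnramRing

/-!
# The weighted sum at an invariant idempotent is a generalized character

Induction on the order of the `p`-group: a primitive idempotent either lies in the blocks below a
pair, or is a trace from a maximal subgroup, and then the multiplicities are divisible by `p`.
-/

namespace Cfsg.Agent.Blocks

open MonoidAlgebra BPairs
open scoped ComplexConjugate

universe u

variable {G : Type u} [Group G] [Finite G] {p : ℕ} {M : Ideal AlgInt} [M.IsPrime]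

set_option linter.unusedSectionVars false

section Index

variable {A : Type u} [Group A] [Finite A]

theorem exists_index_p [hp : Fact p.Prime] (hA : IsPGroup p A) {C : Subgroup A} (hC : C ≠ ⊤) :
    ∃ N : Subgroup A, N.Normal ∧ N.index = p ∧ C ≤ N := by
  haveI : Group.IsNilpotent A := hA.isNilpotent
  obtain ⟨N, hN, hCN⟩ := (eq_top_or_exists_le_coatom C).resolve_left hC
  haveI hn : N.Normal :=
    Subgroup.NormalizerCondition.normal_of_coatom N Group.normalizerCondition_of_isNilpotent hN
  haveI : Nontrivial (A ⧸ N) := by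
    by_contra h
    rw [not_nontrivial_iff_subsingleton] at h
    refine hN.1 (eq_top_iff.mpr fun g _ => ?_)
    exact (QuotientGroup.eq_one_iff g).mp (Subsingleton.elim _ _)
  obtain ⟨k, hk0, hk⟩ := (hA.to_quotient N).nontrivial_iff_card.mp inferInstance
  obtain ⟨q, hq⟩ := exists_prime_orderOf_dvd_card' (G := A ⧸ N) p
    (hk ▸ dvd_pow_self p hk0.ne')
  have hlt : N < (Subgroup.zpowers q).comap (QuotientGroup.mk' N) := by
    refine lt_of_le_of_ne (fun g hg => ?_) fun h => ?_
    · rw [Subgroup.mem_comap, QuotientGroup.mk'_apply, (QuotientGroup.eq_one_iff g).mpr hg]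
      exact Subgroup.one_mem _
    · obtain ⟨g, rfl⟩ := QuotientGroup.mk'_surjective N q
      have : g ∈ N := by rw [h]; exact Subgroup.mem_zpowers _
      rw [QuotientGroup.mk'_apply, (QuotientGroup.eq_one_iff g).mpr this, orderOf_one] at hq
      exact hp.out.ne_one hq.symm
  have htop : Subgroup.zpowers q = ⊤ := by
    rw [← Subgroup.map_comap_eq_self_of_surjective (QuotientGroup.mk'_surjective N)
      (Subgroup.zpowers q), hN.2 _ hlt, Subgroup.map_top_of_surjective _ (QuotientGroup.mk'_surjective N)]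
  refine ⟨N, hn, ?_, hCN⟩
  rw [Subgroup.index_eq_card, ← Subgroup.card_top, ← htop, Nat.card_zpowers, hq]

theorem coset_facts [hp : Fact p.Prime] {N : Subgroup A} [N.Normal] (hN : N.index = p) {t : A}
    (ht : t ∉ N) :
    t ^ p ∈ N ∧ (∀ l : ℕ, t ^ l ∈ N → p ∣ l) ∧ ∀ u : A, ∃ l < p, (t ^ l)⁻¹ * u ∈ N := by
  have hcard : Nat.card (A ⧸ N) = p := by rw [← Subgroup.index_eq_card, hN]
  have hne : (QuotientGroup.mk t : A ⧸ N) ≠ 1 := fun h => ht ((QuotientGroup.eq_one_iff t).mp h)
  have hord : orderOf (QuotientGroup.mk t : A ⧸ N) = p := by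
    rcases (Nat.dvd_prime hp.out).mp (hcard ▸ orderOf_dvd_natCard (QuotientGroup.mk t : A ⧸ N)) with h | h
    · exact absurd (orderOf_eq_one_iff.mp h) hne
    · exact h
  refine ⟨?_, fun l hl => ?_, fun u => ?_⟩
  · rw [← QuotientGroup.eq_one_iff, QuotientGroup.mk_pow]
    conv_lhs => rw [← hord]
    exact pow_orderOf_eq_one _
  · rw [← hord]
    refine orderOf_dvd_of_pow_eq_one ?_
    rw [← QuotientGroup.mk_pow]
    exact (QuotientGroup.eq_one_iff _).mpr hl
  · have hmem : (QuotientGroup.mk u : A ⧸ N) ∈ Subgroup.zpowers (QuotientGroup.mk t : A ⧸ N) := by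
      rw [zpowers_eq_top_of_prime_card hcard hne]; exact Subgroup.mem_top _
    obtain ⟨n, hn⟩ := mem_powers_iff_mem_zpowers.mpr hmem
    refine ⟨n % p, Nat.mod_lt _ hp.out.pos, ?_⟩
    rw [← QuotientGroup.eq_one_iff, QuotientGroup.mk_mul, QuotientGroup.mk_inv,
      QuotientGroup.mk_pow, inv_mul_eq_one, ← hn]
    show _ = (QuotientGroup.mk t : A ⧸ N) ^ n
    conv_lhs => rw [← hord, pow_mod_orderOf]

end Index

section Trace

variable {Q : Subgroup G} {R : Type*} [CommRing R]

/-- The trace from a subgroup of index `p` along the powers of `t`. -/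
noncomputable def tr (p : ℕ) (t : G) (a : MonoidAlgebra R G) : MonoidAlgebra R G :=
  ∑ l ∈ Finset.range p, conjA (t ^ l) a

theorem coeff_tr (t : G) (a : MonoidAlgebra R G) (v : G) :
    (tr p t a).coeff v = ∑ l ∈ Finset.range p, a.coeff ((t ^ l)⁻¹ * v * t ^ l) := by
  simp [tr, coeff_conjA]

/-- An invariant element with zero Brauer image is a sum of traces. -/
theorem mem_closure_tr [hp : Fact p.Prime] (hQ : IsPGroup p Q) : ∀ (n : ℕ) (x : MonoidAlgebra R G),
    x.coeff.support.card = n → IsInv Q x →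
    trunc (Subgroup.centralizer (Q : Set G) : Set G) x = 0 →
    x ∈ AddSubgroup.closure {y | ∃ (N : Subgroup Q) (t : Q), N.Normal ∧ N.index = p ∧ t ∉ N ∧
      ∃ a, IsInv (N.map Q.subtype) a ∧ y = tr p (t : G) a} := by
  classical
  intro n
  induction n using Nat.strong_induction_on with
  | _ n ih =>
    intro x hn hxQ hx0
    by_cases hx : x = 0
    · subst hx; exact zero_mem _
    obtain ⟨w, hw⟩ : ∃ w, x.coeff w ≠ 0 := by
      by_contra h
      push Not at h
      exact hx (by ext v; simpa using h v)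
    obtain ⟨C, hC⟩ : ∃ C : Subgroup Q, C = (Subgroup.centralizer ({w} : Set G)).subgroupOf Q := ⟨_, rfl⟩
    have hCtop : C ≠ ⊤ := fun h => by
      rw [hC, Subgroup.subgroupOf_eq_top] at h
      exact hw (trunc_eq_zero_iff.mp hx0 w (le_centralizer_singleton.mp h))
    obtain ⟨N, hNn, hNi, hCN⟩ := exists_index_p hQ hCtop
    haveI := hNn
    obtain ⟨t, ht⟩ : ∃ t : Q, t ∉ N := by
      by_contra h
      push Not at h
      have : N = ⊤ := eq_top_iff.mpr fun g _ => h g
      rw [this, Subgroup.index_top] at hNi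
      exact hp.out.ne_one hNi.symm
    obtain ⟨htp, htd, htu⟩ := coset_facts hNi ht
    obtain ⟨a, ha⟩ : ∃ a : MonoidAlgebra R G, a = ofFun fun v =>
        if ∃ m ∈ N, (m : G) * w * (m : G)⁻¹ = v then x.coeff w else 0 := ⟨_, rfl⟩
    have haN : IsInv (N.map Q.subtype) a := by
      rintro _ ⟨m, hm, rfl⟩ v
      rw [ha, coeff_ofFun, coeff_ofFun]
      refine if_congr ⟨fun ⟨k, hk, h⟩ => ⟨m⁻¹ * k, mul_mem (inv_mem hm) hk, ?_⟩,
        fun ⟨k, hk, h⟩ => ⟨m * k, mul_mem hm hk, ?_⟩⟩ rfl rfl
      · simp only [Subgroup.coe_mul, Subgroup.coe_inv]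
        rw [show (m : G)⁻¹ * k * w * ((m : G)⁻¹ * k)⁻¹ = (m : G)⁻¹ * ((k : G) * w * (k : G)⁻¹) * m by
          group, h]
        simp only [Subgroup.coe_subtype]
        group
      · simp only [Subgroup.coe_mul]
        rw [show (m : G) * k * w * ((m : G) * k)⁻¹ = (m : G) * ((k : G) * w * (k : G)⁻¹) * (m : G)⁻¹ by
          group, h]
        rfl
    have htr : ∀ v, (tr p (t : G) a).coeff v =
        if ∃ q : Q, (q : G) * w * (q : G)⁻¹ = v then x.coeff w else 0 := by
      intro v
      rw [coeff_tr]
      simp only [ha, coeff_ofFun]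
      by_cases hv : ∃ q : Q, (q : G) * w * (q : G)⁻¹ = v
      · rw [if_pos hv]
        obtain ⟨q, rfl⟩ := hv
        obtain ⟨l, hl, hlq⟩ := htu q
        rw [Finset.sum_eq_single_of_mem l (Finset.mem_range.mpr hl), if_pos]
        · exact ⟨_, hlq, by simp only [Subgroup.coe_mul, Subgroup.coe_inv, SubmonoidClass.coe_pow]; group⟩
        · intro i hi hne
          rw [if_neg]
          rintro ⟨m, hm, hmv⟩
          have hmem : m⁻¹ * ((t ^ i)⁻¹ * q) ∈ C := by
            rw [hC, Subgroup.mem_subgroupOf, Subgroup.mem_centralizer_singleton_iff]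
            simp only [Subgroup.coe_mul, Subgroup.coe_inv, SubmonoidClass.coe_pow]
            calc (m : G)⁻¹ * (((t : G) ^ i)⁻¹ * q) * w
                = (m : G)⁻¹ * (((t : G) ^ i)⁻¹ * ((q : G) * w * (q : G)⁻¹) * (t : G) ^ i) *
                    (((t : G) ^ i)⁻¹ * q) := by group
              _ = (m : G)⁻¹ * ((m : G) * w * (m : G)⁻¹) * (((t : G) ^ i)⁻¹ * q) := by rw [hmv]
              _ = _ := by group
          have h2 : (t ^ i)⁻¹ * q ∈ N := by
            have := mul_mem hm (hCN hmem)
            rwa [mul_inv_cancel_left] at this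
          have h3 : (t ^ i)⁻¹ * t ^ l ∈ N := by
            have := mul_mem h2 (inv_mem hlq)
            rwa [mul_inv_rev, inv_inv, ← mul_assoc, mul_inv_cancel_right] at this
          have hi' := Finset.mem_range.mp hi
          rcases le_total i l with hle | hle
          · obtain ⟨d, rfl⟩ := Nat.exists_eq_add_of_le hle
            rw [pow_add, inv_mul_cancel_left] at h3
            exact hne (by rcases Nat.eq_zero_of_dvd_of_lt (htd d h3) (by omega) with rfl; simp)
          · obtain ⟨d, rfl⟩ := Nat.exists_eq_add_of_le hle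
            rw [pow_add, mul_inv_rev, mul_assoc, inv_mul_cancel, mul_one, inv_mem_iff] at h3
            exact hne (by rcases Nat.eq_zero_of_dvd_of_lt (htd d h3) (by omega) with rfl; simp)
      · rw [if_neg hv]
        refine Finset.sum_eq_zero fun i _ => if_neg ?_
        rintro ⟨m, -, hmv⟩
        refine hv ⟨t ^ i * m, ?_⟩
        simp only [Subgroup.coe_mul, SubmonoidClass.coe_pow]
        calc (t : G) ^ i * m * w * ((t : G) ^ i * m)⁻¹
            = (t : G) ^ i * ((m : G) * w * (m : G)⁻¹) * ((t : G) ^ i)⁻¹ := by group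
          _ = v := by rw [hmv]; group
    have hmem : tr p (t : G) a ∈ AddSubgroup.closure {y | ∃ (N : Subgroup Q) (t : Q), N.Normal ∧
        N.index = p ∧ t ∉ N ∧ ∃ a, IsInv (N.map Q.subtype) a ∧ y = tr p (t : G) a} :=
      AddSubgroup.subset_closure ⟨N, t, hNn, hNi, ht, a, haN, rfl⟩
    have hsub : x - tr p (t : G) a ∈ AddSubgroup.closure {y | ∃ (N : Subgroup Q) (t : Q), N.Normal ∧
        N.index = p ∧ t ∉ N ∧ ∃ a, IsInv (N.map Q.subtype) a ∧ y = tr p (t : G) a} := by
      have hcoef : ∀ v, (x - tr p (t : G) a).coeff v =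
          if ∃ q : Q, (q : G) * w * (q : G)⁻¹ = v then 0 else x.coeff v := by
        intro v
        rw [coeff_sub, Finsupp.sub_apply, htr]
        by_cases hv : ∃ q : Q, (q : G) * w * (q : G)⁻¹ = v
        · rw [if_pos hv, if_pos hv]
          obtain ⟨q, rfl⟩ := hv
          rw [hxQ q q.2 w, sub_self]
        · rw [if_neg hv, if_neg hv, sub_zero]
      refine ih _ ?_ _ rfl ?_ ?_
      · rw [← hn]
        refine Finset.card_lt_card (Finset.ssubset_iff_subset_ne.mpr ⟨fun v hv => ?_, fun h => ?_⟩)
        · rw [Finsupp.mem_support_iff] at hv ⊢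
          rw [hcoef] at hv
          split_ifs at hv with h
          · exact absurd rfl hv
          · exact hv
        · have : w ∈ (x - tr p (t : G) a).coeff.support := h ▸ Finsupp.mem_support_iff.mpr hw
          rw [Finsupp.mem_support_iff, hcoef, if_pos ⟨1, by simp⟩] at this
          exact this rfl
      · intro q hq v
        rw [hcoef, hcoef]
        refine if_congr ⟨fun ⟨k, h⟩ => ⟨(⟨q, hq⟩ : Q)⁻¹ * k, ?_⟩,
          fun ⟨k, h⟩ => ⟨(⟨q, hq⟩ : Q) * k, ?_⟩⟩ rfl (hxQ q hq v)
        · simp only [Subgroup.coe_mul, Subgroup.coe_inv]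
          rw [show q⁻¹ * (k : G) * w * (q⁻¹ * (k : G))⁻¹ = q⁻¹ * ((k : G) * w * (k : G)⁻¹) * q by group,
            h]
          group
        · simp only [Subgroup.coe_mul]
          rw [show q * (k : G) * w * (q * (k : G))⁻¹ = q * ((k : G) * w * (k : G)⁻¹) * q⁻¹ by group, h]
      · rw [trunc_eq_zero_iff]
        intro v hv
        rw [hcoef, trunc_eq_zero_iff.mp hx0 v hv]
        exact ite_self 0
    simpa using add_mem hsub hmem

/-- A trace vanishes on the centralizers of the elements outside the subgroup. -/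
theorem trunc_tr_eq_zero [hp : Fact p.Prime] [CharP R p] {N : Subgroup Q} [N.Normal]
    (hN : N.index = p) {t : Q} (ht : t ∉ N) {a : MonoidAlgebra R G}
    (ha : IsInv (N.map Q.subtype) a) {u : Q} (hu : u ∉ N) :
    trunc (cz (u : G) : Set G) (tr p (t : G) a) = 0 := by
  obtain ⟨htp, htd, htu⟩ := coset_facts hN ht
  rw [trunc_eq_zero_iff]
  intro v hv
  rw [coeff_tr]
  obtain ⟨f, hf⟩ : ∃ f : Q → R, f = fun g : Q => a.coeff ((g : G)⁻¹ * v * g) := ⟨_, rfl⟩
  have hfr : ∀ (g m : Q), m ∈ N → f (g * m) = f g := by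
    intro g m hm
    rw [hf]
    simp only [Subgroup.coe_mul]
    rw [show ((g : G) * m)⁻¹ * v * ((g : G) * m) = (m : G)⁻¹ * ((g : G)⁻¹ * v * g) * (m : G)⁻¹⁻¹ by
      group]
    exact ha _ ⟨m⁻¹, inv_mem hm, by simp⟩ _
  have hfu : ∀ g : Q, f (u * g) = f g := fun g => by
    rw [hf]
    simp only [Subgroup.coe_mul]
    congr 1
    have hc : Commute v (u : G) := mem_cz.mp hv
    calc ((u : G) * g)⁻¹ * v * ((u : G) * g) = (g : G)⁻¹ * ((u : G)⁻¹ * (v * u)) * g := by group
      _ = (g : G)⁻¹ * ((u : G)⁻¹ * ((u : G) * v)) * g := by rw [hc.eq]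
      _ = _ := by group
  obtain ⟨i, hi, hiu⟩ := htu u
  obtain ⟨F, hF⟩ : ∃ F : ℕ → R, F = fun l => f (t ^ l) := ⟨_, rfl⟩
  have hstep : ∀ l, F (l + i) = F l := by
    intro l
    rw [hF]
    simp only
    have hconj : (t ^ l)⁻¹ * ((t ^ i)⁻¹ * u) * t ^ l ∈ N := by
      have := (inferInstance : N.Normal).conj_mem _ hiu (t ^ l)⁻¹
      rwa [inv_inv] at this
    calc f (t ^ (l + i)) = f (t ^ (i + l) * ((t ^ l)⁻¹ * ((t ^ i)⁻¹ * u) * t ^ l)) := by
          rw [hfr _ _ hconj, add_comm]
      _ = f (u * t ^ l) := by rw [pow_add]; group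
      _ = f (t ^ l) := hfu _
  have hper : ∀ l, F (l + p) = F l := fun l => by
    rw [hF]
    simp only [pow_add]
    exact hfr _ _ htp
  have hcop : Nat.Coprime i p := ((hp.out.coprime_iff_not_dvd).mpr fun hd => hu (by
    rcases Nat.eq_zero_of_dvd_of_lt hd hi with rfl
    simpa using hiu)).symm
  have hmul : ∀ k l, F (l + k * i) = F l := fun k => by
    induction k with
    | zero => simp
    | succ k ih => intro l; rw [Nat.succ_mul, ← add_assoc, hstep, ih]
  have hmulp : ∀ k l, F (l + k * p) = F l := fun k => by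
    induction k with
    | zero => simp
    | succ k ih => intro l; rw [Nat.succ_mul, ← add_assoc, hper, ih]
  obtain ⟨c, -, hc⟩ := Nat.exists_mul_mod_eq_one_of_coprime hcop hp.out.one_lt
  have hone : ∀ l, F (l + 1) = F l := fun l => by
    have e := Nat.mod_add_div (i * c) p
    rw [hc] at e
    rw [← hmul c l, mul_comm c i, ← e, ← add_assoc, mul_comm p, hmulp]
  have hconst : ∀ l, F l = F 0 := fun l => by
    induction l with
    | zero => rfl
    | succ l ih => rw [hone, ih]
  rw [Finset.sum_congr rfl fun l _ => show a.coeff _ = F 0 by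
    rw [← hconst l, hF, hf]; simp only [SubmonoidClass.coe_pow], Finset.sum_const,
    Finset.card_range, nsmul_eq_mul, CharP.cast_eq_zero, zero_mul]

end Trace

section Step

variable {W : G → MonoidAlgebra (Res M) G → ℂ}

/-- Conjugation as an algebra endomorphism of the group algebra. -/
noncomputable def conjAlg (R : Type*) [CommRing R] (t : G) :
    MonoidAlgebra R G →ₐ[R] MonoidAlgebra R G :=
  MonoidAlgebra.lift R (MonoidAlgebra R G) G
    { toFun := fun g => single (t * g * t⁻¹) 1
      map_one' := by simp [one_def]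
      map_mul' := fun a b => by rw [single_mul_single, mul_one]; congr 1; group }

theorem conjAlg_apply {R : Type*} [CommRing R] (t : G) (a : MonoidAlgebra R G) :
    conjAlg R t a = conjA t a := by
  induction a using MonoidAlgebra.induction_linear with
  | zero => simp [conjA_zero]
  | add x y hx hy => rw [map_add, hx, hy, conjA_add]
  | single g r => simp [conjAlg, conjA_single]

theorem wVal_zero (hM : IsPModular p M) [Fact p.Prime] (θ : IrrCharacter G) (u : G) :
    wVal p W θ (0 : MonoidAlgebra (Res M) G) u = 0 :=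
  wVal_of_trunc_eq_zero hM θ (trunc_zero _)

set_option maxHeartbeats 1600000 in
/-- The induction step: an idempotent which is a trace from a subgroup of index `p`. -/
theorem isGen_wVal_tr (hM : IsPModular p M) [hp : Fact p.Prime] (hW : IsWeight p M W)
    (θ : IrrCharacter G) {Q : Subgroup G} (hQ : IsPGroup p Q) {N : Subgroup Q} [N.Normal]
    (hN : N.index = p) {t : Q} (ht : t ∉ N)
    (hIH : ∀ f : MonoidAlgebra (Res M) G, f * f = f → IsInv (N.map Q.subtype) f →
      IsGeneralizedCharacter N fun x : N => wVal p W θ f ((x : Q) : G))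
    {e a : MonoidAlgebra (Res M) G} (he : e * e = e) (heQ : IsInv Q e)
    (ha : IsInv (N.map Q.subtype) a) (hea : e * a = a) (hae : a * e = a) (htr : tr p (t : G) a = e) :
    IsGeneralizedCharacter Q fun u : Q => wVal p W θ e (u : G) := by
  classical
  haveI := charP_res hM
  haveI := isAlgClosed_res hM
  haveI := Fintype.ofFinite G
  obtain ⟨htp, htd, htu⟩ := coset_facts hN ht
  have hu : ∀ u : Q, ∃ k : ℕ, (u : G) ^ p ^ k = 1 := fun u => exists_pow_eq_one_of_isPGroup hQ u.2
  have hcomm : ∀ u : Q, Commute e (single (u : G) 1) := fun u => isInv_iff_commute.mp heQ u u.2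
  obtain ⟨F, hF⟩ : ∃ F : Q → ℂ, F = fun u : Q => wVal p W θ e (u : G) := ⟨_, rfl⟩
  rw [← hF]
  have hFclass : IsClassFunction Q F := by
    intro g c
    subst hF
    simp only [Subgroup.coe_mul, Subgroup.coe_inv]
    conv_lhs => rw [← (isInv_iff_conjA.mp heQ c c.2)]
    exact wVal_conj hM hW θ c (hu g) he (hcomm g)
  have hF0 : ∀ u : Q, u ∉ N → F u = 0 := fun u hun => by
    subst hF
    simp only
    refine wVal_of_trunc_eq_zero hM θ ?_
    rw [← htr]
    exact trunc_tr_eq_zero hN ht ha hun
  -- the algebra of invariant elements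
  let S : Subalgebra (Res M) (MonoidAlgebra (Res M) G) := Subalgebra.centralizer (Res M)
    ({x | ∃ m ∈ N.map Q.subtype, x = single m 1} ∪ {e})
  haveI : FiniteDimensional (Res M) (MonoidAlgebra (Res M) G) :=
    Module.Finite.of_basis (MonoidAlgebra.basis G (Res M))
  have hmemS : ∀ x, x ∈ S ↔ IsInv (N.map Q.subtype) x ∧ e * x = x * e := fun x => by
    rw [Subalgebra.mem_centralizer_iff, isInv_iff_commute]
    refine ⟨fun h => ⟨fun m hm => (h _ (Or.inl ⟨m, hm, rfl⟩)).symm, h e (Or.inr rfl)⟩, ?_⟩
    rintro ⟨h1, h2⟩ _ (⟨m, hm, rfl⟩ | rfl)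
    · exact (h1 m hm).symm.eq
    · exact h2
  have hte : conjA (t : G) e = e := isInv_iff_conjA.mp heQ t t.2
  have hσmem : ∀ x : S, (conjAlg (Res M) (t : G)).comp S.val x ∈ S := fun x => by
    obtain ⟨hx1, hx2⟩ := (hmemS x).mp x.2
    rw [hmemS, AlgHom.comp_apply, conjAlg_apply, Subalgebra.val_apply]
    refine ⟨?_, ?_⟩
    · rintro _ ⟨m, hm, rfl⟩ v
      rw [coeff_conjA, coeff_conjA]
      have h := hx1 _ ⟨t⁻¹ * m * t, by
        have := (inferInstance : N.Normal).conj_mem m hm t⁻¹
        rwa [inv_inv] at this, rfl⟩ ((t : G)⁻¹ * v * t)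
      simp only [Subgroup.coe_subtype, Subgroup.coe_mul, Subgroup.coe_inv] at h ⊢
      rw [← h]
      congr 1
      group
    · conv_lhs => rw [← hte]
      conv_rhs => rw [← hte]
      rw [← conjA_mul, ← conjA_mul, hx2]
  let σ : S →ₐ[Res M] S := ((conjAlg (Res M) (t : G)).comp S.val).codRestrict S hσmem
  have hσv : ∀ x : S, (σ x : MonoidAlgebra (Res M) G) = conjA (t : G) x := fun x => by
    show conjAlg (Res M) (t : G) (x : MonoidAlgebra (Res M) G) = _
    rw [conjAlg_apply]
  have hσl : ∀ (l : ℕ) (x : S),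
      ((σ^[l] x : S) : MonoidAlgebra (Res M) G) = conjA ((t : G) ^ l) x := by
    intro l
    induction l with
    | zero => intro x; simp [conjA_one]
    | succ l ih => intro x; rw [Function.iterate_succ_apply', hσv, ih, conjA_conjA, ← pow_succ']
  have hσp : ∀ x : S, σ^[p] x = x := fun x => Subtype.ext (by
    rw [hσl]
    exact isInv_iff_conjA.mp ((hmemS x).mp x.2).1 _ ⟨t ^ p, htp, by simp⟩)
  have hKeS : e ∈ S := (hmemS e).mpr ⟨isInv_mono (Subgroup.map_subtype_le N) heQ, rfl⟩
  have hKaS : a ∈ S := (hmemS a).mpr ⟨ha, hea.trans hae.symm⟩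
  have hidem : ∀ f : S, f * f = f →
      (e * (f : MonoidAlgebra (Res M) G)) * (e * f) = e * f := fun f hf => by
    have hf' : (f : MonoidAlgebra (Res M) G) * f = f := congrArg Subtype.val hf
    rw [mul_assoc, ← mul_assoc (f : MonoidAlgebra (Res M) G), ← ((hmemS f).mp f.2).2, mul_assoc e,
      hf', ← mul_assoc, he]
  have hinv : ∀ f : S, IsInv (N.map Q.subtype) (e * (f : MonoidAlgebra (Res M) G)) := fun f =>
    isInv_mul ((hmemS e).mp hKeS).1 ((hmemS f).mp f.2).1
  have hxN : ∀ x : N, ∀ f : MonoidAlgebra (Res M) G, IsInv (N.map Q.subtype) f →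
      Commute f (single ((x : Q) : G) 1) := fun x f hf =>
    isInv_iff_commute.mp hf _ ⟨x, x.2, rfl⟩
  -- multiplicities
  have hmult : ∀ (ψ : IrrCharacter N), CT.conjFun N t (ψ : N → ℂ) = ψ →
      ∀ z : ℤ, classInner (fun x : N => F x) (ψ : N → ℂ) = z → (p : ℤ) ∣ z := by
    intro ψ hψ z hz
    have hint : ∀ f : S, ∃ k : ℤ, f * f = f → classInner
        (fun x : N => wVal p W θ (e * (f : MonoidAlgebra (Res M) G)) ((x : Q) : G)) (ψ : N → ℂ) = k := by
      intro f
      by_cases hf : f * f = f
      · obtain ⟨k, hk⟩ := CT.isGen_inner_int (hIH _ (hidem f hf) (hinv f)) (CT.isGen_of_isIrr ψ.2)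
        exact ⟨k, fun _ => hk⟩
      · exact ⟨0, fun h => absurd h hf⟩
    choose m hm using hint
    have key : (p : ℤ) ∣ m ⟨e, hKeS⟩ := by
      refine Corner.dvd_of_trace_image (K := Res M) (p := p) σ hσp m (fun f g hf hg hfg hgf => ?_)
        (fun f v hf => ?_) (fun f hf => ?_) (a := ⟨a, hKaS⟩) (fun x => Subtype.ext ((hmemS x).mp x.2).2)
        (Subtype.ext he) (Subtype.ext (by rw [hσv]; exact hte)) (Subtype.ext ?_)
      · have hfg' : (f + g) * (f + g) = f + g := by
          rw [add_mul, mul_add, mul_add, hf, hg, hfg, hgf, add_zero, zero_add]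
        have : ((m (f + g) : ℤ) : ℂ) = (m f : ℂ) + (m g : ℂ) := by
          rw [← hm _ hfg', ← hm _ hf, ← hm _ hg, ← CT.classInner_add_left]
          congr 1
          funext x
          rw [Pi.add_apply, Subalgebra.coe_add, mul_add]
          have hfg0 : (f : MonoidAlgebra (Res M) G) * g = 0 := congrArg Subtype.val hfg
          have hgf0 : (g : MonoidAlgebra (Res M) G) * f = 0 := congrArg Subtype.val hgf
          refine wVal_add hM θ (hu x) (hidem f hf) (hidem g hg) (hxN x _ (hinv f)) (hxN x _ (hinv g))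
            ?_ ?_
          · rw [mul_assoc, ← mul_assoc (f : MonoidAlgebra (Res M) G), ← ((hmemS f).mp f.2).2,
              mul_assoc e, hfg0, mul_zero, mul_zero]
          · rw [mul_assoc, ← mul_assoc (g : MonoidAlgebra (Res M) G), ← ((hmemS g).mp g.2).2,
              mul_assoc e, hgf0, mul_zero, mul_zero]
        exact_mod_cast this
      · have hvf : ((v : S) * f * (↑v⁻¹ : S)) * ((v : S) * f * (↑v⁻¹ : S)) =
            (v : S) * f * (↑v⁻¹ : S) := by
          calc ((v : S) * f * (↑v⁻¹ : S)) * ((v : S) * f * (↑v⁻¹ : S))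
              = (v : S) * (f * ((↑v⁻¹ : S) * (v : S)) * f) * (↑v⁻¹ : S) := by simp only [mul_assoc]
            _ = _ := by rw [Units.inv_mul, mul_one, hf]
        have : ((m ((v : S) * f * (↑v⁻¹ : S)) : ℤ) : ℂ) = (m f : ℂ) := by
          rw [← hm _ hvf, ← hm _ hf]
          congr 1
          funext x
          have hv1 : ((v : S) : MonoidAlgebra (Res M) G) * ((↑v⁻¹ : S) : MonoidAlgebra (Res M) G) = 1 :=
            congrArg Subtype.val v.mul_inv
          have hv2 : ((↑v⁻¹ : S) : MonoidAlgebra (Res M) G) * ((v : S) : MonoidAlgebra (Res M) G) = 1 :=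
            congrArg Subtype.val v.inv_mul
          rw [Subalgebra.coe_mul, Subalgebra.coe_mul, ← mul_assoc e, ← mul_assoc e,
            ((hmemS _).mp (v : S).2).2, mul_assoc _ e (f : MonoidAlgebra (Res M) G)]
          exact wVal_unit_conj hM θ (hu x) (hidem f hf) (hxN x _ (hinv f))
            (hxN x _ ((hmemS _).mp (v : S).2).1) (hxN x _ ((hmemS _).mp (↑v⁻¹ : S).2).1) hv1 hv2
        exact_mod_cast this
      · have hσf : σ f * σ f = σ f := by rw [← map_mul, hf]
        have : ((m (σ f) : ℤ) : ℂ) = (m f : ℂ) := by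
          rw [← hm _ hσf, ← hm _ hf]
          conv_lhs => rw [← CT.classInner_conjFun N t, hψ]
          congr 1
          funext x
          simp only [CT.conjFun, hσv, Subgroup.coe_mul, Subgroup.coe_inv]
          conv_lhs => rw [← hte, ← conjA_mul]
          exact wVal_conj hM hW θ (t : G) (hu x) (hidem f hf) (hxN x _ (hinv f))
        exact_mod_cast this
      · rw [AddSubmonoidClass.coe_finsetSum, Finset.sum_congr rfl fun l _ => hσl l _]
        exact htr
    have hz' : (m ⟨e, hKeS⟩ : ℂ) = (z : ℂ) := by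
      refine (hm _ (Subtype.ext he)).symm.trans (Eq.trans ?_ hz)
      subst hF
      simp only [he]
    have hzz : m ⟨e, hKeS⟩ = z := by exact_mod_cast hz'
    rwa [hzz] at key
  refine CT.isGen_iff.mpr ⟨hFclass, fun η => ?_⟩
  have hFN : IsGeneralizedCharacter N fun x : N => F x := by
    have := hIH e he ((hmemS e).mp hKeS).1
    rwa [hF]
  choose c hc using fun ψ : IrrCharacter N =>
    CT.isGen_inner_int hFN (CT.isGen_of_isIrr ψ.2)
  choose d hd using fun ψ : IrrCharacter N =>
    CT.isGen_inner_int (CT.isGen_restrict N (CT.isGen_of_isIrr η.2)) (CT.isGen_of_isIrr ψ.2)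
  have hsum : (p : ℂ) * classInner F (η : Q → ℂ) = ((∑ ψ, c ψ * d ψ : ℤ) : ℂ) := by
    have h1 : (p : ℂ) * classInner F (η : Q → ℂ) =
        classInner (fun x : N => F x) (fun x : N => (η : Q → ℂ) x) := by
      simp only [classInner]
      have hcard : (Nat.card Q : ℂ) = (Nat.card N : ℂ) * (p : ℂ) := by
        rw [← N.index_mul_card, hN]; push_cast; ring
      have hsub : ∑ g : Q, F g * conj ((η : Q → ℂ) g) =
          ∑ x : N, F x * conj ((η : Q → ℂ) (x : Q)) := by
        rw [← Finset.sum_subset (Finset.subset_univ (Finset.univ.filter (· ∈ N)))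
          fun g _ hg => by rw [hF0 g (by simpa using hg), zero_mul]]
        exact Finset.sum_subtype _ (by simp) _
      rw [hsub, hcard]
      have hp0 : (p : ℂ) ≠ 0 := Nat.cast_ne_zero.mpr hp.out.ne_zero
      have hN0 : (Nat.card N : ℂ) ≠ 0 := CT.card_ne_zero
      field_simp
    rw [h1]
    conv_lhs => rw [CT.classFunction_eq_sum (CT.isClassFunction_of_isGen
      (CT.isGen_restrict N (CT.isGen_of_isIrr η.2)))]
    rw [CT.classInner_sum_right]
    push_cast
    refine Finset.sum_congr rfl fun ψ _ => ?_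
    rw [CT.classInner_smul_right, hd, hc, map_intCast, mul_comm]
  let conjT : IrrCharacter N → IrrCharacter N :=
    fun ψ => ⟨CT.conjFun N t (ψ : N → ℂ), CT.isIrrCharacter_conjFun N t ψ.2⟩
  have hpow : ∀ l (ψ : IrrCharacter N),
      ((conjT^[l] ψ : IrrCharacter N) : N → ℂ) = CT.conjFun N (t ^ l) (ψ : N → ℂ) := fun l => by
    induction l with
    | zero => intro ψ; rw [pow_zero, CT.conjFun_one]; rfl
    | succ l ih =>
      intro ψ
      rw [Function.iterate_succ_apply', pow_succ, CT.conjFun_mul, ← ih]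
  have hper : ∀ ψ, conjT^[p] ψ = ψ := fun ψ => Subtype.ext (by
    rw [hpow]
    exact CT.conjFun_of_mem N (CT.isClassFunction_of_isIrr ψ.2) htp)
  have hinner : ∀ (g : Q → ℂ), IsClassFunction Q g → ∀ ψ,
      classInner (fun x : N => g x) ((conjT ψ : IrrCharacter N) : N → ℂ) =
        classInner (fun x : N => g x) (ψ : N → ℂ) := fun g hg ψ => by
    conv_lhs => rw [← CT.conjFun_restrict N t hg]
    exact CT.classInner_conjFun N t _ _
  let τe : Equiv.Perm (IrrCharacter N) :=
    { toFun := conjT
      invFun := conjT^[p - 1]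
      left_inv := fun i => by
        rw [← Function.iterate_succ_apply conjT, Nat.sub_one, Nat.succ_pred hp.out.ne_zero, hper]
      right_inv := fun i => by
        rw [← Function.iterate_succ_apply' conjT, Nat.sub_one, Nat.succ_pred hp.out.ne_zero, hper] }
  have hτe : τe ^ p = 1 := Equiv.ext fun i => by
    rw [Equiv.Perm.coe_pow]; exact hper i
  have hP : IsPGroup p (Subgroup.zpowers τe) := by
    rintro ⟨g, hg⟩
    obtain ⟨z, rfl⟩ := Subgroup.mem_zpowers_iff.mp hg
    refine ⟨1, Subtype.ext ?_⟩
    show (τe ^ z) ^ p ^ 1 = 1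
    rw [pow_one, ← zpow_natCast, ← zpow_mul, mul_comm, zpow_mul, zpow_natCast, hτe, one_zpow]
  have hinvar : ∀ (g : Subgroup.zpowers τe) (i : IrrCharacter N),
      ((c ((Subgroup.zpowers τe).subtype g i) * d ((Subgroup.zpowers τe).subtype g i) : ℤ) : ZMod p) =
        (c i * d i : ℤ) := by
    rintro ⟨g, hg⟩ i
    obtain ⟨n, rfl⟩ := mem_powers_iff_mem_zpowers.mpr hg
    congr 1
    have h1 : ∀ ψ, c (conjT ψ) = c ψ := fun ψ => Int.cast_injective (α := ℂ) (by
      rw [← hc, ← hc]; exact hinner F hFclass ψ)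
    have h2 : ∀ ψ, d (conjT ψ) = d ψ := fun ψ => Int.cast_injective (α := ℂ) (by
      rw [← hd, ← hd]; exact hinner _ (CT.isClassFunction_of_isIrr η.2) ψ)
    show c ((τe ^ n) i) * d ((τe ^ n) i) = c i * d i
    rw [Equiv.Perm.coe_pow]
    show c (conjT^[n] i) * d (conjT^[n] i) = c i * d i
    clear hg
    induction n with
    | zero => rfl
    | succ n ih => rw [Function.iterate_succ_apply', h1, h2, ih]
  have hdiv : (p : ℤ) ∣ ∑ ψ, c ψ * d ψ := by
    rw [← ZMod.intCast_zmod_eq_zero_iff_dvd, Int.cast_sum,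
      Glauberman.sum_eq_sum_fixed hP (Subgroup.zpowers τe).subtype _ hinvar]
    refine Finset.sum_eq_zero fun ψ hψ => ?_
    have hfix : conjT ψ = ψ := (Finset.mem_filter.mp hψ).2 ⟨τe, Subgroup.mem_zpowers _⟩
    exact (ZMod.intCast_zmod_eq_zero_iff_dvd _ _).mpr
      (dvd_mul_of_dvd_left (hmult ψ (congrArg Subtype.val hfix) _ (hc ψ)) _)
  obtain ⟨k, hk⟩ := hdiv
  refine ⟨k, mul_left_cancel₀ (Nat.cast_ne_zero.mpr hp.out.ne_zero : (p : ℂ) ≠ 0) ?_⟩
  rw [hsum, hk]
  push_cast
  rfl

end Step

section Main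

variable {W : G → MonoidAlgebra (Res M) G → ℂ}

/-- The weighted sum at an invariant idempotent is a generalized character. -/
theorem isGen_wVal (hM : IsPModular p M) [hp : Fact p.Prime] (hW : IsWeight p M W)
    (θ : IrrCharacter G) : ∀ (n : ℕ) (Q : Subgroup G), Nat.card Q = n → IsPGroup p Q →
      ∀ e : MonoidAlgebra (Res M) G, e * e = e → IsInv Q e →
        IsGeneralizedCharacter Q fun u : Q => wVal p W θ e (u : G) := by
  classical
  haveI := charP_res hM
  haveI := Fintype.ofFinite G
  intro n
  induction n using Nat.strong_induction_on with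
  | _ n ihn =>
    intro Q hn hQ
    haveI : FiniteDimensional (Res M) (MonoidAlgebra (Res M) G) :=
      Module.Finite.of_basis (MonoidAlgebra.basis G (Res M))
    suffices H : ∀ (d : ℕ) (e : MonoidAlgebra (Res M) G),
        Module.finrank (Res M) (LinearMap.range (LinearMap.mulLeft (Res M) e)) = d →
          e * e = e → IsInv Q e → IsGeneralizedCharacter Q fun u : Q => wVal p W θ e (u : G) from
      fun e => H _ e rfl
    intro d
    induction d using Nat.strong_induction_on with
    | _ d ihd =>
      intro e hd he heQ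
      have hu : ∀ u : Q, ∃ k : ℕ, (u : G) ^ p ^ k = 1 := fun u =>
        exists_pow_eq_one_of_isPGroup hQ u.2
      have hcomm : ∀ u : Q, Commute e (single (u : G) 1) := fun u =>
        isInv_iff_commute.mp heQ u u.2
      by_cases he0 : e = 0
      · subst he0
        simp only [wVal_zero hM]
        exact CT.isGen_zero
      by_cases hprim : IsPrim Q e
      swap
      · obtain ⟨f, hff, hfQ, hef, hfe, hf0, hf1⟩ : ∃ f, f * f = f ∧ IsInv Q f ∧ e * f = f ∧
            f * e = f ∧ f ≠ 0 ∧ f ≠ e := by
          unfold IsPrim at hprim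
          push Not at hprim
          exact hprim
        have hgg : (e - f) * (e - f) = e - f := by
          rw [sub_mul, mul_sub, mul_sub, he, hef, hfe, hff, sub_self, sub_zero]
        have hgQ : IsInv Q (e - f) := isInv_iff_commute.mpr fun q hq =>
          (isInv_iff_commute.mp heQ q hq).sub_left (isInv_iff_commute.mp hfQ q hq)
        have hlt : ∀ g, g * g = g → e * g = g → g * e = g → g ≠ e →
            Module.finrank (Res M) (LinearMap.range (LinearMap.mulLeft (Res M) g)) < d := by
          intro g hg heg hge hne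
          rw [← hd]
          refine Submodule.finrank_lt_finrank_of_lt (lt_of_le_of_ne ?_ fun h => hne ?_)
          · rintro _ ⟨x, rfl⟩
            exact ⟨g * x, by simp only [LinearMap.mulLeft_apply, ← mul_assoc, heg]⟩
          · have hmem : e ∈ LinearMap.range (LinearMap.mulLeft (Res M) g) := by
              rw [h]; exact ⟨e, he⟩
            obtain ⟨x, hx⟩ := hmem
            rw [LinearMap.mulLeft_apply] at hx
            rw [← hge, ← hx, ← mul_assoc, hg]
        have h1 := ihd _ (hlt f hff hef hfe hf1) f rfl hff hfQ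
        have h2 := ihd _ (hlt (e - f) hgg (by rw [mul_sub, he, hef]) (by rw [sub_mul, he, hfe])
          (fun h => hf0 (by simpa using h))) (e - f) rfl hgg hgQ
        have e1 : (fun u : Q => wVal p W θ e (u : G)) =
            (fun u : Q => wVal p W θ f (u : G)) + fun u : Q => wVal p W θ (e - f) (u : G) := by
          funext u
          rw [Pi.add_apply, ← wVal_add hM θ (hu u) hff hgg (isInv_iff_commute.mp hfQ u u.2)
            (isInv_iff_commute.mp hgQ u u.2) (by rw [mul_sub, hfe, hff, sub_self])
            (by rw [sub_mul, hef, hff, sub_self]), add_sub_cancel]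
        rw [e1]
        exact CT.isGen_add h1 h2
      by_cases hbr : trunc (Subgroup.centralizer (Q : Set G) : Set G) e = 0
      swap
      · obtain ⟨f, hQf, hsub⟩ := exists_pair_of_prim hM hQ he heQ hprim hbr
        obtain ⟨ω, hω, hωv⟩ := hW.gen Q f hQf
        have e1 : (fun u : Q => wVal p W θ e (u : G)) =
            ω * fun u : Q => phi p θ (u : G) e := by
          funext u
          obtain ⟨b, ⟨hb, hle⟩, -⟩ := existsUnique_below hM hQf (Subgroup.zpowers_le.mpr u.2)
          have hT := hsub _ b hle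
          rw [wVal, Finset.sum_eq_single (bel M (cz (u : G)) b)]
          · rw [hT, hωv u b hle, Pi.mul_apply]
            congr 1
            refine phi_congr θ fun v hv => coeff_trunc_of_mem _ (mem_cz.mpr ?_)
            rwa [pPart_self (hu u)] at hv
          · intro a ha hne
            rw [← hT, mul_assoc, blkIdem_mul_of_ne hM (mem_blkIdemS.mpr ⟨b, hb, rfl⟩) ha hne.symm,
              mul_zero, phi_zero hM, mul_zero]
          · exact fun h => absurd (mem_blkIdemS.mpr ⟨b, hb, rfl⟩) h
        rw [e1]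
        exact CT.isGen_mul hω (isGen_phi hM θ Q he heQ)
      -- a trace from a maximal subgroup
      have hinvtr : ∀ (N : Subgroup Q) (t : Q) (a : MonoidAlgebra (Res M) G), N.Normal →
          N.index = p → t ∉ N → IsInv (N.map Q.subtype) a → IsInv Q (tr p (t : G) a) := by
        intro N t a hNn hNi ht ha
        haveI := hNn
        obtain ⟨htp, -, htu⟩ := coset_facts hNi ht
        have htp' : conjA ((t : G) ^ p) a = a :=
          isInv_iff_conjA.mp ha _ ⟨t ^ p, htp, by simp⟩
        have hshift : conjA (t : G) (tr p (t : G) a) = tr p (t : G) a := by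
          simp only [tr, conjA_sum, conjA_conjA, ← pow_succ']
          have h := Finset.sum_range_succ (fun l => conjA ((t : G) ^ l) a) p
          rw [Finset.sum_range_succ', htp', pow_zero, conjA_one] at h
          exact add_right_cancel h
        rw [isInv_iff_conjA]
        intro q hq
        obtain ⟨l, -, hl⟩ := htu ⟨q, hq⟩
        have hm : ∀ m : Q, m ∈ N → conjA (m : G) (tr p (t : G) a) = tr p (t : G) a := by
          intro m hm
          simp only [tr, conjA_sum, conjA_conjA]
          refine Finset.sum_congr rfl fun i _ => ?_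
          have hmem : (t ^ i)⁻¹ * m * t ^ i ∈ N := by
            have := hNn.conj_mem m hm (t ^ i)⁻¹
            rwa [inv_inv] at this
          have h2 := isInv_iff_conjA.mp ha _ ⟨_, hmem, rfl⟩
          conv_rhs => rw [← h2, conjA_conjA]
          congr 1
          simp only [Subgroup.coe_subtype, Subgroup.coe_mul, Subgroup.coe_inv, SubmonoidClass.coe_pow]
          group
        have hpow : ∀ i : ℕ, conjA ((t : G) ^ i) (tr p (t : G) a) = tr p (t : G) a := fun i => by
          induction i with
          | zero => rw [pow_zero, conjA_one]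
          | succ i ih => rw [pow_succ, ← conjA_conjA, hshift, ih]
        have hq' : q = (t : G) ^ l * (((t ^ l)⁻¹ * ⟨q, hq⟩ : Q) : G) := by
          simp only [Subgroup.coe_mul, Subgroup.coe_inv, SubmonoidClass.coe_pow]
          rw [mul_inv_cancel_left]
        rw [hq', ← conjA_conjA, hm _ hl, hpow]
      have hcl := mem_closure_tr hQ _ e rfl heQ hbr
      obtain ⟨N, t, hNn, hNi, ht, a, ha, hnn⟩ : ∃ (N : Subgroup Q) (t : Q), N.Normal ∧ N.index = p ∧
          t ∉ N ∧ ∃ a, IsInv (N.map Q.subtype) a ∧ ¬ IsNilpotent (e * tr p (t : G) a * e) := by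
        by_contra hall
        push Not at hall
        have hgood : ∀ x ∈ AddSubgroup.closure {y | ∃ (N : Subgroup Q) (t : Q), N.Normal ∧
            N.index = p ∧ t ∉ N ∧ ∃ a, IsInv (N.map Q.subtype) a ∧ y = tr p (t : G) a},
            IsInv Q x ∧ IsNilpotent (e * x * e) := by
          intro x hx
          induction hx using AddSubgroup.closure_induction with
          | mem x hx =>
            obtain ⟨N, t, hNn, hNi, ht, a, ha, rfl⟩ := hx
            exact ⟨hinvtr N t a hNn hNi ht ha, hall N t hNn hNi ht a ha⟩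
          | zero => exact ⟨fun q _ v => by simp, by simp⟩
          | add x y _ _ ihx ihy =>
            refine ⟨isInv_iff_commute.mpr fun q hq => (isInv_iff_commute.mp ihx.1 q hq).add_left
              (isInv_iff_commute.mp ihy.1 q hq), ?_⟩
            rw [mul_add, add_mul]
            refine prim_nil_add he heQ hprim ?_ ?_ (isInv_mul (isInv_mul heQ ihx.1) heQ) ihx.2 ?_ ?_
              (isInv_mul (isInv_mul heQ ihy.1) heQ) ihy.2
            · rw [← mul_assoc, ← mul_assoc, he]
            · rw [mul_assoc, he]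
            · rw [← mul_assoc, ← mul_assoc, he]
            · rw [mul_assoc, he]
          | neg x _ ihx =>
            refine ⟨isInv_iff_commute.mpr fun q hq => (isInv_iff_commute.mp ihx.1 q hq).neg_left, ?_⟩
            rw [mul_neg, neg_mul]
            exact ihx.2.neg
        obtain ⟨k, hk⟩ := (hgood e hcl).2
        rw [he, he] at hk
        apply he0
        rcases k with - | k
        · rw [pow_zero] at hk; rw [← mul_one e, hk, mul_zero]
        · rwa [IsIdempotentElem.pow_succ_eq k he] at hk
      haveI := hNn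
      have hTQ := hinvtr N t a hNn hNi ht ha
      rcases prim_cases he heQ hprim (x := e * tr p (t : G) a * e)
        (by rw [← mul_assoc, ← mul_assoc, he]) (by rw [mul_assoc, he])
        (isInv_mul (isInv_mul heQ hTQ) heQ) with h | ⟨c, hc, hxc, -⟩
      · exact absurd h hnn
      obtain ⟨a', ha'⟩ : ∃ a', a' = e * a * e * c * e := ⟨_, rfl⟩
      have heN : IsInv (N.map Q.subtype) e := isInv_mono (Subgroup.map_subtype_le N) heQ
      have hcN : IsInv (N.map Q.subtype) c := isInv_mono (Subgroup.map_subtype_le N) hc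
      have ha'N : IsInv (N.map Q.subtype) a' :=
        ha' ▸ isInv_mul (isInv_mul (isInv_mul (isInv_mul heN ha) heN) hcN) heN
      have htr' : tr p (t : G) a' = e := by
        have hfix : ∀ x : MonoidAlgebra (Res M) G, IsInv Q x → ∀ l : ℕ, conjA ((t : G) ^ l) x = x := fun x hx l =>
          isInv_iff_conjA.mp hx _ (pow_mem t.2 l)
        calc tr p (t : G) a' = e * tr p (t : G) a * e * c * e := by
              simp only [tr, Finset.mul_sum, Finset.sum_mul]
              refine Finset.sum_congr rfl fun l _ => ?_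
              rw [ha']
              simp only [conjA_mul, hfix e heQ, hfix c hc]
          _ = e := by rw [hxc, he]
      have hlt : Nat.card (N.map Q.subtype : Subgroup G) < n := by
        rw [← Nat.card_congr (N.equivMapOfInjective _ Q.subtype_injective).toEquiv, ← hn,
          ← N.index_mul_card, hNi]
        exact (Nat.lt_mul_iff_one_lt_left Nat.card_pos).mpr hp.out.one_lt
      refine isGen_wVal_tr hM hW θ hQ hNi ht (fun f hf hfN => ?_) he heQ ha'N ?_ ?_ htr'
      · have := ihn _ hlt (N.map Q.subtype) rfl (IsPGroup.to_le hQ (Subgroup.map_subtype_le N)) f hf hfN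
        exact CT.isGen_comp (N.equivMapOfInjective _ Q.subtype_injective).toMonoidHom this
      · rw [ha']; simp only [← mul_assoc, he]
      · rw [ha', mul_assoc, he]

end Main

end Cfsg.Agent.Blocks
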