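import Cfsg.Agent.Lib.Blocks.StarParts
import Cfsg.Agent.Lib.Blocks.Height
import Cfsg.Agent.Lib.Blocks.BlockCount
import Cfsg.Agent.Lib.Blocks.Knorr

/-!
# Parts of characters which do not vanish

The part of a character of height zero at any subsection of its block is not zero, and neither
is the value at a subsection of full defect of any character of the block.
-/

namespace Cfsg.Agent.Blocks

open MonoidAlgebra BPairs
open scoped ComplexConjugate

universe u

variable {G : Type u} [Group G] [Finite G] {p : ℕ} {M : Ideal AlgInt} [M.IsPrime]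

set_option linter.unusedSectionVars false

theorem cast_ordCompl_ne_zero (hM : IsPModular p M) [hp : Fact p.Prime] {n : ℕ} (hn : n ≠ 0) :
    ((n / p ^ n.factorization p : ℕ) : Res M) ≠ 0 := by
  haveI := charP_res hM
  exact mt (CharP.cast_eq_zero_iff (Res M) p _).mp (Nat.not_dvd_ordCompl hp.out hn)

/-- A combination of the parts of a height zero character is not killed modulo the ideal. -/
theorem red_sum_mult_ne_zero (hM : IsPModular p M) [Fintype G] {H : Subgroup G} [Fintype H]
    {B : Set (IrrCharacter G)} {b : Set (IrrCharacter H)} (hind : IsInducedBlock M H b B)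
    {χ : IrrCharacter G} (hχ : χ ∈ B) (h0 : blockHeight p B (χ : G → ℂ) = 0)
    {ξ : IrrCharacter H} (hξ : ξ ∈ b) :
    ∑ η : IrrCharacter H,
      (CT.mult (fun h : H => (χ : G → ℂ) h) η : Res M) * red M (regS M p ξ η) ≠ 0 := by
  haveI := Fact.mk hM.1
  rw [← red_regS_induced hM hind hξ hχ χ]
  exact (red_regS_ne_zero_iff hM hind.2.1 hχ hχ).mpr h0

/-- The part of a height zero character at a subsection of its block is not zero. -/
theorem exists_phi_ne_zero (hM : IsPModular p M) [hp : Fact p.Prime] {B : Set (IrrCharacter G)}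
    {u : G} (hu : ∃ k : ℕ, u ^ p ^ k = 1) {b : Set (IrrCharacter (cz u))}
    (hind : IsInducedBlock M (cz u) b B) {χ : IrrCharacter G} (hχ : χ ∈ B)
    (h0 : blockHeight p B (χ : G → ℂ) = 0) :
    ∃ y : cz u, ¬ p ∣ orderOf y ∧ phi p χ (u * (y : G)) (bel M (cz u) b) ≠ 0 := by
  classical
  haveI := Fintype.ofFinite G
  haveI := charP_res hM
  by_contra hcon
  push Not at hcon
  have hb := hind.1
  obtain ⟨ξ, hξ, hξ0⟩ := exists_height_zero (p := p) hb
  obtain ⟨c, hc0, hc1, hc⟩ := exists_coeff_phi hM hu χ hb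
  have hfun : ∀ y : cz u, ∑ η, c η * regFun p η y = 0 := fun y => by
    rw [← hc y]
    split_ifs with hy
    · rfl
    · exact hcon y hy
  have hpair : ∑ η, c η * bfPair p η ξ = 0 := by
    apply mul_left_cancel₀ (CT.card_ne_zero (G := cz u))
    rw [mul_zero, Finset.mul_sum]
    calc ∑ η, (Nat.card (cz u) : ℂ) * (c η * bfPair p η ξ)
        = ∑ η, c η * ∑ y, regFun p η y * conj (regFun p ξ y) :=
          Finset.sum_congr rfl fun η _ => by rw [sum_regFun_mul]; ring
      _ = ∑ y, (∑ η, c η * regFun p η y) * conj (regFun p ξ y) := by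
          simp only [Finset.mul_sum, Finset.sum_mul, mul_assoc]
          exact Finset.sum_comm
      _ = 0 := Finset.sum_eq_zero fun y _ => by rw [hfun, zero_mul]
  have hcw : ∀ η, ∃ w : Loc M, red M w = 1 ∧
      (η ∈ b → c η = (CT.mult (fun h : cz u => (χ : G → ℂ) h) (η : cz u → ℂ) : ℂ) * (w : ℂ)) := by
    intro η
    by_cases hη : η ∈ b
    · obtain ⟨w, k, hw, -, hcη⟩ := hc1 η hη
      exact ⟨⟨w, integral_mem_loc (IsIntegral.of_pow (pow_pos hp.out.pos k)
        (by rw [hw]; exact isIntegral_one))⟩, red_root_eq_one hM (Subtype.ext (by simpa using hw)),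
        fun _ => hcη⟩
    · exact ⟨1, map_one _, fun h => absurd h hη⟩
  choose w hw hcη using hcw
  obtain ⟨ν, hν⟩ : ∃ ν : ℕ, ν =
      charDegree (ξ : cz u → ℂ) / p ^ (charDegree (ξ : cz u → ℂ)).factorization p := ⟨_, rfl⟩
  have hLoc : ∑ η, (if η ∈ b then (CT.mult (fun h : cz u => (χ : G → ℂ) h) (η : cz u → ℂ) : Loc M) *
      (w η * ((ν : Loc M) * regS M p ξ η)) else 0) = 0 := by
    apply Subtype.ext
    rw [AddSubmonoidClass.coe_finsetSum, ZeroMemClass.coe_zero]
    refine Eq.trans (Finset.sum_congr rfl fun η _ => ?_) (mul_eq_zero_of_right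
      (((Nat.card (cz u) / p ^ (Nat.card (cz u)).factorization p : ℕ) : ℂ) *
        (p : ℂ) ^ blockDefect p b) hpair |>.symm.trans (Finset.mul_sum _ _ _) |>.symm)
    by_cases hη : η ∈ b
    · rw [if_pos hη, hcη η hη]
      have h := bfPair_local hM hξ η
      rw [hξ0, pow_zero, one_mul, ← hν, bfPair_symm] at h
      simp only [MulMemClass.coe_mul, SubringClass.coe_natCast]
      rw [← h]
      ring
    · rw [if_neg hη, hc0 η hη]; simp
  have hred := congrArg (red M) hLoc
  simp only [map_sum, map_zero] at hred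
  refine red_sum_mult_ne_zero hM hind hχ h0 hξ ?_
  apply mul_left_cancel₀ (cast_ordCompl_ne_zero hM (charDegree_pos ξ).ne')
  rw [mul_zero, ← hν, ← hred, Finset.mul_sum]
  refine Finset.sum_congr rfl fun η _ => ?_
  split_ifs with hη
  · rw [map_mul, map_mul, map_mul, hw, one_mul, map_natCast, map_natCast]
    ring
  · rw [map_zero, regS_eq_zero hM fun h => hη ((mem_block_iff hb hξ).mpr h), map_zero, mul_zero,
      mul_zero]

/-- The trace of an invariant element, seen by the class functions. -/
theorem exists_central_trace {C : Subgroup G} {a : MonoidAlgebra (Loc M) G} (ha : IsInv C a) :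
    ∃ z : ZG (Loc M) G, ∀ θ : IrrCharacter G, ev (θ : G → ℂ) (toC M G z) =
      (C.index : ℂ) * ((ev (charL M θ) a : Loc M) : ℂ) := by
  classical
  haveI := Fintype.ofFinite G
  have hfix : ∀ c ∈ C, conjA c a = a := fun c hc => (conjA_eq_self_iff c a).mpr fun v => by
    simpa using ha c⁻¹ (inv_mem hc) v
  have hcoset : ∀ x y : G, (QuotientGroup.mk x : G ⧸ C) = QuotientGroup.mk y →
      conjA x a = conjA y a := fun x y h => by
    conv_lhs => rw [← hfix _ (QuotientGroup.eq.mp h)]
    rw [conjA_conjA, mul_inv_cancel_left]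
  refine ⟨⟨∑ q : G ⧸ C, conjA q.out a, ?_⟩, fun θ => ?_⟩
  · rw [mem_center_iff_isClassFn]
    intro v g
    have h : conjA g⁻¹ (∑ q : G ⧸ C, conjA q.out a) = ∑ q : G ⧸ C, conjA q.out a := by
      rw [conjA_sum]
      refine Fintype.sum_equiv (MulAction.toPerm g⁻¹) _ _ fun q => ?_
      rw [conjA_conjA]
      refine hcoset _ _ ?_
      rw [MulAction.toPerm_apply, QuotientGroup.out_eq']
      conv_rhs => rw [← QuotientGroup.out_eq' q]
      rfl
    conv_rhs => rw [← h]
    simp only [coeff_conjA, inv_inv]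
  · rw [← ev_charL_toC]
    simp only [ev_sum]
    rw [Finset.sum_congr rfl fun (q : G ⧸ C) _ => ev_conjA (isClassFn_charL θ) q.out a,
      Finset.sum_const, Finset.card_univ, ← Nat.card_eq_fintype_card, ← Subgroup.index, nsmul_eq_mul,
      MulMemClass.coe_mul, SubringClass.coe_natCast]

/-- The degree of a member of a block in terms of its defect and height. -/
theorem charDegree_mul_pow_defect {H : Type u} [Group H] [Finite H] (p : ℕ) {b : Set (IrrCharacter H)}
    {η : IrrCharacter H} (hη : η ∈ b) :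
    charDegree (η : H → ℂ) * p ^ blockDefect p b =
      charDegree (η : H → ℂ) / p ^ (charDegree (η : H → ℂ)).factorization p *
        p ^ ((Nat.card H).factorization p + blockHeight p b (η : H → ℂ)) := by
  have h1 : sInf ((fun χ : IrrCharacter H => (charDegree (χ : H → ℂ)).factorization p) '' b) ≤
      (charDegree (η : H → ℂ)).factorization p := Nat.sInf_le ⟨η, hη, rfl⟩
  have h2 : (charDegree (η : H → ℂ)).factorization p ≤ (Nat.card H).factorization p := by
    exact Nat.factorization_le_iff_dvd (charDegree_pos η).ne' Nat.card_pos.ne' |>.mpr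
      (charDegree_dvd_card η) p
  rw [show (Nat.card H).factorization p + blockHeight p b (η : H → ℂ) =
      (charDegree (η : H → ℂ)).factorization p + blockDefect p b by
    rw [blockDefect, blockHeight]; omega, pow_add, ← mul_assoc,
    Nat.div_mul_cancel (Nat.ordProj_dvd _ p)]

theorem index_mul_pow_card (p : ℕ) (C : Subgroup G) :
    C.index * p ^ (Nat.card C).factorization p =
      C.index / p ^ C.index.factorization p * p ^ (Nat.card G).factorization p := by
  rw [← C.index_mul_card, Nat.factorization_mul C.index_ne_zero_of_finite Nat.card_pos.ne',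
    Finsupp.add_apply, pow_add, ← mul_assoc, Nat.div_mul_cancel (Nat.ordProj_dvd _ p)]

/-- The value of any member of the block at a subsection of full defect is not zero. -/
theorem phi_ne_zero_of_full_defect (hM : IsPModular p M) [hp : Fact p.Prime]
    {B : Set (IrrCharacter G)} {u : G} (hu : ∃ k : ℕ, u ^ p ^ k = 1)
    {b : Set (IrrCharacter (cz u))} (hind : IsInducedBlock M (cz u) b B)
    (hd : blockDefect p b = blockDefect p B) {χ : IrrCharacter G} (hχ : χ ∈ B) :
    phi p χ u (bel M (cz u) b) ≠ 0 := by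
  classical
  haveI := Fintype.ofFinite G
  haveI := charP_res hM
  intro h0
  have hb := hind.1
  have hA := blockCoeff_mem_loc (M := M) hb
  obtain ⟨ψ, hψ, hψ0⟩ := exists_height_zero (p := p) hind.2.1
  obtain ⟨ξ, hξ, hξ0⟩ := exists_height_zero (p := p) hb
  obtain ⟨ε, hε⟩ : ∃ ε : MonoidAlgebra (Loc M) G,
      ε = embH (cz u) (bIdem M b : MonoidAlgebra (Loc M) (cz u)) := ⟨_, rfl⟩
  have hεε : ε * ε = ε := by rw [hε, ← map_mul, ← Subring.coe_mul, bIdem_mul_self hA]
  have hεI : ∀ q ∈ cz u, Commute ε (single q 1) :=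
    hε ▸ isInv_iff_commute.mp (isInv_embH le_rfl (bIdem M b).2)
  have haI : IsInv (cz u) (ε * single u 1) := isInv_iff_commute.mpr fun q hq =>
    (hεI q hq).mul_left (by
      rw [Commute, SemiconjBy, single_mul_single, single_mul_single, (mem_cz.mp hq).eq])
  have hred : redG M G ε = bel M (cz u) b := by rw [hε, bel, redG, map_embH]; rfl
  obtain ⟨z, hz⟩ := exists_central_trace haI
  have hphi : ∀ θ : IrrCharacter G, phi p θ u (bel M (cz u) b) =
      ((ev (charL M θ) (ε * single u 1) : Loc M) : ℂ) := fun θ =>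
    phi_eq_of_red hM θ hεε (hεI u (mem_cz_self u)) hred
  have hω : ∀ θ : IrrCharacter G, ((omegaL M θ z : Loc M) : ℂ) * (θ : G → ℂ) 1 =
      ((cz u).index : ℂ) * phi p θ u (bel M (cz u) b) := fun θ => by
    rw [coe_omegaL, omega, div_mul_cancel₀ _ (CT.irr_one_ne_zero θ.2), hz, hphi]
  have hχz : omegaL M χ z = 0 := by
    apply Subtype.ext
    have := hω χ
    rw [h0, mul_zero] at this
    exact (mul_eq_zero.mp this).resolve_right (CT.irr_one_ne_zero χ.2)
  have hψz : red M (omegaL M ψ z) = 0 := by
    rw [red_omegaL_eq_of_sameBlock ((mem_block_iff hind.2.1 hψ).mp hχ) z, hχz, map_zero]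
  obtain ⟨c, hc0, hc1, hc⟩ := exists_coeff_phi hM hu ψ hb
  have hval : phi p ψ u (bel M (cz u) b) = ∑ η, c η * (charDegree (η : cz u → ℂ) : ℂ) := by
    have h := hc 1
    rw [if_neg (by rw [orderOf_one]; exact hp.out.not_dvd_one), OneMemClass.coe_one, mul_one] at h
    rw [h]
    refine Finset.sum_congr rfl fun η _ => ?_
    rw [regFun, if_neg (by rw [orderOf_one]; exact hp.out.not_dvd_one), charDegree_cast]
  have hcw : ∀ η, ∃ w : Loc M, red M w = 1 ∧
      (η ∈ b → c η = (CT.mult (fun h : cz u => (ψ : G → ℂ) h) (η : cz u → ℂ) : ℂ) * (w : ℂ)) := by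
    intro η
    by_cases hη : η ∈ b
    · obtain ⟨w, k, hw, -, hcη⟩ := hc1 η hη
      exact ⟨⟨w, integral_mem_loc (IsIntegral.of_pow (pow_pos hp.out.pos k)
        (by rw [hw]; exact isIntegral_one))⟩, red_root_eq_one hM (Subtype.ext (by simpa using hw)),
        fun _ => hcη⟩
    · exact ⟨1, map_one _, fun h => absurd h hη⟩
  choose w hw hcη using hcw
  obtain ⟨ι, hι⟩ : ∃ ι : ℕ, ι = (cz u).index / p ^ (cz u).index.factorization p := ⟨_, rfl⟩
  obtain ⟨ψ', hψ'⟩ : ∃ n : ℕ, n =
      charDegree (ψ : G → ℂ) / p ^ (charDegree (ψ : G → ℂ)).factorization p := ⟨_, rfl⟩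
  obtain ⟨ν, hν⟩ : ∃ ν : IrrCharacter (cz u) → ℕ, ν = fun η : IrrCharacter (cz u) =>
      charDegree (η : cz u → ℂ) / p ^ (charDegree (η : cz u → ℂ)).factorization p *
        p ^ blockHeight p b (η : cz u → ℂ) := ⟨_, rfl⟩
  have hLoc : (ψ' : Loc M) * omegaL M ψ z = (ι : Loc M) * ∑ η, (if η ∈ b then
      (CT.mult (fun h : cz u => (ψ : G → ℂ) h) (η : cz u → ℂ) : Loc M) * (w η * (ν η : Loc M))
      else 0) := by
    apply Subtype.ext
    have hpne : (p : ℂ) ^ (Nat.card G).factorization p ≠ 0 :=
      pow_ne_zero _ (Nat.cast_ne_zero.mpr hp.out.ne_zero)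
    apply mul_left_cancel₀ hpne
    have e1 : ((charDegree (ψ : G → ℂ) : ℂ)) * (p : ℂ) ^ blockDefect p B =
        (ψ' : ℂ) * (p : ℂ) ^ (Nat.card G).factorization p := by
      have := charDegree_mul_pow_defect p hψ
      rw [hψ0, add_zero, ← hψ'] at this
      exact_mod_cast this
    have e2 : ((cz u).index : ℂ) * (p : ℂ) ^ (Nat.card (cz u)).factorization p =
        (ι : ℂ) * (p : ℂ) ^ (Nat.card G).factorization p := by
      have := index_mul_pow_card p (cz u)
      rw [← hι] at this
      exact_mod_cast this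
    simp only [MulMemClass.coe_mul, SubringClass.coe_natCast, AddSubmonoidClass.coe_finsetSum]
    rw [← mul_assoc, ← mul_assoc, mul_comm _ (ψ' : ℂ), mul_comm _ (ι : ℂ), ← e1, ← e2]
    calc (charDegree (ψ : G → ℂ) : ℂ) * (p : ℂ) ^ blockDefect p B * (omegaL M ψ z : ℂ)
        = ((cz u).index : ℂ) * ∑ η, c η * (charDegree (η : cz u → ℂ) : ℂ) *
            (p : ℂ) ^ blockDefect p b := by
          rw [← Finset.sum_mul, ← hval, ← charDegree_cast, hd, ← mul_assoc, ← hω ψ]; ring
      _ = _ := by
          rw [mul_assoc, Finset.mul_sum, Finset.mul_sum, Finset.mul_sum]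
          refine Finset.sum_congr rfl fun η _ => ?_
          by_cases hη : η ∈ b
          · have e3 : (charDegree (η : cz u → ℂ) : ℂ) * (p : ℂ) ^ blockDefect p b =
                (ν η : ℂ) * (p : ℂ) ^ (Nat.card (cz u)).factorization p := by
              have := charDegree_mul_pow_defect p hη
              rw [pow_add, mul_comm (p ^ (Nat.card (cz u)).factorization p), ← mul_assoc] at this
              simp only [hν]
              exact_mod_cast this
            rw [if_pos hη, mul_assoc (c η), e3, hcη η hη]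
            simp only [MulMemClass.coe_mul, SubringClass.coe_natCast]
            ring
          · rw [if_neg hη, hc0 η hη]; simp
  have hι0 : (ι : Res M) ≠ 0 := hι ▸ cast_ordCompl_ne_zero hM Subgroup.index_ne_zero_of_finite
  have hsum : ∑ η : IrrCharacter (cz u), (CT.mult (fun h : cz u => (ψ : G → ℂ) h) (η : cz u → ℂ) : Res M) *
      (if η ∈ b then (ν η : Res M) else 0) = 0 := by
    apply mul_left_cancel₀ hι0
    have := congrArg (red M) hLoc
    rw [map_mul, hψz, mul_zero, map_mul, map_natCast, map_sum] at this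
    rw [mul_zero]
    refine Eq.trans ?_ this.symm
    congr 1
    refine Finset.sum_congr rfl fun η _ => ?_
    split_ifs <;> simp [hw]
  refine red_sum_mult_ne_zero hM hind hψ hψ0 hξ ?_
  apply mul_left_cancel₀ (cast_ordCompl_ne_zero hM (charDegree_pos ξ).ne')
  rw [mul_zero, Finset.mul_sum, ← mul_zero (red M (regS M p ξ ξ)), ← hsum, Finset.mul_sum]
  refine Finset.sum_congr rfl fun η _ => ?_
  by_cases hη : η ∈ b
  · have e : (ν η : Loc M) * regS M p η ξ = ((charDegree (ξ : cz u → ℂ) /
        p ^ (charDegree (ξ : cz u → ℂ)).factorization p : ℕ) : Loc M) * regS M p ξ η := by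
      apply Subtype.ext
      simp only [MulMemClass.coe_mul, SubringClass.coe_natCast]
      have h1 := bfPair_local hM hη ξ
      have h2 := bfPair_local hM hξ η
      rw [hξ0, pow_zero, one_mul, bfPair_symm] at h2
      rw [← h2, h1, hν]
      push_cast
      ring
    have := congrArg (red M) e
    rw [map_mul, map_mul, map_natCast, map_natCast,
      red_regS_congr (χ := η) (χ' := ξ) ((mem_block_iff hb hη).mp hξ) ξ] at this
    rw [if_pos hη]
    linear_combination -(CT.mult (fun h : cz u => (ψ : G → ℂ) h) (η : cz u → ℂ) : Res M) * this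
  · rw [if_neg hη, regS_eq_zero hM fun h => hη ((mem_block_iff hb hξ).mpr h), map_zero]
    ring

end Cfsg.Agent.Blocks
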