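import Cfsg.Agent.Lib.Blocks.SubMatMeans

/-!
# Bounds on the number of characters of a block from one subsection, for the prime two
-/

namespace Cfsg.Agent.Blocks

open scoped ComplexConjugate IntermediateField

universe u

theorem exists_two_root_field (i : ℕ) :
    ∃ (K : IntermediateField ℚ ℂ) (ζ : K), IsCyclotomicExtension {2 ^ (i + 2)} ℚ K ∧
      FiniteDimensional ℚ K ∧ IsGalois ℚ K ∧ IsPrimitiveRoot ζ (2 ^ (i + 2)) := by
  haveI : NeZero (2 ^ (i + 2)) := ⟨pow_ne_zero _ two_ne_zero⟩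
  obtain ⟨ζ, hζ⟩ : ∃ ζ : ℂ, IsPrimitiveRoot ζ (2 ^ (i + 2)) :=
    ⟨_, Complex.isPrimitiveRoot_exp (2 ^ (i + 2)) (pow_ne_zero _ two_ne_zero)⟩
  haveI := ClassSum.cyclo_adjoin hζ
  exact ⟨ℚ⟮ζ⟯, ⟨ζ, IntermediateField.mem_adjoin_simple_self ℚ ζ⟩, inferInstance,
    IsCyclotomicExtension.finiteDimensional {2 ^ (i + 2)} ℚ _,
    IsCyclotomicExtension.isGalois {2 ^ (i + 2)} ℚ _,
    IsPrimitiveRoot.of_map_of_injective (f := (ℚ⟮ζ⟯).val) hζ (ℚ⟮ζ⟯).val.injective⟩

variable {G : Type u} [Group G] [Fintype G] {M : Ideal AlgInt} {y : G}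
  [Fintype (Subgroup.centralizer ({y} : Set G))]

/-- The arithmetic of the means when every row of height zero is long. -/
theorem means_bound {ι : Type*} (s : Finset ι) (h : ι → ℕ) [DecidablePred fun χ => h χ = 0]
    (m : ι → ℤ) (D : ℕ) (R : ℤ) (_hD : D ≠ 0) (hR : R ≤ 3) (htr : ∑ χ ∈ s, m χ = (D : ℤ) * R)
    (hrow : ∀ χ ∈ s, h χ = 0 → ((∑ ψ ∈ s, 4 ^ h ψ : ℕ) : ℤ) ≤ (D : ℤ) * m χ)
    (hodd : ∀ χ ∈ s, h χ = 0 → Odd (m χ))
    (hdiv : ∀ χ ∈ s, h χ ≠ 0 → 2 ^ (h χ + 1) ≤ m χ) :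
    3 * (s.filter fun χ => h χ = 0).card +
      2 * ∑ χ ∈ s.filter (fun χ => ¬ h χ = 0), 2 ^ h χ ≤ 3 * D := by
  classical
  by_cases hone : ∃ χ ∈ s, h χ = 0 ∧ m χ = 1
  · obtain ⟨χ, hχ, h0, h1⟩ := hone
    have h2 := hrow χ hχ h0
    rw [h1, mul_one, ← Finset.sum_filter_add_sum_filter_not s (fun χ => h χ = 0),
      Finset.sum_congr rfl (g := fun _ => 1) fun ψ hψ => by rw [(Finset.mem_filter.mp hψ).2, pow_zero],
      Finset.sum_const, smul_eq_mul, mul_one] at h2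
    have h3 : 2 * ∑ χ ∈ s.filter (fun χ => ¬ h χ = 0), 2 ^ h χ ≤
        3 * ∑ χ ∈ s.filter (fun χ => ¬ h χ = 0), 4 ^ h χ := by
      rw [Finset.mul_sum, Finset.mul_sum]
      exact Finset.sum_le_sum fun ψ _ => by
        have := Nat.pow_le_pow_left (show 2 ≤ 4 by norm_num) (h ψ)
        omega
    have h4 : (s.filter fun χ => h χ = 0).card + ∑ χ ∈ s.filter (fun χ => ¬ h χ = 0), 4 ^ h χ ≤ D := by
      exact_mod_cast h2
    omega
  · push Not at hone
    have h3 : ∀ χ ∈ s.filter (fun χ => h χ = 0), 3 ≤ m χ := by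
      intro χ hχ
      obtain ⟨hs, h0⟩ := Finset.mem_filter.mp hχ
      obtain ⟨t, ht⟩ := hodd χ hs h0
      have h1 := hone χ hs h0
      have h2 := hrow χ hs h0
      have hpos : (0 : ℤ) < (∑ ψ ∈ s, 4 ^ h ψ : ℕ) := by
        exact_mod_cast Finset.sum_pos (fun ψ _ => pow_pos (by norm_num : 0 < 4) (h ψ)) ⟨χ, hs⟩
      have hmpos : 0 < m χ := by nlinarith
      omega
    have h4 : ∀ χ ∈ s.filter (fun χ => ¬ h χ = 0), ((2 * 2 ^ h χ : ℕ) : ℤ) ≤ m χ := fun χ hχ => by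
      obtain ⟨hs, h0⟩ := Finset.mem_filter.mp hχ
      refine le_of_eq_of_le ?_ (hdiv χ hs h0)
      push_cast
      ring
    have h5 : ((3 * (s.filter fun χ => h χ = 0).card +
        2 * ∑ χ ∈ s.filter (fun χ => ¬ h χ = 0), 2 ^ h χ : ℕ) : ℤ) ≤ ∑ χ ∈ s, m χ := by
      rw [← Finset.sum_filter_add_sum_filter_not s (fun χ => h χ = 0), Nat.cast_add]
      refine add_le_add ?_ ?_
      · refine le_trans (le_of_eq ?_) (Finset.card_nsmul_le_sum _ _ _ h3)
        simp [mul_comm]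
      · rw [Finset.mul_sum, Nat.cast_sum]
        exact Finset.sum_le_sum h4
    have h6 : ((3 * (s.filter fun χ => h χ = 0).card +
        2 * ∑ χ ∈ s.filter (fun χ => ¬ h χ = 0), 2 ^ h χ : ℕ) : ℤ) ≤ ((3 * D : ℕ) : ℤ) := by
      rw [htr] at h5
      refine h5.trans ?_
      push_cast
      nlinarith
    exact_mod_cast h6

theorem support_sum [M.IsPrime] (hM : IsPModular 2 M) (hy : ∃ k : ℕ, y ^ 2 ^ k = 1)
    {b : Set (IrrCharacter (Subgroup.centralizer ({y} : Set G)))} {B : Set (IrrCharacter G)}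
    (hind : IsInducedBlock M (Subgroup.centralizer ({y} : Set G)) b B) (d : ℕ)
    [DecidablePred (· ∈ B)] :
    (∀ χ, ∑ ψ ∈ Finset.univ.filter (fun ψ : IrrCharacter G => ψ ∈ B),
        subMat 2 d b χ ψ * subMat 2 d b ψ χ = ((2 ^ d : ℕ) : ℂ) * subMat 2 d b χ χ) ∧
      ∑ χ ∈ Finset.univ.filter (fun ψ : IrrCharacter G => ψ ∈ B), subMat 2 d b χ χ =
        ((2 ^ d : ℕ) : ℂ) * (((blockRank 2 b : ℕ) : ℤ) : ℂ) := by
  refine ⟨fun χ => ?_, ?_⟩
  · rw [Finset.sum_subset (Finset.subset_univ _) fun ψ _ hψ => by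
      rw [subMat_eq_zero_left hM hy hind d (fun h => hψ (Finset.mem_filter.mpr
        ⟨Finset.mem_univ _, h⟩)) χ, mul_zero], sum_subMat_mul_row hM hy hind.1 d χ χ]
    push_cast
    rfl
  · rw [Finset.sum_subset (Finset.subset_univ _) fun ψ _ hψ =>
      subMat_eq_zero_left hM hy hind d (fun h => hψ (Finset.mem_filter.mpr
        ⟨Finset.mem_univ _, h⟩)) ψ, trace_subMat hM hy hind.1 d]
    push_cast
    rfl

/-- Height zero characters of a block against any subsection. -/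
theorem height_zero_count [M.IsPrime] (hM : IsPModular 2 M) (hy : ∃ k : ℕ, y ^ 2 ^ k = 1)
    {b : Set (IrrCharacter (Subgroup.centralizer ({y} : Set G)))} {B : Set (IrrCharacter G)}
    (hind : IsInducedBlock M (Subgroup.centralizer ({y} : Set G)) b B)
    [DecidablePred fun χ : IrrCharacter G => χ ∈ B ∧ blockHeight 2 B (χ : G → ℂ) = 0] :
    ∃ m : IrrCharacter G → ℤ,
      (∑ χ ∈ Finset.univ.filter (fun χ : IrrCharacter G => χ ∈ B ∧ blockHeight 2 B (χ : G → ℂ) = 0),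
        m χ) ≤ ((2 ^ blockDefect 2 b : ℕ) : ℤ) * (blockRank 2 b : ℤ) ∧
      ∀ χ, χ ∈ B → blockHeight 2 B (χ : G → ℂ) = 0 → Odd (m χ) ∧ 0 < m χ ∧
        ((Finset.univ.filter (fun χ : IrrCharacter G =>
          χ ∈ B ∧ blockHeight 2 B (χ : G → ℂ) = 0)).card : ℤ) ≤
          ((2 ^ blockDefect 2 b : ℕ) : ℤ) * m χ := by
  classical
  obtain ⟨j, hj⟩ := hy
  have hy2 : y ^ 2 ^ (j + 2) = 1 := by rw [pow_add, pow_mul, hj, one_pow]
  obtain ⟨K, ζ, hcyc, hfin, hgal, hζ⟩ := exists_two_root_field j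
  set d := blockDefect 2 b
  set s := Finset.univ.filter (fun ψ : IrrCharacter G => ψ ∈ B)
  obtain ⟨hrow, htr⟩ := support_sum hM ⟨j, hj⟩ hind d
  obtain ⟨m, hsum, hlow, hodd, -⟩ := exists_means hM hζ s (2 ^ d) (blockRank 2 b : ℤ)
    (pow_ne_zero _ two_ne_zero) (subMat 2 d b)
    (fun χ _ ψ _ => subMat_mem_field hζ hy2 hM b d χ ψ)
    (fun χ _ ψ _ => isIntegral_subMat hM ⟨j, hj⟩ le_rfl χ ψ) (conj_subMat d)
    (fun χ _ => hrow χ) htr
  set t := Finset.univ.filter (fun χ : IrrCharacter G => χ ∈ B ∧ blockHeight 2 B (χ : G → ℂ) = 0)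
  have hts : t ⊆ s := fun χ hχ => Finset.mem_filter.mpr
    ⟨Finset.mem_univ _, (Finset.mem_filter.mp hχ).2.1⟩
  have hnn : ∀ χ ∈ s, 0 ≤ m χ := fun χ hχ => by
    have h := hlow χ hχ ∅ (Finset.empty_subset _) (fun _ => 0) (by simp)
    have hD : (0 : ℤ) < ((2 ^ d : ℕ) : ℤ) := by exact_mod_cast pow_pos two_pos d
    simp only [Finset.sum_empty, Nat.cast_zero] at h
    nlinarith
  refine ⟨m, ?_, fun χ hχB hχ0 => ?_⟩
  · rw [← hsum]
    exact Finset.sum_le_sum_of_subset_of_nonneg hts fun χ hχ _ => hnn χ hχ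
  have hχt : χ ∈ t := Finset.mem_filter.mpr ⟨Finset.mem_univ _, hχB, hχ0⟩
  have hrow0 : (t.card : ℤ) ≤ ((2 ^ d : ℕ) : ℤ) * m χ := by
    refine le_of_eq_of_le ?_ (hlow χ (hts hχt) t hts (fun _ => 0) fun ψ hψ => ?_)
    · simp
    obtain ⟨-, hψB, hψ0⟩ := Finset.mem_filter.mp hψ
    exact ⟨_, isIntegral_subMat hM ⟨j, hj⟩ le_rfl χ ψ, fun h => subMat_unit hM ⟨j, hj⟩ hind hχB hψB
      hχ0 hψ0 (h ▸ memLocalIdeal_zero), by simp [d]⟩
  refine ⟨hodd χ (hts hχt) (subMat_unit hM ⟨j, hj⟩ hind hχB hχB hχ0 hχ0), ?_, hrow0⟩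
  have hc : (1 : ℤ) ≤ t.card := by exact_mod_cast Finset.card_pos.mpr ⟨χ, hχt⟩
  nlinarith [hnn χ (hts hχt)]

open Classical in
/-- The major subsection bound, with the matrix or with its complement. -/
theorem major_count [M.IsPrime] (hM : IsPModular 2 M) (hy : ∃ k : ℕ, y ^ 2 ^ k = 1)
    {b : Set (IrrCharacter (Subgroup.centralizer ({y} : Set G)))} {B : Set (IrrCharacter G)}
    (hind : IsInducedBlock M (Subgroup.centralizer ({y} : Set G)) b B)
    (hd : blockDefect 2 b = blockDefect 2 B) (compl : Bool)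
    (hl : if compl then (Nat.card B ≤ blockRank 2 b + 3 ∧ 0 < blockDefect 2 B) else blockRank 2 b ≤ 3) :
    3 * ((Finset.univ.filter (fun ψ : IrrCharacter G => ψ ∈ B)).filter
        (fun χ : IrrCharacter G => blockHeight 2 B (χ : G → ℂ) = 0)).card +
      2 * ∑ χ ∈ (Finset.univ.filter (fun ψ : IrrCharacter G => ψ ∈ B)).filter
        (fun χ : IrrCharacter G => ¬ blockHeight 2 B (χ : G → ℂ) = 0),
        2 ^ blockHeight 2 B (χ : G → ℂ) ≤ 3 * 2 ^ blockDefect 2 B := by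
  obtain ⟨j, hj⟩ := hy
  have hy2 : y ^ 2 ^ (j + 2) = 1 := by rw [pow_add, pow_mul, hj, one_pow]
  obtain ⟨K, ζ, hcyc, hfin, hgal, hζ⟩ := exists_two_root_field j
  obtain ⟨hb, hB, -⟩ := id hind
  set d := blockDefect 2 B
  set s := Finset.univ.filter (fun ψ : IrrCharacter G => ψ ∈ B)
  have hmem : ∀ χ, χ ∈ s ↔ χ ∈ B := fun χ => by simp [s]
  obtain ⟨hrow, htr⟩ := support_sum hM ⟨j, hj⟩ hind d
  let a : IrrCharacter G → IrrCharacter G → ℂ := fun χ ψ =>
    if compl then (if χ = ψ then ((2 ^ d : ℕ) : ℂ) else 0) - subMat 2 d b χ ψ else subMat 2 d b χ ψ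
  set R : ℤ := if compl then (s.card : ℤ) - blockRank 2 b else blockRank 2 b with hRdef
  have hKD : ((2 ^ d : ℕ) : ℂ) ∈ K := natCast_mem K _
  have hK : ∀ χ ψ, a χ ψ ∈ K := fun χ ψ => by
    simp only [a]
    cases compl
    · simpa using subMat_mem_field hζ hy2 hM b d χ ψ
    · simp only [if_true]
      refine sub_mem ?_ (subMat_mem_field hζ hy2 hM b d χ ψ)
      split_ifs
      · exact hKD
      · exact zero_mem K
  have hint : ∀ χ ψ, IsIntegral ℤ (a χ ψ) := fun χ ψ => by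
    simp only [a]
    cases compl
    · simpa using isIntegral_subMat hM ⟨j, hj⟩ hd.le χ ψ
    · simp only [if_true]
      refine IsIntegral.sub ?_ (isIntegral_subMat hM ⟨j, hj⟩ hd.le χ ψ)
      split_ifs
      · exact isIntegral_natC _
      · exact isIntegral_zero
  have herm : ∀ χ ψ, conj (a χ ψ) = a ψ χ := fun χ ψ => by
    simp only [a]
    cases compl
    · simpa using conj_subMat d χ ψ
    · simp only [if_true, map_sub, conj_subMat]
      by_cases h : χ = ψ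
      · simp [h, map_ofNat]
      · simp [h, Ne.symm h]
  have hrow' : ∀ χ ∈ s, ∑ ψ ∈ s, a χ ψ * a ψ χ = ((2 ^ d : ℕ) : ℂ) * a χ χ := by
    intro χ hχ
    simp only [a]
    cases compl
    · simpa using hrow χ
    · have h := hrow χ
      rw [← Finset.add_sum_erase _ _ hχ] at h ⊢
      rw [Finset.sum_congr rfl (g := fun ψ => subMat 2 d b χ ψ * subMat 2 d b ψ χ) fun ψ hψ => by
        simp [(Finset.ne_of_mem_erase hψ), (Finset.ne_of_mem_erase hψ).symm]]
      simp only [if_true]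
      linear_combination h
  have htr' : ∑ χ ∈ s, a χ χ = ((2 ^ d : ℕ) : ℂ) * (R : ℂ) := by
    simp only [a, hRdef]
    cases compl
    · simpa using htr
    · simp only [if_true]
      rw [Finset.sum_sub_distrib, htr, Finset.sum_const, nsmul_eq_mul]
      push_cast
      ring
  obtain ⟨m, hsum, hlow, hodd, hdiv⟩ := exists_means hM hζ s (2 ^ d) R (pow_ne_zero _ two_ne_zero)
    a (fun χ _ ψ _ => hK χ ψ) (fun χ _ ψ _ => hint χ ψ) herm hrow' htr'
  have hR : R ≤ 3 := by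
    rw [hRdef]
    cases compl
    · simp only [Bool.false_eq_true, if_false] at hl ⊢
      exact_mod_cast hl
    · simp only [if_true] at hl ⊢
      have hc : Nat.card B = s.card := by rw [Nat.card_eq_fintype_card, Fintype.card_subtype]
      have h1 := hl.1
      rw [hc] at h1
      omega
  -- the entries
  have hval : ∀ χ ∈ s, ∀ ψ ∈ s, ∃ v : ℂ, IsIntegral ℤ v ∧
      a χ ψ = (2 : ℂ) ^ blockHeight 2 B (ψ : G → ℂ) * v ∧
      (MemLocalIdeal M v ↔ blockHeight 2 B (χ : G → ℂ) ≠ 0) := by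
    intro χ hχ ψ hψ
    rw [hmem] at hχ hψ
    obtain ⟨v, hv, hav, hiff⟩ := subMat_major hM ⟨j, hj⟩ hind hd hχ hψ
    simp only [a]
    cases hc : compl
    · exact ⟨v, hv, by simpa using hav, hiff⟩
    · rw [hc] at hl
      simp only [if_true] at hl ⊢
      by_cases h : χ = ψ
      · subst h
        have hlt : blockHeight 2 B (χ : G → ℂ) < d := by
          rcases Nat.eq_zero_or_pos (blockHeight 2 B (χ : G → ℂ)) with h0 | h0
          · rw [h0]; exact hl.2
          · have := (height_bound hM hB hχ h0).1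
            omega
        obtain ⟨e, he⟩ := Nat.exists_eq_add_of_lt hlt
        have hM2 : MemLocalIdeal M ((2 : ℂ) ^ (e + 1)) := by
          have := (memLocalIdeal_natCast hM (2 ^ (e + 1))).mpr (dvd_pow_self 2 (Nat.succ_ne_zero e))
          exact_mod_cast this
        refine ⟨(2 : ℂ) ^ (e + 1) - v, ?_, ?_, ?_⟩
        · exact (by simpa using (isIntegral_natC 2).pow (e + 1) : IsIntegral ℤ ((2 : ℂ) ^ (e + 1))).sub hv
        · rw [if_pos rfl, hav, he]
          push_cast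
          ring
        · rw [← hiff]
          constructor
          · intro hh
            have := memLocalIdeal_sub hM2 hh
            rwa [sub_sub_cancel] at this
          · exact fun hh => memLocalIdeal_sub hM2 hh
      · refine ⟨-v, hv.neg, ?_, ?_⟩
        · rw [if_neg h, hav]
          push_cast
          ring
        · rw [← hiff]
          exact ⟨fun hh => by simpa using memLocalIdeal_neg hh, memLocalIdeal_neg⟩
  obtain ⟨ψ₀, hψ₀, h00⟩ := exists_height_zero (p := 2) hB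
  refine means_bound s (fun χ : IrrCharacter G => blockHeight 2 B (χ : G → ℂ)) m (2 ^ d) R
    (pow_ne_zero _ two_ne_zero) hR hsum
    (fun χ hχ h0 => hlow χ hχ s (subset_refl _) _ fun ψ hψ => ?_) (fun χ hχ h0 => ?_)
    (fun χ hχ h0 => ?_)
  · obtain ⟨v, hv, hav, hiff⟩ := hval χ hχ ψ hψ
    exact ⟨v, hv, fun h => hiff.mp (h ▸ memLocalIdeal_zero) h0, hav⟩
  · obtain ⟨v, hv, hav, hiff⟩ := hval χ hχ χ hχ
    refine hodd χ hχ fun hm => hiff.mp ?_ h0
    rwa [hav, h0, pow_zero, one_mul] at hm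
  · obtain ⟨v, hv, hav, hiff⟩ := hval χ hχ χ hχ
    obtain ⟨z, hz⟩ := hdiv χ hχ _ v hv hav (hiff.mpr h0)
    have hψs : ψ₀ ∈ s := (hmem _).mpr hψ₀
    have hne : a χ ψ₀ ≠ 0 := by
      obtain ⟨w, hw, haw, hiw⟩ := hval ψ₀ hψs χ hχ
      intro h
      have h2 : a ψ₀ χ = 0 := by rw [← herm χ ψ₀, h, map_zero]
      rw [h2] at haw
      exact hiw.mp (by
        rw [(mul_eq_zero.mp haw.symm).resolve_left (pow_ne_zero _ two_ne_zero)]
        exact memLocalIdeal_zero) h00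
    have h1 := hlow χ hχ {ψ₀} (Finset.singleton_subset_iff.mpr hψs) (fun _ => 0) fun ψ hψ => by
      rw [Finset.mem_singleton] at hψ
      subst hψ
      exact ⟨_, hint χ ψ, hne, by simp⟩
    simp only [Finset.sum_singleton, pow_zero, Nat.cast_one] at h1
    have hp : (0 : ℤ) < 2 ^ (blockHeight 2 B (χ : G → ℂ) + 1) := pow_pos two_pos _
    have hmpos : 0 < m χ := by
      have hD : (0 : ℤ) < ((2 ^ d : ℕ) : ℤ) := by exact_mod_cast pow_pos two_pos d
      nlinarith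
    rw [hz] at hmpos ⊢
    have hzpos : 0 < z := pos_of_mul_pos_right hmpos hp.le
    exact le_mul_of_one_le_right hp.le (by omega)

open Classical in
/-- A block of defect zero with a major subsection has one character. -/
theorem card_le_of_defect_zero [M.IsPrime] (hM : IsPModular 2 M) {B : Set (IrrCharacter G)}
    (hB : IsPBlock M B) (hd : blockDefect 2 B = 0) :
    (Finset.univ.filter (fun ψ : IrrCharacter G => ψ ∈ B)).card ≤ 1 := by
  have h := sum_height_sq_le (p := 2) hM hB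
  rw [hd] at h
  have h2 : (Finset.univ.filter (fun ψ : IrrCharacter G => ψ ∈ B)).card ≤
      ∑ ψ ∈ Finset.univ.filter (fun ψ : IrrCharacter G => ψ ∈ B),
        2 ^ (2 * blockHeight 2 B (ψ : G → ℂ)) := by
    rw [Finset.card_eq_sum_ones]
    exact Finset.sum_le_sum fun ψ _ => Nat.one_le_two_pow
  simp at h
  omega

end Cfsg.Agent.Blocks
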