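import Cfsg.Agent.Lib.Blocks.SubMatTwo

/-!
# Means of a scaled idempotent matrix over a field of two-power roots of unity
-/

namespace Cfsg.Agent.Blocks

open scoped ComplexConjugate

universe u v

variable {M : Ideal AlgInt} {i : ℕ} {K : IntermediateField ℚ ℂ}
  [IsCyclotomicExtension {2 ^ (i + 2)} ℚ K] [FiniteDimensional ℚ K] {ζ : K}

set_option linter.unusedSectionVars false

/-- Complex conjugation commutes with the automorphisms. -/
theorem conj_gal (hζ : IsPrimitiveRoot ζ (2 ^ (i + 2))) {x z : K} (hx : IsIntegral ℤ (x : ℂ))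
    (h : conj (x : ℂ) = (z : ℂ)) (σ : Gal(K/ℚ)) : conj ((σ x : K) : ℂ) = ((σ z : K) : ℂ) := by
  set n := 2 ^ (i + 2)
  have hn : 1 ≤ n := Nat.one_le_two_pow
  have hroot : ∀ w : K, w ^ n = 1 → conj (w : ℂ) = ((w ^ (n - 1) : K) : ℂ) := by
    intro w hw
    have h1 : (w : ℂ) ^ n = 1 := by rw [← SubmonoidClass.coe_pow, hw]; rfl
    rw [← Complex.inv_eq_conj (Complex.norm_eq_one_of_pow_eq_one h1 (by omega))]
    refine inv_eq_of_mul_eq_one_right ?_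
    push_cast
    rw [← pow_succ', Nat.sub_add_cancel hn, h1]
  obtain ⟨c, hc⟩ := exists_coeff hζ hx
  have key : ∀ τ : K →+* K, conj ((τ x : K) : ℂ) =
      ((τ (∑ r ∈ Finset.range (2 ^ (i + 1)), (c r : K) * (ζ ^ (n - 1)) ^ r) : K) : ℂ) := by
    intro τ
    conv_lhs => rw [hc]
    simp only [map_sum, map_mul, map_intCast, map_pow, AddSubmonoidClass.coe_finsetSum]
    push_cast
    simp only [map_mul, map_pow, map_intCast]
    refine Finset.sum_congr rfl fun r _ => ?_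
    rw [hroot (τ ζ) (by rw [← map_pow, hζ.pow_eq_one, map_one])]
    push_cast
    ring
  have hz : z = ∑ r ∈ Finset.range (2 ^ (i + 1)), (c r : K) * (ζ ^ (n - 1)) ^ r :=
    Subtype.ext (h.symm.trans (key (RingHom.id K)))
  rw [hz]
  exact key σ.toAlgHom.toRingHom

/-- The means of the diagonal of a scaled idempotent hermitian matrix. -/
theorem exists_means [M.IsPrime] (hM : IsPModular 2 M) (hζ : IsPrimitiveRoot ζ (2 ^ (i + 2)))
    [IsGalois ℚ K] {ι : Type v} (s : Finset ι) (D : ℕ) (R : ℤ) (hD : D ≠ 0) (a : ι → ι → ℂ)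
    (hK : ∀ χ ∈ s, ∀ ψ ∈ s, a χ ψ ∈ K) (hint : ∀ χ ∈ s, ∀ ψ ∈ s, IsIntegral ℤ (a χ ψ))
    (herm : ∀ χ ψ, conj (a χ ψ) = a ψ χ)
    (hrow : ∀ χ ∈ s, ∑ ψ ∈ s, a χ ψ * a ψ χ = (D : ℂ) * a χ χ)
    (htr : ∑ χ ∈ s, a χ χ = (D : ℂ) * (R : ℂ)) :
    ∃ m : ι → ℤ, (∑ χ ∈ s, m χ = (D : ℤ) * R) ∧
      (∀ χ ∈ s, ∀ t : Finset ι, t ⊆ s → ∀ e : ι → ℕ,
        (∀ ψ ∈ t, ∃ v : ℂ, IsIntegral ℤ v ∧ v ≠ 0 ∧ a χ ψ = (2 : ℂ) ^ e ψ * v) →
          ((∑ ψ ∈ t, 4 ^ e ψ : ℕ) : ℤ) ≤ (D : ℤ) * m χ) ∧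
      (∀ χ ∈ s, ¬ MemLocalIdeal M (a χ χ) → Odd (m χ)) ∧
      ∀ χ ∈ s, ∀ h : ℕ, ∀ v : ℂ, IsIntegral ℤ v → a χ χ = (2 : ℂ) ^ h * v → MemLocalIdeal M v →
        ∃ z : ℤ, m χ = 2 ^ (h + 1) * z := by
  classical
  haveI : CharP (Res M) 2 := charP_res hM
  let A : ι → ι → K := fun χ ψ => if h : χ ∈ s ∧ ψ ∈ s then ⟨a χ ψ, hK χ h.1 ψ h.2⟩ else 0
  have hA : ∀ χ ∈ s, ∀ ψ ∈ s, (A χ ψ : ℂ) = a χ ψ := fun χ hχ ψ hψ => by
    simp only [A, dif_pos (show χ ∈ s ∧ ψ ∈ s from ⟨hχ, hψ⟩)]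
  have hAint : ∀ χ ∈ s, ∀ ψ ∈ s, IsIntegral ℤ (A χ ψ : ℂ) := fun χ hχ ψ hψ => by
    rw [hA χ hχ ψ hψ]; exact hint χ hχ ψ hψ
  have hdiag : ∀ χ ∈ s, conj (A χ χ : ℂ) = (A χ χ : ℂ) := fun χ hχ => by
    rw [hA χ hχ χ hχ, herm]
  have hmex : ∀ χ, ∃ m : ℤ, ∀ hχ : χ ∈ s,
      (∑ σ : Gal(K/ℚ), ((σ (A χ χ) : K) : ℂ)) = (Fintype.card Gal(K/ℚ) : ℂ) * (m : ℂ) ∧
        red M ⟨(A χ χ : ℂ), integral_mem_loc (hAint χ hχ χ hχ)⟩ = (m : Res M) := fun χ => by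
    by_cases hχ : χ ∈ s
    · obtain ⟨m, hm⟩ := trace_parity hM hζ (hAint χ hχ χ hχ) (hdiag χ hχ)
      exact ⟨m, fun _ => hm⟩
    · exact ⟨0, fun h => absurd h hχ⟩
  choose m hm using hmex
  set n := Fintype.card Gal(K/ℚ)
  have hn : (n : ℂ) ≠ 0 := Nat.cast_ne_zero.mpr Fintype.card_ne_zero
  have hnR : (0 : ℝ) < n := by exact_mod_cast Fintype.card_pos
  refine ⟨m, ?_, fun χ hχ t hts e hte => ?_, fun χ hχ hu => ?_, fun χ hχ h v hv hav hvM => ?_⟩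
  · have h1 : (∑ χ ∈ s, A χ χ) = (((D : ℤ) * R : ℤ) : K) := by
      apply Subtype.ext
      simp only [AddSubmonoidClass.coe_finsetSum]
      push_cast
      rw [← htr]
      exact Finset.sum_congr rfl fun χ hχ => hA χ hχ χ hχ
    have h2 : ∑ χ ∈ s, ∑ σ : Gal(K/ℚ), ((σ (A χ χ) : K) : ℂ) = (n : ℂ) * (((D : ℤ) * R : ℤ) : ℂ) := by
      rw [Finset.sum_comm]
      have h3 : ∀ σ : Gal(K/ℚ), ∑ χ ∈ s, ((σ (A χ χ) : K) : ℂ) = (((D : ℤ) * R : ℤ) : ℂ) := by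
        intro σ
        have h4 := congrArg (fun z : K => ((σ z : K) : ℂ)) h1
        simp only [map_sum, map_intCast, AddSubmonoidClass.coe_finsetSum] at h4
        rw [h4]
        rfl
      rw [Finset.sum_congr rfl fun σ _ => h3 σ, Finset.sum_const, nsmul_eq_mul, Finset.card_univ]
    rw [Finset.sum_congr rfl fun χ hχ => (hm χ hχ).1, ← Finset.mul_sum] at h2
    have h5 := mul_left_cancel₀ hn h2
    exact_mod_cast h5
  · have hσ : ∀ σ : Gal(K/ℚ), ((∑ ψ ∈ s, Complex.normSq ((σ (A χ ψ) : K) : ℂ) : ℝ) : ℂ) =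
        (D : ℂ) * ((σ (A χ χ) : K) : ℂ) := by
      intro σ
      have h1 : (∑ ψ ∈ s, A χ ψ * A ψ χ) = (D : K) * A χ χ := by
        apply Subtype.ext
        simp only [AddSubmonoidClass.coe_finsetSum]
        push_cast
        rw [hA χ hχ χ hχ, ← hrow χ hχ]
        exact Finset.sum_congr rfl fun ψ hψ => by rw [hA χ hχ ψ hψ, hA ψ hψ χ hχ]
      have h2 := congrArg (fun z : K => ((σ z : K) : ℂ)) h1
      simp only [map_sum, map_mul, map_natCast, AddSubmonoidClass.coe_finsetSum] at h2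
      push_cast at h2 ⊢
      rw [← h2]
      refine Finset.sum_congr rfl fun ψ hψ => ?_
      rw [← Complex.mul_conj]
      congr 1
      exact conj_gal hζ (hAint χ hχ ψ hψ) (by rw [hA χ hχ ψ hψ, herm, hA ψ hψ χ hχ]) σ
    have htot : (∑ σ : Gal(K/ℚ), ∑ ψ ∈ s, Complex.normSq ((σ (A χ ψ) : K) : ℂ)) =
        (n : ℝ) * ((D : ℝ) * (m χ : ℝ)) := by
      apply Complex.ofReal_injective
      rw [Complex.ofReal_sum, Finset.sum_congr rfl fun σ _ => hσ σ, ← Finset.mul_sum,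
        (hm χ hχ).1]
      push_cast
      ring
    have hlow : ∀ ψ ∈ t, (n : ℝ) * (4 : ℝ) ^ e ψ ≤
        ∑ σ : Gal(K/ℚ), Complex.normSq ((σ (A χ ψ) : K) : ℂ) := by
      intro ψ hψ
      obtain ⟨v, hv, hv0, hav⟩ := hte ψ hψ
      set w : K := A χ ψ / (2 : K) ^ e ψ with hw
      have h2 : (((2 : K)) : ℂ) = 2 := rfl
      have hwv : (w : ℂ) = v := by
        rw [hw]
        push_cast
        rw [hA χ hχ ψ (hts hψ), hav, h2, mul_div_cancel_left₀ _ (pow_ne_zero _ two_ne_zero)]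
      have h3 := card_le_sum_gal w (hwv.symm ▸ hv0) (hwv.symm ▸ hv)
      have h4 : ∀ σ : Gal(K/ℚ), Complex.normSq ((σ (A χ ψ) : K) : ℂ) =
          (4 : ℝ) ^ e ψ * Complex.normSq ((σ w : K) : ℂ) := by
        intro σ
        rw [show A χ ψ = (2 : K) ^ e ψ * w by
          rw [hw, mul_div_cancel₀ _ (pow_ne_zero _ two_ne_zero)], map_mul, map_pow, map_ofNat]
        push_cast
        rw [h2, Complex.normSq_mul, map_pow]
        congr 2
        norm_num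
      rw [Finset.sum_congr rfl fun σ _ => h4 σ, ← Finset.mul_sum, mul_comm (n : ℝ)]
      exact mul_le_mul_of_nonneg_left h3 (by positivity)
    have h5 : (n : ℝ) * ∑ ψ ∈ t, (4 : ℝ) ^ e ψ ≤ (n : ℝ) * ((D : ℝ) * (m χ : ℝ)) := by
      rw [← htot, Finset.sum_comm, Finset.mul_sum]
      exact le_trans (Finset.sum_le_sum hlow) (Finset.sum_le_sum_of_subset_of_nonneg hts
        fun ψ _ _ => Finset.sum_nonneg fun σ _ => Complex.normSq_nonneg _)
    have h6 := le_of_mul_le_mul_left h5 hnR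
    exact_mod_cast h6
  · have h1 := (hm χ hχ).2
    rw [← Int.not_even_iff_odd, even_iff_two_dvd]
    intro hdvd
    rw [show ((m χ : ℤ) : Res M) = 0 from (CharP.intCast_eq_zero_iff (Res M) 2 _).mpr
      (by exact_mod_cast hdvd), red_eq_zero_iff] at h1
    exact hu (hA χ hχ χ hχ ▸ h1)
  · obtain ⟨z, hz⟩ := trace_parity_pow hM hζ (hdiag χ hχ) h hv ((hA χ hχ χ hχ).trans hav) hvM
    refine ⟨z, ?_⟩
    have h5 := mul_left_cancel₀ hn ((hm χ hχ).1.symm.trans hz)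
    exact_mod_cast h5

/-- The roots by which a two-element acts lie in one field of roots of unity. -/
theorem subMat_mem_field {G : Type u} [Group G] [Fintype G] {y : G}
    [Fintype (Subgroup.centralizer ({y} : Set G))] (hζ : IsPrimitiveRoot ζ (2 ^ (i + 2)))
    (hy : y ^ 2 ^ (i + 2) = 1) [M.IsPrime] (hM : IsPModular 2 M)
    (b : Set (IrrCharacter (Subgroup.centralizer ({y} : Set G)))) (d : ℕ) (χ ψ : IrrCharacter G) :
    subMat 2 d b χ ψ ∈ K := by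
  classical
  have hom : ∀ η : IrrCharacter (Subgroup.centralizer ({y} : Set G)),
      omC η ∈ K ∧ conj (omC η) ∈ K := by
    intro η
    have h1 : omC η ^ 2 ^ (i + 2) = 1 :=
      (omC_spec η).2 _ (Subtype.ext (by simpa [selfC] using hy))
    have h2 : conj (omC η) ^ 2 ^ (i + 2) = 1 := by rw [← map_pow, h1, map_one]
    have hζC : IsPrimitiveRoot ((ζ : K) : ℂ) (2 ^ (i + 2)) :=
      hζ.map_of_injective (f := K.val) K.val.injective
    obtain ⟨r, -, hr⟩ := hζC.eq_pow_of_pow_eq_one h1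
    obtain ⟨r', -, hr'⟩ := hζC.eq_pow_of_pow_eq_one h2
    exact ⟨hr ▸ pow_mem ζ.2 r, hr' ▸ pow_mem ζ.2 r'⟩
  rw [subMat_eq]
  refine sum_mem fun η _ => sum_mem fun η' _ => ?_
  by_cases hη : η ∈ b
  swap
  · simp [secC, hη]
  by_cases hη' : η' ∈ b
  swap
  · simp [secC, hη']
  simp only [secC, if_pos hη, if_pos hη', map_mul, map_natCast]
  haveI : Fact (Nat.Prime 2) := ⟨Nat.prime_two⟩
  obtain ⟨X, hX⟩ := exists_int_bfPair hM hη η'
  have hbf : bfPair 2 η η' = (X : ℂ) / (2 : ℂ) ^ blockDefect 2 b := by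
    rw [eq_div_iff (pow_ne_zero _ two_ne_zero), mul_comm]
    exact_mod_cast hX
  rw [hbf]
  have h2 : (2 : ℂ) ∈ K := ofNat_mem K 2
  exact mul_mem (mul_mem (mul_mem (natCast_mem K _) (hom η).1) (mul_mem (natCast_mem K _) (hom η').2))
    (mul_mem (pow_mem (by exact_mod_cast h2) _) (div_mem (intCast_mem K _) (pow_mem h2 _)))

end Cfsg.Agent.Blocks
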