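import Cfsg.Agent.Lib.ClassSum.GaloisMean
import Cfsg.Agent.Lib.Blocks.LocalRing
import Mathlib.NumberTheory.NumberField.Cyclotomic.Basic

/-!
# Traces of algebraic integers in the fields of `2`-power roots of unity
-/

namespace Cfsg.Agent.Blocks

open scoped ComplexConjugate
open Polynomial

variable {M : Ideal AlgInt} {i : ℕ} {K : IntermediateField ℚ ℂ}
  [IsCyclotomicExtension {2 ^ (i + 2)} ℚ K] [FiniteDimensional ℚ K] {ζ : K}

set_option linter.unusedSectionVars false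

theorem pow_half_eq_neg_one (hζ : IsPrimitiveRoot ζ (2 ^ (i + 2))) :
    ζ ^ 2 ^ (i + 1) = -1 := by
  have h := hζ.pow (a := 2 ^ (i + 1)) (b := 2) (pow_pos two_pos _) (by rw [← pow_succ])
  exact h.eq_neg_one_of_two_right

/-- A power of the root other than `± 1` has trace zero. -/
theorem sum_gal_pow_eq_zero (hζ : IsPrimitiveRoot ζ (2 ^ (i + 2))) {r : ℕ} (h0 : 0 < r)
    (hr : r < 2 ^ (i + 1)) : ∑ σ : Gal(K/ℚ), σ (ζ ^ r) = 0 := by
  classical
  obtain ⟨e, q, hq, rfl⟩ := Nat.exists_eq_two_pow_mul_odd h0.ne'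
  have he : e < i + 1 := by
    by_contra h
    have h1 : 2 ^ (i + 1) ≤ 2 ^ e := Nat.pow_le_pow_right two_pos (not_lt.mp h)
    have h2 : 2 ^ e ≤ 2 ^ e * q := Nat.le_mul_of_pos_right _ hq.pos
    omega
  obtain ⟨f, hf⟩ : ∃ f, i + 1 = e + (f + 1) := ⟨i - e, by omega⟩
  set k := 1 + 2 ^ (f + 1) with hk
  have hcop : k.Coprime (2 ^ (i + 2)) := by
    refine Nat.Coprime.pow_right _ (Nat.coprime_two_right.mpr ⟨2 ^ f, ?_⟩)
    rw [hk, pow_succ]
    ring
  have hζk : IsPrimitiveRoot (ζ ^ k) (2 ^ (i + 2)) := hζ.pow_of_coprime k hcop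
  let τ : Gal(K/ℚ) := (hζ.powerBasis ℚ).equivOfMinpoly (hζk.powerBasis ℚ) (by
    rw [hζ.powerBasis_gen ℚ, hζk.powerBasis_gen ℚ,
      ← cyclotomic_eq_minpoly_rat hζ (pow_pos two_pos _),
      ← cyclotomic_eq_minpoly_rat hζk (pow_pos two_pos _)])
  have hτ : τ ζ = ζ ^ k := by
    conv_lhs => rw [← hζ.powerBasis_gen ℚ]
    rw [PowerBasis.equivOfMinpoly_gen, hζk.powerBasis_gen ℚ]
  have hneg : τ (ζ ^ (2 ^ e * q)) = -ζ ^ (2 ^ e * q) := by
    have e1 : k * (2 ^ e * q) = 2 ^ e * q + 2 ^ (i + 1) * q := by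
      rw [hk, hf, pow_add 2 e]
      ring
    rw [map_pow, hτ, ← pow_mul, e1, pow_add, pow_mul ζ (2 ^ (i + 1)) q, pow_half_eq_neg_one hζ,
      hq.neg_one_pow, mul_neg_one]
  have h : ∑ σ : Gal(K/ℚ), σ (ζ ^ (2 ^ e * q)) = ∑ σ : Gal(K/ℚ), -σ (ζ ^ (2 ^ e * q)) :=
    (Fintype.sum_equiv (Equiv.mulRight τ) _ _ fun σ => rfl).symm.trans
      (Finset.sum_congr rfl fun σ _ => by
        show σ (τ (ζ ^ (2 ^ e * q))) = _
        rw [hneg, map_neg])
  rw [Finset.sum_neg_distrib] at h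
  linear_combination h / 2

/-- An integral element is an integral combination of the first powers of the root. -/
theorem exists_coeff (hζ : IsPrimitiveRoot ζ (2 ^ (i + 2))) {x : K} (hx : IsIntegral ℤ (x : ℂ)) :
    ∃ c : ℕ → ℤ, x = ∑ r ∈ Finset.range (2 ^ (i + 1)), (c r : K) * ζ ^ r := by
  haveI : Fact (Nat.Prime 2) := ⟨Nat.prime_two⟩
  haveI := IsCyclotomicExtension.Rat.isIntegralClosure_adjoin_singleton_of_prime_pow
    (p := 2) (k := i + 2) hζ
  have hxK : IsIntegral ℤ x :=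
    (isIntegral_algHom_iff ((K.val : K →ₐ[ℚ] ℂ).restrictScalars ℤ) K.val.injective).mp hx
  obtain ⟨⟨z, hz⟩, hzx⟩ :=
    (IsIntegralClosure.isIntegral_iff (A := Algebra.adjoin ℤ ({ζ} : Set K))).mp hxK
  rw [Algebra.adjoin_singleton_eq_range_aeval] at hz
  obtain ⟨P, hP⟩ := hz
  have hm : (X ^ 2 ^ (i + 1) + C (1 : ℤ)).Monic := monic_X_pow_add_C _ (pow_ne_zero _ two_ne_zero)
  set Q := P %ₘ (X ^ 2 ^ (i + 1) + C (1 : ℤ)) with hQ
  have hdeg : Q.natDegree < 2 ^ (i + 1) := by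
    refine (natDegree_modByMonic_lt P hm fun h => ?_).trans_eq (natDegree_X_pow_add_C ..)
    have := congrArg natDegree h
    rw [natDegree_X_pow_add_C, natDegree_one] at this
    exact pow_ne_zero _ two_ne_zero this
  have hxQ : x = aeval ζ Q := by
    rw [← hzx]
    show z = _
    rw [← hP, hQ]
    exact (aeval_modByMonic_eq_self_of_root
      (by simp [pow_half_eq_neg_one hζ])).symm
  refine ⟨fun r => Q.coeff r, ?_⟩
  rw [hxQ, aeval_eq_sum_range' hdeg]
  exact Finset.sum_congr rfl fun r _ => by simp [zsmul_eq_mul]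

/-- The trace of such a combination is given by its constant coefficient. -/
theorem sum_gal_comb (hζ : IsPrimitiveRoot ζ (2 ^ (i + 2))) (c : ℕ → ℤ) :
    ∑ σ : Gal(K/ℚ), σ (∑ r ∈ Finset.range (2 ^ (i + 1)), (c r : K) * ζ ^ r) =
      (Fintype.card Gal(K/ℚ) : K) * (c 0 : K) := by
  simp only [map_sum, map_mul, map_intCast]
  rw [Finset.sum_comm, Finset.sum_eq_single_of_mem 0 (Finset.mem_range.mpr (pow_pos two_pos _))]
  · simp
  · intro r hr hne
    rw [← Finset.mul_sum, sum_gal_pow_eq_zero hζ (Nat.pos_of_ne_zero hne) (Finset.mem_range.mp hr),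
      mul_zero]

theorem comb_injective (hζ : IsPrimitiveRoot ζ (2 ^ (i + 2))) {c c' : ℕ → ℤ}
    (h : ∑ r ∈ Finset.range (2 ^ (i + 1)), (c r : K) * ζ ^ r =
      ∑ r ∈ Finset.range (2 ^ (i + 1)), (c' r : K) * ζ ^ r) :
    ∀ r, r < 2 ^ (i + 1) → c r = c' r := by
  have hdim : (hζ.powerBasis ℚ).dim = 2 ^ (i + 1) := by
    rw [IsPrimitiveRoot.powerBasis_dim, ← cyclotomic_eq_minpoly_rat hζ (pow_pos two_pos _),
      natDegree_cyclotomic, Nat.totient_prime_pow_succ Nat.prime_two]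
    simp
  have hli : LinearIndependent ℚ fun r : Fin (2 ^ (i + 1)) => ζ ^ (r : ℕ) := by
    have h1 := (hζ.powerBasis ℚ).basis.linearIndependent
    rw [PowerBasis.coe_basis, IsPrimitiveRoot.powerBasis_gen] at h1
    exact hdim ▸ h1
  intro r hr
  have h2 := Fintype.linearIndependent_iff.mp hli (fun s => ((c (s : ℕ) - c' (s : ℕ) : ℤ) : ℚ)) (by
    rw [Fin.sum_univ_eq_sum_range (fun s => ((c s - c' s : ℤ) : ℚ) • ζ ^ s) (2 ^ (i + 1))]
    simp only [Rat.smul_def]
    push_cast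
    simp only [sub_mul, Finset.sum_sub_distrib]
    rw [h, sub_self]) ⟨r, hr⟩
  have h3 : ((c r - c' r : ℤ) : ℚ) = 0 := h2
  exact sub_eq_zero.mp (by exact_mod_cast h3)

/-- The mean of a real algebraic integer is a rational integer with the same parity. -/
theorem trace_parity [M.IsPrime] (hM : IsPModular 2 M) (hζ : IsPrimitiveRoot ζ (2 ^ (i + 2)))
    {x : K} (hx : IsIntegral ℤ (x : ℂ)) (hreal : conj (x : ℂ) = (x : ℂ)) :
    ∃ m : ℤ, (∑ σ : Gal(K/ℚ), ((σ x : K) : ℂ)) = (Fintype.card Gal(K/ℚ) : ℂ) * (m : ℂ) ∧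
      red M ⟨(x : ℂ), integral_mem_loc hx⟩ = (m : Res M) := by
  classical
  haveI : CharP (Res M) 2 := charP_res hM
  obtain ⟨c, hc⟩ := exists_coeff hζ hx
  set N := 2 ^ (i + 1) with hN
  have hNpos : 0 < N := pow_pos two_pos _
  refine ⟨c 0, ?_, ?_⟩
  · have h := congrArg (fun z : K => (z : ℂ)) (sum_gal_comb hζ c)
    simp only [AddSubmonoidClass.coe_finsetSum] at h
    push_cast at h
    rw [← hc] at h
    exact h
  -- the coefficients are skew symmetric
  have hζ2N : ∀ r ≤ 2 * N, conj ((ζ : ℂ) ^ r) = (ζ : ℂ) ^ (2 * N - r) := by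
    intro r hr
    have h1 : (ζ : ℂ) ^ (2 * N) = 1 := by
      rw [show 2 * N = 2 ^ (i + 2) by rw [hN]; ring, ← SubmonoidClass.coe_pow, hζ.pow_eq_one]
      rfl
    have hn : ‖(ζ : ℂ) ^ r‖ = 1 := by
      rw [norm_pow, Complex.norm_eq_one_of_pow_eq_one h1 (by omega), one_pow]
    rw [← Complex.inv_eq_conj hn]
    refine inv_eq_of_mul_eq_one_right ?_
    rw [← pow_add, show r + (2 * N - r) = 2 * N by omega, h1]
  have hskew : ∀ r, r < N → c r = if r = 0 then c 0 else -c (N - r) := by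
    refine comb_injective hζ ?_
    rw [← hc]
    apply Subtype.ext
    rw [← hreal]
    simp only [AddSubmonoidClass.coe_finsetSum]
    push_cast
    rw [show conj (x : ℂ) = ∑ r ∈ Finset.range N, (c r : ℂ) * conj ((ζ : ℂ) ^ r) by
      conv_lhs => rw [hc]
      simp only [AddSubmonoidClass.coe_finsetSum]
      push_cast
      simp [map_sum]]
    refine Finset.sum_bij' (fun r _ => if r = 0 then 0 else N - r)
      (fun r _ => if r = 0 then 0 else N - r) ?_ ?_ ?_ ?_ ?_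
    · intro r hr; simp only [Finset.mem_range] at hr ⊢; split_ifs <;> omega
    · intro r hr; simp only [Finset.mem_range] at hr ⊢; split_ifs <;> omega
    · intro r hr; simp only [Finset.mem_range] at hr; split_ifs <;> omega
    · intro r hr; simp only [Finset.mem_range] at hr; split_ifs <;> omega
    intro r hr
    simp only [Finset.mem_range] at hr
    rcases Nat.eq_zero_or_pos r with rfl | hr0
    · simp
    · rw [if_neg hr0.ne', if_neg (by omega), show N - (N - r) = r by omega,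
        hζ2N r (by omega), show 2 * N - r = N + (N - r) by omega, pow_add]
      have hneg : (ζ : ℂ) ^ N = -1 := by
        rw [← SubmonoidClass.coe_pow, pow_half_eq_neg_one hζ]
        rfl
      rw [hneg]
      push_cast
      ring
  have hz : ∀ r, red M ⟨((ζ : K) : ℂ) ^ r, pow_mem (integral_mem_loc
      (IsIntegral.of_pow (n := 2 ^ (i + 2)) (pow_pos two_pos _)
        (by rw [← SubmonoidClass.coe_pow, hζ.pow_eq_one]; exact isIntegral_one))) r⟩ = 1 := by
    intro r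
    refine red_root_eq_one hM (k := i + 2) (Subtype.ext ?_)
    simp only [SubmonoidClass.coe_pow, OneMemClass.coe_one]
    rw [← pow_mul, mul_comm, pow_mul, ← SubmonoidClass.coe_pow ζ, hζ.pow_eq_one]
    simp
  have hred : red M ⟨(x : ℂ), integral_mem_loc hx⟩ =
      ∑ r ∈ Finset.range N, ((c r : ℤ) : Res M) := by
    rw [show (⟨(x : ℂ), integral_mem_loc hx⟩ : Loc M) = ∑ r ∈ Finset.range N,
        (c r : Loc M) * ⟨((ζ : K) : ℂ) ^ r, pow_mem (integral_mem_loc
          (IsIntegral.of_pow (n := 2 ^ (i + 2)) (pow_pos two_pos _)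
            (by rw [← SubmonoidClass.coe_pow, hζ.pow_eq_one]; exact isIntegral_one))) r⟩ by
      apply Subtype.ext
      simp only [AddSubmonoidClass.coe_finsetSum]
      push_cast
      conv_lhs => rw [hc]
      simp only [AddSubmonoidClass.coe_finsetSum]
      push_cast
      rfl]
    simp only [map_sum, map_mul, map_intCast, hz, mul_one]
  rw [hred, ← Finset.add_sum_erase _ _ (Finset.mem_range.mpr hNpos)]
  rw [add_eq_left]
  refine Finset.sum_involution (fun r _ => N - r) (fun r hr => ?_) (fun r hr hne h => hne ?_)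
    (fun r hr => ?_) (fun r hr => ?_)
  · obtain ⟨h0, hlt⟩ := Finset.mem_erase.mp hr
    rw [hskew r (Finset.mem_range.mp hlt), if_neg h0, Int.cast_neg, neg_add_cancel]
  · obtain ⟨h0, hlt⟩ := Finset.mem_erase.mp hr
    have h1 := hskew r (Finset.mem_range.mp hlt)
    rw [if_neg h0, h] at h1
    rw [show c r = 0 by omega, Int.cast_zero]
  · obtain ⟨h0, hlt⟩ := Finset.mem_erase.mp hr
    rw [Finset.mem_range] at hlt
    exact Finset.mem_erase.mpr ⟨by omega, Finset.mem_range.mpr (by omega)⟩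
  · obtain ⟨h0, hlt⟩ := Finset.mem_erase.mp hr
    rw [Finset.mem_range] at hlt
    show N - (N - r) = r
    omega

/-- The divisibility of the mean of a divisible real algebraic integer. -/
theorem trace_parity_pow [M.IsPrime] (hM : IsPModular 2 M) (hζ : IsPrimitiveRoot ζ (2 ^ (i + 2)))
    {x : K} (hreal : conj (x : ℂ) = (x : ℂ)) (h : ℕ) {v : ℂ} (hv : IsIntegral ℤ v)
    (hxv : (x : ℂ) = (2 : ℂ) ^ h * v) (hvM : MemLocalIdeal M v) :
    ∃ m : ℤ, (∑ σ : Gal(K/ℚ), ((σ x : K) : ℂ)) =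
      (Fintype.card Gal(K/ℚ) : ℂ) * (((2 : ℤ) ^ (h + 1) * m : ℤ) : ℂ) := by
  haveI : CharP (Res M) 2 := charP_res hM
  have h2 : (((2 : K)) : ℂ) = 2 := rfl
  set y : K := x / (2 : K) ^ h with hy
  have hyv : (y : ℂ) = v := by
    rw [hy]
    push_cast
    rw [hxv, h2, mul_div_cancel_left₀ _ (pow_ne_zero _ two_ne_zero)]
  have hyr : conj (y : ℂ) = (y : ℂ) := by
    rw [hy]
    push_cast
    rw [h2, map_div₀, hreal, map_pow, map_ofNat]
  obtain ⟨m, hm, hmr⟩ := trace_parity hM hζ (x := y) (hyv.symm ▸ hv) hyr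
  have h0 : red M ⟨(y : ℂ), integral_mem_loc (hyv.symm ▸ hv)⟩ = 0 :=
    red_eq_zero_iff.mpr (show MemLocalIdeal M (y : ℂ) by rw [hyv]; exact hvM)
  rw [h0] at hmr
  obtain ⟨t, rfl⟩ := (CharP.intCast_eq_zero_iff (Res M) 2 m).mp hmr.symm
  refine ⟨t, ?_⟩
  have hσ : ∀ σ : Gal(K/ℚ), ((σ x : K) : ℂ) = (2 : ℂ) ^ h * ((σ y : K) : ℂ) := by
    intro σ
    rw [show x = (2 : K) ^ h * y by rw [hy, mul_div_cancel₀ _ (pow_ne_zero _ two_ne_zero)]]
    rw [map_mul, map_pow, map_ofNat]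
    push_cast
    rw [h2]
  rw [Finset.sum_congr rfl fun σ _ => hσ σ, ← Finset.mul_sum, hm]
  push_cast
  ring

end Cfsg.Agent.Blocks
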