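import Cfsg.Agent.Lib.Blocks.SubMatVal
import Cfsg.Agent.Lib.Blocks.TwoRoots

/-!
# Units among the contributions, and their means for the prime two
-/

namespace Cfsg.Agent.Blocks

open scoped ComplexConjugate

universe u

variable {G : Type u} [Group G] [Fintype G] {p : ℕ} {M : Ideal AlgInt} {y : G}
  [Fintype (Subgroup.centralizer ({y} : Set G))]

set_option linter.unusedSectionVars false

open Classical in
/-- The residue of a contribution in terms of multiplicities and the integral pairing matrix. -/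
theorem red_subMat [M.IsPrime] (hM : IsPModular p M) (hy : ∃ k : ℕ, y ^ p ^ k = 1)
    {b : Set (IrrCharacter (Subgroup.centralizer ({y} : Set G)))} {d : ℕ}
    (hd : blockDefect p b ≤ d)
    (X : IrrCharacter (Subgroup.centralizer ({y} : Set G)) →
      IrrCharacter (Subgroup.centralizer ({y} : Set G)) → ℤ)
    (hX : ∀ η ∈ b, ∀ η', (p : ℂ) ^ d * bfPair p η η' = (X η η' : ℂ)) (χ ψ : IrrCharacter G) :
    red M ⟨subMat p d b χ ψ, integral_mem_loc (isIntegral_subMat hM hy hd χ ψ)⟩ =
      ∑ η, ∑ η',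
        ((if η ∈ b then CT.mult (fun h : Subgroup.centralizer ({y} : Set G) => (χ : G → ℂ) h)
          (η : _ → ℂ) else 0 : ℕ) : Res M) *
        ((if η' ∈ b then CT.mult (fun h : Subgroup.centralizer ({y} : Set G) => (ψ : G → ℂ) h)
          (η' : _ → ℂ) else 0 : ℕ) : Res M) * (X η η' : Res M) := by
  haveI := Fact.mk hM.1
  obtain ⟨j, hj⟩ := hy
  have hsC : selfC y ^ p ^ j = 1 := Subtype.ext (by simpa [selfC] using hj)
  have hom : ∀ η : IrrCharacter (Subgroup.centralizer ({y} : Set G)), omC η ^ p ^ j = 1 :=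
    fun η => (omC_spec η).2 _ hsC
  have homi : ∀ η : IrrCharacter (Subgroup.centralizer ({y} : Set G)), IsIntegral ℤ (omC η) :=
    fun η => IsIntegral.of_pow (pow_pos hM.1.pos j) (by rw [hom]; exact isIntegral_one)
  let w : IrrCharacter (Subgroup.centralizer ({y} : Set G)) → Loc M := fun η =>
    ⟨omC η, integral_mem_loc (homi η)⟩
  let w' : IrrCharacter (Subgroup.centralizer ({y} : Set G)) → Loc M := fun η =>
    ⟨conj (omC η), integral_mem_loc (CT.isIntegral_conj (homi η))⟩
  have hw : ∀ η, red M (w η) = 1 := fun η =>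
    red_root_eq_one hM (Subtype.ext (by simpa [w] using hom η))
  have hw' : ∀ η, red M (w' η) = 1 := fun η => red_root_eq_one hM (Subtype.ext (by
    simp only [w', SubmonoidClass.coe_pow, OneMemClass.coe_one]
    rw [← map_pow, hom, map_one]))
  have e : (⟨subMat p d b χ ψ, integral_mem_loc (isIntegral_subMat hM ⟨j, hj⟩ hd χ ψ)⟩ : Loc M) =
      ∑ η, ∑ η',
        ((if η ∈ b then CT.mult (fun h : Subgroup.centralizer ({y} : Set G) => (χ : G → ℂ) h)
          (η : _ → ℂ) else 0 : ℕ) : Loc M) *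
        ((if η' ∈ b then CT.mult (fun h : Subgroup.centralizer ({y} : Set G) => (ψ : G → ℂ) h)
          (η' : _ → ℂ) else 0 : ℕ) : Loc M) * (X η η' : Loc M) * (w η * w' η') := by
    apply Subtype.ext
    simp only [AddSubmonoidClass.coe_finsetSum]
    push_cast
    rw [subMat_eq]
    refine Finset.sum_congr rfl fun η _ => Finset.sum_congr rfl fun η' _ => ?_
    by_cases hη : η ∈ b
    · by_cases hη' : η' ∈ b
      · rw [hX η hη η']
        simp only [secC, if_pos hη, if_pos hη', map_mul, map_natCast, w, w']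
        push_cast
        ring
      · simp [secC, if_neg hη']
    · simp [secC, if_neg hη]
  rw [e]
  simp only [map_sum, map_mul, map_natCast, map_intCast, hw, hw', mul_one]

open Classical in
/-- Membership in the ideal does not depend on the order of the two characters. -/
theorem memLocalIdeal_subMat_symm [M.IsPrime] (hM : IsPModular p M) (hy : ∃ k : ℕ, y ^ p ^ k = 1)
    {b : Set (IrrCharacter (Subgroup.centralizer ({y} : Set G)))} {d : ℕ}
    (hd : blockDefect p b ≤ d) (χ ψ : IrrCharacter G) :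
    MemLocalIdeal M (subMat p d b χ ψ) ↔ MemLocalIdeal M (subMat p d b ψ χ) := by
  haveI := Fact.mk hM.1
  have hXex : ∀ η η' : IrrCharacter (Subgroup.centralizer ({y} : Set G)),
      ∃ z : ℤ, η ∈ b → (p : ℂ) ^ d * bfPair p η η' = (z : ℂ) := fun η η' => by
    by_cases h : η ∈ b
    · obtain ⟨z, hz⟩ := exists_int_bfPair hM h η'
      obtain ⟨e, rfl⟩ := Nat.exists_eq_add_of_le hd
      refine ⟨(p : ℤ) ^ e * z, fun _ => ?_⟩
      rw [pow_add, mul_comm ((p : ℂ) ^ blockDefect p b), mul_assoc, hz]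
      push_cast
      ring
    · exact ⟨0, fun h' => absurd h' h⟩
  choose X hX using hXex
  have hX' : ∀ η ∈ b, ∀ η', (p : ℂ) ^ d * bfPair p η η' = (X η η' : ℂ) := fun η h η' => hX η η' h
  have e : red M ⟨subMat p d b χ ψ, integral_mem_loc (isIntegral_subMat hM hy hd χ ψ)⟩ =
      red M ⟨subMat p d b ψ χ, integral_mem_loc (isIntegral_subMat hM hy hd ψ χ)⟩ := by
    rw [red_subMat hM hy hd X hX' χ ψ, red_subMat hM hy hd X hX' ψ χ, Finset.sum_comm]
    refine Finset.sum_congr rfl fun η _ => Finset.sum_congr rfl fun η' _ => ?_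
    by_cases hη : η ∈ b
    · by_cases hη' : η' ∈ b
      · have hXs : X η η' = X η' η := by
          have h1 := hX η η' hη
          rw [bfPair_symm, hX η' η hη'] at h1
          exact_mod_cast h1.symm
        rw [hXs]; ring
      · simp [hη']
    · simp [hη]
  constructor
  · intro h
    exact red_eq_zero_iff.mp (e ▸ red_eq_zero_iff.mpr h)
  · intro h
    exact red_eq_zero_iff.mp (e.symm ▸ red_eq_zero_iff.mpr h)

open Classical in
/-- At characters of height zero the contribution, scaled by the defect of `b`, is a unit. -/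
theorem subMat_unit [M.IsPrime] (hM : IsPModular p M) (hy : ∃ k : ℕ, y ^ p ^ k = 1)
    {b : Set (IrrCharacter (Subgroup.centralizer ({y} : Set G)))} {B : Set (IrrCharacter G)}
    (hind : IsInducedBlock M (Subgroup.centralizer ({y} : Set G)) b B) {χ ψ : IrrCharacter G}
    (hχ : χ ∈ B) (hψ : ψ ∈ B) (hχ0 : blockHeight p B (χ : G → ℂ) = 0)
    (hψ0 : blockHeight p B (ψ : G → ℂ) = 0) :
    ¬ MemLocalIdeal M (subMat p (blockDefect p b) b χ ψ) := by
  haveI := Fact.mk hM.1
  haveI := charP_res (M := M) hM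
  obtain ⟨hb, hB, -⟩ := id hind
  set d := blockDefect p b
  have hXex : ∀ η η' : IrrCharacter (Subgroup.centralizer ({y} : Set G)),
      ∃ z : ℤ, η ∈ b → (p : ℂ) ^ d * bfPair p η η' = (z : ℂ) :=
    fun η η' => if h : η ∈ b then (exists_int_bfPair hM h η').imp fun z hz _ => hz
      else ⟨0, fun h' => absurd h' h⟩
  choose X hX using hXex
  let m : IrrCharacter G → IrrCharacter (Subgroup.centralizer ({y} : Set G)) → ℕ := fun χ η =>
    if η ∈ b then CT.mult (fun h : (Subgroup.centralizer ({y} : Set G)) => (χ : G → ℂ) h)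
      (η : _ → ℂ) else 0
  have hm0 : ∀ χ η, η ∉ b → m χ η = 0 := fun χ η h => if_neg h
  intro hmem
  have hS : ∑ η, ∑ η', (m χ η : Res M) * (m ψ η' : Res M) * (X η η' : Res M) = 0 :=
    (red_subMat hM hy le_rfl X (fun η h η' => hX η η' h) χ ψ).symm.trans (red_eq_zero_iff.mpr hmem)
  set n1 := Nat.card (Subgroup.centralizer ({y} : Set G)) /
    p ^ (Nat.card (Subgroup.centralizer ({y} : Set G))).factorization p
  obtain ⟨ξ, hξ, hξ0⟩ := exists_height_zero (p := p) hb
  let R : IrrCharacter (Subgroup.centralizer ({y} : Set G)) → Res M := fun η =>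
    red M (regS M p ξ η)
  let ν : IrrCharacter (Subgroup.centralizer ({y} : Set G)) → Res M := fun η => if η ∈ b then
    (p : Res M) ^ blockHeight p b (η : (Subgroup.centralizer ({y} : Set G)) → ℂ) *
      (((charDegree (η : (Subgroup.centralizer ({y} : Set G)) → ℂ) / p ^ (charDegree
        (η : (Subgroup.centralizer ({y} : Set G)) → ℂ)).factorization p : ℕ)) : Res M) else 0
  have hR0 : ∀ η, η ∉ b → R η = 0 := fun η h => by
    simp only [R]
    rw [regS_eq_zero hM (fun h' => h ((mem_block_iff hb hξ).mpr h')), map_zero]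
  have key : ∀ η ∈ b, ∀ η', (n1 : Res M) * (X η η' : Res M) = ν η * R η' := by
    intro η hη η'
    have h := bfPair_local hM hη η'
    rw [hX η η' hη] at h
    have e : (n1 : Loc M) * (X η η' : Loc M) =
        (p : Loc M) ^ blockHeight p b (η : (Subgroup.centralizer ({y} : Set G)) → ℂ) *
          (((charDegree (η : (Subgroup.centralizer ({y} : Set G)) → ℂ) / p ^ (charDegree
            (η : (Subgroup.centralizer ({y} : Set G)) → ℂ)).factorization p : ℕ) : Loc M) *
            regS M p η η') := by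
      apply Subtype.ext
      push_cast
      exact h
    have e2 := congrArg (red M) e
    simp only [map_mul, map_pow, map_intCast, map_natCast] at e2
    rw [e2, red_regS_congr ((mem_block_iff hb hη).mp hξ)]
    simp only [ν, if_pos hη, R]
    ring
  have hS3 : (∑ η, (m χ η : Res M) * ν η) * (∑ η', (m ψ η' : Res M) * R η') = 0 := by
    rw [Finset.sum_mul_sum]
    refine Eq.trans ?_ (mul_eq_zero_of_right (n1 : Res M) hS)
    rw [Finset.mul_sum]
    refine Finset.sum_congr rfl fun η _ => ?_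
    rw [Finset.mul_sum]
    refine Finset.sum_congr rfl fun η' _ => ?_
    by_cases hη : η ∈ b
    · linear_combination (-((m χ η : Res M) * (m ψ η' : Res M))) * key η hη η'
    · rw [hm0 χ η hη]; simp
  have hsum : ∀ φ ∈ B, blockHeight p B (φ : G → ℂ) = 0 → ∑ η, (m φ η : Res M) * R η ≠ 0 := by
    intro φ hφ hφ0 h
    refine (red_regS_ne_zero_iff hM hB hφ hφ).mpr hφ0 ?_
    rw [red_regS_induced hM hind hξ hφ, ← h]
    refine Finset.sum_congr rfl fun η _ => ?_
    by_cases hη : η ∈ b
    · simp only [m, if_pos hη, R]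
    · rw [hm0 φ η hη, hR0 η hη]
      simp only [R] at hR0
      rw [hR0 η hη]; simp
  have hν : ∀ η, R ξ * ν η = ν ξ * R η := by
    intro η
    by_cases hη : η ∈ b
    · have hXs : X η ξ = X ξ η := by
        have h1 := hX η ξ hη
        rw [bfPair_symm, hX ξ η hξ] at h1
        exact_mod_cast h1.symm
      rw [mul_comm, ← key η hη ξ, hXs, key ξ hξ η]
    · rw [hR0 η hη]; simp [ν, hη]
  have hνξ : ν ξ ≠ 0 := by
    simp only [ν, if_pos hξ, hξ0, pow_zero, one_mul]
    exact mt (CharP.cast_eq_zero_iff (Res M) p _).mp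
      (Nat.not_dvd_ordCompl hM.1 (charDegree_pos ξ).ne')
  refine hsum ψ hψ hψ0 ((mul_eq_zero.mp hS3).resolve_left fun h => hsum χ hχ hχ0 ?_)
  apply mul_left_cancel₀ hνξ
  rw [mul_zero, Finset.mul_sum]
  have h2 := mul_eq_zero_of_right (R ξ) h
  rw [Finset.mul_sum] at h2
  rw [← h2]
  exact Finset.sum_congr rfl fun η _ => by rw [mul_left_comm, ← hν, mul_left_comm]

/-- For a major subsection a contribution is a power of the prime times a number which is a unit
exactly when the row has height zero. -/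
theorem subMat_major [M.IsPrime] (hM : IsPModular p M) (hy : ∃ k : ℕ, y ^ p ^ k = 1)
    {b : Set (IrrCharacter (Subgroup.centralizer ({y} : Set G)))} {B : Set (IrrCharacter G)}
    (hind : IsInducedBlock M (Subgroup.centralizer ({y} : Set G)) b B)
    (hd : blockDefect p b = blockDefect p B) {χ ψ : IrrCharacter G} (hχ : χ ∈ B) (hψ : ψ ∈ B) :
    ∃ v : ℂ, IsIntegral ℤ v ∧
      subMat p (blockDefect p B) b χ ψ = (p : ℂ) ^ blockHeight p B (ψ : G → ℂ) * v ∧
      (MemLocalIdeal M v ↔ blockHeight p B (χ : G → ℂ) ≠ 0) := by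
  haveI := charP_res (M := M) hM
  obtain ⟨hb, hB, -⟩ := id hind
  obtain ⟨ψ₀, hψ₀, h0⟩ := exists_height_zero (p := p) hB
  obtain ⟨t, ht⟩ := subMat_height hM hy hb hB hd.le χ
  obtain ⟨t₀, ht₀⟩ := subMat_height hM hy hb hB hd.le ψ₀
  obtain ⟨v, hv, e, he, hav, hred⟩ := ht ψ hψ
  obtain ⟨v₁, hv₁, e₁, he₁, hav₁, hred₁⟩ := ht ψ₀ hψ₀
  obtain ⟨v₂, hv₂, e₂, he₂, hav₂, hred₂⟩ := ht₀ χ hχ
  refine ⟨v, hv, hav, ?_⟩
  rw [h0, pow_zero, one_mul] at hav₁
  have hiff : MemLocalIdeal M v ↔ t = 0 := by
    rw [← red_eq_zero_iff (z := ⟨v, integral_mem_loc hv⟩), hred, mul_eq_zero, or_iff_right he]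
  have hiff₁ : MemLocalIdeal M v₁ ↔ t = 0 := by
    rw [← red_eq_zero_iff (z := ⟨v₁, integral_mem_loc hv₁⟩), hred₁, mul_eq_zero, or_iff_right he₁]
  rw [hiff, ← hiff₁, ← hav₁, memLocalIdeal_subMat_symm hM hy hd.le χ ψ₀]
  constructor
  · intro hmem h
    refine subMat_unit hM hy hind hψ₀ hχ h0 h ?_
    rwa [hd]
  · intro h
    rw [hav₂]
    have hpM : MemLocalIdeal M ((p : ℂ) ^ blockHeight p B (χ : G → ℂ)) := by
      rw [← Nat.cast_pow, memLocalIdeal_natCast hM]
      exact dvd_pow_self p h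
    rw [mul_comm]
    exact memLocalIdeal_mul_left (integral_mem_loc hv₂) hpM

end Cfsg.Agent.Blocks
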