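import Cfsg.Agent.Lib.Blocks.Subsection
import Mathlib.FieldTheory.Minpoly.IsConjRoot
import Mathlib.RingTheory.Polynomial.Cyclotomic.Roots

/-!
# Galois conjugates of the contribution matrix

The conjugates of the contribution matrix of a subsection are scaled hermitian idempotents; at
height zero characters their mean squared norms are at least one and, for `p = 2`, the mean of a
diagonal entry is an odd integer.
-/

namespace Cfsg.Agent.Blocks

open scoped ComplexConjugate

universe u

/-- In characteristic two a symmetric double sum is the diagonal sum. -/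
theorem sum_symm_char_two {ι R : Type*} [Fintype ι] [CommRing R] [CharP R 2] (f : ι → ι → R)
    (hf : ∀ a b, f a b = f b a) : ∑ a, ∑ b, f a b = ∑ a, f a a := by
  classical
  rw [← Fintype.sum_prod_type', ← Finset.sum_filter_add_sum_filter_not Finset.univ
    (fun x : ι × ι => x.1 = x.2)]
  have h0 : ∑ x ∈ Finset.univ.filter (fun x : ι × ι => ¬ x.1 = x.2), f x.1 x.2 = 0 :=
    Finset.sum_involution (fun x _ => x.swap) (fun x _ => by
        rw [Prod.fst_swap, Prod.snd_swap, hf x.2 x.1]; exact CharTwo.add_self_eq_zero _)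
      (fun x hx _ h => (Finset.mem_filter.mp hx).2 (by simpa using (congrArg Prod.fst h).symm))
      (fun x hx => by simpa [eq_comm] using (Finset.mem_filter.mp hx).2)
      (fun x _ => Prod.swap_swap x)
  rw [h0, add_zero]
  refine Finset.sum_bij' (fun x _ => x.1) (fun a _ => (a, a)) ?_ ?_ ?_ ?_ ?_ <;>
    simp +contextual [Prod.ext_iff]

open Classical in
/-- The conjugates of a `2`-power root of unity cancel unless it is `1` or `-1`. -/
theorem sum_gal_two_power_root {K : IntermediateField ℚ ℂ} [FiniteDimensional ℚ K] [IsGalois ℚ K]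
    {w : K} {r : ℕ} (hw : w ^ 2 ^ r = 1) :
    ∑ σ : Gal(K/ℚ), σ w = (Fintype.card Gal(K/ℚ) : K) *
      ((if w = 1 then 1 else if w = -1 then -1 else 0 : ℤ) : K) := by
  split_ifs with h1 h2
  · simp [h1]
  · simp [h2]
  rw [Int.cast_zero, mul_zero]
  haveI : Fact (Nat.Prime 2) := ⟨Nat.prime_two⟩
  obtain ⟨k, hk, hk'⟩ := (Nat.dvd_prime_pow Nat.prime_two).mp (orderOf_dvd_of_pow_eq_one hw)
  have hord := IsPrimitiveRoot.orderOf w
  rw [hk'] at hord
  obtain ⟨t, rfl⟩ : ∃ t, k = t + 2 := by
    match k, hk' with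
    | 0, h => exact absurd (orderOf_eq_one_iff.mp (by simpa using h)) h1
    | 1, h =>
      refine absurd ?_ h2
      have h' : w ^ 2 = 1 := by rw [← pow_one 2, ← h]; exact pow_orderOf_eq_one w
      exact (sq_eq_one_iff.mp h').resolve_left h1
    | t + 2, _ => exact ⟨t, rfl⟩
  have hhalf : w ^ 2 ^ (t + 1) = -1 := by
    refine (sq_eq_one_iff.mp ?_).resolve_left
      (hord.pow_ne_one_of_pos_of_lt (pow_ne_zero _ two_ne_zero)
        (Nat.pow_lt_pow_right one_lt_two (by omega)))
    rw [← pow_mul, ← pow_succ]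
    exact hord.pow_eq_one
  have hneg : IsPrimitiveRoot (-w) (2 ^ (t + 2)) := by
    have h := hord.pow_of_coprime (2 ^ (t + 1) + 1) (Nat.Coprime.pow_right _
      (Nat.coprime_two_right.mpr (by rw [pow_succ]; exact ⟨2 ^ t, by ring⟩)))
    rwa [pow_succ, hhalf, neg_one_mul] at h
  have hpos : 0 < 2 ^ (t + 2) := by positivity
  obtain ⟨τ, hτ⟩ := isConjRoot_iff_exists_algEquiv.mp
    (show IsConjRoot ℚ (-w) w by
      rw [isConjRoot_def, ← Polynomial.cyclotomic_eq_minpoly_rat hneg hpos,
        ← Polynomial.cyclotomic_eq_minpoly_rat hord hpos])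
  set S := ∑ σ : Gal(K/ℚ), σ w
  have h : S = -S := by
    simp only [S]
    rw [← Finset.sum_neg_distrib]
    refine (Fintype.sum_equiv (Equiv.mulRight τ) _ _ fun σ => ?_).symm
    simp only [Equiv.coe_mulRight, AlgEquiv.mul_apply]
    rw [← map_neg, hτ]
  exact CharZero.eq_neg_self_iff.mp h

variable {G : Type u} [Group G] [Fintype G] {p : ℕ} {M : Ideal AlgInt} {y : G}
  [Fintype (Subgroup.centralizer ({y} : Set G))]

set_option linter.unusedSectionVars false

open Classical in
/-- The multiplicity of a member of `b` in the restriction of `χ`. -/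
noncomputable def mB (b : Set (IrrCharacter (Subgroup.centralizer ({y} : Set G))))
    (χ : IrrCharacter G) (η : IrrCharacter (Subgroup.centralizer ({y} : Set G))) : ℕ :=
  if η ∈ b then CT.mult (fun h : Subgroup.centralizer ({y} : Set G) => (χ : G → ℂ) h) (η : _ → ℂ)
  else 0

theorem secC_eq_mB (b : Set (IrrCharacter (Subgroup.centralizer ({y} : Set G))))
    (χ : IrrCharacter G) (η : IrrCharacter (Subgroup.centralizer ({y} : Set G))) :
    secC b χ η = (mB b χ η : ℂ) * omC η := by
  classical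
  simp only [secC, mB]
  split_ifs <;> simp

/-- The contribution row of a character. -/
theorem subMat_row_norm [M.IsPrime] (hM : IsPModular p M) (hy : ∃ k : ℕ, y ^ p ^ k = 1)
    {b : Set (IrrCharacter (Subgroup.centralizer ({y} : Set G)))} (hb : IsPBlock M b) (d : ℕ)
    (χ : IrrCharacter G) :
    ∑ ψ : IrrCharacter G, subMat p d b χ ψ * subMat p d b ψ χ =
      (p : ℂ) ^ d * subMat p d b χ χ := by
  classical
  have e2 : ∀ η', gB p b χ η' = ∑ η, gB p b χ η * bfPair p η η' := by
    intro η'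
    simp only [gB, Finset.sum_mul]
    rw [Finset.sum_comm]
    exact Finset.sum_congr rfl fun e _ => by
      rw [← bfPair_idem e η', Finset.mul_sum]; exact Finset.sum_congr rfl fun η _ => by ring
  have e3 : ∀ η η' : IrrCharacter (Subgroup.centralizer ({y} : Set G)),
      gB p b χ η * conj (gB p b χ η') * ∑ ψ : IrrCharacter G, conj (gB p b ψ η) * gB p b ψ η' =
        gB p b χ η * bfPair p η η' * conj (gB p b χ η') := by
    intro η η'
    rw [sum_gB hM hy hb]
    by_cases hη : η ∈ b
    · rw [if_pos hη]; ring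
    · rw [gB_eq hM hb χ η, if_neg hη]; ring
  calc ∑ ψ : IrrCharacter G, subMat p d b χ ψ * subMat p d b ψ χ
      = ∑ ψ : IrrCharacter G, (p : ℂ) ^ d * (p : ℂ) ^ d * ∑ η, ∑ η',
          gB p b χ η * conj (gB p b χ η') * (conj (gB p b ψ η) * gB p b ψ η') :=
        Finset.sum_congr rfl fun ψ _ => by
          unfold subMat
          refine (mul_mul_mul_comm _ _ _ _).trans (congrArg _ ?_)
          rw [Finset.sum_mul_sum]
          exact Finset.sum_congr rfl fun η _ => Finset.sum_congr rfl fun η' _ => by ring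
    _ = (p : ℂ) ^ d * (p : ℂ) ^ d * ∑ η', ∑ η,
          gB p b χ η * bfPair p η η' * conj (gB p b χ η') := by
        rw [← Finset.mul_sum]
        congr 1
        rw [Finset.sum_comm]
        refine (Finset.sum_congr rfl fun η _ => Finset.sum_comm).trans ?_
        rw [Finset.sum_comm]
        exact Finset.sum_congr rfl fun η' _ => Finset.sum_congr rfl fun η _ => by
          rw [← e3, Finset.mul_sum]
    _ = (p : ℂ) ^ d * subMat p d b χ χ := by
        rw [subMat, mul_assoc]
        congr 2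
        exact Finset.sum_congr rfl fun η' _ => by rw [← Finset.sum_mul, ← e2]

/-- The trace of the contribution matrix. -/
theorem sum_subMat_self [M.IsPrime] (hM : IsPModular p M) (hy : ∃ k : ℕ, y ^ p ^ k = 1)
    {b : Set (IrrCharacter (Subgroup.centralizer ({y} : Set G)))} (hb : IsPBlock M b) (d : ℕ) :
    ∑ χ : IrrCharacter G, subMat p d b χ χ = (p : ℂ) ^ d * (blockRank p b : ℂ) := by
  classical
  simp only [subMat, ← Finset.mul_sum]
  congr 1
  rw [Finset.sum_comm, ← sum_bfPair_self hM hb]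
  refine Finset.sum_congr rfl fun η _ => ?_
  rw [← sum_gB hM hy hb η η]
  exact Finset.sum_congr rfl fun χ _ => mul_comm _ _

/-- The scaled pairing of a block as an integral symmetric matrix. -/
theorem exists_bf_matrix [M.IsPrime] {H : Type u} [Group H] [Fintype H] (hM : IsPModular p M)
    {b : Set (IrrCharacter H)} (hb : IsPBlock M b) :
    ∃ X : IrrCharacter H → IrrCharacter H → ℤ, (∀ η η', X η η' = X η' η) ∧
      ∀ η ∈ b, ∀ η', (p : ℂ) ^ blockDefect p b * bfPair p η η' = (X η η' : ℂ) := by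
  classical
  haveI := Fact.mk hM.1
  have h : ∀ η η' : IrrCharacter H, ∃ z : ℤ,
      (η ∈ b → (p : ℂ) ^ blockDefect p b * bfPair p η η' = (z : ℂ)) ∧ (η ∉ b → z = 0) :=
    fun η η' => if h : η ∈ b then
      (exists_int_bfPair hM h η').imp fun z hz => ⟨fun _ => hz, fun h' => absurd h h'⟩
    else ⟨0, fun h' => absurd h' h, fun _ => rfl⟩
  choose X hX hX0 using h
  refine ⟨X, fun η η' => ?_, fun η hη η' => hX η η' hη⟩
  have hmix : ∀ a c, a ∈ b → c ∉ b → X a c = 0 := fun a c ha hc => by
    have h := hX a c ha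
    rw [bfPair_zero_of_mem hM hb ha hc, mul_zero] at h
    exact_mod_cast h.symm
  by_cases hη : η ∈ b <;> by_cases hη' : η' ∈ b
  · have h := hX η η' hη
    rw [bfPair_symm, hX η' η hη'] at h
    exact_mod_cast h.symm
  · rw [hmix _ _ hη hη', hX0 _ _ hη']
  · rw [hX0 _ _ hη, hmix _ _ hη' hη]
  · rw [hX0 _ _ hη, hX0 _ _ hη']

/-- A contribution at height zero characters is a unit modulo the ideal. -/
theorem red_contrib_ne_zero [M.IsPrime] (hM : IsPModular p M) {B : Set (IrrCharacter G)}
    {b : Set (IrrCharacter (Subgroup.centralizer ({y} : Set G)))}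
    (hind : IsInducedBlock M (Subgroup.centralizer ({y} : Set G)) b B)
    {X : IrrCharacter (Subgroup.centralizer ({y} : Set G)) →
      IrrCharacter (Subgroup.centralizer ({y} : Set G)) → ℤ}
    (hXs : ∀ η η', X η η' = X η' η)
    (hX : ∀ η ∈ b, ∀ η', (p : ℂ) ^ blockDefect p b * bfPair p η η' = (X η η' : ℂ))
    {χ ψ : IrrCharacter G} (hχ : χ ∈ B) (hψ : ψ ∈ B)
    (h0 : blockHeight p B (χ : G → ℂ) = 0) (h0' : blockHeight p B (ψ : G → ℂ) = 0) :
    ∑ η, ∑ η', (((mB b χ η : ℤ) * mB b ψ η' * X η η' : ℤ) : Res M) ≠ 0 := by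
  classical
  intro hS2
  haveI := Fact.mk hM.1
  haveI := charP_res (M := M) hM
  obtain ⟨hb, hB, -⟩ := id hind
  have hm0 : ∀ χ η, η ∉ b → mB b χ η = 0 := fun χ η h => if_neg h
  set n1 := Nat.card (Subgroup.centralizer ({y} : Set G)) / p ^ (Nat.card (Subgroup.centralizer ({y} : Set G))).factorization p
  obtain ⟨ξ, hξ, hξ0⟩ := exists_height_zero (p := p) hb
  let R : IrrCharacter (Subgroup.centralizer ({y} : Set G)) → Res M := fun η => red M (regS M p ξ η)
  let ν : IrrCharacter (Subgroup.centralizer ({y} : Set G)) → Res M := fun η => if η ∈ b then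
    (p : Res M) ^ blockHeight p b (η : (Subgroup.centralizer ({y} : Set G)) → ℂ) *
      (((charDegree (η : (Subgroup.centralizer ({y} : Set G)) → ℂ) / p ^ (charDegree (η : (Subgroup.centralizer ({y} : Set G)) → ℂ)).factorization p : ℕ)) : Res M) else 0
  have hR0 : ∀ η, η ∉ b → R η = 0 := fun η h => by
    simp only [R]
    rw [regS_eq_zero hM (fun h' => h ((mem_block_iff hb hξ).mpr h')), map_zero]
  have key : ∀ η ∈ b, ∀ η', (n1 : Res M) * (X η η' : Res M) = ν η * R η' := by
    intro η hη η'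
    have h := bfPair_local hM hη η'
    rw [hX η hη η'] at h
    have e : (n1 : Loc M) * (X η η' : Loc M) =
        (p : Loc M) ^ blockHeight p b (η : (Subgroup.centralizer ({y} : Set G)) → ℂ) *
          (((charDegree (η : (Subgroup.centralizer ({y} : Set G)) → ℂ) / p ^ (charDegree (η : (Subgroup.centralizer ({y} : Set G)) → ℂ)).factorization p : ℕ) : Loc M) *
            regS M p η η') := by
      apply Subtype.ext
      push_cast
      exact h
    have e2 := congrArg (red M) e
    simp only [map_mul, map_pow, map_intCast, map_natCast] at e2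
    rw [e2, red_regS_congr ((mem_block_iff hb hη).mp hξ)]
    simp only [ν, if_pos hη, R]
    ring
  have hS3 : (∑ η, (mB b χ η : Res M) * ν η) * (∑ η', (mB b ψ η' : Res M) * R η') = 0 := by
    rw [Finset.sum_mul_sum]
    refine Eq.trans ?_ (mul_eq_zero_of_right (n1 : Res M) hS2)
    rw [Finset.mul_sum]
    refine Finset.sum_congr rfl fun η _ => ?_
    rw [Finset.mul_sum]
    refine Finset.sum_congr rfl fun η' _ => ?_
    by_cases hη : η ∈ b
    · push_cast
      linear_combination (-((mB b χ η : Res M) * (mB b ψ η' : Res M))) * key η hη η'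
    · rw [hm0 χ η hη]; simp
  have hsum : ∀ φ ∈ B, blockHeight p B (φ : G → ℂ) = 0 → ∑ η, (mB b φ η : Res M) * R η ≠ 0 := by
    intro φ hφ hφ0 h
    refine (red_regS_ne_zero_iff hM hB hφ hφ).mpr hφ0 ?_
    rw [red_regS_induced hM hind hξ hφ, ← h]
    refine Finset.sum_congr rfl fun η _ => ?_
    by_cases hη : η ∈ b
    · simp only [mB, if_pos hη, R]
    · rw [hm0 φ η hη, hR0 η hη]
      simp only [R] at hR0
      rw [hR0 η hη]; simp
  have hν : ∀ η, R ξ * ν η = ν ξ * R η := by
    intro η
    by_cases hη : η ∈ b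
    · rw [mul_comm, ← key η hη ξ, hXs η ξ, key ξ hξ η]
    · rw [hR0 η hη]; simp [ν, hη]
  have hνξ : ν ξ ≠ 0 := by
    simp only [ν, if_pos hξ, hξ0, pow_zero, one_mul]
    exact mt (CharP.cast_eq_zero_iff (Res M) p _).mp
      (Nat.not_dvd_ordCompl hM.1 (charDegree_pos ξ).ne')
  refine hsum ψ hψ h0' ((mul_eq_zero.mp hS3).resolve_left fun h => hsum χ hχ h0 ?_)
  apply mul_left_cancel₀ hνξ
  rw [mul_zero, Finset.mul_sum]
  have h2 := mul_eq_zero_of_right (R ξ) h
  rw [Finset.mul_sum] at h2
  rw [← h2]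
  exact Finset.sum_congr rfl fun η _ => by rw [mul_left_comm, ← hν, mul_left_comm]

/-- The conjugates of the contribution matrix of a subsection. -/
theorem exists_contrib [M.IsPrime] (hM : IsPModular p M) (hy : ∃ k : ℕ, y ^ p ^ k = 1)
    {B : Set (IrrCharacter G)} {b : Set (IrrCharacter (Subgroup.centralizer ({y} : Set G)))}
    (hind : IsInducedBlock M (Subgroup.centralizer ({y} : Set G)) b B) :
    ∃ (Γ : Type) (_ : Fintype Γ) (T : Γ → IrrCharacter G → IrrCharacter G → ℂ), Nonempty Γ ∧
      (∀ σ χ, (T σ χ χ).im = 0 ∧ ∑ ψ, Complex.normSq (T σ χ ψ) =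
        (p : ℝ) ^ blockDefect p b * (T σ χ χ).re) ∧
      (∀ σ, ∑ χ, (T σ χ χ).re = (p : ℝ) ^ blockDefect p b * (blockRank p b : ℝ)) ∧
      (∀ σ χ, χ ∉ B → ∀ ψ, T σ χ ψ = 0) ∧
      (∀ χ ∈ B, ∀ ψ ∈ B, blockHeight p B (χ : G → ℂ) = 0 → blockHeight p B (ψ : G → ℂ) = 0 →
        (Fintype.card Γ : ℝ) ≤ ∑ σ, Complex.normSq (T σ χ ψ)) ∧
      (p = 2 → ∀ χ ∈ B, blockHeight p B (χ : G → ℂ) = 0 →
        ∃ c : ℤ, Odd c ∧ ∑ σ, (T σ χ χ).re = (Fintype.card Γ : ℝ) * (c : ℝ)) := by
  classical
  haveI := Fact.mk hM.1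
  haveI := charP_res (M := M) hM
  obtain ⟨hb, hB, -⟩ := id hind
  set d := blockDefect p b
  obtain ⟨X, hXs, hX⟩ := exists_bf_matrix hM hb
  obtain ⟨j, hj⟩ := hy
  have hsC : selfC y ^ p ^ j = 1 := Subtype.ext (by simpa [selfC] using hj)
  have hom : ∀ η : IrrCharacter (Subgroup.centralizer ({y} : Set G)), omC η ^ p ^ j = 1 := fun η => (omC_spec η).2 _ hsC
  have hpj : p ^ j ≠ 0 := pow_ne_zero j hM.1.ne_zero
  have homi : ∀ η : IrrCharacter (Subgroup.centralizer ({y} : Set G)), IsIntegral ℤ (omC η) := fun η =>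
    IsIntegral.of_pow (Nat.pos_of_ne_zero hpj) (by rw [hom]; exact isIntegral_one)
  have hinv : ∀ w : ℂ, w ^ p ^ j = 1 → w⁻¹ = conj w := fun w hw =>
    Complex.inv_eq_conj (Complex.norm_eq_one_of_pow_eq_one hw hpj)
  obtain ⟨K, hfin, hgal, hK⟩ := ClassSum.exists_galois_data (Subgroup.centralizer ({y} : Set G))
  have hmem : ∀ (η : IrrCharacter (Subgroup.centralizer ({y} : Set G))) x, (η : (Subgroup.centralizer ({y} : Set G)) → ℂ) x ∈ K := fun η =>
    (hK _ (CT.isCharacter_of_isIrr η.2)).1
  let z : IrrCharacter (Subgroup.centralizer ({y} : Set G)) → K := fun η => ⟨omC η, div_mem (hmem η _) (hmem η _)⟩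
  have hz : ∀ η, z η ^ p ^ j = 1 := fun η => Subtype.ext (by simpa [z] using hom η)
  let n : IrrCharacter G → IrrCharacter G → IrrCharacter (Subgroup.centralizer ({y} : Set G)) → IrrCharacter (Subgroup.centralizer ({y} : Set G)) → ℤ :=
    fun χ ψ η η' => (mB b χ η : ℤ) * mB b ψ η' * X η η'
  have hnsymm : ∀ χ ψ η η', n χ ψ η η' = n ψ χ η' η := fun χ ψ η η' => by
    simp only [n, hXs η η']; ring
  let A : IrrCharacter G → IrrCharacter G → K := fun χ ψ =>
    ∑ η, ∑ η', (n χ ψ η η' : K) * (z η * (z η')⁻¹)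
  let T : Gal(K/ℚ) → IrrCharacter G → IrrCharacter G → ℂ := fun σ χ ψ => ((σ (A χ ψ) : K) : ℂ)
  have hA : ∀ χ ψ, (A χ ψ : ℂ) = subMat p d b χ ψ := by
    intro χ ψ
    simp only [A, subMat_eq, AddSubmonoidClass.coe_finsetSum]
    refine Finset.sum_congr rfl fun η _ => Finset.sum_congr rfl fun η' _ => ?_
    rw [secC_eq_mB, secC_eq_mB, map_mul, map_natCast, ← hinv _ (hom η')]
    by_cases hη : η ∈ b
    · rw [hX η hη η']
      simp only [n, z]
      push_cast
      ring
    · simp [n, mB, hη]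
  have hherm : ∀ σ χ ψ, conj (T σ χ ψ) = T σ ψ χ := by
    intro σ χ ψ
    simp only [T, A, map_sum, map_mul, map_intCast, map_inv₀, AddSubmonoidClass.coe_finsetSum]
    push_cast
    simp only [map_sum, map_mul, map_intCast, map_inv₀]
    rw [Finset.sum_comm]
    refine Finset.sum_congr rfl fun η' _ => Finset.sum_congr rfl fun η _ => ?_
    have hr : ∀ e, ((σ (z e) : K) : ℂ) ^ p ^ j = 1 := fun e => by
      rw [← SubmonoidClass.coe_pow, ← map_pow, hz, map_one]; rfl
    rw [← hinv _ (hr η), ← hinv _ (hr η'), inv_inv, hnsymm χ ψ η η']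
    ring
  have him : ∀ σ χ, (T σ χ χ).im = 0 := fun σ χ => Complex.conj_eq_iff_im.mp (hherm σ χ χ)
  refine ⟨Gal(K/ℚ), inferInstance, T, ⟨1⟩, fun σ χ => ⟨him σ χ, ?_⟩, fun σ => ?_, ?_, ?_, ?_⟩
  · have hq : ∑ ψ, A χ ψ * A ψ χ = ((p ^ d : ℕ) : K) * A χ χ := by
      apply Subtype.ext
      simp only [AddSubmonoidClass.coe_finsetSum]
      push_cast
      simp only [hA]
      exact subMat_row_norm hM ⟨j, hj⟩ hb d χ
    have h2 := congrArg (fun w : K => ((σ w : K) : ℂ)) hq
    simp only [map_sum, map_mul, map_natCast, AddSubmonoidClass.coe_finsetSum] at h2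
    push_cast at h2
    rw [Finset.sum_congr rfl fun ψ _ =>
      (show ((σ (A χ ψ) : K) : ℂ) * ((σ (A ψ χ) : K) : ℂ) =
        ((Complex.normSq (T σ χ ψ) : ℝ) : ℂ) by
          rw [show ((σ (A ψ χ) : K) : ℂ) = conj (T σ χ ψ) from (hherm σ χ ψ).symm]
          exact Complex.mul_conj _)] at h2
    have h3 := congrArg Complex.re h2
    rw [← Complex.ofReal_sum, Complex.ofReal_re, Complex.mul_re] at h3
    rw [h3, show ((σ (A χ χ) : K) : ℂ) = T σ χ χ from rfl, him σ χ, mul_zero, sub_zero,
      ← Nat.cast_pow, Complex.natCast_re]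
    push_cast
    rfl
  · have hq : ∑ χ, A χ χ = ((p ^ d * blockRank p b : ℕ) : K) := by
      apply Subtype.ext
      simp only [AddSubmonoidClass.coe_finsetSum]
      push_cast
      simp only [hA]
      exact sum_subMat_self hM ⟨j, hj⟩ hb d
    have h2 := congrArg (fun w : K => ((σ w : K) : ℂ)) hq
    simp only [map_sum, map_natCast, AddSubmonoidClass.coe_finsetSum] at h2
    rw [← Complex.re_sum]
    simp only [T, h2]
    rw [show (((p ^ d * blockRank p b : ℕ) : K) : ℂ) = ((p ^ d * blockRank p b : ℕ) : ℂ) by simp,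
      Complex.natCast_re]
    push_cast
    rfl
  · intro σ χ hχ ψ
    have h0 : A χ ψ = 0 := by
      apply Subtype.ext
      rw [hA, subMat]
      simp [gB_eq_zero hM ⟨j, hj⟩ hind hχ]
    simp [T, h0]
  · intro χ hχ ψ hψ h0 h0'
    refine card_le_sum_gal (A χ ψ) ?_ ?_
    · intro hz0
      refine red_contrib_ne_zero hM hind hXs hX hχ hψ h0 h0' ?_
      let w : IrrCharacter (Subgroup.centralizer ({y} : Set G)) → Loc M := fun η => ⟨omC η, integral_mem_loc (homi η)⟩
      let w' : IrrCharacter (Subgroup.centralizer ({y} : Set G)) → Loc M := fun η =>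
        ⟨conj (omC η), integral_mem_loc (CT.isIntegral_conj (homi η))⟩
      have hw : ∀ η, red M (w η) = 1 := fun η => red_root_eq_one hM
        (Subtype.ext (by simpa [w] using hom η))
      have hw' : ∀ η, red M (w' η) = 1 := fun η => red_root_eq_one hM (Subtype.ext (by
        simp only [w', SubmonoidClass.coe_pow, OneMemClass.coe_one]
        rw [← map_pow, hom, map_one]))
      have hS : ∑ η, ∑ η', (n χ ψ η η' : Loc M) * (w η * w' η') = 0 := by
        apply Subtype.ext
        push_cast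
        rw [← hz0]
        simp only [A, AddSubmonoidClass.coe_finsetSum]
        push_cast
        simp only [z, w, w', hinv _ (hom _)]
      have hS2 := congrArg (red M) hS
      simpa only [map_sum, map_mul, map_intCast, hw, hw', mul_one, map_zero] using hS2
    · rw [show ((A χ ψ : K) : ℂ) = ∑ η, ∑ η', (n χ ψ η η' : ℂ) * (omC η * conj (omC η')) by
        simp only [A, AddSubmonoidClass.coe_finsetSum]
        push_cast
        simp only [z, hinv _ (hom _)]]
      exact IsIntegral.sum _ fun η _ => IsIntegral.sum _ fun η' _ =>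
        isIntegral_algebraMap.mul ((homi η).mul (CT.isIntegral_conj (homi η')))
  · intro hp2 χ hχ h0
    let ep : K → ℤ := fun w => if w = 1 then 1 else if w = -1 then -1 else 0
    have hep : ∀ w : K, ep w⁻¹ = ep w := fun w => by
      simp only [ep, inv_eq_one, inv_eq_iff_eq_inv, inv_neg, inv_one]
    refine ⟨∑ η, ∑ η', n χ χ η η' * ep (z η * (z η')⁻¹), ?_, ?_⟩
    · haveI : CharP (Res M) 2 := hp2 ▸ inferInstance
      rw [← Int.not_even_iff_odd, even_iff_two_dvd]
      intro hdvd
      have h2 : ((2 : ℕ) : ℤ) ∣ ∑ η, ∑ η', n χ χ η η' * ep (z η * (z η')⁻¹) := hdvd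
      rw [← CharP.intCast_eq_zero_iff (Res M)] at h2
      refine red_contrib_ne_zero hM hind hXs hX hχ hχ h0 h0 ?_
      have hz0 : ∀ η, z η ≠ 0 := fun η h => by
        have := hz η
        rw [h, zero_pow hpj] at this
        exact zero_ne_one this
      push_cast at h2 ⊢
      rw [sum_symm_char_two] at h2 ⊢
      · refine Eq.trans (Finset.sum_congr rfl fun η _ => ?_) h2
        rw [mul_inv_cancel₀ (hz0 η)]
        simp [ep, n]
      · intro a c
        rw [hXs a c]; ring
      · intro a c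
        rw [hnsymm χ χ a c, ← hep (z c * (z a)⁻¹), mul_inv_rev, inv_inv]
    · have hsum : ∑ σ : Gal(K/ℚ), σ (A χ χ) = (Fintype.card Gal(K/ℚ) : K) *
          ((∑ η, ∑ η', n χ χ η η' * ep (z η * (z η')⁻¹) : ℤ) : K) := by
        simp only [A, map_sum, map_mul, map_intCast, Int.cast_sum, Int.cast_mul, Finset.mul_sum]
        rw [Finset.sum_comm]
        refine Finset.sum_congr rfl fun η _ => ?_
        rw [Finset.sum_comm]
        refine Finset.sum_congr rfl fun η' _ => ?_
        rw [← Finset.mul_sum]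
        have hr : (z η * (z η')⁻¹) ^ 2 ^ j = 1 := by
          subst hp2
          rw [mul_pow, inv_pow, hz, hz, inv_one, mul_one]
        have := sum_gal_two_power_root hr
        simp only [map_mul, map_inv₀] at this ⊢
        rw [this]
        ring
      have h3 := congrArg (fun w : K => (w : ℂ).re) hsum
      simp only [AddSubmonoidClass.coe_finsetSum, Complex.re_sum] at h3
      refine h3.trans ?_
      push_cast
      simp

end Cfsg.Agent.Blocks
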