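import Cfsg.Agent.Lib.Blocks.CornerDims
import Cfsg.Agent.Lib.Blocks.BlockDims
import Cfsg.Agent.Lib.Blocks.PFixedDims
import Cfsg.Agent.Lib.Blocks.DefectOrderTwo
import Cfsg.Agent.Lib.Blocks.UnramRing

/-!
# Blocks with two characters
-/

set_option linter.unusedSectionVars false

namespace Cfsg.Agent.Blocks

open MonoidAlgebra Module

universe u

variable {G : Type u} [Group G] [Fintype G] {p : ℕ} {M : Ideal AlgInt} [M.IsPrime]

/-- The coefficient at the identity. -/
noncomputable def coeffOne (R : Type*) [CommRing R] (G : Type u) [Group G] [Fintype G] :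
    MonoidAlgebra R G →ₗ[R] R :=
  (LinearMap.proj (1 : G)).comp (coeffFun R G).toLinearMap

theorem coeffOne_apply {R : Type*} [CommRing R] (a : MonoidAlgebra R G) :
    coeffOne R G a = a.coeff 1 := rfl

open Classical in
theorem isTracial_coeffOne {R : Type*} [Field R] : Corner.IsTracial (coeffOne R G) := by
  intro x y
  rw [coeffOne_apply, coeffOne_apply, coeff_mul_sum, coeff_mul_sum]
  refine Fintype.sum_equiv (Equiv.inv G) _ _ fun u => ?_
  simp [mul_comm]

theorem coeffOne_nondeg {R : Type*} [Field R] (x : MonoidAlgebra R G)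
    (h : ∀ y, coeffOne R G (x * y) = 0) : x = 0 := by
  ext g
  have := h (single g⁻¹ 1)
  rw [coeffOne_apply, coeff_mul_single', inv_inv, one_mul, mul_one] at this
  simpa using this

/-- The block idempotent is primitive in the centre. -/
theorem bBar_primitive (hM : IsPModular p M) {B : Set (IrrCharacter G)} (hB : IsPBlock M B)
    (c : ZG (Res M) G) (hc : c * c = c) (hce : c * bBar M B = c) : c = 0 ∨ c = bBar M B := by
  have hA := blockCoeff_mem_loc hB
  obtain ⟨χ, hχ⟩ := block_nonempty hB
  have hout : ∀ η : IrrCharacter G, η ∉ B → omegaBar M η c = 0 := fun η hη => by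
    rw [← hce, map_mul, omegaBar_bBar hA, if_neg hη, mul_zero]
  have hin : ∀ η : IrrCharacter G, η ∈ B → omegaBar M η c = omegaBar M χ c := fun η hη => by
    rw [omegaBar_eq_of_sameBlock ((mem_block_iff hB hη).mp hχ)]
  have hid : IsIdempotentElem (omegaBar M χ c) := by
    rw [IsIdempotentElem, ← map_mul, hc]
  rcases IsIdempotentElem.iff_eq_zero_or_one.mp hid with h | h
  · refine Or.inl (eq_zero_of_omegaBar hM c hc fun η => ?_)
    by_cases hη : η ∈ B
    · rw [hin η hη, h]
    · exact hout η hη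
  · refine Or.inr (idem_ext hM hc (bBar_mul_self hA) fun η => ?_)
    rw [omegaBar_bBar hA]
    by_cases hη : η ∈ B
    · rw [if_pos hη, hin η hη, h]
    · rw [if_neg hη, hout η hη]

open Classical in
/-- The `p`-part of the sum of the squared degrees in a block with two characters. -/
theorem exists_card_two_relation (hM : IsPModular p M) {B : Set (IrrCharacter G)}
    (hB : IsPBlock M B) (hk : Nat.card B = 2) (hd : 0 < blockDefect p B) :
    ∃ (χ : IrrCharacter G) (z S : ℤ), χ ∈ B ∧ blockHeight p B (χ : G → ℂ) = 0 ∧ z ≠ 0 ∧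
      ((S : ℂ) = ∑ η : IrrCharacter G, if η ∈ B then (η : G → ℂ) 1 ^ 2 else 0) ∧
      z * S = (p : ℤ) ^ blockDefect p B * (charDegree (χ : G → ℂ) : ℤ) ^ 2 := by
  haveI : Fact p.Prime := ⟨hM.1⟩
  obtain ⟨χ, hχ, h0⟩ := exists_height_zero (p := p) hB
  set F := Finset.univ.filter (fun η : IrrCharacter G => η ∈ B) with hF
  have hcF : F.card = 2 := by
    rw [← hk, Nat.card_eq_fintype_card, Fintype.card_subtype]
  have hχF : χ ∈ F := by simp [hF, hχ]
  obtain ⟨ψ, hψ⟩ : ∃ ψ, F.erase χ = {ψ} := Finset.card_eq_one.mp (by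
    rw [Finset.card_erase_of_mem hχF, hcF])
  choose X hX using fun η => exists_int_bfPair (p := p) hM hχ η
  have hsupp : ∀ f : IrrCharacter G → ℂ, (∀ η, η ∉ B → f η = 0) → ∑ η, f η = f χ + f ψ := by
    intro f hf
    rw [← Finset.sum_subset (Finset.subset_univ F) fun η _ h => hf η (by simpa [hF] using h),
      ← Finset.add_sum_erase F f hχF, hψ, Finset.sum_singleton]
  have hout : ∀ η, η ∉ B → X η = 0 := fun η hη => by
    have := hX η
    rw [bfPair_zero_of_mem hM hB hχ hη, mul_zero] at this
    exact_mod_cast this.symm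
  set d := blockDefect p B
  set z := X χ
  set x := X ψ
  set a : ℤ := (charDegree (χ : G → ℂ) : ℤ)
  set b : ℤ := (charDegree (ψ : G → ℂ) : ℤ)
  have hsq : z ^ 2 + x ^ 2 = (p : ℤ) ^ d * z := by
    have h1 := sum_sq_bfInt χ d hX
    have h2 := hsupp (fun η => ((X η ^ 2 : ℤ) : ℂ)) fun η hη => by simp [hout η hη]
    rw [← Int.cast_sum, h1] at h2
    exact_mod_cast h2.symm
  have hval : (p : ℤ) ^ d * a = z * a + x * b := by
    have h1 := congrFun (pow_mul_regFun_eq (p := p) hM hB hχ (d := d)).1 1
    rw [Finset.sum_apply, hsupp _ fun η hη => by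
      simp [(pow_mul_regFun_eq (p := p) hM hB hχ (d := d)).2 η hη]] at h1
    simp only [Pi.smul_apply, smul_eq_mul, regFun, orderOf_one, Nat.dvd_one, hM.1.ne_one, if_false,
      hX, CT.deg_eq (CT.isCharacter_of_isIrr χ.2), CT.deg_eq (CT.isCharacter_of_isIrr ψ.2)] at h1
    exact_mod_cast h1
  obtain ⟨W, hW, hiff⟩ := bfInt_valuation hM hχ χ (hX χ)
  have hz : ¬ (p : ℤ) ∣ z := by
    show ¬ (p : ℤ) ∣ X χ
    rw [hW, h0, pow_zero, one_mul]
    exact fun h => (hiff hB hχ).mp h h0
  have hne : (p : ℤ) ^ d - z ≠ 0 := fun h => hz ((sub_eq_zero.mp h) ▸ dvd_pow_self _ hd.ne')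
  refine ⟨χ, z, a ^ 2 + b ^ 2, hχ, h0, fun h => hz (h ▸ dvd_zero _), ?_, ?_⟩
  · rw [hsupp _ fun η hη => if_neg hη, if_pos hχ, if_pos (show ψ ∈ B by
      have : ψ ∈ F := Finset.mem_of_mem_erase (hψ ▸ Finset.mem_singleton_self ψ)
      simpa [hF] using this), CT.deg_eq (CT.isCharacter_of_isIrr χ.2),
      CT.deg_eq (CT.isCharacter_of_isIrr ψ.2)]
    push_cast [a, b]
    rfl
  · refine mul_left_cancel₀ hne ?_
    linear_combination ((-((p : ℤ) ^ d - z)) * a - x * b) * hval - b ^ 2 * hsq

open Classical in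
/-- A block with two characters has defect group of order two. -/
theorem defect_of_card_two (hM : IsPModular p M) {B : Set (IrrCharacter G)} (hB : IsPBlock M B)
    (hk : Nat.card B = 2) {D : Subgroup G} (hD : IsDefectGroup p M B D) : Nat.card D = 2 := by
  haveI : Fact p.Prime := ⟨hM.1⟩
  haveI := charP_res hM
  haveI : IsAlgClosed (Res M) := isAlgClosed_res hM
  haveI : FiniteDimensional (Res M) (MonoidAlgebra (Res M) G) :=
    Module.Finite.of_basis (MonoidAlgebra.basis G (Res M))
  have hcard := card_defectGroup hM hB hD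
  have hd : 0 < blockDefect p B := by
    refine Nat.pos_of_ne_zero fun h => ?_
    rw [h, pow_zero] at hcard
    have := (central_block hM hB hD (Subgroup.card_eq_one.mp hcard ▸ bot_le)).1
    rw [hk, h, pow_zero] at this
    omega
  obtain ⟨χ, z, S, hχ, h0, hz, hS, hrel⟩ := exists_card_two_relation hM hB hk hd
  set e : MonoidAlgebra (Res M) G := (bBar M B : MonoidAlgebra (Res M) G) with he
  have hcen : ∀ x, e * x = x * e := fun x => (Subring.mem_center_iff.mp (bBar M B).2 x).symm
  have hA := blockCoeff_mem_loc hB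
  have he0 : e ≠ 0 := fun h => by
    have := omegaBar_bBar (M := M) hA χ
    rw [show bBar M B = 0 from Subtype.ext h, map_zero, if_pos hχ] at this
    exact zero_ne_one this
  obtain ⟨n, m, hm, hdim, f, hff, hfdim⟩ := Corner.exists_corner_dims (coeffOne (Res M) G)
    isTracial_coeffOne coeffOne_nondeg hcen (congrArg Subtype.val (bBar_mul_self hA)) he0
    (fun c hc hcc hce => by
      rcases bBar_primitive hM hB ⟨c, Subring.mem_center_iff.mpr fun x => (hc x).symm⟩
        (Subtype.ext hcc) (Subtype.ext hce) with h | h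
      · exact Or.inl (congrArg Subtype.val h)
      · exact Or.inr (congrArg Subtype.val h))
    (centerSpan M B) (fun c hc hce => mem_centerSpan hc hce)
    ((finrank_centerSpan_le hB).trans hk.le)
  obtain ⟨P⟩ : Nonempty (Sylow p G) := inferInstance
  have hdvd : p ^ (Nat.card G).factorization p ∣ n * m := by
    have := PFix.card_dvd_finrank_mulRight (p := p) P.isPGroup' hff
    rw [hfdim] at this
    rwa [Sylow.card_eq_multiplicity] at this
  have hSn : S = ((n * n * m : ℕ) : ℤ) := by
    have := finrank_bBar hB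
    rw [← hS, hdim] at this
    exact_mod_cast this.symm
  set a := (Nat.card G).factorization p with ha
  set deg := charDegree (χ : G → ℂ)
  have hmain : p ^ (2 * a) ∣ m * p ^ blockDefect p B * deg ^ 2 := by
    have h1 : (p ^ (2 * a) : ℕ) ∣ (n * m) ^ 2 := by
      rw [show 2 * a = a * 2 by ring, pow_mul]
      exact pow_dvd_pow_of_dvd hdvd 2
    have h2 : ((p ^ (2 * a) : ℕ) : ℤ) ∣ ((m * p ^ blockDefect p B * deg ^ 2 : ℕ) : ℤ) := by
      have e1 : ((m * p ^ blockDefect p B * deg ^ 2 : ℕ) : ℤ) = z * (((n * m) ^ 2 : ℕ) : ℤ) := by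
        push_cast
        rw [hSn] at hrel
        push_cast at hrel
        linear_combination -(m : ℤ) * hrel
      rw [e1]
      exact Dvd.dvd.mul_left (by exact_mod_cast h1) _
    exact_mod_cast h2
  have hm0 : m ≠ 0 := by omega
  have hdeg0 : deg ≠ 0 := (charDegree_pos χ).ne'
  have hfac := (Nat.Prime.pow_dvd_iff_le_factorization hM.1
    (by positivity [hM.1.pos, Nat.pos_of_ne_zero hm0, Nat.pos_of_ne_zero hdeg0])).mp hmain
  rw [Nat.factorization_mul (mul_ne_zero hm0 (pow_ne_zero _ hM.1.ne_zero)) (pow_ne_zero _ hdeg0),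
    Nat.factorization_mul hm0 (pow_ne_zero _ hM.1.ne_zero), Nat.factorization_pow,
    Nat.factorization_pow] at hfac
  simp only [Finsupp.add_apply, Finsupp.smul_apply, smul_eq_mul, hM.1.factorization_self] at hfac
  have hh : a = blockDefect p B + deg.factorization p := by
    have := height_add (p := p) hχ
    rwa [h0, zero_add] at this
  rcases hm with rfl | rfl
  · simp only [Nat.factorization_one, Finsupp.coe_zero, Pi.zero_apply] at hfac
    omega
  · rw [hcard]
    by_cases hp2 : p = 2
    · subst hp2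
      rw [Nat.prime_two.factorization_self] at hfac
      rw [show blockDefect 2 B = 1 by omega, pow_one]
    · rw [Nat.factorization_eq_zero_of_not_dvd (fun h => hp2 ((Nat.prime_dvd_prime_iff_eq hM.1 Nat.prime_two).mp h))] at hfac
      omega

/-- A block has two characters exactly when its defect group has order two. -/
theorem card_two_iff (hM : IsPModular p M) {B : Set (IrrCharacter G)} (hB : IsPBlock M B)
    {D : Subgroup G} (hD : IsDefectGroup p M B D) : Nat.card B = 2 ↔ Nat.card D = 2 := by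
  classical
  haveI : Fact p.Prime := ⟨hM.1⟩
  refine ⟨fun h => defect_of_card_two hM hB h hD, fun h => ?_⟩
  have hcard := card_defectGroup hM hB hD
  rw [h] at hcard
  obtain rfl : p = 2 := by
    have hd : blockDefect p B ≠ 0 := fun h0 => by rw [h0, pow_zero] at hcard; omega
    exact ((Nat.prime_dvd_prime_iff_eq hM.1 Nat.prime_two).mp (hcard ▸ dvd_pow_self p hd))
  obtain ⟨x₀, hxD, hx1⟩ : ∃ x : G, x ∈ D ∧ x ≠ 1 := by
    obtain ⟨x, hx⟩ := D.ne_bot_iff_exists_ne_one.mp fun hb => by
      rw [hb, Subgroup.card_bot] at h; omega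
    exact ⟨x, x.2, by simpa using hx⟩
  have hle : Subgroup.zpowers x₀ ≤ D := Subgroup.zpowers_le.mpr hxD
  have hx : orderOf x₀ = 2 := by
    have h2 : orderOf x₀ ∣ 2 := by
      rw [← h, ← Nat.card_zpowers]; exact Subgroup.card_dvd_of_le hle
    exact ((Nat.dvd_prime Nat.prime_two).mp h2).resolve_left fun h' => hx1 (orderOf_eq_one_iff.mp h')
  have hDx : D = Subgroup.zpowers x₀ :=
    (Subgroup.eq_of_le_of_card_ge hle (by rw [h, Nat.card_zpowers, hx])).symm
  obtain ⟨b, -, -, hind⟩ := exists_normalizer_block hM hB hD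
  subst hDx
  have key : ∀ H : Subgroup G,
      H = Subgroup.normalizer ((Subgroup.zpowers x₀ : Subgroup G) : Set G) →
      ∃ b : Set (IrrCharacter H), IsInducedBlock M H b B := fun H hH => by
    subst hH; exact ⟨b, hind⟩
  obtain ⟨b', hb'⟩ := key _ (normalizer_zpowers_of_involution hx).symm
  obtain ⟨θ, hθ⟩ := block_nonempty hb'.1
  haveI := Fintype.ofFinite (Subgroup.centralizer ({x₀} : Set G))
  exact (defect_order_two hM hx hB hD hb' hθ).1

end Cfsg.Agent.Blocks
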